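import Mathlib

set_option autoImplicit false
open Pointwise

namespace Cfsg.Agent.Helper33

variable {G : Type*} [Group G]

theorem map_conj_eq_smul (g : G) (H : Subgroup G) :
    H.map (MulAut.conj g).toMonoidHom = MulAut.conj g • H := rfl

theorem mem_conj_smul {g x : G} {H : Subgroup G} :
    x ∈ MulAut.conj g • H ↔ g⁻¹ * x * g ∈ H := by
  rw [Subgroup.mem_pointwise_smul_iff_inv_smul_mem]
  simp [MulAut.smul_def]

theorem conj_mem_conj_smul {g x : G} {H : Subgroup G} (hx : x ∈ H) :
    g * x * g⁻¹ ∈ MulAut.conj g • H := by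
  rw [mem_conj_smul]
  simpa [mul_assoc] using hx

theorem conj_mem_conj_smul_iff {g x : G} {H : Subgroup G} :
    g * x * g⁻¹ ∈ MulAut.conj g • H ↔ x ∈ H := by
  rw [mem_conj_smul]
  simp [mul_assoc]

theorem conj_smul_le_iff {g : G} {H K : Subgroup G} :
    MulAut.conj g • H ≤ K ↔ ∀ x ∈ H, g * x * g⁻¹ ∈ K := by
  constructor
  · intro h x hx
    exact h (conj_mem_conj_smul hx)
  · intro h y hy
    rw [mem_conj_smul] at hy
    have := h _ hy
    simpa [mul_assoc] using this

theorem conj_smul_eq_self_of_mem {g : G} {H : Subgroup G} (hg : g ∈ H) :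
    MulAut.conj g • H = H := by
  ext x
  rw [mem_conj_smul]
  constructor
  · intro h
    have := H.mul_mem (H.mul_mem hg h) (H.inv_mem hg)
    simpa [mul_assoc] using this
  · intro h
    exact H.mul_mem (H.mul_mem (H.inv_mem hg) h) hg

theorem mem_normalizer_iff_smul_eq {g : G} {H : Subgroup G} :
    g ∈ Subgroup.normalizer (H : Set G) ↔ MulAut.conj g • H = H := by
  rw [Subgroup.mem_normalizer_iff_map_conj_eq]
  rfl

theorem smul_eq_of_mem_normalizer {g : G} {H : Subgroup G}
    (hg : g ∈ Subgroup.normalizer (H : Set G)) : MulAut.conj g • H = H :=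
  mem_normalizer_iff_smul_eq.mp hg

theorem normalizer_conj_smul (g : G) (H : Subgroup G) :
    Subgroup.normalizer ((MulAut.conj g • H : Subgroup G) : Set G) =
      MulAut.conj g • Subgroup.normalizer (H : Set G) := by
  have := Subgroup.map_equiv_normalizer_eq H (MulAut.conj g)
  exact this.symm

theorem centralizer_conj_smul (g : G) (H : Subgroup G) :
    Subgroup.centralizer ((MulAut.conj g • H : Subgroup G) : Set G) =
      MulAut.conj g • Subgroup.centralizer (H : Set G) := by
  ext x
  rw [mem_conj_smul, Subgroup.mem_centralizer_iff, Subgroup.mem_centralizer_iff]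
  constructor
  · intro h y hy
    have := h (g * y * g⁻¹) (conj_mem_conj_smul hy)
    calc y * (g⁻¹ * x * g) = g⁻¹ * (g * y * g⁻¹ * x) * g := by group
      _ = g⁻¹ * (x * (g * y * g⁻¹)) * g := by rw [this]
      _ = g⁻¹ * x * g * y := by group
  · intro h y hy
    rw [SetLike.mem_coe, mem_conj_smul] at hy
    have := h _ hy
    calc y * x = g * (g⁻¹ * y * g * (g⁻¹ * x * g)) * g⁻¹ := by group
      _ = g * (g⁻¹ * x * g * (g⁻¹ * y * g)) * g⁻¹ := by rw [this]
      _ = x * y := by group

theorem conj_smul_inf (g : G) (H K : Subgroup G) :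
    MulAut.conj g • (H ⊓ K) = MulAut.conj g • H ⊓ MulAut.conj g • K := by
  ext x
  simp only [mem_conj_smul, Subgroup.mem_inf]

theorem conj_mul_smul (g h : G) (H : Subgroup G) :
    MulAut.conj (g * h) • H = MulAut.conj g • MulAut.conj h • H := by
  rw [map_mul, mul_smul]

theorem conj_inv_smul_smul (g : G) (H : Subgroup G) :
    MulAut.conj g⁻¹ • MulAut.conj g • H = H := by
  rw [← conj_mul_smul, inv_mul_cancel, map_one, one_smul]

theorem conj_smul_inv_smul (g : G) (H : Subgroup G) :
    MulAut.conj g • MulAut.conj g⁻¹ • H = H := by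
  rw [← conj_mul_smul, mul_inv_cancel, map_one, one_smul]

theorem conj_smul_le_conj_smul {g : G} {H K : Subgroup G} (h : H ≤ K) :
    MulAut.conj g • H ≤ MulAut.conj g • K :=
  Subgroup.pointwise_smul_le_pointwise_smul_iff.mpr h

theorem conj_smul_le_conj_smul_iff {g : G} {H K : Subgroup G} :
    MulAut.conj g • H ≤ MulAut.conj g • K ↔ H ≤ K :=
  Subgroup.pointwise_smul_le_pointwise_smul_iff

theorem conj_smul_le_iff_le_inv {g : G} {H K : Subgroup G} :
    MulAut.conj g • H ≤ K ↔ H ≤ MulAut.conj g⁻¹ • K := by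
  rw [← conj_smul_le_conj_smul_iff (g := g⁻¹), conj_inv_smul_smul]

theorem card_conj_smul (g : G) (H : Subgroup G) :
    Nat.card (MulAut.conj g • H : Subgroup G) = Nat.card H := by
  have : (MulAut.conj g • H : Subgroup G) = H.map (MulAut.conj g).toMonoidHom := rfl
  rw [this]
  exact Nat.card_congr (H.equivMapOfInjective _ (MulAut.conj g).injective).symm.toEquiv

theorem isPGroup_conj_smul {p : ℕ} {g : G} {H : Subgroup G} (hH : IsPGroup p H) :
    IsPGroup p (MulAut.conj g • H : Subgroup G) := by
  have : (MulAut.conj g • H : Subgroup G) = H.map (MulAut.conj g).toMonoidHom := rfl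
  rw [this]
  exact hH.map _

theorem relIndex_conj_smul (g : G) (H K : Subgroup G) :
    (MulAut.conj g • H).relIndex (MulAut.conj g • K) = H.relIndex K :=
  Subgroup.relIndex_pointwise_smul (MulAut.conj g) H K

theorem conj_smul_top (g : G) : MulAut.conj g • (⊤ : Subgroup G) = ⊤ := by
  ext x
  simp

theorem conj_smul_eq_bot_iff {g : G} {H : Subgroup G} : MulAut.conj g • H = ⊥ ↔ H = ⊥ := by
  constructor
  · intro h
    rw [Subgroup.eq_bot_iff_forall] at h ⊢
    intro x hx
    have := h _ (conj_mem_conj_smul (g := g) hx)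
    have h2 : x = g⁻¹ * (g * x * g⁻¹) * g := by group
    rw [h2, this]; group
  · rintro rfl
    simp

end Cfsg.Agent.Helper33
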