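import Mathlib
import Cfsg.Prelude.Def_Solvable

set_option autoImplicit false
open Cfsg

namespace Cfsg.Agent.Helper33

variable {G : Type*} [Group G]

theorem pCore_normal (p : ℕ) : (pCore p G).Normal :=
  Subgroup.sSup_normal _ (fun _ h => h.1)

theorem normal_pgroup_le_sylow [Finite G] {p : ℕ} [Fact p.Prime] (S : Sylow p G)
    (N : Subgroup G) [N.Normal] (hN : IsPGroup p N) : N ≤ (S : Subgroup G) := by
  obtain ⟨Q, hQ⟩ := hN.exists_le_sylow
  obtain ⟨g, rfl⟩ := MulAction.exists_smul_eq G Q S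
  intro x hx
  rw [Sylow.coe_subgroup_smul, Subgroup.mem_pointwise_smul_iff_inv_smul_mem]
  apply hQ
  show (MulAut.conj g)⁻¹ x ∈ N
  rw [← map_inv, MulAut.conj_apply]
  exact ‹N.Normal›.conj_mem x hx g⁻¹

theorem pCore_le_sylow [Finite G] {p : ℕ} [Fact p.Prime] (S : Sylow p G) :
    pCore p G ≤ (S : Subgroup G) := by
  apply sSup_le
  rintro N ⟨hN1, hN2⟩
  exact normal_pgroup_le_sylow S N hN2

theorem card_sup_dvd_of_normal' [Finite G] (H K : Subgroup G) [K.Normal] :
    Nat.card (H ⊔ K : Subgroup G) ∣ Nat.card H * Nat.card K := by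
  have h1 : Nat.card (H ⊔ K : Subgroup G) = Nat.card K * K.relIndex H := by
    rw [← Subgroup.relIndex_bot_left, ← Subgroup.relIndex_mul_relIndex ⊥ K (H ⊔ K) bot_le le_sup_right,
      Subgroup.relIndex_bot_left, Subgroup.relIndex_sup_right]
  rw [h1, mul_comm]
  exact Nat.mul_dvd_mul_right (Subgroup.relIndex_dvd_card K H) _

theorem sSup_mem_of_sup_closed' [Finite G] (P : Subgroup G → Prop) (hbot : P ⊥)
    (hsup : ∀ A B, P A → P B → P (A ⊔ B)) : P (sSup {N : Subgroup G | P N}) := by
  classical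
  have hfin : {N : Subgroup G | P N}.Finite := Set.toFinite _
  have h1 : sSup {N : Subgroup G | P N} = hfin.toFinset.sup id := by
    rw [Finset.sup_id_eq_sSup]; simp
  rw [h1]
  apply Finset.sup_induction hbot (fun a ha b hb => hsup a b ha hb)
  intro b hb
  simpa using hb

theorem card_pPrimeCore_coprime' [Finite G] (p : ℕ) :
    (Nat.card (pPrimeCore p G)).Coprime p := by
  have := sSup_mem_of_sup_closed' (G := G) (fun N => N.Normal ∧ (Nat.card N).Coprime p)
    ⟨inferInstance, by simp⟩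
    (fun A B hA hB => ⟨by have := hA.1; have := hB.1; infer_instance, by
      have := hB.1
      exact Nat.Coprime.coprime_dvd_left (card_sup_dvd_of_normal' A B) (Nat.Coprime.mul_left hA.2 hB.2)⟩)
  exact this.2

theorem pPrimeCore_normal (p : ℕ) : (pPrimeCore p G).Normal :=
  Subgroup.sSup_normal _ (fun _ h => h.1)

theorem le_pPrimeCore' {p : ℕ} {N : Subgroup G} (hN : N.Normal) (hp : (Nat.card N).Coprime p) :
    N ≤ pPrimeCore p G :=
  le_sSup ⟨hN, hp⟩

end Cfsg.Agent.Helper33
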