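import Mathlib
import Cfsg.Prelude.Def_ConjugacyFunctors

set_option autoImplicit false
open Cfsg

namespace Cfsg.Agent.Helper33

variable {P : Type*} [Group P]

theorem kUpperStarFamily_anti {Q₁ Q₂ : Subgroup P} (h : Q₁ ≤ Q₂) :
    kUpperStarFamily Q₂ ⊆ kUpperStarFamily Q₁ := by
  intro B hB
  refine ⟨hB.1, le_trans (Subgroup.commutator_mono le_rfl h) hB.2⟩

theorem kLowerStarFamily_anti {Q₁ Q₂ : Subgroup P} (h : Q₁ ≤ Q₂) :
    kLowerStarFamily Q₂ ⊆ kLowerStarFamily Q₁ := by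
  intro B hB
  refine ⟨hB.1, le_trans h hB.2.1, ?_⟩
  intro A hA hAQ
  exact hB.2.2 A hA (le_trans hAQ h)

theorem sSup_kUpper_anti {Q₁ Q₂ : Subgroup P} (h : Q₁ ≤ Q₂) :
    sSup (kUpperStarFamily Q₂) ≤ sSup (kUpperStarFamily Q₁) :=
  sSup_le_sSup (kUpperStarFamily_anti h)

theorem sSup_kLower_anti {Q₁ Q₂ : Subgroup P} (h : Q₁ ≤ Q₂) :
    sSup (kLowerStarFamily Q₂) ≤ sSup (kLowerStarFamily Q₁) :=
  sSup_le_sSup (kLowerStarFamily_anti h)

theorem kSeqOdd_succ (n : ℕ) :
    kSeqOdd P (n + 1) = sSup (kUpperStarFamily (sSup (kLowerStarFamily (kSeqOdd P n)))) := by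
  rw [kSeqOdd]

theorem kSeqOdd_succ' (n : ℕ) :
    kSeqOdd P (n + 1) = sSup (kUpperStarFamily (kSeqEven P n)) := by
  rw [kSeqOdd, kSeqEven]

theorem kSeqOdd_succ_le (n : ℕ) : kSeqOdd P (n + 1) ≤ kSeqOdd P n := by
  induction n with
  | zero => rw [kSeqOdd_succ]; simp [kSeqOdd]
  | succ n ih =>
    rw [kSeqOdd_succ (n + 1), kSeqOdd_succ n]
    exact sSup_kUpper_anti (sSup_kLower_anti ih)

theorem kSeqEven_le_succ (n : ℕ) : kSeqEven P n ≤ kSeqEven P (n + 1) := by
  unfold kSeqEven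
  exact sSup_kLower_anti (kSeqOdd_succ_le n)

theorem kSeqOdd_antitone : Antitone (kSeqOdd P) := antitone_nat_of_succ_le kSeqOdd_succ_le

theorem kSeqEven_monotone : Monotone (kSeqEven P) := monotone_nat_of_le_succ kSeqEven_le_succ

theorem kSeq_stabilize [Finite P] :
    ∃ n : ℕ, ∀ m : ℕ, n ≤ m → kSeqEven P m = kInfLower P ∧ kSeqOdd P m = kInfUpper P := by
  obtain ⟨n₁, h₁⟩ := WellFoundedGT.monotone_chain_condition
    (⟨kSeqEven P, kSeqEven_monotone⟩ : ℕ →o Subgroup P)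
  obtain ⟨n₂, h₂⟩ := WellFoundedLT.antitone_chain_condition (kSeqOdd_antitone (P := P))
  refine ⟨max n₁ n₂, fun m hm => ⟨?_, ?_⟩⟩
  · have hm1 : n₁ ≤ m := le_trans (le_max_left _ _) hm
    have e : kSeqEven P m = kSeqEven P n₁ := (h₁ m hm1).symm
    apply le_antisymm
    · exact le_iSup (kSeqEven P) m
    · apply iSup_le
      intro k
      rcases le_total k n₁ with hk | hk
      · rw [e]; exact kSeqEven_monotone hk
      · rw [e]; exact (h₁ k hk).symm.le
  · have hm2 : n₂ ≤ m := le_trans (le_max_right _ _) hm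
    have e : kSeqOdd P m = kSeqOdd P n₂ := (h₂ m hm2).symm
    apply le_antisymm
    · apply le_iInf
      intro k
      rcases le_total k n₂ with hk | hk
      · rw [e]; exact kSeqOdd_antitone hk
      · rw [e]; exact (h₂ k hk).le
    · exact iInf_le (kSeqOdd P) m

theorem abelian_normal_mem_classTwo (A : Subgroup P) (hA : IsMulCommutative ↥A) :
    A ∈ classTwoSubgroups P := by
  have : ⁅A, A⁆ = ⊥ := by
    rw [Subgroup.commutator_eq_bot_iff_le_centralizer]
    intro a ha b hb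
    have := hA.is_comm.comm ⟨a, ha⟩ ⟨b, hb⟩
    exact congrArg Subtype.val this.symm
  show ⁅A, A⁆ ≤ _
  rw [this]; exact bot_le

theorem abelian_le_centralizer (A : Subgroup P) (hA : IsMulCommutative ↥A) :
    A ≤ Subgroup.centralizer (A : Set P) := by
  intro a ha b hb
  have := hA.is_comm.comm ⟨a, ha⟩ ⟨b, hb⟩
  exact congrArg Subtype.val this.symm

theorem abelian_normal_mem_lower (A : Subgroup P) [A.Normal] (hA : IsMulCommutative ↥A)
    (Q : Subgroup P) : A ∈ kLowerStarFamily Q := by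
  refine ⟨abelian_normal_mem_classTwo A hA, ?_, ?_⟩
  · rw [Subgroup.normalizer_eq_top]; exact le_top
  · intro B _ _ _ _ _
    rw [inf_eq_left.mpr (abelian_le_centralizer A hA)]
    exact Subgroup.commutator_le_left A B

theorem abelian_normal_mem_upper (A : Subgroup P) [A.Normal] (hA : IsMulCommutative ↥A)
    (Q : Subgroup P) : A ∈ kUpperStarFamily Q := by
  refine ⟨abelian_normal_mem_classTwo A hA, ?_⟩
  rw [inf_eq_left.mpr (abelian_le_centralizer A hA)]
  exact Subgroup.commutator_le_left A Q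

theorem abelian_normal_le_kSeqEven (A : Subgroup P) [A.Normal] (hA : IsMulCommutative ↥A)
    (n : ℕ) : A ≤ kSeqEven P n :=
  le_sSup (abelian_normal_mem_lower A hA _)

theorem abelian_normal_le_kSeqOdd (A : Subgroup P) [A.Normal] (hA : IsMulCommutative ↥A)
    (n : ℕ) : A ≤ kSeqOdd P n := by
  cases n with
  | zero => simp [kSeqOdd]
  | succ n => rw [kSeqOdd_succ]; exact le_sSup (abelian_normal_mem_upper A hA _)

end Cfsg.Agent.Helper33
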