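import Mathlib
import Cfsg.Prelude.Def_ConjugacyFunctors
import Cfsg.Agent.Lib.Helper33.KInf

set_option autoImplicit false
open Cfsg

namespace Cfsg.Agent.Helper33

section

variable {P Q' : Type*} [Group P] [Group Q'] (f : Q' →* P) (hf : Function.Injective f)

theorem mem_classTwo_iff {B : Subgroup P} : B ∈ classTwoSubgroups P ↔ ⁅⁅B, B⁆, B⁆ = ⊥ := by
  rw [Subgroup.commutator_eq_bot_iff_le_centralizer]; rfl

include hf in
theorem map_inf_centralizer (B : Subgroup Q') :
    (B ⊓ Subgroup.centralizer (B : Set Q')).map f =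
      B.map f ⊓ Subgroup.centralizer ((B.map f : Subgroup P) : Set P) := by
  ext x
  constructor
  · rintro ⟨b, hb, rfl⟩
    obtain ⟨hbB, hbC⟩ := Subgroup.mem_inf.mp hb
    refine Subgroup.mem_inf.mpr ⟨⟨b, hbB, rfl⟩, ?_⟩
    rintro _ ⟨c, hc, rfl⟩
    rw [← map_mul, ← map_mul, hbC c hc]
  · intro hx
    obtain ⟨⟨b, hbB, rfl⟩, hxC⟩ := Subgroup.mem_inf.mp hx
    refine ⟨b, Subgroup.mem_inf.mpr ⟨hbB, ?_⟩, rfl⟩
    intro c hc
    apply hf
    rw [map_mul, map_mul]
    exact hxC (f c) ⟨c, hc, rfl⟩

include hf in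
theorem map_mem_classTwo_iff (B : Subgroup Q') :
    B.map f ∈ classTwoSubgroups P ↔ B ∈ classTwoSubgroups Q' := by
  rw [mem_classTwo_iff, mem_classTwo_iff, ← Subgroup.map_commutator, ← Subgroup.map_commutator,
    Subgroup.map_eq_bot_iff_of_injective _ hf]

include hf in
theorem map_mem_upper_iff (B Y : Subgroup Q') :
    B.map f ∈ kUpperStarFamily (Y.map f) ↔ B ∈ kUpperStarFamily Y := by
  unfold kUpperStarFamily
  simp only [Set.mem_ofPred_eq]
  rw [map_mem_classTwo_iff f hf, ← Subgroup.map_commutator, ← map_inf_centralizer f hf,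
    Subgroup.map_le_map_iff_of_injective hf]

/-- the condition on `A` in the lower-star family -/
def LowerCond {X : Type*} [Group X] (B A : Subgroup X) : Prop :=
  A ∈ classTwoSubgroups X → B ≤ Subgroup.normalizer (A : Set X) → ⁅B, ⁅A, A⁆⁆ = ⊥ →
    ⁅⁅B ⊓ Subgroup.centralizer (B : Set X), A⁆, A⁆ = ⊥ → ⁅B, A⁆ ≤ B ⊓ Subgroup.centralizer (B : Set X)

include hf in
theorem map_lowerCond_iff (B A : Subgroup Q') : LowerCond (B.map f) (A.map f) ↔ LowerCond B A := by
  unfold LowerCond
  rw [map_mem_classTwo_iff f hf, Subgroup.le_normalizer_iff_commutator_le_left,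
    Subgroup.le_normalizer_iff_commutator_le_left, ← Subgroup.map_commutator,
    Subgroup.map_le_map_iff_of_injective hf, ← Subgroup.map_commutator A A f,
    ← Subgroup.map_commutator B _ f, Subgroup.map_eq_bot_iff_of_injective _ hf,
    ← map_inf_centralizer f hf, ← Subgroup.map_commutator _ A f, ← Subgroup.map_commutator _ A f,
    Subgroup.map_eq_bot_iff_of_injective _ hf, ← Subgroup.map_commutator B A f,
    Subgroup.map_le_map_iff_of_injective hf]

theorem mem_lower_iff {X : Type*} [Group X] (B Y : Subgroup X) :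
    B ∈ kLowerStarFamily Y ↔ B ∈ classTwoSubgroups X ∧ Y ≤ Subgroup.normalizer (B : Set X) ∧
      ∀ A : Subgroup X, A ≤ Y → LowerCond B A := by
  unfold kLowerStarFamily LowerCond
  simp only [Set.mem_ofPred_eq]
  constructor
  · rintro ⟨h1, h2, h3⟩
    exact ⟨h1, h2, fun A hAY hA => h3 A hA hAY⟩
  · rintro ⟨h1, h2, h3⟩
    exact ⟨h1, h2, fun A hA hAY => h3 A hAY hA⟩

include hf in
theorem map_mem_lower_iff (B Y : Subgroup Q') :
    B.map f ∈ kLowerStarFamily (Y.map f) ↔ B ∈ kLowerStarFamily Y := by
  rw [mem_lower_iff, mem_lower_iff, map_mem_classTwo_iff f hf,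
    Subgroup.le_normalizer_iff_commutator_le_left, Subgroup.le_normalizer_iff_commutator_le_left,
    ← Subgroup.map_commutator, Subgroup.map_le_map_iff_of_injective hf]
  refine and_congr_right fun _ => and_congr_right fun _ => ?_
  constructor
  · intro h A hAY
    rw [← map_lowerCond_iff f hf]
    exact h _ (Subgroup.map_mono hAY)
  · intro h A hAY
    have hAr : A ≤ f.range := hAY.trans (Subgroup.map_le_range f Y)
    have hA : (A.comap f).map f = A := Subgroup.map_comap_eq_self hAr
    rw [← hA, map_lowerCond_iff f hf]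
    apply h
    rw [← Subgroup.map_le_map_iff_of_injective hf, hA]
    exact hAY

include hf in
/-- interleaving of the `K`-sequences of a subgroup containing the sequence of the group -/
theorem kSeq_interleave (hQ : ∀ n : ℕ, kSeqEven P n ≤ f.range ∧ kSeqOdd P (n + 1) ≤ f.range) (n : ℕ) :
    kSeqOdd P (n + 1) ≤ (kSeqOdd Q' n).map f ∧ (kSeqOdd Q' n).map f ≤ kSeqOdd P n := by
  induction n with
  | zero =>
    constructor
    · have : (kSeqOdd Q' 0).map f = f.range := by
        rw [MonoidHom.range_eq_map]; rfl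
      rw [this]; exact (hQ 0).2
    · show _ ≤ (⊤ : Subgroup P)
      exact le_top
  | succ n ih =>
    obtain ⟨ih1, ih2⟩ := ih
    have hE2 : (kSeqEven Q' n).map f ≤ kSeqEven P (n + 1) := by
      rw [Subgroup.map_le_iff_le_comap]
      apply sSup_le
      intro B' hB'
      rw [← Subgroup.map_le_iff_le_comap]
      apply le_sSup
      exact kLowerStarFamily_anti ih1 ((map_mem_lower_iff f hf B' _).mpr hB')
    have hE1 : kSeqEven P n ≤ (kSeqEven Q' n).map f := by
      apply sSup_le
      intro B hB
      have hBr : B ≤ f.range := (le_sSup hB).trans (hQ n).1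
      have hBm : (B.comap f).map f = B := Subgroup.map_comap_eq_self hBr
      have h1 : (B.comap f).map f ∈ kLowerStarFamily ((kSeqOdd Q' n).map f) := by
        rw [hBm]; exact kLowerStarFamily_anti ih2 hB
      have h2 := (map_mem_lower_iff f hf _ _).mp h1
      rw [← hBm]
      exact Subgroup.map_mono (le_sSup h2)
    constructor
    · rw [kSeqOdd_succ' (n + 1)]
      apply sSup_le
      intro B hB
      have hBr : B ≤ f.range := by
        refine (le_sSup hB).trans ?_
        rw [← kSeqOdd_succ' (n + 1)]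
        exact (hQ (n + 1)).2
      have hBm : (B.comap f).map f = B := Subgroup.map_comap_eq_self hBr
      have h1 : (B.comap f).map f ∈ kUpperStarFamily ((kSeqEven Q' n).map f) := by
        rw [hBm]; exact kUpperStarFamily_anti hE2 hB
      have h2 := (map_mem_upper_iff f hf _ _).mp h1
      rw [← hBm, kSeqOdd_succ' n]
      exact Subgroup.map_mono (le_sSup h2)
    · rw [kSeqOdd_succ' n, Subgroup.map_le_iff_le_comap]
      apply sSup_le
      intro B' hB'
      rw [← Subgroup.map_le_iff_le_comap, kSeqOdd_succ' n]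
      apply le_sSup
      exact kUpperStarFamily_anti hE1 ((map_mem_upper_iff f hf B' _).mpr hB')

include hf in
theorem kSeqEven_interleave (hQ : ∀ n : ℕ, kSeqEven P n ≤ f.range ∧ kSeqOdd P (n + 1) ≤ f.range)
    (n : ℕ) : kSeqEven P n ≤ (kSeqEven Q' n).map f ∧ (kSeqEven Q' n).map f ≤ kSeqEven P (n + 1) := by
  obtain ⟨ih1, ih2⟩ := kSeq_interleave f hf hQ n
  constructor
  · apply sSup_le
    intro B hB
    have hBr : B ≤ f.range := (le_sSup hB).trans (hQ n).1
    have hBm : (B.comap f).map f = B := Subgroup.map_comap_eq_self hBr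
    have h1 : (B.comap f).map f ∈ kLowerStarFamily ((kSeqOdd Q' n).map f) := by
      rw [hBm]; exact kLowerStarFamily_anti ih2 hB
    have h2 := (map_mem_lower_iff f hf _ _).mp h1
    rw [← hBm]
    exact Subgroup.map_mono (le_sSup h2)
  · rw [Subgroup.map_le_iff_le_comap]
    apply sSup_le
    intro B' hB'
    rw [← Subgroup.map_le_iff_le_comap]
    apply le_sSup
    exact kLowerStarFamily_anti ih1 ((map_mem_lower_iff f hf B' _).mpr hB')

end

section

universe u

variable {P Q' : Type u} [Group P] [Group Q'] (f : Q' →* P) (hf : Function.Injective f)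

include hf in
theorem kInf_map_eq (hQ : ∀ n : ℕ, kSeqEven P n ≤ f.range ∧ kSeqOdd P (n + 1) ≤ f.range) :
    (kInfLower Q').map f = kInfLower P ∧ (kInfUpper Q').map f = kInfUpper P := by
  constructor
  · unfold kInfLower
    rw [Subgroup.map_iSup]
    apply le_antisymm
    · apply iSup_le
      intro n
      exact (kSeqEven_interleave f hf hQ n).2.trans (le_iSup (kSeqEven P) (n + 1))
    · apply iSup_le
      intro n
      exact (kSeqEven_interleave f hf hQ n).1.trans (le_iSup (fun n => (kSeqEven Q' n).map f) n)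
  · unfold kInfUpper
    rw [Subgroup.map_iInf f hf]
    apply le_antisymm
    · apply le_iInf
      intro n
      exact (iInf_le (fun n => (kSeqOdd Q' n).map f) n).trans (kSeq_interleave f hf hQ n).2
    · apply le_iInf
      intro n
      exact (iInf_le (kSeqOdd P) (n + 1)).trans (kSeq_interleave f hf hQ n).1

end

end Cfsg.Agent.Helper33
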