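import Mathlib
import Cfsg.Agent.Lib.Helper33.Conj

set_option autoImplicit false
open Pointwise

namespace Cfsg.Agent.Helper33

variable {G : Type*} [Group G]

/-- `T` is a Sylow `p`-subgroup of the subgroup `H`. -/
def IsSylIn (p : ℕ) (T H : Subgroup G) : Prop :=
  T ≤ H ∧ IsPGroup p T ∧ ¬ p ∣ T.relIndex H

theorem IsSylIn.le {p : ℕ} {T H : Subgroup G} (h : IsSylIn p T H) : T ≤ H := h.1
theorem IsSylIn.isPGroup {p : ℕ} {T H : Subgroup G} (h : IsSylIn p T H) : IsPGroup p T := h.2.1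
theorem IsSylIn.not_dvd {p : ℕ} {T H : Subgroup G} (h : IsSylIn p T H) : ¬ p ∣ T.relIndex H := h.2.2

theorem IsSylIn.conj {p : ℕ} {T H : Subgroup G} (h : IsSylIn p T H) (g : G) :
    IsSylIn p (MulAut.conj g • T) (MulAut.conj g • H) :=
  ⟨conj_smul_le_conj_smul h.1, isPGroup_conj_smul h.2.1, by rw [relIndex_conj_smul]; exact h.2.2⟩

section fin

variable [Finite G] {p : ℕ} [Fact p.Prime]

theorem isSylIn_top (S : Sylow p G) : IsSylIn p (S : Subgroup G) ⊤ :=
  ⟨le_top, S.isPGroup', by rw [Subgroup.relIndex_top_right]; exact S.not_dvd_index⟩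

/-- The Sylow subgroup of `H` attached to `T`. -/
noncomputable def IsSylIn.toSylow {T H : Subgroup G} (h : IsSylIn p T H) : Sylow p H :=
  IsPGroup.toSylow (P := T.subgroupOf H) (h.2.1.comap_subtype) h.2.2

theorem IsSylIn.coe_toSylow {T H : Subgroup G} (h : IsSylIn p T H) :
    (h.toSylow : Subgroup H) = T.subgroupOf H := rfl

theorem isSylIn_of_sylow (H : Subgroup G) (P : Sylow p H) :
    IsSylIn p ((P : Subgroup H).map H.subtype) H := by
  refine ⟨Subgroup.map_subtype_le _, P.isPGroup'.map _, ?_⟩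
  have : ((P : Subgroup H).map H.subtype).relIndex H = (P : Subgroup H).index := by
    rw [Subgroup.relIndex, Subgroup.subgroupOf,
      Subgroup.comap_map_eq_self_of_injective H.subtype_injective]
  rw [this]
  exact P.not_dvd_index

theorem IsSylIn.exists_conj_le {T H Q : Subgroup G} (h : IsSylIn p T H) (hQ : IsPGroup p Q)
    (hQH : Q ≤ H) : ∃ x ∈ H, MulAut.conj x • Q ≤ T := by
  obtain ⟨P', hP'⟩ := (hQ.comap_subtype (K := H)).exists_le_sylow
  obtain ⟨x, hx⟩ := MulAction.exists_smul_eq H P' h.toSylow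
  refine ⟨x, x.2, ?_⟩
  rw [conj_smul_le_iff]
  intro q hq
  have h1 : (⟨q, hQH hq⟩ : H) ∈ (P' : Subgroup H) := hP' (by simpa [Subgroup.mem_subgroupOf] using hq)
  have h2 : x * ⟨q, hQH hq⟩ * x⁻¹ ∈ ((x • P' : Sylow p H) : Subgroup H) := by
    rw [Sylow.coe_subgroup_smul]
    exact conj_mem_conj_smul h1
  rw [hx, h.coe_toSylow, Subgroup.mem_subgroupOf] at h2
  simpa using h2

theorem IsSylIn.eq_of_le {T H Q : Subgroup G} (h : IsSylIn p T H) (hQ : IsPGroup p Q)
    (hQH : Q ≤ H) (hTQ : T ≤ Q) : Q = T := by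
  have h1 : Q.subgroupOf H = (h.toSylow : Subgroup H) := by
    apply h.toSylow.is_maximal' (hQ.comap_subtype (K := H))
    rw [h.coe_toSylow]
    exact Subgroup.comap_mono hTQ
  rw [h.coe_toSylow, Subgroup.subgroupOf_inj] at h1
  rwa [inf_eq_left.mpr hQH, inf_eq_left.mpr h.1] at h1

theorem exists_isSylIn_ge {Q H : Subgroup G} (hQ : IsPGroup p Q) (hQH : Q ≤ H) :
    ∃ T, IsSylIn p T H ∧ Q ≤ T := by
  obtain ⟨P', hP'⟩ := (hQ.comap_subtype (K := H)).exists_le_sylow
  refine ⟨_, isSylIn_of_sylow H P', ?_⟩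
  intro q hq
  exact ⟨⟨q, hQH hq⟩, hP' (by simpa [Subgroup.mem_subgroupOf] using hq), rfl⟩

theorem exists_isSylIn (H : Subgroup G) : ∃ T, IsSylIn p T H := by
  obtain ⟨T, hT, -⟩ := exists_isSylIn_ge (p := p) (Q := ⊥) (H := H) IsPGroup.of_bot bot_le
  exact ⟨T, hT⟩

theorem IsSylIn.exists_conj_eq {T T' H : Subgroup G} (h : IsSylIn p T H) (h' : IsSylIn p T' H) :
    ∃ x ∈ H, MulAut.conj x • T' = T := by
  obtain ⟨x, hx, hle⟩ := h.exists_conj_le h'.2.1 h'.1
  refine ⟨x, hx, ?_⟩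
  have h'' := h'.conj x
  rw [conj_smul_eq_self_of_mem hx] at h''
  exact (h''.eq_of_le h.2.1 h.1 hle).symm

theorem IsSylIn.card_eq {T T' H : Subgroup G} (h : IsSylIn p T H) (h' : IsSylIn p T' H) :
    Nat.card T = Nat.card T' := by
  obtain ⟨x, -, rfl⟩ := h.exists_conj_eq h'
  exact card_conj_smul x T'

theorem IsSylIn.of_le {T H K : Subgroup G} (h : IsSylIn p T H) (hTK : T ≤ K) (hKH : K ≤ H) :
    IsSylIn p T K := by
  refine ⟨hTK, h.2.1, fun hdvd => h.2.2 ?_⟩
  rw [← Subgroup.relIndex_mul_relIndex T K H hTK hKH]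
  exact Dvd.dvd.mul_right hdvd _

theorem IsSylIn.of_card_le {T H Q : Subgroup G} (h : IsSylIn p T H) (hQ : IsPGroup p Q)
    (hQH : Q ≤ H) (hcard : Nat.card T ≤ Nat.card Q) : IsSylIn p Q H := by
  obtain ⟨x, hx, hle⟩ := h.exists_conj_le hQ hQH
  have h1 : MulAut.conj x • Q = T := by
    apply Subgroup.eq_of_le_of_card_ge hle
    rw [card_conj_smul]; exact hcard
  have h2 := h.conj x⁻¹
  rw [← h1, conj_inv_smul_smul, conj_smul_eq_self_of_mem (H.inv_mem hx)] at h2
  exact h2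

theorem IsSylIn.inf_normal {T H N : Subgroup G} (h : IsSylIn p T H) (hNH : N ≤ H)
    (hn : H ≤ Subgroup.normalizer (N : Set G)) : IsSylIn p (T ⊓ N) N := by
  obtain ⟨R, hR⟩ := exists_isSylIn (p := p) N
  obtain ⟨x, hx, hle⟩ := h.exists_conj_le hR.2.1 (hR.1.trans hNH)
  have hxN : MulAut.conj x • N = N := smul_eq_of_mem_normalizer (hn hx)
  have hR' := hR.conj x
  rw [hxN] at hR'
  have : T ⊓ N = MulAut.conj x • R :=
    hR'.eq_of_le (h.2.1.to_le inf_le_left) inf_le_right (le_inf hle hR'.1)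
  rw [this]
  exact hR'

theorem IsSylIn.normalizer_growth {S T : Subgroup G} (hS : IsPGroup p S) (hTS : T ≤ S)
    (hne : T ≠ S) : T < S ⊓ Subgroup.normalizer (T : Set G) := by
  have : Group.IsNilpotent S := hS.isNilpotent
  have hnc := Group.normalizerCondition_of_isNilpotent (G := S)
  have hlt : T.subgroupOf S < ⊤ := by
    rw [lt_top_iff_ne_top, Ne, Subgroup.subgroupOf_eq_top]
    intro h
    exact hne (le_antisymm hTS h)
  have h1 := hnc _ hlt
  obtain ⟨hle, hnle⟩ := h1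
  refine ⟨le_inf hTS Subgroup.le_normalizer, fun hcontra => hnle ?_⟩
  intro x hx
  rw [Subgroup.mem_subgroupOf]
  apply hcontra
  refine Subgroup.mem_inf.mpr ⟨x.2, ?_⟩
  rw [Subgroup.mem_normalizer_iff] at hx ⊢
  intro y
  constructor
  · intro hy
    have := (hx ⟨y, hTS hy⟩).mp (by simpa [Subgroup.mem_subgroupOf] using hy)
    simpa [Subgroup.mem_subgroupOf] using this
  · intro hy
    have hyS : y ∈ S := by
      have h1 := hTS hy
      have h2 : y = (x : G)⁻¹ * ((x : G) * y * (x : G)⁻¹) * (x : G) := by group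
      rw [h2]
      exact S.mul_mem (S.mul_mem (S.inv_mem x.2) h1) x.2
    have := (hx ⟨y, hyS⟩).mpr (by simpa [Subgroup.mem_subgroupOf] using hy)
    simpa [Subgroup.mem_subgroupOf] using this

end fin

end Cfsg.Agent.Helper33
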