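import Mathlib
import Cfsg.Agent.Lib.Helper33.Syl

set_option autoImplicit false
open Pointwise

namespace Cfsg.Agent.Helper33

variable {G : Type*} [Group G]

/-- right conjugation of a set -/
def rc (g : G) (A : Set G) : Set G := (fun a => g⁻¹ * a * g) '' A

theorem rc_one (A : Set G) : rc 1 A = A := by
  simp [rc]

theorem rc_mul (g h : G) (A : Set G) : rc (g * h) A = rc h (rc g A) := by
  simp only [rc, Set.image_image]
  congr 1
  funext a
  group

theorem rc_mono {g : G} {A B : Set G} (h : A ⊆ B) : rc g A ⊆ rc g B := Set.image_mono h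

theorem rc_inv_rc (g : G) (A : Set G) : rc g⁻¹ (rc g A) = A := by
  rw [← rc_mul, mul_inv_cancel, rc_one]

theorem rc_coe (g : G) (H : Subgroup G) :
    rc g (H : Set G) = ((MulAut.conj g⁻¹ • H : Subgroup G) : Set G) := by
  ext x
  simp only [rc, Set.mem_image, SetLike.mem_coe]
  rw [mem_conj_smul]
  constructor
  · rintro ⟨a, ha, rfl⟩
    simpa [mul_assoc] using ha
  · intro h
    refine ⟨_, h, ?_⟩
    simp [mul_assoc]

theorem rc_normalizer {g : G} {T : Subgroup G} (hg : g ∈ Subgroup.normalizer (T : Set G)) :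
    rc g (T : Set G) = T := by
  rw [rc_coe, smul_eq_of_mem_normalizer (inv_mem hg)]

/-- chains of conjugations through members of a family, right conjugation convention -/
def IsChainR (𝓕 : Set (Subgroup G)) : Set G → List (Subgroup G × G) → Prop
  | _, [] => True
  | A, (T, x) :: l => T ∈ 𝓕 ∧ x ∈ Subgroup.normalizer (T : Set G) ∧ A ⊆ T ∧ IsChainR 𝓕 (rc x A) l

def Reach (𝓕 : Set (Subgroup G)) (A : Set G) (g : G) : Prop :=
  ∃ l : List (Subgroup G × G), IsChainR 𝓕 A l ∧ (l.map Prod.snd).prod = g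

theorem IsChainR.mono {𝓕 : Set (Subgroup G)} {l : List (Subgroup G × G)} :
    ∀ {A B : Set G}, B ⊆ A → IsChainR 𝓕 A l → IsChainR 𝓕 B l := by
  induction l with
  | nil => intro A B _ _; trivial
  | cons hd tl ih =>
    intro A B hBA h
    obtain ⟨T, x⟩ := hd
    exact ⟨h.1, h.2.1, hBA.trans h.2.2.1, ih (rc_mono hBA) h.2.2.2⟩

theorem IsChainR.append {𝓕 : Set (Subgroup G)} {l₁ : List (Subgroup G × G)} :
    ∀ {A : Set G} {l₂ : List (Subgroup G × G)}, IsChainR 𝓕 A l₁ →
      IsChainR 𝓕 (rc (l₁.map Prod.snd).prod A) l₂ → IsChainR 𝓕 A (l₁ ++ l₂) := by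
  induction l₁ with
  | nil => intro A l₂ _ h; simpa [rc_one] using h
  | cons hd tl ih =>
    intro A l₂ h1 h2
    obtain ⟨T, x⟩ := hd
    refine ⟨h1.1, h1.2.1, h1.2.2.1, ih h1.2.2.2 ?_⟩
    simpa [rc_mul] using h2

theorem Reach.nil (𝓕 : Set (Subgroup G)) (A : Set G) : Reach 𝓕 A 1 := ⟨[], trivial, by simp⟩

theorem Reach.single {𝓕 : Set (Subgroup G)} {A : Set G} {T : Subgroup G} {x : G} (hT : T ∈ 𝓕)
    (hx : x ∈ Subgroup.normalizer (T : Set G)) (hA : A ⊆ T) : Reach 𝓕 A x :=
  ⟨[(T, x)], ⟨hT, hx, hA, trivial⟩, by simp⟩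

theorem Reach.mono {𝓕 : Set (Subgroup G)} {A B : Set G} {g : G} (hBA : B ⊆ A)
    (h : Reach 𝓕 A g) : Reach 𝓕 B g := by
  obtain ⟨l, hl, rfl⟩ := h
  exact ⟨l, hl.mono hBA, rfl⟩

theorem Reach.trans {𝓕 : Set (Subgroup G)} {A : Set G} {g h : G} (h1 : Reach 𝓕 A g)
    (h2 : Reach 𝓕 (rc g A) h) : Reach 𝓕 A (g * h) := by
  obtain ⟨l₁, hl₁, rfl⟩ := h1
  obtain ⟨l₂, hl₂, rfl⟩ := h2
  exact ⟨l₁ ++ l₂, hl₁.append hl₂, by simp⟩

theorem Reach.symm {𝓕 : Set (Subgroup G)} {A : Set G} {g : G} (h : Reach 𝓕 A g) :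
    Reach 𝓕 (rc g A) g⁻¹ := by
  obtain ⟨l, hl, rfl⟩ := h
  induction l generalizing A with
  | nil => simpa using Reach.nil 𝓕 _
  | cons hd tl ih =>
    obtain ⟨T, x⟩ := hd
    have h1 := ih hl.2.2.2
    simp only [List.map_cons, List.prod_cons, mul_inv_rev]
    rw [rc_mul]
    apply Reach.trans h1
    rw [rc_inv_rc]
    apply Reach.single hl.1 (inv_mem hl.2.1)
    calc rc x A ⊆ rc x (T : Set G) := rc_mono hl.2.2.1
      _ = T := rc_normalizer hl.2.1

theorem IsChainR.take_subset {𝓕 : Set (Subgroup G)} {l : List (Subgroup G × G)} :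
    ∀ {A : Set G}, IsChainR 𝓕 A l → ∀ (i : ℕ) (hi : i < l.length),
      rc ((l.map Prod.snd).take i).prod A ⊆ (l[i]).1 := by
  induction l with
  | nil => intro A _ i hi; simp at hi
  | cons hd tl ih =>
    intro A h i hi
    obtain ⟨T, x⟩ := hd
    cases i with
    | zero => simpa [rc_one] using h.2.2.1
    | succ j =>
      have hj : j < tl.length := by simpa using hi
      have := ih h.2.2.2 j hj
      simpa [rc_mul] using this

theorem IsChainR.mem_family {𝓕 : Set (Subgroup G)} {l : List (Subgroup G × G)} :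
    ∀ {A : Set G}, IsChainR 𝓕 A l → ∀ (i : ℕ) (hi : i < l.length),
      (l[i]).1 ∈ 𝓕 ∧ (l[i]).2 ∈ Subgroup.normalizer (((l[i]).1 : Subgroup G) : Set G) := by
  induction l with
  | nil => intro A _ i hi; simp at hi
  | cons hd tl ih =>
    intro A h i hi
    obtain ⟨T, x⟩ := hd
    cases i with
    | zero => exact ⟨h.1, h.2.1⟩
    | succ j =>
      have hj : j < tl.length := by simpa using hi
      simpa using ih h.2.2.2 j hj

/-- From `Reach` to the explicit form used in `IsConjugationFamily`. -/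
theorem Reach.explicit {𝓕 : Set (Subgroup G)} {A : Set G} {g : G} (h : Reach 𝓕 A g) :
    ∃ (n : ℕ) (T : Fin n → Subgroup G) (x : Fin n → G), (List.ofFn x).prod = g ∧
      (∀ i, T i ∈ 𝓕) ∧ (∀ i, x i ∈ Subgroup.normalizer ((T i : Subgroup G) : Set G)) ∧
      (∀ h : 0 < n, A ⊆ T ⟨0, h⟩) ∧
      ∀ (i : Fin n) (h : i.val + 1 < n),
        (fun a => (((List.ofFn x).take (i.val + 1)).prod)⁻¹ * a * ((List.ofFn x).take (i.val + 1)).prod) '' A ⊆
          T ⟨i.val + 1, h⟩ := by
  obtain ⟨l, hl, rfl⟩ := h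
  have hofn : List.ofFn (fun i : Fin l.length => (l[i.val]).2) = l.map Prod.snd := by
    apply List.ext_getElem
    · simp
    · intro i h1 h2
      simp
  refine ⟨l.length, fun i => (l[i.val]).1, fun i => (l[i.val]).2, ?_, ?_, ?_, ?_, ?_⟩
  · rw [hofn]
  · intro i; exact (hl.mem_family i.val i.2).1
  · intro i; exact (hl.mem_family i.val i.2).2
  · intro h
    have := hl.take_subset 0 h
    simpa [rc_one] using this
  · intro i h
    rw [hofn]
    exact hl.take_subset (i.val + 1) h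

theorem card_lt_of_lt [Finite G] {H K : Subgroup G} (h : H < K) : Nat.card H < Nat.card K := by
  rcases (Subgroup.card_le_of_le h.le).lt_or_eq with h1 | h1
  · exact h1
  · exact absurd (Subgroup.eq_of_le_of_card_ge h.le h1.ge) h.ne

/-- Alperin's fusion theorem in the form of a criterion for conjugation families. -/
theorem reach_of_criterion [Finite G] {p : ℕ} [Fact p.Prime] (S : Sylow p G)
    (𝓕 : Set (Subgroup G)) (h𝓕 : ∀ U ∈ 𝓕, U ≤ (S : Subgroup G))
    (h : ∀ T : Subgroup G, T ≤ (S : Subgroup G) → ∃ U ∈ 𝓕, (∃ g : G, MulAut.conj g • T = U) ∧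
      IsSylIn p ((S : Subgroup G) ⊓ Subgroup.normalizer (U : Set G))
        (Subgroup.normalizer (U : Set G)))
    (A : Subgroup G) (hA : A ≤ (S : Subgroup G)) (g : G)
    (hg : MulAut.conj g⁻¹ • A ≤ (S : Subgroup G)) : Reach 𝓕 (A : Set G) g := by
  induction' hn : Nat.card (S : Subgroup G) - Nat.card A using Nat.strong_induction_on with n ih
    generalizing A g
  by_cases hAS : A = S
  · have hgS : MulAut.conj g⁻¹ • (S : Subgroup G) = S := by
      rw [hAS] at hg
      exact Subgroup.eq_of_le_of_card_ge hg (by rw [card_conj_smul])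
    have hgN : g ∈ Subgroup.normalizer ((S : Subgroup G) : Set G) := by
      have := mem_normalizer_iff_smul_eq.mpr hgS
      simpa using inv_mem this
    obtain ⟨U, hU, ⟨k, hk⟩, -⟩ := h S le_rfl
    have hUS : U = S := Subgroup.eq_of_le_of_card_ge (h𝓕 U hU) (by rw [← hk, card_conj_smul])
    exact Reach.single (hUS ▸ hU) hgN (by rw [hAS])
  · have hcardA : Nat.card A < Nat.card (S : Subgroup G) :=
      card_lt_of_lt (lt_of_le_of_ne hA hAS)
    have hBS : MulAut.conj g⁻¹ • A ≠ (S : Subgroup G) := by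
      intro hcontra
      have := congrArg (fun H : Subgroup G => Nat.card H) hcontra
      simp only [card_conj_smul] at this
      omega
    have hltA := IsSylIn.normalizer_growth S.isPGroup' hA hAS
    have hltB := IsSylIn.normalizer_growth S.isPGroup' hg hBS
    have hcA := card_lt_of_lt hltA
    have hcB := card_lt_of_lt hltB
    rw [card_conj_smul] at hcB
    have hcA' : Nat.card ((S : Subgroup G) ⊓ Subgroup.normalizer (A : Set G) : Subgroup G) ≤
        Nat.card (S : Subgroup G) := Subgroup.card_le_of_le inf_le_left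
    have hcB' : Nat.card ((S : Subgroup G) ⊓
        Subgroup.normalizer ((MulAut.conj g⁻¹ • A : Subgroup G) : Set G) : Subgroup G) ≤
        Nat.card (S : Subgroup G) := Subgroup.card_le_of_le inf_le_left
    obtain ⟨U, hU, ⟨k₀, hk₀⟩, hsyl⟩ := h A hA
    -- step 1
    have h1 : MulAut.conj k₀ • ((S : Subgroup G) ⊓ Subgroup.normalizer (A : Set G)) ≤
        Subgroup.normalizer (U : Set G) := by
      rw [← hk₀, normalizer_conj_smul]
      exact conj_smul_le_conj_smul inf_le_right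
    obtain ⟨c, hc, hcle⟩ := hsyl.exists_conj_le
      (isPGroup_conj_smul (S.isPGroup'.to_le inf_le_left)) h1
    have e1 : MulAut.conj ((c * k₀)⁻¹)⁻¹ • A = U := by
      rw [inv_inv, conj_mul_smul, hk₀, smul_eq_of_mem_normalizer hc]
    have e1' : MulAut.conj ((c * k₀)⁻¹)⁻¹ • ((S : Subgroup G) ⊓ Subgroup.normalizer (A : Set G)) ≤
        (S : Subgroup G) := by
      rw [inv_inv, conj_mul_smul]
      exact hcle.trans inf_le_left
    have r1 : Reach 𝓕 (((S : Subgroup G) ⊓ Subgroup.normalizer (A : Set G) : Subgroup G) : Set G)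
        (c * k₀)⁻¹ := ih _ (by omega) _ inf_le_left _ e1' rfl
    have r1' : Reach 𝓕 (A : Set G) (c * k₀)⁻¹ := r1.mono hltA.le
    -- step 2
    have hk₀B : MulAut.conj (k₀ * g) • (MulAut.conj g⁻¹ • A) = U := by
      rw [conj_mul_smul, conj_smul_inv_smul, hk₀]
    have h2 : MulAut.conj (k₀ * g) • ((S : Subgroup G) ⊓
        Subgroup.normalizer ((MulAut.conj g⁻¹ • A : Subgroup G) : Set G)) ≤
        Subgroup.normalizer (U : Set G) := by
      rw [← hk₀B, normalizer_conj_smul (k₀ * g)]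
      exact conj_smul_le_conj_smul inf_le_right
    obtain ⟨c', hc', hc'le⟩ := hsyl.exists_conj_le
      (isPGroup_conj_smul (S.isPGroup'.to_le inf_le_left)) h2
    have e2 : MulAut.conj ((c' * (k₀ * g))⁻¹)⁻¹ • (MulAut.conj g⁻¹ • A) = U := by
      rw [inv_inv, conj_mul_smul, hk₀B, smul_eq_of_mem_normalizer hc']
    have e2' : MulAut.conj ((c' * (k₀ * g))⁻¹)⁻¹ • ((S : Subgroup G) ⊓
        Subgroup.normalizer ((MulAut.conj g⁻¹ • A : Subgroup G) : Set G)) ≤ (S : Subgroup G) := by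
      rw [inv_inv, conj_mul_smul]
      exact hc'le.trans inf_le_left
    have r2 : Reach 𝓕 (((S : Subgroup G) ⊓
        Subgroup.normalizer ((MulAut.conj g⁻¹ • A : Subgroup G) : Set G) : Subgroup G) : Set G)
        (c' * (k₀ * g))⁻¹ := ih _ (by omega) _ inf_le_left _ e2' rfl
    have r2' : Reach 𝓕 ((MulAut.conj g⁻¹ • A : Subgroup G) : Set G) (c' * (k₀ * g))⁻¹ :=
      r2.mono hltB.le
    have r3 := r2'.symm
    rw [rc_coe, e2] at r3
    -- combine
    have hm : c * c'⁻¹ ∈ Subgroup.normalizer (U : Set G) := mul_mem hc (inv_mem hc')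
    have hg_eq : g = (c * k₀)⁻¹ * (c * c'⁻¹) * ((c' * (k₀ * g))⁻¹)⁻¹ := by group
    rw [hg_eq]
    apply Reach.trans
    · apply Reach.trans r1'
      rw [rc_coe, e1]
      exact Reach.single hU hm subset_rfl
    · rw [rc_mul, rc_coe, e1, rc_normalizer hm]
      exact r3

end Cfsg.Agent.Helper33
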