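import Mathlib
import Cfsg.Agent.Lib.Helper33.Fusion

set_option autoImplicit false
open Pointwise

namespace Cfsg.Agent.Helper33

variable {G : Type*} [Group G]

theorem rc_congr {x y : G} {A : Set G} (h : ∀ a ∈ A, x⁻¹ * a * x = y⁻¹ * a * y) :
    rc x A = rc y A := by
  ext b
  constructor
  · rintro ⟨a, ha, rfl⟩; exact ⟨a, ha, (h a ha).symm⟩
  · rintro ⟨a, ha, rfl⟩; exact ⟨a, ha, h a ha⟩

theorem mem_rc {x b : G} {A : Set G} : b ∈ rc x A ↔ x * b * x⁻¹ ∈ A := by
  constructor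
  · rintro ⟨a, ha, rfl⟩
    have : x * (x⁻¹ * a * x) * x⁻¹ = a := by group
    rw [this]; exact ha
  · intro h
    exact ⟨_, h, by group⟩

/-- chains of steps satisfying `Q`, all intermediate conjugates of `A` staying inside `S`
(right conjugation convention) -/
def IsStepChain (Q : G → Prop) (S : Set G) : Set G → List G → Prop
  | _, [] => True
  | A, x :: l => Q x ∧ rc x A ⊆ S ∧ IsStepChain Q S (rc x A) l

def Good (Q : G → Prop) (S : Set G) (A : Set G) (g : G) : Prop :=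
  ∃ l : List G, IsStepChain Q S A l ∧ ∀ a ∈ A, l.prod⁻¹ * a * l.prod = g⁻¹ * a * g

theorem IsStepChain.mono {Q : G → Prop} {S : Set G} {l : List G} :
    ∀ {A B : Set G}, B ⊆ A → IsStepChain Q S A l → IsStepChain Q S B l := by
  induction l with
  | nil => intro A B _ _; trivial
  | cons x tl ih =>
    intro A B hBA h
    exact ⟨h.1, (rc_mono hBA).trans h.2.1, ih (rc_mono hBA) h.2.2⟩

theorem IsStepChain.append {Q : G → Prop} {S : Set G} {l₁ : List G} :
    ∀ {A : Set G} {l₂ : List G}, IsStepChain Q S A l₁ →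
      IsStepChain Q S (rc l₁.prod A) l₂ → IsStepChain Q S A (l₁ ++ l₂) := by
  induction l₁ with
  | nil => intro A l₂ _ h; simpa [rc_one] using h
  | cons x tl ih =>
    intro A l₂ h1 h2
    refine ⟨h1.1, h1.2.1, ih h1.2.2 ?_⟩
    simpa [rc_mul] using h2

theorem Good.nil (Q : G → Prop) (S A : Set G) : Good Q S A 1 :=
  ⟨[], trivial, fun a _ => by simp⟩

theorem Good.of_agree {Q : G → Prop} {S A : Set G} {g g' : G} (h : Good Q S A g)
    (hg : ∀ a ∈ A, g'⁻¹ * a * g' = g⁻¹ * a * g) : Good Q S A g' := by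
  obtain ⟨l, hl, hla⟩ := h
  exact ⟨l, hl, fun a ha => (hla a ha).trans (hg a ha).symm⟩

theorem Good.single {Q : G → Prop} {S A : Set G} {x : G} (hx : Q x) (hA : rc x A ⊆ S) :
    Good Q S A x :=
  ⟨[x], ⟨hx, hA, trivial⟩, fun a _ => by simp⟩

theorem Good.mono {Q : G → Prop} {S A B : Set G} {g : G} (hBA : B ⊆ A) (h : Good Q S A g) :
    Good Q S B g := by
  obtain ⟨l, hl, hla⟩ := h
  exact ⟨l, hl.mono hBA, fun a ha => hla a (hBA ha)⟩

theorem Good.trans {Q : G → Prop} {S A : Set G} {g h : G} (h1 : Good Q S A g)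
    (h2 : Good Q S (rc g A) h) : Good Q S A (g * h) := by
  obtain ⟨l₁, hl₁, hl₁a⟩ := h1
  obtain ⟨l₂, hl₂, hl₂a⟩ := h2
  have hrc : rc l₁.prod A = rc g A := rc_congr hl₁a
  refine ⟨l₁ ++ l₂, hl₁.append (by rw [hrc]; exact hl₂), ?_⟩
  intro a ha
  have e1 := hl₁a a ha
  have e2 := hl₂a (g⁻¹ * a * g) ⟨a, ha, rfl⟩
  rw [List.prod_append]
  calc (l₁.prod * l₂.prod)⁻¹ * a * (l₁.prod * l₂.prod)
      = l₂.prod⁻¹ * (l₁.prod⁻¹ * a * l₁.prod) * l₂.prod := by group
    _ = l₂.prod⁻¹ * (g⁻¹ * a * g) * l₂.prod := by rw [e1]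
    _ = h⁻¹ * (g⁻¹ * a * g) * h := e2
    _ = (g * h)⁻¹ * a * (g * h) := by group

theorem IsStepChain.symm {Q : G → Prop} (hQ : ∀ x, Q x → Q x⁻¹) {S : Set G} {l : List G} :
    ∀ {A : Set G}, A ⊆ S → IsStepChain Q S A l → Good Q S (rc l.prod A) l.prod⁻¹ := by
  induction l with
  | nil => intro A _ _; simpa using Good.nil Q S _
  | cons x tl ih =>
    intro A hA h
    have h1 := ih h.2.1 h.2.2
    simp only [List.prod_cons, mul_inv_rev]
    rw [rc_mul]
    apply Good.trans h1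
    rw [rc_inv_rc]
    apply Good.single (hQ x h.1)
    rw [rc_inv_rc]
    exact hA

theorem Good.symm {Q : G → Prop} (hQ : ∀ x, Q x → Q x⁻¹) {S A : Set G} {g : G} (hA : A ⊆ S)
    (h : Good Q S A g) : Good Q S (rc g A) g⁻¹ := by
  obtain ⟨l, hl, hla⟩ := h
  have hrc : rc l.prod A = rc g A := rc_congr hla
  have h1 := hl.symm hQ hA
  rw [hrc] at h1
  apply h1.of_agree
  rintro _ ⟨a, ha, rfl⟩
  have e := hla a ha
  show g⁻¹⁻¹ * (g⁻¹ * a * g) * g⁻¹ = l.prod⁻¹⁻¹ * (g⁻¹ * a * g) * l.prod⁻¹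
  rw [inv_inv, inv_inv]
  nth_rewrite 2 [← e]
  group

theorem Good.mono_pred {Q Q' : G → Prop} (hQ : ∀ x, Q x → Q' x) {S A : Set G} {g : G}
    (h : Good Q S A g) : Good Q' S A g := by
  obtain ⟨l, hl, hla⟩ := h
  refine ⟨l, ?_, hla⟩
  clear hla
  induction l generalizing A with
  | nil => trivial
  | cons x tl ih => exact ⟨hQ x hl.1, hl.2.1, ih hl.2.2⟩

/-- Replace every step of a chain by a chain of another kind. -/
theorem Good.bind {Q Q' : G → Prop} {S S' : Set G}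
    (hstep : ∀ (x : G) (B : Set G), Q x → B ⊆ S → rc x B ⊆ S → Good Q' S' B x)
    {A : Set G} {g : G} (hA : A ⊆ S) (h : Good Q S A g) : Good Q' S' A g := by
  obtain ⟨l, hl, hla⟩ := h
  have : Good Q' S' A l.prod := by
    clear hla
    induction l generalizing A with
    | nil => simpa using Good.nil Q' S' A
    | cons x tl ih =>
      rw [List.prod_cons]
      exact Good.trans (hstep x A hl.1 hA hl.2.1) (ih hl.2.1 hl.2.2)
  exact this.of_agree (fun a ha => (hla a ha).symm)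

/-- Replace every step of an Alperin chain by a chain of steps. -/
theorem Reach.bind {𝓕 : Set (Subgroup G)} {Q' : G → Prop} {S' : Set G} {A : Set G}
    (hstep : ∀ T ∈ 𝓕, ∀ x ∈ Subgroup.normalizer (T : Set G), ∀ y : G, rc y A ⊆ T →
      Good Q' S' (rc y A) x)
    {g : G} (h : Reach 𝓕 A g) : Good Q' S' A g := by
  obtain ⟨l, hl, rfl⟩ := h
  induction l generalizing A with
  | nil => simpa using Good.nil Q' S' A
  | cons hd tl ih =>
    obtain ⟨T, x⟩ := hd
    simp only [List.map_cons, List.prod_cons]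
    have h0 := hstep T hl.1 x hl.2.1 1 (by rw [rc_one]; exact hl.2.2.1)
    rw [rc_one] at h0
    apply Good.trans h0
    apply ih _ hl.2.2.2
    intro T' hT' x' hx' y hy
    rw [← rc_mul] at hy ⊢
    exact hstep T' hT' x' hx' (x * y) hy

/-- Transport a chain by conjugation. -/
theorem Good.conj {Q Q' : G → Prop} {S A : Set G} {g : G} (k : G)
    (hQ : ∀ x, Q x → Q' (k * x * k⁻¹)) (h : Good Q S A g) :
    Good Q' (rc k⁻¹ S) (rc k⁻¹ A) (k * g * k⁻¹) := by
  obtain ⟨l, hl, hla⟩ := h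
  refine ⟨l.map (fun x => k * x * k⁻¹), ?_, ?_⟩
  · clear hla
    induction l generalizing A with
    | nil => trivial
    | cons x tl ih =>
      have e : rc (k * x * k⁻¹) (rc k⁻¹ A) = rc k⁻¹ (rc x A) := by
        rw [← rc_mul, ← rc_mul]; congr 1; group
      refine ⟨hQ x hl.1, ?_, ?_⟩
      · rw [e]; exact rc_mono hl.2.1
      · rw [e]; exact ih hl.2.2
  · have hprod : (l.map (fun x => k * x * k⁻¹)).prod = k * l.prod * k⁻¹ := by
      clear hl hla
      induction l with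
      | nil => simp
      | cons x tl ih => simp only [List.map_cons, List.prod_cons, ih]; group
    rintro _ ⟨a, ha, rfl⟩
    rw [hprod]
    have e := hla a ha
    calc (k * l.prod * k⁻¹)⁻¹ * (k⁻¹⁻¹ * a * k⁻¹) * (k * l.prod * k⁻¹)
        = k * (l.prod⁻¹ * a * l.prod) * k⁻¹ := by group
      _ = k * (g⁻¹ * a * g) * k⁻¹ := by rw [e]
      _ = _ := by group

end Cfsg.Agent.Helper33
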