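import Mathlib
import Cfsg.Agent.Lib.Helper33.Good

set_option autoImplicit false
open Pointwise

namespace Cfsg.Agent.Helper33

variable {G : Type*} [Group G]

/-- left conjugation of a set -/
def lc (d : G) (A : Set G) : Set G := (fun a => d * a * d⁻¹) '' A

theorem lc_eq_rc (d : G) (A : Set G) : lc d A = rc d⁻¹ A := by
  simp [lc, rc]

theorem lc_one (A : Set G) : lc 1 A = A := by simp [lc]

theorem rc_lc (x d : G) (A : Set G) : rc x (lc d A) = lc (x⁻¹ * d) A := by
  rw [lc_eq_rc, lc_eq_rc, ← rc_mul]; congr 1; group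

theorem isStepChain_of_c {Q : G → Prop} (hQ : ∀ x, Q x → Q x⁻¹) {S : Set G} :
    ∀ (n : ℕ) (c : Fin (n + 1) → G) (A : Set G),
      (∀ i : Fin n, Q (c i.succ * (c i.castSucc)⁻¹)) → (∀ i : Fin (n + 1), lc (c i) A ⊆ S) →
      ∃ l : List G, IsStepChain Q S (lc (c 0) A) l ∧ l.prod = c 0 * (c (Fin.last n))⁻¹ := by
  intro n
  induction n with
  | zero => intro c A _ _; exact ⟨[], trivial, by simp⟩
  | succ n ih =>
    intro c A hstep hS
    obtain ⟨l', hl', hprod⟩ := ih (fun i => c i.succ) A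
      (fun i => by
        have := hstep i.succ
        rwa [← Fin.succ_castSucc] at this)
      (fun i => hS i.succ)
    have hx : Q (c 0 * (c 1)⁻¹) := by
      have := hQ _ (hstep 0)
      simpa using this
    have e : rc (c 0 * (c 1)⁻¹) (lc (c 0) A) = lc (c 1) A := by
      rw [rc_lc]; congr 1; group
    refine ⟨(c 0 * (c 1)⁻¹) :: l', ⟨hx, ?_, ?_⟩, ?_⟩
    · rw [e]; exact hS 1
    · rw [e]; exact hl'
    · rw [List.prod_cons, hprod, Fin.succ_last]
      simp

theorem c_of_isStepChain {Q : G → Prop} {S : Set G} :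
    ∀ (l : List G) (A : Set G) (d : G), IsStepChain Q S (lc d A) l →
      ∃ (n : ℕ) (c : Fin (n + 1) → G), c 0 = d ∧
        (∀ i : Fin n, Q ((c i.succ * (c i.castSucc)⁻¹)⁻¹)) ∧
        (∀ i : Fin (n + 1), i ≠ 0 → lc (c i) A ⊆ S) ∧ c (Fin.last n) = l.prod⁻¹ * d := by
  intro l
  induction l with
  | nil => intro A d _; exact ⟨0, fun _ => d, rfl, fun i => i.elim0, fun i hi => absurd (Fin.eq_zero i) hi, by simp⟩
  | cons x tl ih =>
    intro A d h
    obtain ⟨hQx, hS, hrest⟩ := h
    rw [rc_lc] at hS hrest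
    obtain ⟨n, c, hc0, hcstep, hcS, hclast⟩ := ih A (x⁻¹ * d) hrest
    refine ⟨n + 1, Fin.cons d c, by simp, ?_, ?_, ?_⟩
    · intro i
      refine Fin.cases ?_ (fun j => ?_) i
      · simp only [Fin.cons_succ, Fin.castSucc_zero, Fin.cons_zero, hc0]
        have : (x⁻¹ * d * d⁻¹)⁻¹ = x := by group
        rw [this]; exact hQx
      · rw [← Fin.succ_castSucc]
        simp only [Fin.cons_succ]
        exact hcstep j
    · intro i
      refine Fin.cases ?_ (fun j => ?_) i
      · intro h; exact absurd rfl h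
      · intro _
        simp only [Fin.cons_succ]
        by_cases hj : j = 0
        · rw [hj, hc0]; exact hS
        · exact hcS j hj
    · rw [← Fin.succ_last, Fin.cons_succ, hclast, List.prod_cons]
      group

end Cfsg.Agent.Helper33
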