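import Mathlib
import Cfsg.Prelude.Def_ConjugacyFunctors
import Cfsg.Agent.Lib.Helper33.Fusion

set_option autoImplicit false
open Pointwise Cfsg

namespace Cfsg.Agent.Helper33

variable {G : Type*} [Group G]

theorem functorTower_zero (W : Subgroup G → Subgroup G) (S T : Subgroup G) :
    functorTower W S T 0 = T := by rw [functorTower]

theorem functorTower_succ (W : Subgroup G → Subgroup G) (S T : Subgroup G) (i : ℕ) :
    functorTower W S T (i + 1) =
      W (S ⊓ Subgroup.normalizer ((functorTower W S T i : Subgroup G) : Set G)) := by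
  rw [functorTower]

theorem functorTower_shift (W : Subgroup G → Subgroup G) (S T : Subgroup G) (i : ℕ) :
    functorTower W S T (i + 1) =
      functorTower W S (W (S ⊓ Subgroup.normalizer (T : Set G))) i := by
  induction i with
  | zero => rw [functorTower_succ, functorTower_zero, functorTower_zero]
  | succ i ih => rw [functorTower_succ, ih, functorTower_succ]

theorem isWellPlaced_iff_isSylIn {p : ℕ} {W : Subgroup G → Subgroup G} {S T : Subgroup G}
    (hS : IsPGroup p S) :
    IsWellPlaced p W S T ↔ T ≤ S ∧ ∀ i : ℕ,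
      IsSylIn p (S ⊓ Subgroup.normalizer ((functorTower W S T i : Subgroup G) : Set G))
        (Subgroup.normalizer ((functorTower W S T i : Subgroup G) : Set G)) := by
  constructor
  · rintro ⟨h1, h2⟩
    exact ⟨h1, fun i => ⟨inf_le_right, hS.to_le inf_le_left, h2 i⟩⟩
  · rintro ⟨h1, h2⟩
    exact ⟨h1, fun i => (h2 i).2.2⟩

theorem isWellPlaced_step {p : ℕ} {W : Subgroup G → Subgroup G} {S T : Subgroup G}
    (hS : IsPGroup p S) (hT : T ≤ S)
    (h0 : IsSylIn p (S ⊓ Subgroup.normalizer (T : Set G)) (Subgroup.normalizer (T : Set G)))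
    (h1 : IsWellPlaced p W S (W (S ⊓ Subgroup.normalizer (T : Set G)))) :
    IsWellPlaced p W S T := by
  rw [isWellPlaced_iff_isSylIn hS] at h1 ⊢
  refine ⟨hT, fun i => ?_⟩
  cases i with
  | zero => rw [functorTower_zero]; exact h0
  | succ i => rw [functorTower_shift]; exact h1.2 i

theorem IsWellPlaced.tail {p : ℕ} {W : Subgroup G → Subgroup G} {S T : Subgroup G}
    (h : IsWellPlaced p W S T) (hWS : W (S ⊓ Subgroup.normalizer (T : Set G)) ≤ S) :
    IsWellPlaced p W S (W (S ⊓ Subgroup.normalizer (T : Set G))) := by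
  refine ⟨hWS, fun i => ?_⟩
  rw [← functorTower_shift]
  exact h.2 (i + 1)

section fin

variable [Finite G] {p : ℕ} [Fact p.Prime]

theorem conjFunctor_conj {W : Subgroup G → Subgroup G} (hW : IsConjugacyFunctor p W)
    {P : Subgroup G} (hP : IsPGroup p P) (g : G) :
    W (MulAut.conj g • P) = MulAut.conj g • W P := (hW P hP).2.2 g

theorem conjFunctor_le {W : Subgroup G → Subgroup G} (hW : IsConjugacyFunctor p W)
    {P : Subgroup G} (hP : IsPGroup p P) : W P ≤ P := (hW P hP).1

theorem normalizer_le_normalizer_functor {W : Subgroup G → Subgroup G}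
    (hW : IsConjugacyFunctor p W) {P : Subgroup G} (hP : IsPGroup p P) :
    Subgroup.normalizer (P : Set G) ≤ Subgroup.normalizer ((W P : Subgroup G) : Set G) := by
  intro x hx
  rw [mem_normalizer_iff_smul_eq] at hx ⊢
  rw [← conjFunctor_conj hW hP, hx]

theorem isWellPlaced_functor_sylow {W : Subgroup G → Subgroup G} (hW : IsConjugacyFunctor p W)
    (S : Sylow p G) : IsWellPlaced p W (S : Subgroup G) (W (S : Subgroup G)) := by
  have hSN : (S : Subgroup G) ≤ Subgroup.normalizer ((W (S : Subgroup G) : Subgroup G) : Set G) :=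
    Subgroup.le_normalizer.trans (normalizer_le_normalizer_functor hW S.isPGroup')
  have hinf : (S : Subgroup G) ⊓ Subgroup.normalizer ((W (S : Subgroup G) : Subgroup G) : Set G) = S :=
    inf_eq_left.mpr hSN
  have htower : ∀ i, functorTower W (S : Subgroup G) (W (S : Subgroup G)) i = W (S : Subgroup G) := by
    intro i
    induction i with
    | zero => rw [functorTower_zero]
    | succ i ih => rw [functorTower_succ, ih, hinf]
  rw [isWellPlaced_iff_isSylIn S.isPGroup']
  refine ⟨conjFunctor_le hW S.isPGroup', fun i => ?_⟩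
  rw [htower, hinf]
  exact (isSylIn_top S).of_le hSN le_top

/-- Every subgroup of `S` has a conjugate whose normalizer in `S` is Sylow in its normalizer,
the conjugation carrying the old normalizer in `S` into `S`. -/
theorem exists_conj_fully_normalized (S : Sylow p G) {T : Subgroup G} (hT : T ≤ (S : Subgroup G)) :
    ∃ h : G, MulAut.conj h • ((S : Subgroup G) ⊓ Subgroup.normalizer (T : Set G)) ≤ S ∧
      MulAut.conj h • T ≤ S ∧
      IsSylIn p ((S : Subgroup G) ⊓ Subgroup.normalizer ((MulAut.conj h • T : Subgroup G) : Set G))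
        (Subgroup.normalizer ((MulAut.conj h • T : Subgroup G) : Set G)) := by
  have hNp : IsPGroup p ((S : Subgroup G) ⊓ Subgroup.normalizer (T : Set G) : Subgroup G) :=
    S.isPGroup'.to_le inf_le_left
  obtain ⟨R, hR, hNR⟩ := exists_isSylIn_ge hNp (inf_le_right : _ ≤ Subgroup.normalizer (T : Set G))
  obtain ⟨x, -, hx⟩ := (isSylIn_top S).exists_conj_le hR.isPGroup le_top
  have hTN : T ≤ (S : Subgroup G) ⊓ Subgroup.normalizer (T : Set G) :=
    le_inf hT Subgroup.le_normalizer
  refine ⟨x, (conj_smul_le_conj_smul hNR).trans hx,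
    (conj_smul_le_conj_smul (hTN.trans hNR)).trans hx, ?_⟩
  have hR' := hR.conj x
  rw [← normalizer_conj_smul] at hR'
  have : (S : Subgroup G) ⊓ Subgroup.normalizer ((MulAut.conj x • T : Subgroup G) : Set G) =
      MulAut.conj x • R :=
    hR'.eq_of_le (S.isPGroup'.to_le inf_le_left) inf_le_right (le_inf hx hR'.le)
  rw [this]
  exact hR'

theorem exists_wellPlaced_aux {W : Subgroup G → Subgroup G} (hW : IsConjugacyFunctor p W)
    (S : Sylow p G) (n : ℕ) : ∀ T : Subgroup G, T ≤ (S : Subgroup G) →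
    IsSylIn p ((S : Subgroup G) ⊓ Subgroup.normalizer (T : Set G))
      (Subgroup.normalizer (T : Set G)) →
    Nat.card (S : Subgroup G) - Nat.card ((S : Subgroup G) ⊓ Subgroup.normalizer (T : Set G) : Subgroup G) = n →
    ∃ g : G, MulAut.conj g • ((S : Subgroup G) ⊓ Subgroup.normalizer (T : Set G)) ≤ S ∧
      IsWellPlaced p W (S : Subgroup G) (MulAut.conj g • T) := by
  induction n using Nat.strong_induction_on with
  | _ n ih =>
  intro T hT hsyl hn
  have hN₀p : IsPGroup p ((S : Subgroup G) ⊓ Subgroup.normalizer (T : Set G) : Subgroup G) :=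
    S.isPGroup'.to_le inf_le_left
  by_cases hN₀ : (S : Subgroup G) ⊓ Subgroup.normalizer (T : Set G) = S
  · refine ⟨1, by simp, ?_⟩
    rw [map_one, one_smul]
    apply isWellPlaced_step S.isPGroup' hT hsyl
    rw [hN₀]
    exact isWellPlaced_functor_sylow hW S
  · -- W₁ = W N₀
    have hW₁N₀ := conjFunctor_le hW hN₀p
    have hW₁S : W ((S : Subgroup G) ⊓ Subgroup.normalizer (T : Set G)) ≤ (S : Subgroup G) :=
      hW₁N₀.trans inf_le_left
    have hgrow := IsSylIn.normalizer_growth S.isPGroup' (inf_le_left : (S : Subgroup G) ⊓ Subgroup.normalizer (T : Set G) ≤ S) hN₀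
    have hNN₁ : (S : Subgroup G) ⊓ Subgroup.normalizer (((S : Subgroup G) ⊓ Subgroup.normalizer (T : Set G) : Subgroup G) : Set G) ≤
        (S : Subgroup G) ⊓ Subgroup.normalizer ((W ((S : Subgroup G) ⊓ Subgroup.normalizer (T : Set G)) : Subgroup G) : Set G) :=
      inf_le_inf_left _ (normalizer_le_normalizer_functor hW hN₀p)
    have hcard1 := card_lt_of_lt (lt_of_lt_of_le hgrow hNN₁)
    obtain ⟨h, hh1, hh2, hh3⟩ := exists_conj_fully_normalized S hW₁S
    have hN₁' : MulAut.conj h • ((S : Subgroup G) ⊓ Subgroup.normalizer ((W ((S : Subgroup G) ⊓ Subgroup.normalizer (T : Set G)) : Subgroup G) : Set G)) ≤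
        (S : Subgroup G) ⊓ Subgroup.normalizer ((MulAut.conj h • W ((S : Subgroup G) ⊓ Subgroup.normalizer (T : Set G)) : Subgroup G) : Set G) := by
      refine le_inf hh1 ?_
      rw [normalizer_conj_smul]
      exact conj_smul_le_conj_smul inf_le_right
    have hcard2 := Subgroup.card_le_of_le hN₁'
    rw [card_conj_smul] at hcard2
    have hcard3 : Nat.card ((S : Subgroup G) ⊓ Subgroup.normalizer ((MulAut.conj h • W ((S : Subgroup G) ⊓ Subgroup.normalizer (T : Set G)) : Subgroup G) : Set G) : Subgroup G) ≤ Nat.card (S : Subgroup G) :=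
      Subgroup.card_le_of_le inf_le_left
    obtain ⟨g, hg1, hg2⟩ := ih _ (by omega) _ hh2 hh3 rfl
    refine ⟨g * h, ?_, ?_⟩
    · -- conj (g h) N₀ ≤ S
      have hN₀N₁ : (S : Subgroup G) ⊓ Subgroup.normalizer (T : Set G) ≤
          (S : Subgroup G) ⊓ Subgroup.normalizer ((W ((S : Subgroup G) ⊓ Subgroup.normalizer (T : Set G)) : Subgroup G) : Set G) :=
        (le_of_lt hgrow).trans hNN₁
      rw [conj_mul_smul]
      exact (conj_smul_le_conj_smul ((conj_smul_le_conj_smul hN₀N₁).trans hN₁')).trans hg1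
    · have hN₀N₁ : (S : Subgroup G) ⊓ Subgroup.normalizer (T : Set G) ≤
          (S : Subgroup G) ⊓ Subgroup.normalizer ((W ((S : Subgroup G) ⊓ Subgroup.normalizer (T : Set G)) : Subgroup G) : Set G) :=
        (le_of_lt hgrow).trans hNN₁
      have hkN₀ : MulAut.conj (g * h) • ((S : Subgroup G) ⊓ Subgroup.normalizer (T : Set G)) ≤ (S : Subgroup G) := by
        rw [conj_mul_smul]
        exact (conj_smul_le_conj_smul ((conj_smul_le_conj_smul hN₀N₁).trans hN₁')).trans hg1
      have hTN₀ : T ≤ (S : Subgroup G) ⊓ Subgroup.normalizer (T : Set G) := le_inf hT Subgroup.le_normalizer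
      have hT' : MulAut.conj (g * h) • T ≤ (S : Subgroup G) := (conj_smul_le_conj_smul hTN₀).trans hkN₀
      have hsyl' := hsyl.conj (g * h)
      rw [← normalizer_conj_smul] at hsyl'
      have heq : (S : Subgroup G) ⊓ Subgroup.normalizer ((MulAut.conj (g * h) • T : Subgroup G) : Set G) =
          MulAut.conj (g * h) • ((S : Subgroup G) ⊓ Subgroup.normalizer (T : Set G)) :=
        hsyl'.eq_of_le (S.isPGroup'.to_le inf_le_left) inf_le_right (le_inf hkN₀ hsyl'.le)
      apply isWellPlaced_step S.isPGroup' hT'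
      · rw [heq]; exact hsyl'
      · rw [heq, conjFunctor_conj hW hN₀p, conj_mul_smul]
        exact hg2

theorem exists_wellPlaced {W : Subgroup G → Subgroup G} (hW : IsConjugacyFunctor p W)
    (S : Sylow p G) {T : Subgroup G} (hT : T ≤ (S : Subgroup G)) :
    ∃ g : G, MulAut.conj g • ((S : Subgroup G) ⊓ Subgroup.normalizer (T : Set G)) ≤ S ∧
      IsWellPlaced p W (S : Subgroup G) (MulAut.conj g • T) := by
  obtain ⟨h, hh1, hh2, hh3⟩ := exists_conj_fully_normalized S hT
  obtain ⟨g, hg1, hg2⟩ := exists_wellPlaced_aux hW S _ _ hh2 hh3 rfl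
  refine ⟨g * h, ?_, ?_⟩
  · rw [conj_mul_smul]
    refine (conj_smul_le_conj_smul ?_).trans hg1
    refine le_inf hh1 ?_
    rw [normalizer_conj_smul]
    exact conj_smul_le_conj_smul inf_le_right
  · rw [conj_mul_smul]; exact hg2

end fin

end Cfsg.Agent.Helper33
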