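import Mathlib
import Cfsg.Prelude.Def_ConjugacyFunctors
import Cfsg.Agent.Lib.Helper33.WellPlaced

set_option autoImplicit false
open Pointwise Cfsg

namespace Cfsg.Agent.Helper33

variable {G : Type*} [Group G]

theorem Reach.filter_ne_bot {𝓕 : Set (Subgroup G)} {A : Set G} {g : G} (h : Reach 𝓕 A g)
    (hne : ∃ a ∈ A, a ≠ 1) : Reach {T | T ∈ 𝓕 ∧ T ≠ ⊥} A g := by
  obtain ⟨l, hl, rfl⟩ := h
  refine ⟨l, ?_, rfl⟩
  induction l generalizing A with
  | nil => trivial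
  | cons hd tl ih =>
    obtain ⟨T, x⟩ := hd
    obtain ⟨a, ha, ha1⟩ := hne
    refine ⟨⟨hl.1, ?_⟩, hl.2.1, hl.2.2.1, ih ?_ hl.2.2.2⟩
    · intro hT
      have := hl.2.2.1 ha
      rw [hT] at this
      exact ha1 (Subgroup.mem_bot.mp this)
    · refine ⟨x⁻¹ * a * x, ⟨a, ha, rfl⟩, ?_⟩
      intro h1
      apply ha1
      have : a = x * (x⁻¹ * a * x) * x⁻¹ := by group
      rw [this, h1]; group

section fin

variable [Finite G] {p : ℕ} [Fact p.Prime]

/-- Control of strong fusion in `H` can be read off at any Sylow subgroup of `H`. -/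
theorem controlsStrongFusionIn_at {W : Subgroup G → Subgroup G} (hW : IsConjugacyFunctor p W)
    {H : Subgroup G} (h : ControlsStrongFusionIn p W H) {T₁ : Subgroup G} (hT₁ : IsSylIn p T₁ H)
    (A : Set G) (x : G) (hx : x ∈ H) (hA : A ⊆ T₁) (hAx : (fun a => x * a * x⁻¹) '' A ⊆ T₁) :
    ∃ y ∈ H ⊓ Subgroup.normalizer ((W T₁ : Subgroup G) : Set G), ∀ a ∈ A, y * a * y⁻¹ = x * a * x⁻¹ := by
  obtain ⟨T₀, hT₀H, hT₀p, hT₀i, hctl⟩ := h
  have hT₀ : IsSylIn p T₀ H := ⟨hT₀H, hT₀p, hT₀i⟩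
  obtain ⟨k, hkH, hk⟩ := hT₁.exists_conj_eq hT₀
  have hk' : MulAut.conj k⁻¹ • T₁ = T₀ := by rw [← hk, conj_inv_smul_smul]
  have hA' : (fun a => k⁻¹ * a * k) '' A ⊆ T₀ := by
    rintro _ ⟨a, ha, rfl⟩
    rw [SetLike.mem_coe, ← hk', mem_conj_smul, inv_inv]
    have : k * (k⁻¹ * a * k) * k⁻¹ = a := by group
    rw [this]; exact hA ha
  have hAh : (fun a => (k⁻¹ * x * k) * a * (k⁻¹ * x * k)⁻¹) '' ((fun a => k⁻¹ * a * k) '' A) ⊆ T₀ := by
    rintro _ ⟨_, ⟨a, ha, rfl⟩, rfl⟩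
    rw [SetLike.mem_coe, ← hk', mem_conj_smul, inv_inv]
    have : k * (k⁻¹ * x * k * (k⁻¹ * a * k) * (k⁻¹ * x * k)⁻¹) * k⁻¹ = x * a * x⁻¹ := by group
    rw [this]; exact hAx ⟨a, ha, rfl⟩
  have hxH : k⁻¹ * x * k ∈ H := H.mul_mem (H.mul_mem (H.inv_mem hkH) hx) hkH
  obtain ⟨y, hy, hya⟩ := hctl _ (k⁻¹ * x * k) hxH hA' hAh
  have hWT : W T₁ = MulAut.conj k • W T₀ := by
    rw [← hk]; exact conjFunctor_conj hW hT₀p k
  refine ⟨k * y * k⁻¹, ⟨H.mul_mem (H.mul_mem hkH hy.1) (H.inv_mem hkH), ?_⟩, ?_⟩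
  · rw [hWT, normalizer_conj_smul]
    exact conj_mem_conj_smul hy.2
  · intro a ha
    have h2 := hya _ ⟨a, ha, rfl⟩
    have e1 : (k * y * k⁻¹) * a * (k * y * k⁻¹)⁻¹ = k * (y * (k⁻¹ * a * k) * y⁻¹) * k⁻¹ := by group
    rw [e1, h2]; group

theorem tower_control {W : Subgroup G → Subgroup G} (hW : IsConjugacyFunctor p W) (S : Sylow p G)
    (hloc : ∀ T : Subgroup G, T ≠ ⊥ → IsWellPlaced p W (S : Subgroup G) T →
      ControlsStrongFusionIn p W (Subgroup.normalizer ((T : Subgroup G) : Set G)))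
    (n : ℕ) : ∀ T : Subgroup G, IsWellPlaced p W (S : Subgroup G) T → T ≠ ⊥ →
    Nat.card (S : Subgroup G) - Nat.card ((S : Subgroup G) ⊓ Subgroup.normalizer (T : Set G) : Subgroup G) = n →
    ∀ (A : Set G) (x : G), x ∈ Subgroup.normalizer (T : Set G) →
      A ⊆ ((S : Subgroup G) ⊓ Subgroup.normalizer (T : Set G) : Subgroup G) →
      (fun a => x * a * x⁻¹) '' A ⊆ ((S : Subgroup G) ⊓ Subgroup.normalizer (T : Set G) : Subgroup G) →
      ∃ y ∈ Subgroup.normalizer ((W (S : Subgroup G) : Subgroup G) : Set G),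
        ∀ a ∈ A, y * a * y⁻¹ = x * a * x⁻¹ := by
  induction n using Nat.strong_induction_on with
  | _ n ih =>
  intro T hwp hne hn A x hx hA hAx
  have hsyl : IsSylIn p ((S : Subgroup G) ⊓ Subgroup.normalizer (T : Set G))
      (Subgroup.normalizer (T : Set G)) := by
    have := ((isWellPlaced_iff_isSylIn S.isPGroup').mp hwp).2 0
    rwa [functorTower_zero] at this
  have hN₀p : IsPGroup p ((S : Subgroup G) ⊓ Subgroup.normalizer (T : Set G) : Subgroup G) :=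
    S.isPGroup'.to_le inf_le_left
  obtain ⟨y₁, hy₁, hy₁a⟩ := controlsStrongFusionIn_at hW (hloc T hne hwp) hsyl A x hx hA hAx
  by_cases hN₀ : (S : Subgroup G) ⊓ Subgroup.normalizer (T : Set G) = S
  · refine ⟨y₁, ?_, hy₁a⟩
    have := hy₁.2
    rwa [hN₀] at this
  · have hTN₀ : T ≤ (S : Subgroup G) ⊓ Subgroup.normalizer (T : Set G) := le_inf hwp.1 Subgroup.le_normalizer
    have hN₀ne : (S : Subgroup G) ⊓ Subgroup.normalizer (T : Set G) ≠ ⊥ := by
      intro h0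
      apply hne
      rw [h0] at hTN₀
      exact le_bot_iff.mp hTN₀
    have hT₁ne := (hW _ hN₀p).2.1 hN₀ne
    have hW₁S : W ((S : Subgroup G) ⊓ Subgroup.normalizer (T : Set G)) ≤ (S : Subgroup G) :=
      (conjFunctor_le hW hN₀p).trans inf_le_left
    have hwp₁ := IsWellPlaced.tail hwp hW₁S
    have hgrow := IsSylIn.normalizer_growth S.isPGroup' (inf_le_left : (S : Subgroup G) ⊓ Subgroup.normalizer (T : Set G) ≤ S) hN₀
    have hNN₁ : (S : Subgroup G) ⊓ Subgroup.normalizer (((S : Subgroup G) ⊓ Subgroup.normalizer (T : Set G) : Subgroup G) : Set G) ≤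
        (S : Subgroup G) ⊓ Subgroup.normalizer ((W ((S : Subgroup G) ⊓ Subgroup.normalizer (T : Set G)) : Subgroup G) : Set G) :=
      inf_le_inf_left _ (normalizer_le_normalizer_functor hW hN₀p)
    have hcard1 := card_lt_of_lt (lt_of_lt_of_le hgrow hNN₁)
    have hcard3 : Nat.card ((S : Subgroup G) ⊓ Subgroup.normalizer ((W ((S : Subgroup G) ⊓ Subgroup.normalizer (T : Set G)) : Subgroup G) : Set G) : Subgroup G) ≤ Nat.card (S : Subgroup G) :=
      Subgroup.card_le_of_le inf_le_left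
    have hN₀N₁ : (S : Subgroup G) ⊓ Subgroup.normalizer (T : Set G) ≤
        (S : Subgroup G) ⊓ Subgroup.normalizer ((W ((S : Subgroup G) ⊓ Subgroup.normalizer (T : Set G)) : Subgroup G) : Set G) :=
      (le_of_lt hgrow).trans hNN₁
    have hAx' : (fun a => y₁ * a * y₁⁻¹) '' A ⊆ ((S : Subgroup G) ⊓ Subgroup.normalizer ((W ((S : Subgroup G) ⊓ Subgroup.normalizer (T : Set G)) : Subgroup G) : Set G) : Subgroup G) := by
      rintro _ ⟨a, ha, rfl⟩
      show y₁ * a * y₁⁻¹ ∈ _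
      rw [hy₁a a ha]
      exact hN₀N₁ (hAx ⟨a, ha, rfl⟩)
    obtain ⟨y, hy, hya⟩ := ih _ (by omega) _ hwp₁ hT₁ne rfl A y₁ hy₁.2
      (fun a ha => hN₀N₁ (hA ha)) hAx'
    exact ⟨y, hy, fun a ha => (hya a ha).trans (hy₁a a ha)⟩

theorem reach_control {W : Subgroup G → Subgroup G} (hW : IsConjugacyFunctor p W) (S : Sylow p G)
    (hloc : ∀ T : Subgroup G, T ≠ ⊥ → IsWellPlaced p W (S : Subgroup G) T →
      ControlsStrongFusionIn p W (Subgroup.normalizer ((T : Subgroup G) : Set G)))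
    {A : Set G} {g : G}
    (h : Reach {T | T ∈ {T : Subgroup G | IsWellPlaced p W (S : Subgroup G) T} ∧ T ≠ ⊥} A g) :
    ∃ y ∈ Subgroup.normalizer ((W (S : Subgroup G) : Subgroup G) : Set G),
      ∀ a ∈ A, y⁻¹ * a * y = g⁻¹ * a * g := by
  obtain ⟨l, hl, rfl⟩ := h
  induction l generalizing A with
  | nil => exact ⟨1, one_mem _, fun a _ => by simp⟩
  | cons hd tl ih =>
    obtain ⟨T, x⟩ := hd
    obtain ⟨⟨hwp, hne⟩, hx, hAT, hrest⟩ := hl
    obtain ⟨y', hy', hy'a⟩ := ih hrest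
    have hTN₀ : T ≤ (S : Subgroup G) ⊓ Subgroup.normalizer (T : Set G) := le_inf hwp.1 Subgroup.le_normalizer
    have hAx : (fun a => x⁻¹ * a * x⁻¹⁻¹) '' A ⊆ ((S : Subgroup G) ⊓ Subgroup.normalizer (T : Set G) : Subgroup G) := by
      rintro _ ⟨a, ha, rfl⟩
      apply hTN₀
      have h1 := smul_eq_of_mem_normalizer (inv_mem hx)
      rw [← h1]
      exact conj_mem_conj_smul (hAT ha)
    obtain ⟨y₁, hy₁, hy₁a⟩ := tower_control hW S hloc _ T hwp hne rfl A x⁻¹ (inv_mem hx)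
      (fun a ha => hTN₀ (hAT ha)) hAx
    refine ⟨y₁⁻¹ * y', mul_mem (inv_mem hy₁) hy', ?_⟩
    intro a ha
    have h1 := hy₁a a ha
    rw [inv_inv] at h1
    have h2 := hy'a (x⁻¹ * a * x) ⟨a, ha, rfl⟩
    simp only [List.map_cons, List.prod_cons]
    calc (y₁⁻¹ * y')⁻¹ * a * (y₁⁻¹ * y') = y'⁻¹ * (y₁ * a * y₁⁻¹) * y' := by group
      _ = y'⁻¹ * (x⁻¹ * a * x) * y' := by rw [h1]
      _ = _ := by rw [h2]; group

theorem controlsStrongFusion_global {W : Subgroup G → Subgroup G} (hW : IsConjugacyFunctor p W)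
    (S : Sylow p G)
    (hloc : ∀ T : Subgroup G, T ≠ ⊥ → IsWellPlaced p W (S : Subgroup G) T →
      ControlsStrongFusionIn p W (Subgroup.normalizer ((T : Subgroup G) : Set G))) :
    ControlsStrongFusionIn p W ⊤ := by
  refine ⟨S, le_top, S.isPGroup', (isSylIn_top S).not_dvd, ?_⟩
  intro A h _ hA hAh
  by_cases hne : ∃ a ∈ A, a ≠ 1
  · have h' : ∀ T : Subgroup G, T ≤ (S : Subgroup G) →
        ∃ U ∈ {T : Subgroup G | IsWellPlaced p W (S : Subgroup G) T}, (∃ g : G, MulAut.conj g • T = U) ∧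
        IsSylIn p ((S : Subgroup G) ⊓ Subgroup.normalizer (U : Set G))
          (Subgroup.normalizer (U : Set G)) := by
      intro T hT
      obtain ⟨g, -, hg⟩ := exists_wellPlaced hW S hT
      refine ⟨_, hg, ⟨g, rfl⟩, ?_⟩
      have := ((isWellPlaced_iff_isSylIn S.isPGroup').mp hg).2 0
      rwa [functorTower_zero] at this
    have hA' : Subgroup.closure A ≤ (S : Subgroup G) := (Subgroup.closure_le _).mpr hA
    have hg' : MulAut.conj (h⁻¹)⁻¹ • Subgroup.closure A ≤ (S : Subgroup G) := by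
      rw [inv_inv, ← map_conj_eq_smul, MonoidHom.map_closure, Subgroup.closure_le]
      rintro _ ⟨a, ha, rfl⟩
      exact hAh ⟨a, ha, rfl⟩
    have hr := reach_of_criterion S _ (fun U hU => hU.1) h' (Subgroup.closure A) hA' h⁻¹ hg'
    obtain ⟨y, hy, hya⟩ := reach_control hW S hloc
      ((hr.mono Subgroup.subset_closure).filter_ne_bot hne)
    refine ⟨y⁻¹, Subgroup.mem_inf.mpr ⟨Subgroup.mem_top _, inv_mem hy⟩, ?_⟩
    intro a ha
    have := hya a ha
    rw [inv_inv] at this ⊢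
    exact this
  · push Not at hne
    refine ⟨1, Subgroup.mem_inf.mpr ⟨Subgroup.mem_top _, one_mem _⟩, ?_⟩
    intro a ha
    rw [hne a ha]; simp

end fin

end Cfsg.Agent.Helper33
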