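import Mathlib
import Cfsg.Prelude.Def_ConjugacyFunctors
import Cfsg.Agent.Lib.Helper33.Control
import Cfsg.Agent.Lib.Helper33.CForm

set_option autoImplicit false
open Pointwise Cfsg

namespace Cfsg.Agent.Helper33

variable {G : Type*} [Group G]

/-- step predicate: `x` lies in `N_H(W T)` for some functor `W` of the family -/
def StepIn (𝓦 : Set (Subgroup G → Subgroup G)) (H T : Subgroup G) (x : G) : Prop :=
  ∃ W ∈ 𝓦, x ∈ H ⊓ Subgroup.normalizer ((W T : Subgroup G) : Set G)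

theorem StepIn.inv {𝓦 : Set (Subgroup G → Subgroup G)} {H T : Subgroup G} (x : G)
    (h : StepIn 𝓦 H T x) : StepIn 𝓦 H T x⁻¹ := by
  obtain ⟨W, hW, hx⟩ := h
  exact ⟨W, hW, inv_mem hx⟩

theorem exists_ne_one_of_ne_bot {M : Subgroup G} (h : M ≠ ⊥) : ∃ a ∈ (M : Set G), a ≠ 1 := by
  rcases Subgroup.bot_or_exists_ne_one M with h1 | ⟨a, ha, ha1⟩
  · exact absurd h1 h
  · exact ⟨a, ha, ha1⟩

section fin

variable [Finite G] {p : ℕ} [Fact p.Prime]

/-- The family's control of strong fusion in `H`, read at an arbitrary Sylow subgroup of `H`. -/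
theorem family_good_at {𝓦 : Set (Subgroup G → Subgroup G)}
    (h𝓦 : ∀ W ∈ 𝓦, IsConjugacyFunctor p W) {H : Subgroup G}
    (h : FamilyControlsStrongFusionIn p 𝓦 H) {T₁ : Subgroup G} (hT₁ : IsSylIn p T₁ H)
    (A : Set G) (x : G) (hx : x ∈ H) (hA : A ⊆ T₁) (hAx : rc x A ⊆ T₁) :
    Good (StepIn 𝓦 H T₁) (T₁ : Set G) A x := by
  obtain ⟨T₀, hT₀H, hT₀p, hT₀i, hctl⟩ := h
  have hT₀ : IsSylIn p T₀ H := ⟨hT₀H, hT₀p, hT₀i⟩
  obtain ⟨k, hkH, hk⟩ := hT₁.exists_conj_eq hT₀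
  have hk' : MulAut.conj k⁻¹ • T₁ = T₀ := by rw [← hk, conj_inv_smul_smul]
  have hrcT : rc k (T₁ : Set G) = T₀ := by rw [rc_coe, hk']
  have hA₀ : rc k A ⊆ T₀ := by rw [← hrcT]; exact rc_mono hA
  have hxH : k⁻¹ * x * k ∈ H := H.mul_mem (H.mul_mem (H.inv_mem hkH) hx) hkH
  have hA₀x : rc (k⁻¹ * x * k) (rc k A) ⊆ T₀ := by
    rw [← rc_mul, ← hrcT]
    have : k * (k⁻¹ * x * k) = x * k := by group
    rw [this, rc_mul]
    exact rc_mono hAx
  have hlc : (fun a => (k⁻¹ * x * k)⁻¹ * a * (k⁻¹ * x * k)⁻¹⁻¹) '' (rc k A) ⊆ T₀ := by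
    have : (fun a => (k⁻¹ * x * k)⁻¹ * a * (k⁻¹ * x * k)⁻¹⁻¹) '' (rc k A) = rc (k⁻¹ * x * k) (rc k A) := by
      simp [rc]
    rw [this]; exact hA₀x
  obtain ⟨n, c, hc0, hcstep, hcS, hclast⟩ := hctl (rc k A) (k⁻¹ * x * k)⁻¹ (H.inv_mem hxH) hA₀ hlc
  obtain ⟨l, hl, hprod⟩ := isStepChain_of_c (Q := StepIn 𝓦 H T₀) (S := (T₀ : Set G))
    StepIn.inv n c (rc k A) hcstep hcS
  rw [hc0, lc_one] at hl
  have hgood₀ : Good (StepIn 𝓦 H T₀) (T₀ : Set G) (rc k A) (k⁻¹ * x * k) := by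
    refine ⟨l, hl, fun a ha => ?_⟩
    rw [hprod, hc0]
    have := hclast a ha
    simpa using this
  have hconj := hgood₀.conj (Q' := StepIn 𝓦 H T₁) k (by
    rintro y ⟨W, hW, hy⟩
    refine ⟨W, hW, Subgroup.mem_inf.mpr ⟨H.mul_mem (H.mul_mem hkH hy.1) (H.inv_mem hkH), ?_⟩⟩
    rw [← hk, conjFunctor_conj (h𝓦 W hW) hT₀p, normalizer_conj_smul]
    exact conj_mem_conj_smul hy.2)
  have e1 : rc k⁻¹ (T₀ : Set G) = T₁ := by rw [rc_coe, inv_inv, hk]
  have e2 : rc k⁻¹ (rc k A) = A := rc_inv_rc k A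
  have e3 : k * (k⁻¹ * x * k) * k⁻¹ = x := by group
  rw [e1, e2, e3] at hconj
  exact hconj

/-- The global step predicate. -/
abbrev GlobStep (𝓦 : Set (Subgroup G → Subgroup G)) (S : Sylow p G) : G → Prop :=
  StepIn 𝓦 ⊤ (S : Subgroup G)

theorem local_good {𝓦 : Set (Subgroup G → Subgroup G)}
    (h𝓦 : ∀ W ∈ 𝓦, IsConjugacyFunctor p W) (S : Sylow p G)
    (hloc : ∀ T : Subgroup G, T ≤ (S : Subgroup G) → T ≠ ⊥ →
      ¬ p ∣ ((S : Subgroup G) ⊓ Subgroup.normalizer ((T : Subgroup G) : Set G)).relIndex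
        (Subgroup.normalizer ((T : Subgroup G) : Set G)) →
      FamilyControlsStrongFusionIn p 𝓦 (Subgroup.normalizer ((T : Subgroup G) : Set G)))
    (c : ℕ)
    (hstar : ∀ M₀ : Subgroup G, M₀ ≤ (S : Subgroup G) → M₀ ≠ ⊥ → c < Nat.card M₀ →
      ∀ W ∈ 𝓦, ∀ e ∈ Subgroup.normalizer ((W M₀ : Subgroup G) : Set G), ∀ B : Set G,
        B ⊆ M₀ → rc e B ⊆ M₀ → Good (GlobStep 𝓦 S) ((S : Subgroup G) : Set G) B e)
    (T : Subgroup G) (hT : T ≤ (S : Subgroup G)) (hne : T ≠ ⊥)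
    (hsyl : IsSylIn p ((S : Subgroup G) ⊓ Subgroup.normalizer (T : Set G))
      (Subgroup.normalizer (T : Set G)))
    (hcard : c < Nat.card ((S : Subgroup G) ⊓ Subgroup.normalizer (T : Set G) : Subgroup G))
    (x : G) (hx : x ∈ Subgroup.normalizer (T : Set G)) (B : Set G)
    (hB : B ⊆ ((S : Subgroup G) ⊓ Subgroup.normalizer (T : Set G) : Subgroup G))
    (hBx : rc x B ⊆ ((S : Subgroup G) ⊓ Subgroup.normalizer (T : Set G) : Subgroup G)) :
    Good (GlobStep 𝓦 S) ((S : Subgroup G) : Set G) B x := by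
  have h1 := family_good_at h𝓦 (hloc T hT hne hsyl.not_dvd) hsyl B x hx hB hBx
  have hTN₀ : T ≤ (S : Subgroup G) ⊓ Subgroup.normalizer (T : Set G) := le_inf hT Subgroup.le_normalizer
  have hN₀ne : (S : Subgroup G) ⊓ Subgroup.normalizer (T : Set G) ≠ ⊥ := by
    intro h0
    apply hne
    rw [h0] at hTN₀
    exact le_bot_iff.mp hTN₀
  refine Good.bind ?_ hB h1
  rintro e B' ⟨W, hW, he⟩ hB' hB'e
  exact hstar _ inf_le_left hN₀ne hcard W hW e he.2 B' hB' hB'e

/-- the family of fully normalized subgroups of `S` -/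
def fullyNormalized (S : Sylow p G) : Set (Subgroup G) :=
  {T | T ≤ (S : Subgroup G) ∧ IsSylIn p ((S : Subgroup G) ⊓ Subgroup.normalizer (T : Set G))
    (Subgroup.normalizer (T : Set G))}

theorem reach_fullyNormalized (S : Sylow p G) (A : Subgroup G) (hA : A ≤ (S : Subgroup G)) (g : G)
    (hg : MulAut.conj g⁻¹ • A ≤ (S : Subgroup G)) : Reach (fullyNormalized S) (A : Set G) g := by
  apply reach_of_criterion S _ (fun U hU => hU.1) _ A hA g hg
  intro T hT
  obtain ⟨h, -, hh2, hh3⟩ := exists_conj_fully_normalized S hT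
  exact ⟨_, ⟨hh2, hh3⟩, ⟨h, rfl⟩, hh3⟩

theorem card_le_of_rc_subset {M T : Subgroup G} {y : G} (h : rc y (M : Set G) ⊆ T) :
    Nat.card M ≤ Nat.card T := by
  rw [rc_coe] at h
  have := Subgroup.card_le_of_le (show MulAut.conj y⁻¹ • M ≤ T from h)
  rwa [card_conj_smul] at this

theorem star {𝓦 : Set (Subgroup G → Subgroup G)}
    (h𝓦 : ∀ W ∈ 𝓦, IsConjugacyFunctor p W) (S : Sylow p G)
    (hloc : ∀ T : Subgroup G, T ≤ (S : Subgroup G) → T ≠ ⊥ →
      ¬ p ∣ ((S : Subgroup G) ⊓ Subgroup.normalizer ((T : Subgroup G) : Set G)).relIndex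
        (Subgroup.normalizer ((T : Subgroup G) : Set G)) →
      FamilyControlsStrongFusionIn p 𝓦 (Subgroup.normalizer ((T : Subgroup G) : Set G)))
    (n : ℕ) : ∀ M₀ : Subgroup G, M₀ ≤ (S : Subgroup G) → M₀ ≠ ⊥ →
      Nat.card (S : Subgroup G) - Nat.card M₀ = n →
      ∀ W ∈ 𝓦, ∀ e ∈ Subgroup.normalizer ((W M₀ : Subgroup G) : Set G), ∀ B : Set G,
        B ⊆ M₀ → rc e B ⊆ M₀ → Good (GlobStep 𝓦 S) ((S : Subgroup G) : Set G) B e := by
  induction n using Nat.strong_induction_on with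
  | _ n ih =>
  intro M₀ hM₀S hM₀ne hn W hW e he B hB hBe
  by_cases hM₀ : M₀ = S
  · apply Good.single
    · exact ⟨W, hW, Subgroup.mem_inf.mpr ⟨Subgroup.mem_top _, by rw [← hM₀]; exact he⟩⟩
    · rw [← hM₀]; exact hBe
  · have hM₀p : IsPGroup p M₀ := S.isPGroup'.to_le hM₀S
    have hV := conjFunctor_le (h𝓦 W hW) hM₀p
    have hVne := ((h𝓦 W hW) M₀ hM₀p).2.1 hM₀ne
    have hVS : W M₀ ≤ (S : Subgroup G) := hV.trans hM₀S
    have hgrow := IsSylIn.normalizer_growth S.isPGroup' hM₀S hM₀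
    have hNN : (S : Subgroup G) ⊓ Subgroup.normalizer (M₀ : Set G) ≤
        (S : Subgroup G) ⊓ Subgroup.normalizer ((W M₀ : Subgroup G) : Set G) :=
      inf_le_inf_left _ (normalizer_le_normalizer_functor (h𝓦 W hW) hM₀p)
    have hM₀M : M₀ ≤ (S : Subgroup G) ⊓ Subgroup.normalizer ((W M₀ : Subgroup G) : Set G) :=
      (le_of_lt hgrow).trans hNN
    have hcardM := card_lt_of_lt (lt_of_lt_of_le hgrow hNN)
    have hcardS : Nat.card M₀ ≤ Nat.card (S : Subgroup G) := Subgroup.card_le_of_le hM₀S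
    have hstar' : ∀ M₀' : Subgroup G, M₀' ≤ (S : Subgroup G) → M₀' ≠ ⊥ → Nat.card M₀ < Nat.card M₀' →
        ∀ W ∈ 𝓦, ∀ e ∈ Subgroup.normalizer ((W M₀' : Subgroup G) : Set G), ∀ B : Set G,
        B ⊆ M₀' → rc e B ⊆ M₀' → Good (GlobStep 𝓦 S) ((S : Subgroup G) : Set G) B e := by
      intro M₀' h1 h2 h3
      have := Subgroup.card_le_of_le h1
      exact ih (Nat.card (S : Subgroup G) - Nat.card M₀') (by omega) M₀' h1 h2 rfl
    obtain ⟨k, hk1, hk2, hk3⟩ := exists_conj_fully_normalized S hVS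
    have hV'ne : MulAut.conj k • W M₀ ≠ ⊥ := by rw [Ne, conj_smul_eq_bot_iff]; exact hVne
    have hMM' : MulAut.conj k • ((S : Subgroup G) ⊓ Subgroup.normalizer ((W M₀ : Subgroup G) : Set G)) ≤
        (S : Subgroup G) ⊓ Subgroup.normalizer ((MulAut.conj k • W M₀ : Subgroup G) : Set G) := by
      refine le_inf hk1 ?_
      rw [normalizer_conj_smul]
      exact conj_smul_le_conj_smul inf_le_right
    have hcardM' := Subgroup.card_le_of_le hMM'
    rw [card_conj_smul] at hcardM'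
    have hMne : (S : Subgroup G) ⊓ Subgroup.normalizer ((W M₀ : Subgroup G) : Set G) ≠ ⊥ := by
      intro h0
      apply hM₀ne
      rw [h0] at hM₀M
      exact le_bot_iff.mp hM₀M
    -- (a)
    have hgk : Good (GlobStep 𝓦 S) ((S : Subgroup G) : Set G)
        (((S : Subgroup G) ⊓ Subgroup.normalizer ((W M₀ : Subgroup G) : Set G) : Subgroup G) : Set G) k⁻¹ := by
      have hr := reach_fullyNormalized S _ (inf_le_left : (S : Subgroup G) ⊓ Subgroup.normalizer ((W M₀ : Subgroup G) : Set G) ≤ S) k⁻¹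
        (by rw [inv_inv]; exact hk1)
      have hr' := Reach.filter_ne_bot hr (exists_ne_one_of_ne_bot hMne)
      refine Reach.bind ?_ hr'
      rintro T ⟨⟨hTS, hTsyl⟩, hTne⟩ x hx y hy
      have hTN₀ : T ≤ (S : Subgroup G) ⊓ Subgroup.normalizer (T : Set G) := le_inf hTS Subgroup.le_normalizer
      have hc1 := card_le_of_rc_subset hy
      have hc2 := Subgroup.card_le_of_le hTN₀
      refine local_good h𝓦 S hloc (Nat.card M₀) hstar' T hTS hTne hTsyl (by omega) x hx _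
        (fun a ha => hTN₀ (hy ha)) ?_
      intro a ha
      apply hTN₀
      have := rc_mono hy ha
      rwa [rc_normalizer hx] at this
    -- (b)
    have he' : k * e * k⁻¹ ∈ Subgroup.normalizer ((MulAut.conj k • W M₀ : Subgroup G) : Set G) := by
      rw [normalizer_conj_smul]; exact conj_mem_conj_smul he
    have hrcM : rc k⁻¹ (((S : Subgroup G) ⊓ Subgroup.normalizer ((W M₀ : Subgroup G) : Set G) : Subgroup G) : Set G) ⊆
        (((S : Subgroup G) ⊓ Subgroup.normalizer ((MulAut.conj k • W M₀ : Subgroup G) : Set G) : Subgroup G) : Set G) := by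
      rw [rc_coe, inv_inv]; exact hMM'
    have hB₁ : rc k⁻¹ B ⊆ (((S : Subgroup G) ⊓ Subgroup.normalizer ((MulAut.conj k • W M₀ : Subgroup G) : Set G) : Subgroup G) : Set G) :=
      (rc_mono (hB.trans hM₀M)).trans hrcM
    have hcomm : rc (k * e * k⁻¹) (rc k⁻¹ B) = rc k⁻¹ (rc e B) := by
      rw [← rc_mul, ← rc_mul]; congr 1; group
    have hB₁e : rc (k * e * k⁻¹) (rc k⁻¹ B) ⊆ (((S : Subgroup G) ⊓ Subgroup.normalizer ((MulAut.conj k • W M₀ : Subgroup G) : Set G) : Subgroup G) : Set G) := by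
      rw [hcomm]
      exact (rc_mono (hBe.trans hM₀M)).trans hrcM
    have hb := local_good h𝓦 S hloc (Nat.card M₀) hstar' _ hk2 hV'ne hk3 (by omega) _ he' _ hB₁ hB₁e
    -- (c)
    have hga := hgk.mono (hB.trans hM₀M)
    have hgc := hgk.mono (hBe.trans hM₀M)
    have hgc' := hgc.symm StepIn.inv (hBe.trans hM₀S)
    rw [inv_inv] at hgc'
    have heq : e = k⁻¹ * (k * e * k⁻¹) * k := by group
    rw [heq]
    apply Good.trans (Good.trans hga hb)
    rw [rc_mul, hcomm]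
    exact hgc'

theorem familyControlsStrongFusion_global {𝓦 : Set (Subgroup G → Subgroup G)}
    (h𝓦 : ∀ W ∈ 𝓦, IsConjugacyFunctor p W) (S : Sylow p G)
    (hloc : ∀ T : Subgroup G, T ≤ (S : Subgroup G) → T ≠ ⊥ →
      ¬ p ∣ ((S : Subgroup G) ⊓ Subgroup.normalizer ((T : Subgroup G) : Set G)).relIndex
        (Subgroup.normalizer ((T : Subgroup G) : Set G)) →
      FamilyControlsStrongFusionIn p 𝓦 (Subgroup.normalizer ((T : Subgroup G) : Set G))) :
    FamilyControlsStrongFusionIn p 𝓦 ⊤ := by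
  refine ⟨S, le_top, S.isPGroup', (isSylIn_top S).not_dvd, ?_⟩
  intro A h _ hA hAh
  have hgood : Good (GlobStep 𝓦 S) ((S : Subgroup G) : Set G) A h⁻¹ := by
    by_cases hne : ∃ a ∈ A, a ≠ 1
    · have hA' : Subgroup.closure A ≤ (S : Subgroup G) := (Subgroup.closure_le _).mpr hA
      have hg' : MulAut.conj (h⁻¹)⁻¹ • Subgroup.closure A ≤ (S : Subgroup G) := by
        rw [inv_inv, ← map_conj_eq_smul, MonoidHom.map_closure, Subgroup.closure_le]
        rintro _ ⟨a, ha, rfl⟩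
        exact hAh ⟨a, ha, rfl⟩
      have hr := (reach_fullyNormalized S _ hA' h⁻¹ hg').mono Subgroup.subset_closure
      have hr' := Reach.filter_ne_bot hr hne
      refine Reach.bind ?_ hr'
      rintro T ⟨⟨hTS, hTsyl⟩, hTne⟩ x hx y hy
      have hTN₀ : T ≤ (S : Subgroup G) ⊓ Subgroup.normalizer (T : Set G) := le_inf hTS Subgroup.le_normalizer
      refine local_good h𝓦 S hloc 0 ?_ T hTS hTne hTsyl Nat.card_pos x hx _
        (fun a ha => hTN₀ (hy ha)) ?_
      · intro M₀ h1 h2 _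
        exact star h𝓦 S hloc _ M₀ h1 h2 rfl
      · intro a ha
        apply hTN₀
        have := rc_mono hy ha
        rwa [rc_normalizer hx] at this
    · push Not at hne
      apply (Good.nil _ _ A).of_agree
      intro a ha
      rw [hne a ha]; simp
  obtain ⟨l, hl, hla⟩ := hgood
  have hl' : IsStepChain (GlobStep 𝓦 S) ((S : Subgroup G) : Set G) (lc 1 A) l := by
    rw [lc_one]; exact hl
  obtain ⟨n, c, hc0, hcstep, hcS, hclast⟩ := c_of_isStepChain l A 1 hl'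
  refine ⟨n, c, hc0, ?_, ?_, ?_⟩
  · intro i
    have := StepIn.inv _ (hcstep i)
    rw [inv_inv] at this
    exact this
  · intro i
    by_cases hi : i = 0
    · rw [hi, hc0]
      have := lc_one A
      unfold lc at this
      rw [this]; exact hA
    · exact hcS i hi
  · intro a ha
    rw [hclast, mul_one]
    have := hla a ha
    simpa using this

end fin

end Cfsg.Agent.Helper33
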