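import Mathlib
import Cfsg.Prelude.Def_ConjugacyFunctors
import Cfsg.Prelude.Def_Solvable
import Cfsg.Agent.Lib.Helper33.FamilyControl

/-!
Section conjugacy functors (Glauberman, Thm 6.6): basic transport lemmas for the functors induced
by isomorphism-invariant `p`-group functors.
-/

set_option autoImplicit false
universe u
open Pointwise Cfsg

namespace Cfsg.Agent.Helper33

section A

variable {p : ℕ} [Fact p.Prime]

/-- the family of conjugacy functors induced on `H` -/
def indFam (𝓦 : Set (∀ (Q : Type u) [Group Q], Subgroup Q)) (H : Type u) [Group H] :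
    Set (Subgroup H → Subgroup H) :=
  (fun W => inducedFunctor (G := H) W) '' 𝓦

theorem indF_le (W : ∀ (Q : Type u) [Group Q], Subgroup Q) {X : Type u} [Group X] (P : Subgroup X) :
    inducedFunctor W P ≤ P :=
  Subgroup.map_subtype_le _

/-- Compatibility with homomorphisms injective on the finite `p`-subgroup `P`. -/
theorem indF_map {W : ∀ (Q : Type u) [Group Q], Subgroup Q} (hW : IsCharPFunctor.{u} p W)
    {X Y : Type u} [Group X] [Group Y] (f : X →* Y)
    (P : Subgroup X) [Finite P] (hP : IsPGroup p P) (hinj : ∀ x ∈ P, f x = 1 → x = 1) :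
    inducedFunctor W (P.map f) = (inducedFunctor W P).map f := by
  have hbij : Function.Bijective (f.subgroupMap P) := by
    refine ⟨?_, f.subgroupMap_surjective P⟩
    rw [injective_iff_map_eq_one]
    intro x hx
    have h1 : f (x : X) = 1 := congrArg Subtype.val hx
    exact Subtype.ext (hinj x x.2 h1)
  have h1 := hW.2 ↥P ↥(P.map f) hP (MulEquiv.ofBijective (f.subgroupMap P) hbij)
  unfold inducedFunctor
  rw [← h1, Subgroup.map_map, Subgroup.map_map]
  rfl

theorem indF_ne_bot {W : ∀ (Q : Type u) [Group Q], Subgroup Q} (hW : IsCharPFunctor.{u} p W)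
    {X : Type u} [Group X] (P : Subgroup X) [Finite P]
    (hP : IsPGroup p P) (hne : P ≠ ⊥) : inducedFunctor W P ≠ ⊥ := by
  haveI : Nontrivial ↥P := (Subgroup.nontrivial_iff_ne_bot P).mpr hne
  have h1 := hW.1 ↥P hP inferInstance
  intro h
  apply h1
  unfold inducedFunctor at h
  rwa [Subgroup.map_eq_bot_iff_of_injective _ P.subtype_injective] at h

theorem isConjugacyFunctor_indF {W : ∀ (Q : Type u) [Group Q], Subgroup Q}
    (hW : IsCharPFunctor.{u} p W) (X : Type u) [Group X] [Finite X] :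
    IsConjugacyFunctor p (inducedFunctor (G := X) W) := by
  intro P hP
  refine ⟨indF_le W P, indF_ne_bot hW P hP, fun g => ?_⟩
  apply indF_map hW _ P hP
  intro x _ hx
  exact (MulAut.conj g).injective (by simpa using hx)

theorem isConjugacyFunctor_indFam {𝓦 : Set (∀ (Q : Type u) [Group Q], Subgroup Q)}
    (h𝓦 : ∀ W ∈ 𝓦, IsCharPFunctor.{u} p W) (X : Type u) [Group X] [Finite X] :
    ∀ F ∈ indFam 𝓦 X, IsConjugacyFunctor p F := by
  rintro _ ⟨W, hW, rfl⟩
  exact isConjugacyFunctor_indF (h𝓦 W hW) X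

theorem map_mem_normalizer_map {H G : Type*} [Group H] [Group G] (f : H →* G) {Y : Subgroup H}
    {y : H} (hy : y ∈ Subgroup.normalizer (Y : Set H)) :
    f y ∈ Subgroup.normalizer ((Y.map f : Subgroup G) : Set G) := by
  rw [Subgroup.mem_normalizer_iff] at hy ⊢
  intro z
  constructor
  · rintro ⟨y₀, hy₀, rfl⟩
    exact ⟨_, (hy y₀).mp hy₀, by simp⟩
  · rintro ⟨z₀, hz₀, hz⟩
    have : z = f (y⁻¹ * z₀ * y) := by
      rw [map_mul, map_mul, hz]; simp only [map_inv]; group
    rw [this]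
    refine ⟨_, ?_, rfl⟩
    apply (hy (y⁻¹ * z₀ * y)).mpr
    have e : y * (y⁻¹ * z₀ * y) * y⁻¹ = z₀ := by group
    rw [e]
    exact hz₀

/-- Family control of strong fusion, transported along an injective homomorphism. -/
theorem fcsf_range {𝓦 : Set (∀ (Q : Type u) [Group Q], Subgroup Q)}
    (h𝓦 : ∀ W ∈ 𝓦, IsCharPFunctor.{u} p W) {H G : Type u} [Group H] [Group G] [Finite H]
    (f : H →* G) (hf : Function.Injective f)
    (h : FamilyControlsStrongFusionIn p (indFam 𝓦 H) ⊤) :
    FamilyControlsStrongFusionIn p (indFam 𝓦 G) f.range := by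
  obtain ⟨T₀, -, hT₀p, hT₀i, hctl⟩ := h
  refine ⟨T₀.map f, Subgroup.map_le_range f T₀, hT₀p.map f, ?_, ?_⟩
  · rw [MonoidHom.range_eq_map, Subgroup.relIndex_map_map_of_injective _ _ hf]
    exact hT₀i
  · rintro A _ ⟨h₀, rfl⟩ hA hAh
    set A₀ : Set H := f ⁻¹' A with hA₀
    have hA₀T : A₀ ⊆ T₀ := by
      intro a ha
      obtain ⟨t, ht, hta⟩ := hA ha
      rw [← hf hta]; exact ht
    have hfA : f '' A₀ = A := by
      apply Set.image_preimage_eq_of_subset
      intro a ha
      obtain ⟨t, -, hta⟩ := hA ha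
      exact ⟨t, hta⟩
    have hA₀h : (fun a => h₀ * a * h₀⁻¹) '' A₀ ⊆ T₀ := by
      rintro _ ⟨a, ha, rfl⟩
      obtain ⟨t, ht, hta⟩ := hAh ⟨f a, ha, rfl⟩
      have : t = h₀ * a * h₀⁻¹ := hf (by rw [hta]; simp)
      show h₀ * a * h₀⁻¹ ∈ T₀
      rw [← this]; exact ht
    obtain ⟨n, c, hc0, hcstep, hcS, hclast⟩ := hctl A₀ h₀ (Subgroup.mem_top _) hA₀T hA₀h
    refine ⟨n, fun i => f (c i), by show f (c 0) = 1; rw [hc0, map_one], ?_, ?_, ?_⟩
    · intro i
      obtain ⟨_, ⟨W, hW, rfl⟩, hstep⟩ := hcstep i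
      refine ⟨_, ⟨W, hW, rfl⟩, ?_⟩
      have hfin : Finite T₀ := inferInstance
      show f (c i.succ) * (f (c i.castSucc))⁻¹ ∈
        f.range ⊓ Subgroup.normalizer ((inducedFunctor W (T₀.map f) : Subgroup G) : Set G)
      rw [show inducedFunctor W (T₀.map f) = (inducedFunctor W T₀).map f from
        indF_map (h𝓦 W hW) f T₀ hT₀p (fun x _ hx => hf (by rw [hx, map_one]))]
      rw [← map_inv, ← map_mul]
      exact Subgroup.mem_inf.mpr ⟨⟨_, rfl⟩, map_mem_normalizer_map f (Subgroup.mem_inf.mp hstep).2⟩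
    · intro i
      rintro _ ⟨a, ha, rfl⟩
      rw [← hfA] at ha
      obtain ⟨a₀, ha₀, rfl⟩ := ha
      refine ⟨c i * a₀ * (c i)⁻¹, hcS i ⟨a₀, ha₀, rfl⟩, by simp⟩
    · intro a ha
      rw [← hfA] at ha
      obtain ⟨a₀, ha₀, rfl⟩ := ha
      have := hclast a₀ ha₀
      have h4 := congrArg f this
      simpa using h4

theorem isStepChain_rc_subset {G : Type*} [Group G] {Q : G → Prop} {S : Set G} {l : List G} :
    ∀ {A : Set G}, A ⊆ S → IsStepChain Q S A l → rc l.prod A ⊆ S := by
  induction l with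
  | nil => intro A hA _; simpa [rc_one] using hA
  | cons x tl ih =>
    intro A _ h
    rw [List.prod_cons, rc_mul]
    exact ih h.2.1 h.2.2

theorem good_rc_subset {G : Type*} [Group G] {Q : G → Prop} {S A : Set G} {g : G} (hA : A ⊆ S)
    (h : Good Q S A g) : rc g A ⊆ S := by
  obtain ⟨l, hl, hla⟩ := h
  rw [← rc_congr hla]
  exact isStepChain_rc_subset hA hl

/-- Family control of strong fusion in the whole group from step chains. -/
theorem fcsf_top_of_good {G : Type*} [Group G] [Finite G] {𝔚 : Set (Subgroup G → Subgroup G)}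
    (S : Sylow p G)
    (h : ∀ (A : Set G) (x : G), A ⊆ (S : Subgroup G) → rc x A ⊆ (S : Subgroup G) →
      Good (GlobStep 𝔚 S) ((S : Subgroup G) : Set G) A x) :
    FamilyControlsStrongFusionIn p 𝔚 ⊤ := by
  refine ⟨S, le_top, S.isPGroup', (isSylIn_top S).not_dvd, ?_⟩
  intro A h₀ _ hA hAh
  have hgood : Good (GlobStep 𝔚 S) ((S : Subgroup G) : Set G) A h₀⁻¹ := by
    apply h A h₀⁻¹ hA
    rintro _ ⟨a, ha, rfl⟩
    rw [inv_inv]
    exact hAh ⟨a, ha, rfl⟩
  obtain ⟨l, hl, hla⟩ := hgood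
  have hl' : IsStepChain (GlobStep 𝔚 S) ((S : Subgroup G) : Set G) (lc 1 A) l := by
    rw [lc_one]; exact hl
  obtain ⟨n, c, hc0, hcstep, hcS, hclast⟩ := c_of_isStepChain l A 1 hl'
  refine ⟨n, c, hc0, ?_, ?_, ?_⟩
  · intro i
    have := StepIn.inv _ (hcstep i)
    rw [inv_inv] at this
    exact this
  · intro i
    by_cases hi : i = 0
    · rw [hi, hc0]
      have := lc_one A
      unfold lc at this
      rw [this]; exact hA
    · exact hcS i hi
  · intro a ha
    rw [hclast, mul_one]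
    have := hla a ha
    simpa using this

/-- Step chains from family control of strong fusion in the whole group. -/
theorem good_of_fcsf_top {G : Type*} [Group G] [Finite G] {𝔚 : Set (Subgroup G → Subgroup G)}
    (h𝔚 : ∀ W ∈ 𝔚, IsConjugacyFunctor p W)
    (h : FamilyControlsStrongFusionIn p 𝔚 ⊤) (S : Sylow p G) (A : Set G) (x : G)
    (hA : A ⊆ (S : Subgroup G)) (hAx : rc x A ⊆ (S : Subgroup G)) :
    Good (GlobStep 𝔚 S) ((S : Subgroup G) : Set G) A x :=
  family_good_at h𝔚 h (isSylIn_top S) A x (Subgroup.mem_top x) hA hAx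

end A

end Cfsg.Agent.Helper33
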