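import Mathlib
import Cfsg.Prelude.Def_ConjugacyFunctors
import Cfsg.Prelude.Def_Solvable
import Cfsg.Agent.Lib.Helper33.KInfSub
import Cfsg.Agent.Lib.Helper33.SecFusionA
import Cfsg.Agent.Lib.Helper33.Basic

/-!
The `K`-infinity functors are isomorphism-invariant `p`-group functors, and: if a `K`-infinity
subgroup of a Sylow `p`-subgroup `S` of `G` is not normal in `G`, then some member `B` of one of
the families building the `K`-sequence of `S` is not contained in `O_p(G)`.
-/

set_option autoImplicit false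
universe u
open Cfsg

namespace Cfsg.Agent.Helper33

section Char

variable {p : ℕ} [Fact p.Prime]

theorem center_isMulCommutative (P : Type*) [Group P] : IsMulCommutative ↥(Subgroup.center P) :=
  ⟨⟨fun a b => Subtype.ext (a.2.comm b.1).eq⟩⟩

theorem center_le_kInfLower (P : Type u) [Group P] : Subgroup.center P ≤ kInfLower P :=
  (abelian_normal_le_kSeqEven (Subgroup.center P) (center_isMulCommutative P) 0).trans
    (le_iSup (kSeqEven P) 0)

theorem center_le_kInfUpper (P : Type u) [Group P] : Subgroup.center P ≤ kInfUpper P :=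
  le_iInf fun n => abelian_normal_le_kSeqOdd (Subgroup.center P) (center_isMulCommutative P) n

theorem kInf_map_equiv {Q R : Type u} [Group Q] [Group R] (φ : Q ≃* R) :
    (kInfLower Q).map φ.toMonoidHom = kInfLower R ∧ (kInfUpper Q).map φ.toMonoidHom = kInfUpper R := by
  apply kInf_map_eq φ.toMonoidHom φ.injective
  intro n
  have : φ.toMonoidHom.range = ⊤ := MonoidHom.range_eq_top.mpr φ.surjective
  rw [this]
  exact ⟨le_top, le_top⟩

theorem isCharPFunctor_kInfLower : IsCharPFunctor.{u} p kInfLower := by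
  refine ⟨?_, ?_⟩
  · intro Q _ _ hQ hnt h
    have h1 := center_le_kInfLower Q
    rw [h] at h1
    have := hQ.center_nontrivial
    exact (Subgroup.nontrivial_iff_ne_bot _).mp this (le_bot_iff.mp h1)
  · intro Q R _ _ _ _ φ
    exact (kInf_map_equiv φ).1

theorem isCharPFunctor_kInfUpper : IsCharPFunctor.{u} p kInfUpper := by
  refine ⟨?_, ?_⟩
  · intro Q _ _ hQ hnt h
    have h1 := center_le_kInfUpper Q
    rw [h] at h1
    have := hQ.center_nontrivial
    exact (Subgroup.nontrivial_iff_ne_bot _).mp this (le_bot_iff.mp h1)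
  · intro Q R _ _ _ _ φ
    exact (kInf_map_equiv φ).2

end Char

section Normal

variable {p : ℕ} [Fact p.Prime]

/-- an isomorphism-invariant functor evaluated at a normal `p`-subgroup is normal -/
theorem indF_normal {W : ∀ (Q : Type u) [Group Q], Subgroup Q} (hW : IsCharPFunctor.{u} p W)
    {X : Type u} [Group X] [Finite X] (T : Subgroup X) [hT : T.Normal] (hTp : IsPGroup p T) :
    (inducedFunctor W T).Normal := by
  have hc := (isConjugacyFunctor_indF hW X T hTp).2.2
  constructor
  intro n hn g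
  have h1 := hc g
  have h2 : T.map (MulAut.conj g).toMonoidHom = T := by
    apply le_antisymm
    · rintro _ ⟨t, ht, rfl⟩
      exact hT.conj_mem t ht g
    · intro t ht
      refine ⟨g⁻¹ * t * g, ?_, by simp [mul_assoc]⟩
      have := hT.conj_mem t ht g⁻¹
      simpa using this
  rw [h2] at h1
  rw [h1]
  exact ⟨n, hn, rfl⟩

end Normal

section Core

variable {p : ℕ} [Fact p.Prime] {G : Type u} [Group G] [Finite G]

/-- if all members of the families building the `K`-sequence of `S` (from index `0` on) lie in the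
normal `p`-subgroup `T ≤ S`, then both `K`-infinity subgroups of `S` are normal -/
theorem kInf_normal_of_families_le (S T : Subgroup G) [hTn : T.Normal] (hTp : IsPGroup p T)
    (hTS : T ≤ S)
    (hlow : ∀ n, ∀ B ∈ kLowerStarFamily (kSeqOdd ↥S n), B ≤ T.subgroupOf S)
    (hup : ∀ n, ∀ B ∈ kUpperStarFamily (kSeqEven ↥S n), B ≤ T.subgroupOf S) :
    (inducedFunctor kInfLower S).Normal ∧ (inducedFunctor kInfUpper S).Normal := by
  have hrange : (Subgroup.inclusion hTS).range = T.subgroupOf S := Subgroup.inclusion_range hTS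
  have hQ : ∀ n : ℕ, kSeqEven ↥S n ≤ (Subgroup.inclusion hTS).range ∧
      kSeqOdd ↥S (n + 1) ≤ (Subgroup.inclusion hTS).range := by
    intro n
    rw [hrange]
    constructor
    · exact sSup_le (hlow n)
    · rw [kSeqOdd_succ']
      exact sSup_le (hup n)
  obtain ⟨h1, h2⟩ := kInf_map_eq (Subgroup.inclusion hTS) (Subgroup.inclusion_injective hTS) hQ
  have e1 : inducedFunctor kInfLower S = inducedFunctor kInfLower T := by
    unfold inducedFunctor
    rw [← h1, Subgroup.map_map]
    rfl
  have e2 : inducedFunctor kInfUpper S = inducedFunctor kInfUpper T := by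
    unfold inducedFunctor
    rw [← h2, Subgroup.map_map]
    rfl
  rw [e1, e2]
  exact ⟨indF_normal (p := p) isCharPFunctor_kInfLower T hTp,
    indF_normal (p := p) isCharPFunctor_kInfUpper T hTp⟩

/-- if a `K`-infinity subgroup of `S` is not normal, some family member is not inside `T` -/
theorem exists_member_not_le (S T : Subgroup G) [hTn : T.Normal] (hTp : IsPGroup p T)
    (hTS : T ≤ S)
    (hK : ¬ (inducedFunctor kInfLower S).Normal ∨ ¬ (inducedFunctor kInfUpper S).Normal) :
    (∃ n, ∃ B ∈ kLowerStarFamily (kSeqOdd ↥S n), ¬ B ≤ T.subgroupOf S) ∨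
      ∃ n, ∃ B ∈ kUpperStarFamily (kSeqEven ↥S n), ¬ B ≤ T.subgroupOf S := by
  by_contra hcon
  push Not at hcon
  obtain ⟨h1, h2⟩ := kInf_normal_of_families_le S T hTp hTS hcon.1 hcon.2
  rcases hK with h | h
  · exact h h1
  · exact h h2

end Core

end Cfsg.Agent.Helper33

namespace Cfsg.Agent.Helper33

section Quad

variable {p : ℕ} [Fact p.Prime] {G : Type u} [Group G] [Finite G]

theorem pCore_isPGroup33 : IsPGroup p (pCore p G) := by
  obtain ⟨S⟩ : Nonempty (Sylow p G) := inferInstance
  exact S.isPGroup'.to_le (pCore_le_sylow S)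

/-- members of the families act "quadratically" on abelian normal subgroups -/
theorem member_commutator_abelian_normal {P : Type*} [Group P] (B : Subgroup P)
    (hB : (∃ n, B ∈ kLowerStarFamily (kSeqOdd P n)) ∨ ∃ n, B ∈ kUpperStarFamily (kSeqEven P n))
    (Z₀ : Subgroup P) [hZn : Z₀.Normal] (hZ₀ : IsMulCommutative ↥Z₀) :
    ⁅B, Z₀⁆ ≤ B ⊓ Subgroup.centralizer (B : Set P) := by
  have hZZ : ⁅Z₀, Z₀⁆ = ⊥ := by
    rw [Subgroup.commutator_eq_bot_iff_le_centralizer]
    exact abelian_le_centralizer Z₀ hZ₀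
  rcases hB with ⟨n, hB⟩ | ⟨n, hB⟩
  · obtain ⟨-, -, hcond⟩ := hB
    apply hcond Z₀ (abelian_normal_mem_classTwo Z₀ hZ₀) (abelian_normal_le_kSeqOdd Z₀ hZ₀ n)
    · rw [Subgroup.normalizer_eq_top]; exact le_top
    · rw [hZZ]; exact Subgroup.commutator_bot_right B
    · apply le_bot_iff.mp
      rw [← hZZ]
      exact Subgroup.commutator_mono (Subgroup.commutator_le_right _ Z₀) le_rfl
  · exact (Subgroup.commutator_mono le_rfl (abelian_normal_le_kSeqEven Z₀ hZ₀ n)).trans hB.2

theorem zpowers_quadratic_of_commutator_le {P : Type*} [Group P] (B Z₀ : Subgroup P)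
    (h : ⁅B, Z₀⁆ ≤ B ⊓ Subgroup.centralizer (B : Set P)) (b : P) (hb : b ∈ B) :
    ⁅⁅Z₀, Subgroup.zpowers b⁆, Subgroup.zpowers b⁆ = ⊥ := by
  have hzb : Subgroup.zpowers b ≤ B := Subgroup.zpowers_le.mpr hb
  apply le_bot_iff.mp
  have h1 : ⁅Z₀, Subgroup.zpowers b⁆ ≤ B ⊓ Subgroup.centralizer (B : Set P) := by
    rw [Subgroup.commutator_comm]
    exact (Subgroup.commutator_mono hzb le_rfl).trans h
  refine (Subgroup.commutator_mono h1 hzb).trans ?_
  rw [Subgroup.commutator_le]
  intro x hx y hy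
  rw [Subgroup.mem_bot, commutatorElement_eq_one_iff_mul_comm]
  exact (Subgroup.mem_centralizer_iff.mp hx.2 y hy).symm

/-- **Key lemma (quadratic form)**: if a `K`-infinity subgroup of the Sylow `p`-subgroup `S` is
not normal in `G`, some element of `S` outside `O_p(G)` acts quadratically on every abelian normal
subgroup of `G` contained in `S`. -/
theorem exists_quadratic_of_kInf_not_normal (S : Sylow p G)
    (hK : ¬ (inducedFunctor kInfLower (S : Subgroup G)).Normal ∨
      ¬ (inducedFunctor kInfUpper (S : Subgroup G)).Normal) :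
    ∃ g : G, g ∈ (S : Subgroup G) ∧ g ∉ pCore p G ∧
      ∀ Z₀ : Subgroup G, Z₀.Normal → IsMulCommutative ↥Z₀ → Z₀ ≤ (S : Subgroup G) →
        ⁅⁅Z₀, Subgroup.zpowers g⁆, Subgroup.zpowers g⁆ = ⊥ := by
  haveI := pCore_normal (G := G) p
  have hex := exists_member_not_le (p := p) (S : Subgroup G) (pCore p G) pCore_isPGroup33
    (pCore_le_sylow S) hK
  obtain ⟨B, hBfam, hBT⟩ : ∃ B : Subgroup ↥(S : Subgroup G),
      ((∃ n, B ∈ kLowerStarFamily (kSeqOdd ↥(S : Subgroup G) n)) ∨
        ∃ n, B ∈ kUpperStarFamily (kSeqEven ↥(S : Subgroup G) n)) ∧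
      ¬ B ≤ (pCore p G).subgroupOf (S : Subgroup G) := by
    rcases hex with ⟨n, B, hB, hBT⟩ | ⟨n, B, hB, hBT⟩
    · exact ⟨B, Or.inl ⟨n, hB⟩, hBT⟩
    · exact ⟨B, Or.inr ⟨n, hB⟩, hBT⟩
  obtain ⟨b, hbB, hbT⟩ := SetLike.not_le_iff_exists.mp hBT
  refine ⟨(b : G), b.2, fun h => hbT (Subgroup.mem_subgroupOf.mpr h), ?_⟩
  intro Z₀ hZn hZc hZS
  haveI : (Z₀.subgroupOf (S : Subgroup G)).Normal := hZn.subgroupOf _
  have hZ'c : IsMulCommutative ↥(Z₀.subgroupOf (S : Subgroup G)) := by
    refine ⟨⟨fun a b => ?_⟩⟩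
    apply Subtype.ext
    apply Subtype.ext
    have := hZc.is_comm.comm ⟨(a : G), Subgroup.mem_subgroupOf.mp a.2⟩
      ⟨(b : G), Subgroup.mem_subgroupOf.mp b.2⟩
    have h' := congrArg Subtype.val this
    simpa using h'
  have h1 := member_commutator_abelian_normal B hBfam (Z₀.subgroupOf (S : Subgroup G)) hZ'c
  have h2 := zpowers_quadratic_of_commutator_le B _ h1 b hbB
  have h3 := congrArg (Subgroup.map (S : Subgroup G).subtype) h2
  rw [Subgroup.map_commutator, Subgroup.map_commutator, MonoidHom.map_zpowers,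
    Subgroup.map_subgroupOf_eq_of_le hZS, Subgroup.map_bot] at h3
  exact h3

end Quad

end Cfsg.Agent.Helper33
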