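import Mathlib
import Cfsg.Agent.Lib.Helper33.Syl

set_option autoImplicit false
open Pointwise

namespace Cfsg.Agent.Helper33

variable {X : Type*} [Group X] [Finite X] {p : ℕ} [Fact p.Prime]

theorem exists_pow_coprime_order (p : ℕ) [hp : Fact p.Prime] (g : X) :
    ∃ a : ℕ, (orderOf (g ^ (p ^ a))).Coprime p := by
  have hpos : orderOf g ≠ 0 := (orderOf_pos g).ne'
  obtain ⟨e, m, hm, he⟩ := Nat.exists_eq_pow_mul_and_not_dvd hpos p hp.out.ne_one
  refine ⟨e, ?_⟩
  have h1 : orderOf (g ^ (p ^ e)) = m := by
    rw [orderOf_pow' g (pow_ne_zero e hp.out.ne_zero), he,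
      Nat.gcd_eq_right (Dvd.intro _ rfl)]
    exact Nat.mul_div_cancel_left m (pow_pos hp.out.pos e)
  rw [h1]
  exact ((Nat.Prime.coprime_iff_not_dvd hp.out).mpr hm).symm

/-- A normal `p'`-subgroup containing all `p'`-elements is a normal `p`-complement. -/
theorem isComplement'_of_contains_pprime_elements (K : Subgroup X) [K.Normal]
    (hK : (Nat.card K).Coprime p) (hall : ∀ x : X, (orderOf x).Coprime p → x ∈ K)
    (S : Sylow p X) : K.IsComplement' (S : Subgroup X) := by
  have hp := (Fact.out : p.Prime)
  have hquot : IsPGroup p (X ⧸ K) := by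
    intro q
    obtain ⟨g, rfl⟩ := QuotientGroup.mk_surjective q
    obtain ⟨a, ha⟩ := exists_pow_coprime_order p g
    refine ⟨a, ?_⟩
    rw [← QuotientGroup.mk_pow, QuotientGroup.eq_one_iff]
    exact hall _ ha
  obtain ⟨e, he⟩ := hquot.exists_card_eq
  have hidx : K.index = p ^ e := by rw [Subgroup.index_eq_card]; exact he
  have hcard : Nat.card X = Nat.card K * p ^ e := by rw [← hidx, Subgroup.card_mul_index]
  have hS : Nat.card S = p ^ e := by
    rw [Sylow.card_eq_multiplicity, hcard]
    congr 1
    rw [Nat.factorization_mul (Nat.card_pos).ne' (pow_ne_zero e hp.ne_zero)]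
    simp only [Finsupp.coe_add, Pi.add_apply]
    rw [Nat.factorization_eq_zero_of_not_dvd ((Nat.Prime.coprime_iff_not_dvd hp).mp hK.symm),
      Nat.Prime.factorization_pow hp]
    simp
  apply Subgroup.isComplement'_of_coprime
  · show Nat.card K * Nat.card (S : Subgroup X) = Nat.card X
    rw [hcard]; congr 1
  · show (Nat.card K).Coprime (Nat.card (S : Subgroup X))
    have : Nat.card (S : Subgroup X) = p ^ e := hS
    rw [this]
    exact Nat.Coprime.pow_right e hK

/-- Burnside: a central Sylow `p`-subgroup has a normal complement, which contains all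
`p'`-elements. -/
theorem exists_normal_pcomplement_of_central_sylow (P : Sylow p X)
    (hP : (P : Subgroup X) ≤ Subgroup.center X) :
    ∃ K : Subgroup X, K.Normal ∧ K.IsComplement' (P : Subgroup X) ∧ (Nat.card K).Coprime p ∧
      ∀ x : X, (orderOf x).Coprime p → x ∈ K := by
  have hp := (Fact.out : p.Prime)
  have hP' : Subgroup.normalizer ((P : Subgroup X) : Set X) ≤
      Subgroup.centralizer ((P : Subgroup X) : Set X) := by
    intro x _
    rw [Subgroup.mem_centralizer_iff]
    intro y hy
    have := Subgroup.mem_center_iff.mp (hP hy) x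
    exact this.symm
  refine ⟨(MonoidHom.transferSylow P hP').ker, inferInstance,
    MonoidHom.ker_transferSylow_isComplement' P hP', ?_, ?_⟩
  · exact ((Nat.Prime.coprime_iff_not_dvd hp).mpr
      (MonoidHom.not_dvd_card_ker_transferSylow P hP')).symm
  · intro x hx
    rw [MonoidHom.mem_ker]
    have h1 : orderOf (MonoidHom.transferSylow P hP' x) ∣ orderOf x := orderOf_map_dvd _ x
    obtain ⟨k, hk⟩ := (IsPGroup.iff_orderOf.mp P.isPGroup') (MonoidHom.transferSylow P hP' x)
    have h2 : (orderOf (MonoidHom.transferSylow P hP' x)).Coprime p := Nat.Coprime.coprime_dvd_left h1 hx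
    rw [hk] at h2
    cases k with
    | zero => simpa using hk
    | succ k =>
      exfalso
      have : p ∣ 1 := by
        have h3 := Nat.Coprime.gcd_eq_one h2
        rw [Nat.gcd_eq_right (dvd_pow_self p (Nat.succ_ne_zero k))] at h3
        rw [h3]
      exact hp.one_lt.ne' (Nat.dvd_one.mp this)

theorem orderOf_conj_eq (x k : X) : orderOf (x * k * x⁻¹) = orderOf k := by
  have : x * k * x⁻¹ = MulAut.conj x k := by simp
  rw [this]
  exact orderOf_injective (MulAut.conj x).toMonoidHom (MulAut.conj x).injective k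

/-- A normal subgroup `T` of a Sylow `S` with `C_S(T) ≤ T`, such that all `p'`-elements centralize
`T`: then the group has a normal `p`-complement. -/
theorem exists_normal_pcomplement_of_centralizer (S : Sylow p X) (T : Subgroup X) [T.Normal]
    (hC : (S : Subgroup X) ⊓ Subgroup.centralizer (T : Set X) ≤ T)
    (hN : ∀ g : X, (orderOf g).Coprime p → g ∈ Subgroup.centralizer (T : Set X)) :
    ∃ K : Subgroup X, K.Normal ∧ K.IsComplement' (S : Subgroup X) := by
  have hCn : (Subgroup.centralizer (T : Set X)).Normal := inferInstance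
  have hsyl : IsSylIn p ((S : Subgroup X) ⊓ Subgroup.centralizer (T : Set X))
      (Subgroup.centralizer (T : Set X)) :=
    (isSylIn_top S).inf_normal le_top (by rw [Subgroup.normalizer_eq_top])
  have hPY : (hsyl.toSylow : Subgroup (Subgroup.centralizer (T : Set X))) ≤
      Subgroup.center (Subgroup.centralizer (T : Set X)) := by
    intro y hy
    rw [hsyl.coe_toSylow, Subgroup.mem_subgroupOf] at hy
    have hyT : (y : X) ∈ T := hC hy
    rw [Subgroup.mem_center_iff]
    intro c
    apply Subtype.ext
    have := Subgroup.mem_centralizer_iff.mp c.2 (y : X) hyT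
    simpa using this.symm
  obtain ⟨KY, hKYn, -, hKYcop, hKYall⟩ := exists_normal_pcomplement_of_central_sylow _ hPY
  have hKall : ∀ x : X, (orderOf x).Coprime p →
      x ∈ KY.map (Subgroup.centralizer (T : Set X)).subtype := by
    intro x hx
    refine ⟨⟨x, hN x hx⟩, hKYall _ ?_, rfl⟩
    rw [Subgroup.orderOf_mk]; exact hx
  have hKn : (KY.map (Subgroup.centralizer (T : Set X)).subtype).Normal := by
    refine ⟨fun k hk x => hKall _ ?_⟩
    obtain ⟨k', hk', rfl⟩ := hk
    rw [orderOf_conj_eq]
    have h1 : orderOf ((Subgroup.centralizer (T : Set X)).subtype k') = orderOf (⟨k', hk'⟩ : KY) := by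
      rw [Subgroup.coe_subtype, Subgroup.orderOf_coe]
      exact (Subgroup.orderOf_mk k' hk').symm
    rw [h1]
    exact Nat.Coprime.coprime_dvd_left (orderOf_dvd_natCard _) hKYcop
  refine ⟨_, hKn, ?_⟩
  apply isComplement'_of_contains_pprime_elements _ _ hKall S
  rw [Subgroup.card_map_of_injective (Subgroup.subtype_injective _)]
  exact hKYcop

end Cfsg.Agent.Helper33
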