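import Mathlib
import Cfsg.Prelude.Def_FusionSystem
import Cfsg.Prelude.Def_Solvable
import Cfsg.Prelude.Def_TwoFusion
import Cfsg.Agent.Lib.Helper33.PComp
import Cfsg.Agent.Lib.Helper33.Basic

set_option autoImplicit false
open Pointwise Cfsg

namespace Cfsg.Agent.Helper33

variable {G : Type*} [Group G]

theorem isCentric_groupFusionSystem_iff (S Q : Subgroup G) :
    (groupFusionSystem S).IsCentric Q ↔ Q ≤ S ∧ ∀ g : G, MulAut.conj g • Q ≤ S →
      S ⊓ Subgroup.centralizer ((MulAut.conj g • Q : Subgroup G) : Set G) ≤ MulAut.conj g • Q := by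
  constructor
  · rintro ⟨hQ, h⟩
    refine ⟨hQ, fun g hg => ?_⟩
    apply h (MulAut.conj g • Q)
    refine ⟨conjHom Q g, ⟨hQ, fun x => hg (conj_mem_conj_smul x.2), g, fun x => rfl⟩, ?_⟩
    ext y
    constructor
    · rintro ⟨x, rfl⟩
      exact conj_mem_conj_smul x.2
    · intro hy
      rw [mem_conj_smul] at hy
      refine ⟨⟨_, hy⟩, ?_⟩
      show g * (g⁻¹ * y * g) * g⁻¹ = y
      group
  · rintro ⟨hQ, h⟩
    refine ⟨hQ, ?_⟩
    rintro R ⟨φ, ⟨-, hφS, g, hg⟩, rfl⟩
    have hrange : φ.range = MulAut.conj g • Q := by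
      ext y
      constructor
      · rintro ⟨x, rfl⟩
        rw [hg]
        exact conj_mem_conj_smul x.2
      · intro hy
        rw [mem_conj_smul] at hy
        refine ⟨⟨_, hy⟩, ?_⟩
        rw [hg]
        show g * (g⁻¹ * y * g) * g⁻¹ = y
        group
    rw [hrange]
    apply h g
    rw [← hrange]
    rintro _ ⟨x, rfl⟩
    exact hφS x

theorem mem_sup_of_commute {Z O : Subgroup G} (hcomm : ∀ a ∈ Z, ∀ b ∈ O, a * b = b * a)
    {y : G} (hy : y ∈ Z ⊔ O) : ∃ z ∈ Z, ∃ o ∈ O, y = z * o := by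
  rw [Subgroup.sup_eq_closure] at hy
  induction hy using Subgroup.closure_induction with
  | mem x hx =>
    rcases hx with hx | hx
    · exact ⟨x, hx, 1, O.one_mem, by simp⟩
    · exact ⟨1, Z.one_mem, x, hx, by simp⟩
  | one => exact ⟨1, Z.one_mem, 1, O.one_mem, by simp⟩
  | mul a b _ _ iha ihb =>
    obtain ⟨z₁, hz₁, o₁, ho₁, rfl⟩ := iha
    obtain ⟨z₂, hz₂, o₂, ho₂, rfl⟩ := ihb
    refine ⟨z₁ * z₂, Z.mul_mem hz₁ hz₂, o₁ * o₂, O.mul_mem ho₁ ho₂, ?_⟩
    have := hcomm z₂ hz₂ o₁ ho₁
    calc z₁ * o₁ * (z₂ * o₂) = z₁ * (o₁ * z₂) * o₂ := by group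
      _ = z₁ * (z₂ * o₁) * o₂ := by rw [this]
      _ = z₁ * z₂ * (o₁ * o₂) := by group
  | inv a _ iha =>
    obtain ⟨z, hz, o, ho, rfl⟩ := iha
    refine ⟨z⁻¹, Z.inv_mem hz, o⁻¹, O.inv_mem ho, ?_⟩
    have := hcomm z⁻¹ (Z.inv_mem hz) o⁻¹ (O.inv_mem ho)
    rw [mul_inv_rev, this]

section fin

variable [Finite G] {p : ℕ} [Fact p.Prime]

theorem centric_imp_directProduct (P : Sylow p G) (Q : Subgroup G) (hQ : Q ≤ (P : Subgroup G))
    (h : ∀ g : G, MulAut.conj g • Q ≤ (P : Subgroup G) →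
      (P : Subgroup G) ⊓ Subgroup.centralizer ((MulAut.conj g • Q : Subgroup G) : Set G) ≤ MulAut.conj g • Q) :
    IsInternalDirectProduct (Q ⊓ Subgroup.centralizer (Q : Set G))
      ((pPrimeCore p ↥(Subgroup.centralizer (Q : Set G))).map (Subgroup.centralizer (Q : Set G)).subtype)
      (Subgroup.centralizer (Q : Set G)) := by
  have hp := (Fact.out : p.Prime)
  have hQp : IsPGroup p Q := P.isPGroup'.to_le hQ
  have hZp : IsPGroup p (Q ⊓ Subgroup.centralizer (Q : Set G) : Subgroup G) := hQp.to_le inf_le_left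
  -- Z is Sylow in C
  have hsyl : IsSylIn p (Q ⊓ Subgroup.centralizer (Q : Set G)) (Subgroup.centralizer (Q : Set G)) := by
    obtain ⟨R, hR, hZR⟩ := exists_isSylIn_ge hZp (inf_le_right : Q ⊓ Subgroup.centralizer (Q : Set G) ≤ _)
    have hRN : R ≤ Subgroup.normalizer (Q : Set G) := hR.le.trans (Subgroup.centralizer_le_normalizer _)
    have hRQp : IsPGroup p (R ⊔ Q : Subgroup G) := hR.isPGroup.to_sup_of_normal_right' hQp hRN
    obtain ⟨g, -, hg⟩ := (isSylIn_top P).exists_conj_le hRQp le_top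
    have hgQ : MulAut.conj g • Q ≤ (P : Subgroup G) := (conj_smul_le_conj_smul le_sup_right).trans hg
    have hgR : MulAut.conj g • R ≤ MulAut.conj g • Q := by
      refine le_trans (le_inf ((conj_smul_le_conj_smul le_sup_left).trans hg) ?_) (h g hgQ)
      rw [centralizer_conj_smul]
      exact conj_smul_le_conj_smul hR.le
    have hRQ : R ≤ Q := conj_smul_le_conj_smul_iff.mp hgR
    have : R = Q ⊓ Subgroup.centralizer (Q : Set G) := le_antisymm (le_inf hRQ hR.le) hZR
    rw [← this]; exact hR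
  have hcentral : (hsyl.toSylow : Subgroup (Subgroup.centralizer (Q : Set G))) ≤
      Subgroup.center (Subgroup.centralizer (Q : Set G)) := by
    intro y hy
    rw [hsyl.coe_toSylow, Subgroup.mem_subgroupOf] at hy
    rw [Subgroup.mem_center_iff]
    intro c
    apply Subtype.ext
    have := Subgroup.mem_centralizer_iff.mp c.2 (y : G) hy.1
    simpa using this.symm
  obtain ⟨K, hKn, hKc, hKcop, -⟩ := exists_normal_pcomplement_of_central_sylow _ hcentral
  have hKO : K ≤ pPrimeCore p ↥(Subgroup.centralizer (Q : Set G)) := le_pPrimeCore' hKn hKcop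
  have hOcop : (Nat.card ((pPrimeCore p ↥(Subgroup.centralizer (Q : Set G))).map
      (Subgroup.centralizer (Q : Set G)).subtype : Subgroup G)).Coprime p := by
    rw [Subgroup.card_map_of_injective (Subgroup.subtype_injective _)]
    exact card_pPrimeCore_coprime' p
  refine ⟨inf_le_right, Subgroup.map_subtype_le _, ?_, ?_, ?_⟩
  · intro a ha b hb
    have hbC : b ∈ Subgroup.centralizer (Q : Set G) := Subgroup.map_subtype_le _ hb
    exact Subgroup.mem_centralizer_iff.mp hbC a ha.1
  · rw [← disjoint_iff]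
    apply Subgroup.disjoint_of_coprime_natCard
    obtain ⟨k, hk⟩ := hZp.exists_card_eq
    rw [hk]
    exact Nat.Coprime.pow_left k hOcop.symm
  · apply le_antisymm (sup_le inf_le_right (Subgroup.map_subtype_le _))
    have h1 := hKc.sup_eq_top
    have h3 : (K ⊔ (hsyl.toSylow : Subgroup (Subgroup.centralizer (Q : Set G)))).map
        (Subgroup.centralizer (Q : Set G)).subtype = Subgroup.centralizer (Q : Set G) := by
      rw [h1, ← MonoidHom.range_eq_map, Subgroup.range_subtype]
    calc Subgroup.centralizer (Q : Set G)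
        = (K ⊔ (hsyl.toSylow : Subgroup (Subgroup.centralizer (Q : Set G)))).map
            (Subgroup.centralizer (Q : Set G)).subtype := h3.symm
      _ = K.map (Subgroup.centralizer (Q : Set G)).subtype ⊔
            (hsyl.toSylow : Subgroup (Subgroup.centralizer (Q : Set G))).map
              (Subgroup.centralizer (Q : Set G)).subtype := Subgroup.map_sup _ _ _
      _ ≤ _ := by
        rw [sup_comm]
        apply sup_le_sup
        · rw [hsyl.coe_toSylow, Subgroup.subgroupOf_map_subtype]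
          exact inf_le_left
        · exact Subgroup.map_mono hKO

theorem directProduct_imp_centric (P : Sylow p G) (Q : Subgroup G)
    (h : IsInternalDirectProduct (Q ⊓ Subgroup.centralizer (Q : Set G))
      ((pPrimeCore p ↥(Subgroup.centralizer (Q : Set G))).map (Subgroup.centralizer (Q : Set G)).subtype)
      (Subgroup.centralizer (Q : Set G)))
    (g : G) :
    (P : Subgroup G) ⊓ Subgroup.centralizer ((MulAut.conj g • Q : Subgroup G) : Set G) ≤ MulAut.conj g • Q := by
  have hp := (Fact.out : p.Prime)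
  obtain ⟨-, -, hcomm, hdisj, hsup⟩ := h
  have hOcop : (Nat.card ((pPrimeCore p ↥(Subgroup.centralizer (Q : Set G))).map
      (Subgroup.centralizer (Q : Set G)).subtype : Subgroup G)).Coprime p := by
    rw [Subgroup.card_map_of_injective (Subgroup.subtype_injective _)]
    exact card_pPrimeCore_coprime' p
  intro x hx
  obtain ⟨hxP, hxC⟩ := Subgroup.mem_inf.mp hx
  rw [centralizer_conj_smul, mem_conj_smul] at hxC
  rw [mem_conj_smul]
  rw [← hsup] at hxC
  obtain ⟨z, hz, o, ho, hy⟩ := mem_sup_of_commute hcomm hxC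
  -- g⁻¹ x g is a p-element
  obtain ⟨k, hk⟩ := P.isPGroup' ⟨x, hxP⟩
  have hk' : x ^ p ^ k = 1 := by
    have := congrArg Subtype.val hk
    simpa using this
  have hyk : (g⁻¹ * x * g) ^ p ^ k = 1 := by
    have : g⁻¹ * x * g = MulAut.conj g⁻¹ x := by simp
    rw [this, ← map_pow, hk', map_one]
  rw [hy, (show Commute z o from hcomm z hz o ho).mul_pow] at hyk
  have ho1 : o ^ p ^ k ∈ (Q ⊓ Subgroup.centralizer (Q : Set G)) ⊓
      ((pPrimeCore p ↥(Subgroup.centralizer (Q : Set G))).map (Subgroup.centralizer (Q : Set G)).subtype) := by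
    refine Subgroup.mem_inf.mpr ⟨?_, Subgroup.pow_mem _ ho _⟩
    have : o ^ p ^ k = (z ^ p ^ k)⁻¹ := eq_inv_of_mul_eq_one_right hyk
    rw [this]
    exact Subgroup.inv_mem _ (Subgroup.pow_mem _ hz _)
  rw [hdisj, Subgroup.mem_bot] at ho1
  have hord1 : orderOf o ∣ p ^ k := orderOf_dvd_of_pow_eq_one ho1
  have hord2 : orderOf o ∣ Nat.card ((pPrimeCore p ↥(Subgroup.centralizer (Q : Set G))).map
      (Subgroup.centralizer (Q : Set G)).subtype : Subgroup G) := by
    have := orderOf_dvd_natCard (⟨o, ho⟩ : ((pPrimeCore p ↥(Subgroup.centralizer (Q : Set G))).map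
      (Subgroup.centralizer (Q : Set G)).subtype : Subgroup G))
    rwa [Subgroup.orderOf_mk] at this
  have hord : orderOf o = 1 := by
    have hc : (orderOf o).Coprime (p ^ k) := Nat.Coprime.pow_right k (Nat.Coprime.coprime_dvd_left hord2 hOcop)
    exact Nat.Coprime.eq_one_of_dvd hc hord1
  rw [orderOf_eq_one_iff] at hord
  rw [hy, hord, mul_one]
  exact hz.1

end fin

end Cfsg.Agent.Helper33
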