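import Mathlib
import Cfsg.Agent.Lib.Helper33.WellPlaced

set_option autoImplicit false

namespace Cfsg.Agent.Helper33

open Pointwise

variable {G : Type*} [Group G]

/-- chains of conjugations through pairs `(T, x)` satisfying a predicate -/
def IsChainP (𝓟 : Subgroup G → G → Prop) : Set G → List (Subgroup G × G) → Prop
  | _, [] => True
  | A, (T, x) :: l => 𝓟 T x ∧ x ∈ Subgroup.normalizer (T : Set G) ∧ A ⊆ T ∧ IsChainP 𝓟 (rc x A) l

def ReachP (𝓟 : Subgroup G → G → Prop) (A : Set G) (g : G) : Prop :=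
  ∃ l : List (Subgroup G × G), IsChainP 𝓟 A l ∧ (l.map Prod.snd).prod = g

theorem IsChainP.mono {𝓟 : Subgroup G → G → Prop} {l : List (Subgroup G × G)} :
    ∀ {A B : Set G}, B ⊆ A → IsChainP 𝓟 A l → IsChainP 𝓟 B l := by
  induction l with
  | nil => intro A B _ _; trivial
  | cons hd tl ih =>
    intro A B hBA h
    obtain ⟨T, x⟩ := hd
    exact ⟨h.1, h.2.1, hBA.trans h.2.2.1, ih (rc_mono hBA) h.2.2.2⟩

theorem IsChainP.append {𝓟 : Subgroup G → G → Prop} {l₁ : List (Subgroup G × G)} :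
    ∀ {A : Set G} {l₂ : List (Subgroup G × G)}, IsChainP 𝓟 A l₁ →
      IsChainP 𝓟 (rc (l₁.map Prod.snd).prod A) l₂ → IsChainP 𝓟 A (l₁ ++ l₂) := by
  induction l₁ with
  | nil => intro A l₂ _ h; simpa [rc_one] using h
  | cons hd tl ih =>
    intro A l₂ h1 h2
    obtain ⟨T, x⟩ := hd
    refine ⟨h1.1, h1.2.1, h1.2.2.1, ih h1.2.2.2 ?_⟩
    simpa [rc_mul] using h2

theorem ReachP.nil (𝓟 : Subgroup G → G → Prop) (A : Set G) : ReachP 𝓟 A 1 :=
  ⟨[], trivial, by simp⟩

theorem ReachP.single {𝓟 : Subgroup G → G → Prop} {A : Set G} {T : Subgroup G} {x : G}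
    (hT : 𝓟 T x) (hx : x ∈ Subgroup.normalizer (T : Set G)) (hA : A ⊆ T) : ReachP 𝓟 A x :=
  ⟨[(T, x)], ⟨hT, hx, hA, trivial⟩, by simp⟩

theorem ReachP.mono {𝓟 : Subgroup G → G → Prop} {A B : Set G} {g : G} (hBA : B ⊆ A)
    (h : ReachP 𝓟 A g) : ReachP 𝓟 B g := by
  obtain ⟨l, hl, rfl⟩ := h
  exact ⟨l, hl.mono hBA, rfl⟩

theorem ReachP.trans {𝓟 : Subgroup G → G → Prop} {A : Set G} {g h : G} (h1 : ReachP 𝓟 A g)
    (h2 : ReachP 𝓟 (rc g A) h) : ReachP 𝓟 A (g * h) := by
  obtain ⟨l₁, hl₁, rfl⟩ := h1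
  obtain ⟨l₂, hl₂, rfl⟩ := h2
  exact ⟨l₁ ++ l₂, hl₁.append hl₂, by simp⟩

theorem ReachP.symm {𝓟 : Subgroup G → G → Prop} (h𝓟 : ∀ T x, 𝓟 T x → 𝓟 T x⁻¹)
    {A : Set G} {g : G} (h : ReachP 𝓟 A g) :
    ReachP 𝓟 (rc g A) g⁻¹ := by
  obtain ⟨l, hl, rfl⟩ := h
  induction l generalizing A with
  | nil => simpa using ReachP.nil 𝓟 _
  | cons hd tl ih =>
    obtain ⟨T, x⟩ := hd
    have h1 := ih hl.2.2.2
    simp only [List.map_cons, List.prod_cons, mul_inv_rev]
    rw [rc_mul]
    apply ReachP.trans h1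
    rw [rc_inv_rc]
    apply ReachP.single (h𝓟 _ _ hl.1) (inv_mem hl.2.1)
    calc rc x A ⊆ rc x (T : Set G) := rc_mono hl.2.2.1
      _ = T := rc_normalizer hl.2.1

theorem IsChainP.take_subset {𝓟 : Subgroup G → G → Prop} {l : List (Subgroup G × G)} :
    ∀ {A : Set G}, IsChainP 𝓟 A l → ∀ (i : ℕ) (hi : i < l.length),
      rc ((l.map Prod.snd).take i).prod A ⊆ (l[i]).1 := by
  induction l with
  | nil => intro A _ i hi; simp at hi
  | cons hd tl ih =>
    intro A h i hi
    obtain ⟨T, x⟩ := hd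
    cases i with
    | zero => simpa [rc_one] using h.2.2.1
    | succ j =>
      have hj : j < tl.length := by simpa using hi
      have := ih h.2.2.2 j hj
      simpa [rc_mul] using this

theorem IsChainP.mem_family {𝓟 : Subgroup G → G → Prop} {l : List (Subgroup G × G)} :
    ∀ {A : Set G}, IsChainP 𝓟 A l → ∀ (i : ℕ) (hi : i < l.length),
      𝓟 (l[i]).1 (l[i]).2 ∧ (l[i]).2 ∈ Subgroup.normalizer (((l[i]).1 : Subgroup G) : Set G) := by
  induction l with
  | nil => intro A _ i hi; simp at hi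
  | cons hd tl ih =>
    intro A h i hi
    obtain ⟨T, x⟩ := hd
    cases i with
    | zero => exact ⟨h.1, h.2.1⟩
    | succ j =>
      have hj : j < tl.length := by simpa using hi
      simpa using ih h.2.2.2 j hj

/-- From `ReachP` to an explicit `Fin`-indexed form. -/
theorem ReachP.explicit {𝓟 : Subgroup G → G → Prop} {A : Set G} {g : G} (h : ReachP 𝓟 A g) :
    ∃ (n : ℕ) (T : Fin n → Subgroup G) (x : Fin n → G), (List.ofFn x).prod = g ∧
      (∀ i, 𝓟 (T i) (x i)) ∧ (∀ i, x i ∈ Subgroup.normalizer ((T i : Subgroup G) : Set G)) ∧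
      (∀ h : 0 < n, A ⊆ T ⟨0, h⟩) ∧
      ∀ (i : Fin n) (h : i.val + 1 < n),
        (fun a => (((List.ofFn x).take (i.val + 1)).prod)⁻¹ * a * ((List.ofFn x).take (i.val + 1)).prod) '' A ⊆
          T ⟨i.val + 1, h⟩ := by
  obtain ⟨l, hl, rfl⟩ := h
  have hofn : List.ofFn (fun i : Fin l.length => (l[i.val]).2) = l.map Prod.snd := by
    apply List.ext_getElem
    · simp
    · intro i h1 h2
      simp
  refine ⟨l.length, fun i => (l[i.val]).1, fun i => (l[i.val]).2, ?_, ?_, ?_, ?_, ?_⟩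
  · rw [hofn]
  · intro i; exact (hl.mem_family i.val i.2).1
  · intro i; exact (hl.mem_family i.val i.2).2
  · intro h
    have := hl.take_subset 0 h
    simpa [rc_one] using this
  · intro i h
    rw [hofn]
    exact hl.take_subset (i.val + 1) h

/-- Abstract form of Alperin's fusion theorem: a relation `R A g` closed under restriction,
composition and inversion, containing the normalizer of `S` and satisfying an inductive step at
fully normalized subgroups, contains all conjugations between subsets of `S`. -/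
theorem reach_abstract [Finite G] {p : ℕ} [Fact p.Prime] (S : Sylow p G)
    (R : Set G → G → Prop)
    (hmono : ∀ (A B : Set G) (g : G), B ⊆ A → R A g → R B g)
    (htrans : ∀ (A : Set G) (g h : G), R A g → R (rc g A) h → R A (g * h))
    (hsymm : ∀ (A : Set G) (g : G), R A g → R (rc g A) g⁻¹)
    (htop : ∀ g ∈ Subgroup.normalizer ((S : Subgroup G) : Set G), R ((S : Subgroup G) : Set G) g)
    (hstep : ∀ T : Subgroup G, T < (S : Subgroup G) → ∃ U : Subgroup G,
      (∃ g : G, MulAut.conj g • T = U) ∧ U ≤ (S : Subgroup G) ∧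
      IsSylIn p ((S : Subgroup G) ⊓ Subgroup.normalizer (U : Set G))
        (Subgroup.normalizer (U : Set G)) ∧
      ((∀ B : Subgroup G, B ≤ (S : Subgroup G) → Nat.card T < Nat.card B → ∀ g : G,
          MulAut.conj g⁻¹ • B ≤ (S : Subgroup G) → R (B : Set G) g) →
        ∀ m ∈ Subgroup.normalizer (U : Set G), R (U : Set G) m))
    (A : Subgroup G) (hA : A ≤ (S : Subgroup G)) (g : G)
    (hg : MulAut.conj g⁻¹ • A ≤ (S : Subgroup G)) : R (A : Set G) g := by
  induction' hn : Nat.card (S : Subgroup G) - Nat.card A using Nat.strong_induction_on with n ih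
    generalizing A g
  by_cases hAS : A = S
  · have hgS : MulAut.conj g⁻¹ • (S : Subgroup G) = S := by
      rw [hAS] at hg
      exact Subgroup.eq_of_le_of_card_ge hg (by rw [card_conj_smul])
    have hgN : g ∈ Subgroup.normalizer ((S : Subgroup G) : Set G) := by
      have := mem_normalizer_iff_smul_eq.mpr hgS
      simpa using inv_mem this
    rw [hAS]
    exact htop g hgN
  · have hcardA : Nat.card A < Nat.card (S : Subgroup G) :=
      card_lt_of_lt (lt_of_le_of_ne hA hAS)
    have hBS : MulAut.conj g⁻¹ • A ≠ (S : Subgroup G) := by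
      intro hcontra
      have := congrArg (fun H : Subgroup G => Nat.card H) hcontra
      simp only [card_conj_smul] at this
      omega
    have hltA := IsSylIn.normalizer_growth S.isPGroup' hA hAS
    have hltB := IsSylIn.normalizer_growth S.isPGroup' hg hBS
    have hcA := card_lt_of_lt hltA
    have hcB := card_lt_of_lt hltB
    rw [card_conj_smul] at hcB
    have hcA' : Nat.card ((S : Subgroup G) ⊓ Subgroup.normalizer (A : Set G) : Subgroup G) ≤
        Nat.card (S : Subgroup G) := Subgroup.card_le_of_le inf_le_left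
    have hcB' : Nat.card ((S : Subgroup G) ⊓
        Subgroup.normalizer ((MulAut.conj g⁻¹ • A : Subgroup G) : Set G) : Subgroup G) ≤
        Nat.card (S : Subgroup G) := Subgroup.card_le_of_le inf_le_left
    obtain ⟨U, ⟨k₀, hk₀⟩, hUS, hsyl, hUstep⟩ := hstep A (lt_of_le_of_ne hA hAS)
    have hUm : ∀ m ∈ Subgroup.normalizer (U : Set G), R (U : Set G) m := by
      apply hUstep
      intro B hB hcard g' hg'
      exact ih _ (by omega) B hB g' hg' rfl
    -- step 1
    have h1 : MulAut.conj k₀ • ((S : Subgroup G) ⊓ Subgroup.normalizer (A : Set G)) ≤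
        Subgroup.normalizer (U : Set G) := by
      rw [← hk₀, normalizer_conj_smul]
      exact conj_smul_le_conj_smul inf_le_right
    obtain ⟨c, hc, hcle⟩ := hsyl.exists_conj_le
      (isPGroup_conj_smul (S.isPGroup'.to_le inf_le_left)) h1
    have e1 : MulAut.conj ((c * k₀)⁻¹)⁻¹ • A = U := by
      rw [inv_inv, conj_mul_smul, hk₀, smul_eq_of_mem_normalizer hc]
    have e1' : MulAut.conj ((c * k₀)⁻¹)⁻¹ • ((S : Subgroup G) ⊓ Subgroup.normalizer (A : Set G)) ≤
        (S : Subgroup G) := by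
      rw [inv_inv, conj_mul_smul]
      exact hcle.trans inf_le_left
    have r1 : R (((S : Subgroup G) ⊓ Subgroup.normalizer (A : Set G) : Subgroup G) : Set G)
        (c * k₀)⁻¹ := ih _ (by omega) _ inf_le_left _ e1' rfl
    have r1' : R (A : Set G) (c * k₀)⁻¹ := hmono _ _ _ hltA.le r1
    -- step 2
    have hk₀B : MulAut.conj (k₀ * g) • (MulAut.conj g⁻¹ • A) = U := by
      rw [conj_mul_smul, conj_smul_inv_smul, hk₀]
    have h2 : MulAut.conj (k₀ * g) • ((S : Subgroup G) ⊓
        Subgroup.normalizer ((MulAut.conj g⁻¹ • A : Subgroup G) : Set G)) ≤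
        Subgroup.normalizer (U : Set G) := by
      rw [← hk₀B, normalizer_conj_smul (k₀ * g)]
      exact conj_smul_le_conj_smul inf_le_right
    obtain ⟨c', hc', hc'le⟩ := hsyl.exists_conj_le
      (isPGroup_conj_smul (S.isPGroup'.to_le inf_le_left)) h2
    have e2 : MulAut.conj ((c' * (k₀ * g))⁻¹)⁻¹ • (MulAut.conj g⁻¹ • A) = U := by
      rw [inv_inv, conj_mul_smul, hk₀B, smul_eq_of_mem_normalizer hc']
    have e2' : MulAut.conj ((c' * (k₀ * g))⁻¹)⁻¹ • ((S : Subgroup G) ⊓
        Subgroup.normalizer ((MulAut.conj g⁻¹ • A : Subgroup G) : Set G)) ≤ (S : Subgroup G) := by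
      rw [inv_inv, conj_mul_smul]
      exact hc'le.trans inf_le_left
    have r2 : R (((S : Subgroup G) ⊓
        Subgroup.normalizer ((MulAut.conj g⁻¹ • A : Subgroup G) : Set G) : Subgroup G) : Set G)
        (c' * (k₀ * g))⁻¹ := ih _ (by omega) _ inf_le_left _ e2' rfl
    have r2' : R ((MulAut.conj g⁻¹ • A : Subgroup G) : Set G) (c' * (k₀ * g))⁻¹ :=
      hmono _ _ _ hltB.le r2
    have r3 := hsymm _ _ r2'
    rw [rc_coe, e2] at r3
    -- combine
    have hm : c * c'⁻¹ ∈ Subgroup.normalizer (U : Set G) := mul_mem hc (inv_mem hc')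
    have hg_eq : g = (c * k₀)⁻¹ * (c * c'⁻¹) * ((c' * (k₀ * g))⁻¹)⁻¹ := by group
    rw [hg_eq]
    apply htrans
    · apply htrans _ _ _ r1'
      rw [rc_coe, e1]
      exact hUm _ hm
    · rw [rc_mul, rc_coe, e1, rc_normalizer hm]
      exact r3

end Cfsg.Agent.Helper33
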