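import Mathlib
import Cfsg.Agent.Lib.Helper33.Tame

set_option autoImplicit false

namespace Cfsg.Agent.Helper33

open Pointwise

variable {G : Type*} [Group G]

/-- `x` has `p`-power order -/
def IsPElem (p : ℕ) (x : G) : Prop := ∃ k : ℕ, orderOf x = p ^ k

theorem isPElem_inv {p : ℕ} {x : G} (h : IsPElem p x) : IsPElem p x⁻¹ := by
  obtain ⟨k, hk⟩ := h
  exact ⟨k, by rw [orderOf_inv, hk]⟩

theorem isPElem_of_mem {p : ℕ} [Fact p.Prime] {H : Subgroup G} (hH : IsPGroup p H) {x : G}
    (hx : x ∈ H) : IsPElem p x := by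
  obtain ⟨k, hk⟩ := hH ⟨x, hx⟩
  have h1 : x ^ p ^ k = 1 := by
    have := congrArg Subtype.val hk
    simpa using this
  obtain ⟨j, -, hj⟩ := (Nat.dvd_prime_pow (Fact.out : p.Prime)).mp (orderOf_dvd_of_pow_eq_one h1)
  exact ⟨j, hj⟩

theorem isPGroup_zpowers_of_isPElem {p : ℕ} [Fact p.Prime] {x : G} (h : IsPElem p x) :
    IsPGroup p (Subgroup.zpowers x) := by
  obtain ⟨k, hk⟩ := h
  exact IsPGroup.of_card (n := k) (by rw [Nat.card_zpowers, hk])

variable [Finite G] {p : ℕ} [Fact p.Prime]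

theorem exists_isSylIn_mem {H : Subgroup G} {w : G} (hw : w ∈ H) (hwp : IsPElem p w) :
    ∃ T, IsSylIn p T H ∧ w ∈ T := by
  obtain ⟨T, hT, hle⟩ := exists_isSylIn_ge (isPGroup_zpowers_of_isPElem hwp)
    ((Subgroup.zpowers_le).mpr hw)
  exact ⟨T, hT, hle (Subgroup.mem_zpowers w)⟩

/-- A normal `p`-subgroup lies in every Sylow `p`-subgroup. -/
theorem IsSylIn.normal_le {T H U : Subgroup G} (h : IsSylIn p T H) (hU : IsPGroup p U)
    (hUH : U ≤ H) (hn : H ≤ Subgroup.normalizer (U : Set G)) : U ≤ T := by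
  obtain ⟨x, hx, hle⟩ := h.exists_conj_le hU hUH
  rwa [smul_eq_of_mem_normalizer (hn hx)] at hle

/-- the pairs allowed in Alperin's theorem with tame intersections -/
def TameP (p : ℕ) [Fact p.Prime] (P : Sylow p G) (T : Subgroup G) (x : G) : Prop :=
  ∃ Q : Sylow p G, T = (P : Subgroup G) ⊓ (Q : Subgroup G) ∧
    IsSylIn p ((P : Subgroup G) ⊓ Subgroup.normalizer (T : Set G)) (Subgroup.normalizer (T : Set G)) ∧
    IsSylIn p ((Q : Subgroup G) ⊓ Subgroup.normalizer (T : Set G)) (Subgroup.normalizer (T : Set G)) ∧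
    ((Q : Subgroup G) = (P : Subgroup G) ∨ IsPElem p x)

theorem tameP_inv (P : Sylow p G) (T : Subgroup G) (x : G) (h : TameP p P T x) :
    TameP p P T x⁻¹ := by
  obtain ⟨Q, h1, h2, h3, h4⟩ := h
  exact ⟨Q, h1, h2, h3, h4.imp id isPElem_inv⟩

theorem tameP_top (P : Sylow p G) (g : G) : TameP p P (P : Subgroup G) g := by
  have h : IsSylIn p ((P : Subgroup G) ⊓ Subgroup.normalizer ((P : Subgroup G) : Set G))
      (Subgroup.normalizer ((P : Subgroup G) : Set G)) := by
    rw [inf_eq_left.mpr Subgroup.le_normalizer]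
    exact (isSylIn_top P).of_le Subgroup.le_normalizer le_top
  exact ⟨P, (inf_idem _).symm, h, h, Or.inl rfl⟩

/-- Sylow subgroups of `N(U)` meeting in `U` extend to a tame intersection. -/
theorem tame_of_inf_eq (P Q : Sylow p G) {U S'' : Subgroup G} (hUP : U ≤ (P : Subgroup G))
    (hS'' : IsSylIn p S'' (Subgroup.normalizer (U : Set G)))
    (hint : ((P : Subgroup G) ⊓ Subgroup.normalizer (U : Set G)) ⊓ S'' = U)
    (hQ : S'' ≤ (Q : Subgroup G)) :
    (P : Subgroup G) ⊓ (Q : Subgroup G) = U ∧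
      (Q : Subgroup G) ⊓ Subgroup.normalizer (U : Set G) = S'' := by
  have hQN : (Q : Subgroup G) ⊓ Subgroup.normalizer (U : Set G) = S'' :=
    hS''.eq_of_le (Q.isPGroup'.to_le inf_le_left) inf_le_right (le_inf hQ hS''.le)
  refine ⟨?_, hQN⟩
  have hUPQ : U ≤ (P : Subgroup G) ⊓ (Q : Subgroup G) := by
    refine le_inf hUP (le_trans ?_ hQ)
    rw [← hint]
    exact inf_le_right
  by_contra hne
  have hlt := IsSylIn.normalizer_growth (p := p) (P.isPGroup'.to_le inf_le_left) hUPQ
    (fun h => hne h.symm)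
  have hle : ((P : Subgroup G) ⊓ (Q : Subgroup G)) ⊓ Subgroup.normalizer (U : Set G) ≤ U := by
    have : ((P : Subgroup G) ⊓ (Q : Subgroup G)) ⊓ Subgroup.normalizer (U : Set G) ≤
        ((P : Subgroup G) ⊓ Subgroup.normalizer (U : Set G)) ⊓
          ((Q : Subgroup G) ⊓ Subgroup.normalizer (U : Set G)) :=
      le_inf (le_inf (inf_le_left.trans inf_le_left) inf_le_right)
        (le_inf (inf_le_left.trans inf_le_right) inf_le_right)
    rw [hQN, hint] at this
    exact this
  exact absurd (lt_of_lt_of_le hlt hle) (lt_irrefl _)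

/-- The inductive step of Alperin's theorem for tame intersections with `p`-element factors. -/
theorem tame_step (P : Sylow p G) {U : Subgroup G} (hUP : U ≤ (P : Subgroup G))
    (hUne : U ≠ (P : Subgroup G))
    (hsyl : IsSylIn p ((P : Subgroup G) ⊓ Subgroup.normalizer (U : Set G))
      (Subgroup.normalizer (U : Set G)))
    (ih : ∀ B : Subgroup G, B ≤ (P : Subgroup G) → Nat.card U < Nat.card B → ∀ g : G,
      MulAut.conj g⁻¹ • B ≤ (P : Subgroup G) → ReachP (TameP p P) (B : Set G) g)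
    (m : G) (hm : m ∈ Subgroup.normalizer (U : Set G)) : ReachP (TameP p P) (U : Set G) m := by
  have hU_lt : U < (P : Subgroup G) ⊓ Subgroup.normalizer (U : Set G) :=
    IsSylIn.normalizer_growth P.isPGroup' hUP hUne
  have hcard := card_lt_of_lt hU_lt
  have hUp : IsPGroup p U := P.isPGroup'.to_le hUP
  -- elements normalizing S₀
  have hβ : ∀ z : G, z ∈ Subgroup.normalizer
      ((((P : Subgroup G) ⊓ Subgroup.normalizer (U : Set G) : Subgroup G)) : Set G) →
      ReachP (TameP p P) (U : Set G) z := by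
    intro z hzS
    have h1 : MulAut.conj z⁻¹ • ((P : Subgroup G) ⊓ Subgroup.normalizer (U : Set G)) ≤
        (P : Subgroup G) := by
      rw [smul_eq_of_mem_normalizer (inv_mem hzS)]; exact inf_le_left
    exact (ih _ inf_le_left hcard z h1).mono hU_lt.le
  have hP : ∀ s ∈ (P : Subgroup G), ReachP (TameP p P) (U : Set G) s := fun s hs =>
    ReachP.single (tameP_top P s) (Subgroup.le_normalizer hs) hUP
  have hmul : ∀ a b : G, a ∈ Subgroup.normalizer (U : Set G) → ReachP (TameP p P) (U : Set G) a →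
      ReachP (TameP p P) (U : Set G) b → ReachP (TameP p P) (U : Set G) (a * b) := by
    intro a b ha h1 h2
    apply h1.trans
    rw [rc_normalizer ha]
    exact h2
  have hinv : ∀ a : G, a ∈ Subgroup.normalizer (U : Set G) → ReachP (TameP p P) (U : Set G) a →
      ReachP (TameP p P) (U : Set G) a⁻¹ := by
    intro a ha h1
    have := h1.symm (tameP_inv P)
    rwa [rc_normalizer ha] at this
  -- p-elements
  have hα : ∀ w : G, w ∈ Subgroup.normalizer (U : Set G) → IsPElem p w →
      ReachP (TameP p P) (U : Set G) w := by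
    intro w hw hwp
    obtain ⟨S'', hS'', hwS⟩ := exists_isSylIn_mem hw hwp
    by_cases hint : ((P : Subgroup G) ⊓ Subgroup.normalizer (U : Set G)) ⊓ S'' = U
    · obtain ⟨Q, hQ⟩ := hS''.isPGroup.exists_le_sylow
      obtain ⟨hPQ, hQN⟩ := tame_of_inf_eq P Q hUP hS'' hint hQ
      exact ReachP.single (T := U) ⟨Q, hPQ.symm, hsyl, by rw [hQN]; exact hS'', Or.inr hwp⟩ hw
        subset_rfl
    · have hU_le : U ≤ ((P : Subgroup G) ⊓ Subgroup.normalizer (U : Set G)) ⊓ S'' :=
        le_inf hU_lt.le (hS''.normal_le hUp Subgroup.le_normalizer le_rfl)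
      have hlt : U < ((P : Subgroup G) ⊓ Subgroup.normalizer (U : Set G)) ⊓ S'' :=
        lt_of_le_of_ne hU_le (Ne.symm hint)
      obtain ⟨k, hk, hkS⟩ := hsyl.exists_conj_eq hS''
      have hB : ReachP (TameP p P)
          ((((P : Subgroup G) ⊓ Subgroup.normalizer (U : Set G)) ⊓ S'' : Subgroup G) : Set G) k⁻¹ := by
        apply ih _ (inf_le_left.trans inf_le_left) (card_lt_of_lt hlt) k⁻¹
        rw [inv_inv]
        exact (conj_smul_le_conj_smul inf_le_right).trans (hkS.le.trans inf_le_left)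
      have hk1 : ReachP (TameP p P) (U : Set G) k⁻¹ := hB.mono hlt.le
      have hk2 : ReachP (TameP p P) (U : Set G) k := by
        simpa using hinv k⁻¹ (inv_mem hk) hk1
      have hs : k * w * k⁻¹ ∈ (P : Subgroup G) ⊓ Subgroup.normalizer (U : Set G) := by
        rw [← hkS]; exact conj_mem_conj_smul hwS
      have hweq : w = k⁻¹ * (k * w * k⁻¹) * k := by group
      rw [hweq]
      exact hmul _ _ (mul_mem (inv_mem hk) (hsyl.le hs))
        (hmul _ _ (inv_mem hk) hk1 (hP _ (Subgroup.mem_inf.mp hs).1)) hk2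
  -- Frattini
  have hMN : Subgroup.closure {w : G | w ∈ Subgroup.normalizer (U : Set G) ∧ IsPElem p w} ≤
      Subgroup.normalizer (U : Set G) := (Subgroup.closure_le _).mpr (fun w hw => hw.1)
  have hM : ∀ y ∈ Subgroup.closure {w : G | w ∈ Subgroup.normalizer (U : Set G) ∧ IsPElem p w},
      ReachP (TameP p P) (U : Set G) y := by
    intro y hy
    induction hy using Subgroup.closure_induction with
    | mem w hw => exact hα w hw.1 hw.2
    | one => exact ReachP.nil _ _
    | mul a b ha hb iha ihb => exact hmul a b (hMN ha) iha ihb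
    | inv a ha iha => exact hinv a (hMN ha) iha
  have hS₀M : (P : Subgroup G) ⊓ Subgroup.normalizer (U : Set G) ≤
      Subgroup.closure {w : G | w ∈ Subgroup.normalizer (U : Set G) ∧ IsPElem p w} :=
    fun s hs => Subgroup.subset_closure
      ⟨(Subgroup.mem_inf.mp hs).2, isPElem_of_mem P.isPGroup' (Subgroup.mem_inf.mp hs).1⟩
  have hmN : MulAut.conj m • Subgroup.normalizer (U : Set G) = Subgroup.normalizer (U : Set G) :=
    smul_eq_of_mem_normalizer (Subgroup.le_normalizer hm)
  have hsylm : IsSylIn p (MulAut.conj m • ((P : Subgroup G) ⊓ Subgroup.normalizer (U : Set G)))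
      (Subgroup.normalizer (U : Set G)) := by
    have := hsyl.conj m
    rwa [hmN] at this
  have hmS₀M : MulAut.conj m • ((P : Subgroup G) ⊓ Subgroup.normalizer (U : Set G)) ≤
      Subgroup.closure {w : G | w ∈ Subgroup.normalizer (U : Set G) ∧ IsPElem p w} :=
    fun s hs => Subgroup.subset_closure ⟨hsylm.le hs, isPElem_of_mem hsylm.isPGroup hs⟩
  have h1 := hsyl.of_le hS₀M hMN
  have h2 := hsylm.of_le hmS₀M hMN
  obtain ⟨y, hy, hyS⟩ := h1.exists_conj_eq h2
  have hz : y * m ∈ Subgroup.normalizer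
      ((((P : Subgroup G) ⊓ Subgroup.normalizer (U : Set G) : Subgroup G)) : Set G) :=
    mem_normalizer_iff_smul_eq.mpr (by rw [conj_mul_smul]; exact hyS)
  have hmeq : m = y⁻¹ * (y * m) := by group
  rw [hmeq]
  exact hmul _ _ (inv_mem (hMN hy)) (hinv y (hMN hy) (hM y hy)) (hβ _ hz)

/-- Alperin's fusion theorem for tame intersections, with `p`-element factors. -/
theorem reachP_tame (P : Sylow p G) (A : Subgroup G) (hA : A ≤ (P : Subgroup G)) (g : G)
    (hg : MulAut.conj g⁻¹ • A ≤ (P : Subgroup G)) : ReachP (TameP p P) (A : Set G) g := by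
  apply reach_abstract P (ReachP (TameP p P))
    (fun A B g hBA h => h.mono hBA) (fun A g h h1 h2 => h1.trans h2)
    (fun A g h => h.symm (tameP_inv P))
    (fun g hg => ReachP.single (tameP_top P g) hg subset_rfl) ?_ A hA g hg
  intro T hT
  obtain ⟨h, -, hUP, hfn⟩ := exists_conj_fully_normalized P hT.le
  refine ⟨MulAut.conj h • T, ⟨h, rfl⟩, hUP, hfn, ?_⟩
  intro ih m hm
  have hUne : MulAut.conj h • T ≠ (P : Subgroup G) := by
    intro hcontra
    have := congrArg (fun H : Subgroup G => Nat.card H) hcontra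
    simp only [card_conj_smul] at this
    exact absurd this (card_lt_of_lt hT).ne
  apply tame_step P hUP hUne hfn _ m hm
  intro B hB hcard g' hg'
  apply ih B hB _ g' hg'
  rwa [card_conj_smul] at hcard

end Cfsg.Agent.Helper33
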