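import Mathlib
import Cfsg.Agent.Lib.Helper33.TameStep
import Cfsg.Agent.Lib.Helper33.FamilyControl

set_option autoImplicit false

namespace Cfsg.Agent.Helper33

open Pointwise

variable {G : Type*} [Group G]

/-- `p`-centric: every `p`-element centralizing `H` lies in `H` -/
def PCen (p : ℕ) (H : Subgroup G) : Prop :=
  ∀ x ∈ Subgroup.centralizer (H : Set G), IsPElem p x → x ∈ H

theorem PCen.mono {p : ℕ} {H K : Subgroup G} (h : PCen p H) (hHK : H ≤ K) : PCen p K :=
  fun x hx hxp => hHK (h x (Subgroup.centralizer_le (by exact_mod_cast hHK) hx) hxp)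

theorem isPElem_conj {p : ℕ} {x : G} (g : G) (h : IsPElem p x) : IsPElem p (g * x * g⁻¹) := by
  obtain ⟨k, hk⟩ := h
  refine ⟨k, ?_⟩
  rw [← hk]
  have : g * x * g⁻¹ = MulAut.conj g x := by simp
  rw [this]
  exact orderOf_injective (MulAut.conj g).toMonoidHom (MulAut.conj g).injective x

theorem PCen.conj {p : ℕ} {H : Subgroup G} (h : PCen p H) (g : G) : PCen p (MulAut.conj g • H) := by
  intro x hx hxp
  rw [centralizer_conj_smul] at hx
  rw [mem_conj_smul] at hx ⊢
  have := isPElem_conj g⁻¹ hxp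
  rw [inv_inv] at this
  exact h _ hx this

theorem PCen.center_le {p : ℕ} [Fact p.Prime] {H R : Subgroup G} (h : PCen p H) (hHR : H ≤ R)
    (hR : IsPGroup p R) :
    R ⊓ Subgroup.centralizer (R : Set G) ≤ H ⊓ Subgroup.centralizer (H : Set G) := by
  intro x hx
  have hxH : x ∈ Subgroup.centralizer (H : Set G) :=
    Subgroup.centralizer_le (by exact_mod_cast hHR) (Subgroup.mem_inf.mp hx).2
  exact Subgroup.mem_inf.mpr ⟨h x hxH (isPElem_of_mem hR (Subgroup.mem_inf.mp hx).1), hxH⟩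

/-- conjugation chains up to agreement on the conjugated set -/
def ReachA (𝓕 : Set (Subgroup G)) (A : Set G) (g : G) : Prop :=
  ∃ g' : G, (∀ a ∈ A, g'⁻¹ * a * g' = g⁻¹ * a * g) ∧ Reach 𝓕 A g'

theorem ReachA.mono {𝓕 : Set (Subgroup G)} {A B : Set G} {g : G} (hBA : B ⊆ A)
    (h : ReachA 𝓕 A g) : ReachA 𝓕 B g := by
  obtain ⟨g', h1, h2⟩ := h
  exact ⟨g', fun a ha => h1 a (hBA ha), h2.mono hBA⟩

theorem ReachA.trans {𝓕 : Set (Subgroup G)} {A : Set G} {g h : G} (h1 : ReachA 𝓕 A g)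
    (h2 : ReachA 𝓕 (rc g A) h) : ReachA 𝓕 A (g * h) := by
  obtain ⟨g', hg1, hg2⟩ := h1
  obtain ⟨h', hh1, hh2⟩ := h2
  have hrc : rc g' A = rc g A := rc_congr hg1
  refine ⟨g' * h', ?_, hg2.trans (by rw [hrc]; exact hh2)⟩
  intro a ha
  have e1 := hg1 a ha
  have e2 := hh1 (g⁻¹ * a * g) ⟨a, ha, rfl⟩
  calc (g' * h')⁻¹ * a * (g' * h') = h'⁻¹ * (g'⁻¹ * a * g') * h' := by group
    _ = h'⁻¹ * (g⁻¹ * a * g) * h' := by rw [e1]
    _ = h⁻¹ * (g⁻¹ * a * g) * h := e2
    _ = (g * h)⁻¹ * a * (g * h) := by group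

theorem ReachA.symm {𝓕 : Set (Subgroup G)} {A : Set G} {g : G} (h : ReachA 𝓕 A g) :
    ReachA 𝓕 (rc g A) g⁻¹ := by
  obtain ⟨g', hg1, hg2⟩ := h
  have hrc : rc g' A = rc g A := rc_congr hg1
  refine ⟨g'⁻¹, ?_, by rw [← hrc]; exact hg2.symm⟩
  rintro _ ⟨a, ha, rfl⟩
  have e1 := hg1 a ha
  calc g'⁻¹⁻¹ * (g⁻¹ * a * g) * g'⁻¹ = g' * (g'⁻¹ * a * g') * g'⁻¹ := by rw [e1, inv_inv]
    _ = g⁻¹⁻¹ * (g⁻¹ * a * g) * g⁻¹ := by group

theorem ReachA.of_agree {𝓕 : Set (Subgroup G)} {A : Set G} {g g₁ : G} (h : ReachA 𝓕 A g)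
    (hg : ∀ a ∈ A, g₁⁻¹ * a * g₁ = g⁻¹ * a * g) : ReachA 𝓕 A g₁ := by
  obtain ⟨g', hg1, hg2⟩ := h
  exact ⟨g', fun a ha => (hg1 a ha).trans (hg a ha).symm, hg2⟩

theorem ReachA.bind {𝓕 : Set (Subgroup G)} {Q' : G → Prop} {S' : Set G} {A : Set G}
    (hstep : ∀ T ∈ 𝓕, ∀ x ∈ Subgroup.normalizer (T : Set G), ∀ y : G, rc y A ⊆ T →
      Good Q' S' (rc y A) x)
    {g : G} (h : ReachA 𝓕 A g) : Good Q' S' A g := by
  obtain ⟨g', hg1, hg2⟩ := h
  exact (Reach.bind hstep hg2).of_agree (fun a ha => (hg1 a ha).symm)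

section fin

variable [Finite G] {p : ℕ} [Fact p.Prime]

theorem pCen_sylow (P : Sylow p G) : PCen p (P : Subgroup G) := by
  intro x hx hxp
  have hz : IsPGroup p (Subgroup.zpowers x) := isPGroup_zpowers_of_isPElem hxp
  have hle : Subgroup.zpowers x ≤ Subgroup.normalizer ((P : Subgroup G) : Set G) := by
    rw [Subgroup.zpowers_le]
    rw [Subgroup.mem_normalizer_iff]
    intro y
    have hcomm : ∀ y ∈ (P : Subgroup G), x * y * x⁻¹ = y := by
      intro y hy
      have := hx y hy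
      rw [← this]; group
    constructor
    · intro hy; rw [hcomm y hy]; exact hy
    · intro hy
      have h2 := hcomm _ hy
      have h3 : y = x⁻¹ * (x * y * x⁻¹) * x := by group
      have h4 : x⁻¹ * (x * y * x⁻¹) * x = x * y * x⁻¹ := by
        have := hx _ hy
        calc x⁻¹ * (x * y * x⁻¹) * x = x⁻¹ * ((x * y * x⁻¹) * x) := by group
          _ = x⁻¹ * (x * (x * y * x⁻¹)) := by rw [this]
          _ = x * y * x⁻¹ := by group
      rw [h3, h4]; exact hy
  have hsup : IsPGroup p ((Subgroup.zpowers x ⊔ (P : Subgroup G) : Subgroup G)) :=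
    IsPGroup.to_sup_of_normal_right' hz P.isPGroup' hle
  have := P.is_maximal' hsup le_sup_right
  have hx' : x ∈ (Subgroup.zpowers x ⊔ (P : Subgroup G) : Subgroup G) :=
    (le_sup_left : Subgroup.zpowers x ≤ _) (Subgroup.mem_zpowers x)
  rw [this] at hx'
  exact hx'

theorem not_pCen_bot (P : Sylow p G) (hP : (P : Subgroup G) ≠ ⊥) : ¬ PCen p (⊥ : Subgroup G) := by
  intro h
  apply hP
  rw [eq_bot_iff]
  intro x hx
  apply h x _ (isPElem_of_mem P.isPGroup' hx)
  rw [Subgroup.mem_centralizer_iff]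
  intro y hy
  have : y = 1 := by simpa using hy
  rw [this]; simp

/-- the family of fully normalized `p`-centric subgroups of `P` -/
def centricFN (P : Sylow p G) : Set (Subgroup G) := {T | T ∈ fullyNormalized P ∧ PCen p T}

/-- The Alperin–Goldschmidt fusion theorem: conjugations in `P` are, up to centralizers, chains
through fully normalized `p`-centric subgroups. -/
theorem reachA_centric (P : Sylow p G) (A : Subgroup G) (hA : A ≤ (P : Subgroup G)) (g : G)
    (hg : MulAut.conj g⁻¹ • A ≤ (P : Subgroup G)) : ReachA (centricFN P) (A : Set G) g := by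
  apply reach_abstract P (ReachA (centricFN P))
    (fun A B g hBA h => h.mono hBA) (fun A g h h1 h2 => h1.trans h2)
    (fun A g h => h.symm)
    (fun g hg => ⟨g, fun _ _ => rfl, Reach.single
      ⟨⟨le_rfl, by
        rw [inf_eq_left.mpr Subgroup.le_normalizer]
        exact (isSylIn_top P).of_le Subgroup.le_normalizer le_top⟩, pCen_sylow P⟩ hg subset_rfl⟩)
    ?_ A hA g hg
  intro T hT
  obtain ⟨h, -, hUP, hfn⟩ := exists_conj_fully_normalized P hT.le
  refine ⟨MulAut.conj h • T, ⟨h, rfl⟩, hUP, hfn, ?_⟩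
  intro ih m hm
  set U := MulAut.conj h • T with hU
  have hcardU : Nat.card U = Nat.card T := card_conj_smul h T
  by_cases hcen : PCen p U
  · exact ⟨m, fun _ _ => rfl, Reach.single ⟨⟨hUP, hfn⟩, hcen⟩ hm subset_rfl⟩
  · unfold PCen at hcen
    push Not at hcen
    obtain ⟨x, hxC, hxp, hxU⟩ := hcen
    have hCN : Subgroup.centralizer (U : Set G) ≤ Subgroup.normalizer (U : Set G) := by
      intro c hc
      rw [Subgroup.mem_normalizer_iff]
      intro y
      have hcomm : ∀ y ∈ U, c * y * c⁻¹ = y := by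
        intro y hy
        have := hc y hy
        rw [← this]; group
      constructor
      · intro hy; rw [hcomm y hy]; exact hy
      · intro hy
        have h3 : y = c⁻¹ * (c * y * c⁻¹) * c := by group
        have h4 : c⁻¹ * (c * y * c⁻¹) * c = c * y * c⁻¹ := by
          have := hc _ hy
          calc c⁻¹ * (c * y * c⁻¹) * c = c⁻¹ * ((c * y * c⁻¹) * c) := by group
            _ = c⁻¹ * (c * (c * y * c⁻¹)) := by rw [this]
            _ = c * y * c⁻¹ := by group
        rw [h3, h4]; exact hy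
    have hNC : Subgroup.normalizer (U : Set G) ≤
        Subgroup.normalizer ((Subgroup.centralizer (U : Set G) : Subgroup G) : Set G) := by
      intro n hn
      rw [mem_normalizer_iff_smul_eq, ← centralizer_conj_smul, smul_eq_of_mem_normalizer hn]
    have hD := hfn.inf_normal hCN hNC
    set D := ((P : Subgroup G) ⊓ Subgroup.normalizer (U : Set G)) ⊓
      Subgroup.centralizer (U : Set G) with hDdef
    have hDU : ¬ D ≤ U := by
      intro hle
      obtain ⟨c, hc, hcle⟩ := hD.exists_conj_le (isPGroup_zpowers_of_isPElem hxp)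
        ((Subgroup.zpowers_le).mpr hxC)
      have h1 : c * x * c⁻¹ ∈ U := hle (hcle (conj_mem_conj_smul (Subgroup.mem_zpowers x)))
      have h2 : c⁻¹ * (c * x * c⁻¹) * c⁻¹⁻¹ ∈ MulAut.conj c⁻¹ • U := conj_mem_conj_smul h1
      rw [smul_eq_of_mem_normalizer (inv_mem (hCN hc))] at h2
      apply hxU
      have h3 : c⁻¹ * (c * x * c⁻¹) * c⁻¹⁻¹ = x := by group
      rwa [h3] at h2
    have hDP : D ≤ (P : Subgroup G) := inf_le_left.trans inf_le_left
    have hBP : U ⊔ D ≤ (P : Subgroup G) := sup_le hUP hDP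
    have hUB : U < U ⊔ D := by
      refine lt_of_le_of_ne le_sup_left ?_
      intro heq
      apply hDU
      rw [heq]
      exact le_sup_right
    -- Frattini
    have hmC : MulAut.conj m • Subgroup.centralizer (U : Set G) = Subgroup.centralizer (U : Set G) :=
      smul_eq_of_mem_normalizer (hNC hm)
    have hDm : IsSylIn p (MulAut.conj m • D) (Subgroup.centralizer (U : Set G)) := by
      have := hD.conj m
      rwa [hmC] at this
    obtain ⟨c, hc, hcD⟩ := hD.exists_conj_eq hDm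
    have hzU : MulAut.conj (c * m) • U = U := by
      rw [conj_mul_smul, smul_eq_of_mem_normalizer hm, smul_eq_of_mem_normalizer (hCN hc)]
    have hzD : MulAut.conj (c * m) • D = D := by
      rw [conj_mul_smul]; exact hcD
    have hzB : MulAut.conj (c * m) • (U ⊔ D) = U ⊔ D := by
      rw [Subgroup.smul_sup, hzU, hzD]
    have hzB' : MulAut.conj (c * m)⁻¹ • (U ⊔ D) ≤ (P : Subgroup G) := by
      have : MulAut.conj (c * m)⁻¹ • (U ⊔ D) = U ⊔ D := by
        conv_lhs => rw [← hzB]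
        exact conj_inv_smul_smul _ _
      rw [this]; exact hBP
    have hR := ih (U ⊔ D) hBP (by rw [← hcardU]; exact card_lt_of_lt hUB) (c * m) hzB'
    have hR' : ReachA (centricFN P) (U : Set G) (c * m) := hR.mono hUB.le
    apply hR'.of_agree
    intro a ha
    have hca : c⁻¹ * a * c = a := by
      have := hc a ha
      calc c⁻¹ * a * c = c⁻¹ * (a * c) := by group
        _ = c⁻¹ * (c * a) := by rw [this]
        _ = a := by group
    calc m⁻¹ * a * m = m⁻¹ * (c⁻¹ * a * c) * m := by rw [hca]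
      _ = (c * m)⁻¹ * a * (c * m) := by group

end fin

end Cfsg.Agent.Helper33
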