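import Mathlib
import Cfsg.Prelude.Def_Local
import Cfsg.Agent.Lib.Helper33.CentricFusion
import Cfsg.Agent.Lib.Helper33.Centric

set_option autoImplicit false

namespace Cfsg.Agent.Helper33

open Pointwise Cfsg

section abstractX

variable {X : Type*} [Group X]

theorem pPrimeCore_le_pPrimePCore' (p : ℕ) : pPrimeCore p X ≤ pPrimePCore p X := by
  have := pPrimeCore_normal (G := X) p
  intro x hx
  show (QuotientGroup.mk' (pPrimeCore p X)) x ∈ pCore p (X ⧸ pPrimeCore p X)
  have : (QuotientGroup.mk' (pPrimeCore p X)) x = 1 := by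
    rw [QuotientGroup.mk'_apply, QuotientGroup.eq_one_iff]; exact hx
  rw [this]; exact one_mem _

theorem pPrimePCore_normal' (p : ℕ) : (pPrimePCore p X).Normal := by
  have := pPrimeCore_normal (G := X) p
  have := pCore_normal (G := X ⧸ pPrimeCore p X) p
  unfold pPrimePCore
  infer_instance

theorem normal_pgroup_le_pPrimePCore {p : ℕ} (U : Subgroup X) [hU : U.Normal] (hUp : IsPGroup p U) :
    U ≤ pPrimePCore p X := by
  have := pPrimeCore_normal (G := X) p
  intro x hx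
  show (QuotientGroup.mk' (pPrimeCore p X)) x ∈ pCore p (X ⧸ pPrimeCore p X)
  have h1 : U.map (QuotientGroup.mk' (pPrimeCore p X)) ≤ pCore p (X ⧸ pPrimeCore p X) :=
    le_sSup ⟨hU.map _ (QuotientGroup.mk'_surjective _), hUp.map _⟩
  exact h1 ⟨x, hx, rfl⟩

theorem relIndex_pPrimeCore_pPrimePCore [Finite X] {p : ℕ} [Fact p.Prime] :
    ∃ k : ℕ, (pPrimeCore p X).relIndex (pPrimePCore p X) = p ^ k := by
  have := pPrimeCore_normal (G := X) p
  have h1 : pPrimeCore p X = (⊥ : Subgroup (X ⧸ pPrimeCore p X)).comap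
      (QuotientGroup.mk' (pPrimeCore p X)) := by
    rw [MonoidHom.comap_bot, QuotientGroup.ker_mk']
  have hpc : IsPGroup p (pCore p (X ⧸ pPrimeCore p X)) := by
    have hsyl : ∀ S : Sylow p (X ⧸ pPrimeCore p X), pCore p (X ⧸ pPrimeCore p X) ≤ S :=
      fun S => pCore_le_sylow S
    obtain ⟨S⟩ : Nonempty (Sylow p (X ⧸ pPrimeCore p X)) := inferInstance
    exact S.isPGroup'.to_le (hsyl S)
  have h2 : (pPrimeCore p X).relIndex (pPrimePCore p X) =
      Nat.card (pCore p (X ⧸ pPrimeCore p X)) := by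
    conv_lhs => rw [h1]
    rw [Subgroup.relIndex_comap, Subgroup.relIndex_bot_left]
    unfold pPrimePCore
    rw [Subgroup.map_comap_eq_self_of_surjective (QuotientGroup.mk'_surjective _)]
  rw [h2]
  exact (IsPGroup.iff_card.mp hpc)

end abstractX

variable {G : Type*} [Group G]

/-- `O_{p'}(N)` inside `G` -/
def Omap (p : ℕ) (N : Subgroup G) : Subgroup G := (pPrimeCore p ↥N).map N.subtype

/-- `O_{p',p}(N)` inside `G` -/
def Lmap (p : ℕ) (N : Subgroup G) : Subgroup G := (pPrimePCore p ↥N).map N.subtype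

theorem Omap_le_Lmap (p : ℕ) (N : Subgroup G) : Omap p N ≤ Lmap p N :=
  Subgroup.map_mono (pPrimeCore_le_pPrimePCore' p)

theorem Lmap_le (p : ℕ) (N : Subgroup G) : Lmap p N ≤ N := Subgroup.map_subtype_le _

theorem le_normalizer_map_subtype {N : Subgroup G} (K : Subgroup ↥N) [hK : K.Normal] :
    N ≤ Subgroup.normalizer ((K.map N.subtype : Subgroup G) : Set G) := by
  intro n hn
  rw [Subgroup.mem_normalizer_iff]
  intro h
  constructor
  · rintro ⟨k, hk, rfl⟩
    exact ⟨⟨n, hn⟩ * k * ⟨n, hn⟩⁻¹, hK.conj_mem k hk _, by simp⟩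
  · rintro ⟨k, hk, hkeq⟩
    have := hK.conj_mem k hk ⟨n, hn⟩⁻¹
    refine ⟨⟨n, hn⟩⁻¹ * k * ⟨n, hn⟩⁻¹⁻¹, this, ?_⟩
    simp only [Subgroup.coe_subtype, Subgroup.coe_mul, Subgroup.coe_inv, inv_inv] at hkeq ⊢
    rw [hkeq]; group

theorem le_normalizer_Omap (p : ℕ) (N : Subgroup G) :
    N ≤ Subgroup.normalizer ((Omap p N : Subgroup G) : Set G) := by
  have := pPrimeCore_normal (G := ↥N) p
  exact le_normalizer_map_subtype _

theorem le_normalizer_Lmap (p : ℕ) (N : Subgroup G) :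
    N ≤ Subgroup.normalizer ((Lmap p N : Subgroup G) : Set G) := by
  have := pPrimePCore_normal' (X := ↥N) p
  exact le_normalizer_map_subtype _

section fin

variable [Finite G] {p : ℕ} [Fact p.Prime]

theorem card_Omap_coprime (N : Subgroup G) : (Nat.card (Omap p N)).Coprime p := by
  unfold Omap
  rw [Subgroup.card_map_of_injective (Subgroup.subtype_injective _)]
  exact card_pPrimeCore_coprime' p

theorem le_Lmap_of_normal {N U : Subgroup G} (hUN : U ≤ N)
    (hn : N ≤ Subgroup.normalizer (U : Set G)) (hUp : IsPGroup p U) : U ≤ Lmap p N := by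
  have : (U.subgroupOf N).Normal := (Subgroup.normal_subgroupOf_iff_le_normalizer hUN).mpr hn
  have h1 := normal_pgroup_le_pPrimePCore (U.subgroupOf N) (hUp.comap_subtype)
  intro u hu
  exact ⟨⟨u, hUN hu⟩, h1 (Subgroup.mem_subgroupOf.mpr hu), rfl⟩

theorem inf_eq_bot_of_coprime {K U : Subgroup G} (hK : (Nat.card K).Coprime p)
    (hU : IsPGroup p U) : K ⊓ U = ⊥ := by
  rw [eq_bot_iff]
  intro x hx
  obtain ⟨hxK, hxU⟩ := Subgroup.mem_inf.mp hx
  obtain ⟨k, hk⟩ := isPElem_of_mem hU hxU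
  have h1 : orderOf x ∣ Nat.card K := by
    have := orderOf_dvd_natCard (⟨x, hxK⟩ : K)
    rwa [Subgroup.orderOf_mk] at this
  have h2 : (orderOf x).Coprime p := Nat.Coprime.coprime_dvd_left h1 hK
  rw [hk] at h2
  have h3 : orderOf x = 1 := by
    rw [hk]
    rcases Nat.eq_zero_or_pos k with h0 | h0
    · rw [h0, pow_zero]
    · exfalso
      have hd : p ∣ p ^ k := dvd_pow_self p (Nat.pos_iff_ne_zero.mp h0)
      have := Nat.Coprime.coprime_dvd_left hd h2
      exact (Fact.out : p.Prime).ne_one (Nat.coprime_self p |>.mp this)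
  exact orderOf_eq_one_iff.mp h3

theorem Omap_le_centralizer {N U : Subgroup G} (hUN : U ≤ N)
    (hn : N ≤ Subgroup.normalizer (U : Set G)) (hUp : IsPGroup p U) :
    Omap p N ≤ Subgroup.centralizer (U : Set G) := by
  have hbot := inf_eq_bot_of_coprime (card_Omap_coprime (p := p) N) hUp
  have hON : Omap p N ≤ N := (Omap_le_Lmap p N).trans (Lmap_le p N)
  intro o ho u hu
  have h1 : o * u * o⁻¹ * u⁻¹ ∈ Omap p N ⊓ U := by
    refine Subgroup.mem_inf.mpr ⟨?_, ?_⟩
    · have := (Subgroup.mem_normalizer_iff.mp (le_normalizer_Omap p N (hUN hu)) o⁻¹).mp (inv_mem ho)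
      have e : o * u * o⁻¹ * u⁻¹ = o * (u * o⁻¹ * u⁻¹) := by group
      rw [e]; exact mul_mem ho this
    · have := (Subgroup.mem_normalizer_iff.mp (hn (hON ho)) u).mp hu
      exact mul_mem this (inv_mem hu)
  rw [hbot, Subgroup.mem_bot] at h1
  calc u * o = (o * u * o⁻¹ * u⁻¹)⁻¹ * (o * u) := by group
    _ = o * u := by rw [h1]; simp

theorem Lmap_le_sup {N S' : Subgroup G} (hS' : IsSylIn p S' (Lmap p N)) :
    Lmap p N ≤ S' ⊔ Omap p N := by
  have hle1 : S' ⊔ Omap p N ≤ Lmap p N := sup_le hS'.le (Omap_le_Lmap p N)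
  obtain ⟨k, hk⟩ := relIndex_pPrimeCore_pPrimePCore (X := ↥N) (p := p)
  have h1 : (Omap p N).relIndex (Lmap p N) = p ^ k := by
    unfold Omap Lmap
    rw [Subgroup.relIndex_map_map_of_injective _ _ (Subgroup.subtype_injective _), hk]
  have h2 : (S' ⊔ Omap p N).relIndex (Lmap p N) ∣ p ^ k := by
    rw [← h1]; exact Subgroup.relIndex_dvd_of_le_left _ le_sup_right
  have h3 : (S' ⊔ Omap p N).relIndex (Lmap p N) ∣ S'.relIndex (Lmap p N) :=
    Subgroup.relIndex_dvd_of_le_left _ le_sup_left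
  obtain ⟨j, -, hj⟩ := (Nat.dvd_prime_pow (Fact.out : p.Prime)).mp h2
  have hj0 : j = 0 := by
    by_contra hne
    apply hS'.not_dvd
    refine dvd_trans ?_ h3
    rw [hj]
    exact dvd_pow_self p hne
  rw [hj0, pow_zero] at hj
  exact Subgroup.relIndex_eq_one.mp hj

end fin

end Cfsg.Agent.Helper33
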