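import Mathlib
import Cfsg.Prelude.Def_Local
import Cfsg.Agent.Lib.Helper33.RadFusion

set_option autoImplicit false

namespace Cfsg.Agent.Helper33

open Pointwise Cfsg

variable {G : Type*} [Group G] [Finite G] {p : ℕ} [Fact p.Prime]

/-- fully normalized, `p`-centric subgroups `T` of `P` that are Sylow in `O_{p',p}(N_G(T))` -/
def centricRad (P : Sylow p G) : Set (Subgroup G) :=
  {T | T ∈ fullyNormalized P ∧ PCen p T ∧
    (P : Subgroup G) ⊓ Lmap p (Subgroup.normalizer (T : Set G)) ≤ T}

theorem sylow_mem_centricRad (P : Sylow p G) : (P : Subgroup G) ∈ centricRad P :=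
  ⟨⟨le_rfl, by
    rw [inf_eq_left.mpr Subgroup.le_normalizer]
    exact (isSylIn_top P).of_le Subgroup.le_normalizer le_top⟩, pCen_sylow P, inf_le_left⟩

theorem centralizer_le_normalizer_sub (U : Subgroup G) :
    Subgroup.centralizer (U : Set G) ≤ Subgroup.normalizer (U : Set G) :=
  Subgroup.centralizer_le_normalizer _

theorem normalizer_le_normalizer_centralizer' (B : Subgroup G) :
    Subgroup.normalizer (B : Set G) ≤
      Subgroup.normalizer ((Subgroup.centralizer (B : Set G) : Subgroup G) : Set G) := by
  intro n hn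
  rw [mem_normalizer_iff_smul_eq, ← centralizer_conj_smul, smul_eq_of_mem_normalizer hn]

/-- Alperin–Goldschmidt with the radical condition. -/
theorem reachA_centricRad (P : Sylow p G) (A : Subgroup G) (hA : A ≤ (P : Subgroup G)) (g : G)
    (hg : MulAut.conj g⁻¹ • A ≤ (P : Subgroup G)) : ReachA (centricRad P) (A : Set G) g := by
  apply reach_abstract P (ReachA (centricRad P))
    (fun A B g hBA h => h.mono hBA) (fun A g h h1 h2 => h1.trans h2)
    (fun A g h => h.symm)
    (fun g hg => ⟨g, fun _ _ => rfl, Reach.single (sylow_mem_centricRad P) hg subset_rfl⟩)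
    ?_ A hA g hg
  intro T hT
  obtain ⟨h, -, hUP, hfn⟩ := exists_conj_fully_normalized P hT.le
  refine ⟨MulAut.conj h • T, ⟨h, rfl⟩, hUP, hfn, ?_⟩
  intro ih m hm
  set U := MulAut.conj h • T with hU
  have hcardU : Nat.card U = Nat.card T := card_conj_smul h T
  have hUp : IsPGroup p U := P.isPGroup'.to_le hUP
  have hCN := centralizer_le_normalizer_sub U
  have hNC := normalizer_le_normalizer_centralizer' U
  by_cases hcen : PCen p U
  · by_cases hrad : (P : Subgroup G) ⊓ Lmap p (Subgroup.normalizer (U : Set G)) ≤ U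
    · exact ⟨m, fun _ _ => rfl, Reach.single ⟨⟨hUP, hfn⟩, hcen, hrad⟩ hm subset_rfl⟩
    · -- not radical
      have hLN := Lmap_le p (Subgroup.normalizer (U : Set G))
      have hNL := le_normalizer_Lmap p (Subgroup.normalizer (U : Set G))
      have hS' := hfn.inf_normal hLN hNL
      have hS'eq : ((P : Subgroup G) ⊓ Subgroup.normalizer (U : Set G)) ⊓
          Lmap p (Subgroup.normalizer (U : Set G)) =
          (P : Subgroup G) ⊓ Lmap p (Subgroup.normalizer (U : Set G)) := by
        rw [inf_assoc, inf_eq_right.mpr hLN]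
      rw [hS'eq] at hS'
      set S' := (P : Subgroup G) ⊓ Lmap p (Subgroup.normalizer (U : Set G)) with hS'def
      have hUL : U ≤ Lmap p (Subgroup.normalizer (U : Set G)) :=
        le_Lmap_of_normal Subgroup.le_normalizer le_rfl hUp
      have hUS' : U ≤ S' := le_inf hUP hUL
      have hUlt : U < S' := lt_of_le_of_ne hUS' (fun heq => hrad (heq ▸ le_rfl))
      have hS'P : S' ≤ (P : Subgroup G) := inf_le_left
      -- Frattini
      have hmL : MulAut.conj m • Lmap p (Subgroup.normalizer (U : Set G)) =
          Lmap p (Subgroup.normalizer (U : Set G)) := smul_eq_of_mem_normalizer (hNL hm)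
      have hS'm : IsSylIn p (MulAut.conj m • S') (Lmap p (Subgroup.normalizer (U : Set G))) := by
        have := hS'.conj m
        rwa [hmL] at this
      obtain ⟨l, hl, hlS⟩ := hS'.exists_conj_eq hS'm
      have hl' := Lmap_le_sup hS' hl
      have hS'O : S' ≤ Subgroup.normalizer
          ((Omap p (Subgroup.normalizer (U : Set G)) : Subgroup G) : Set G) :=
        (hS'.le.trans hLN).trans (le_normalizer_Omap p _)
      have hcoe := Subgroup.coe_mul_of_left_le_normalizer_right S'
        (Omap p (Subgroup.normalizer (U : Set G))) hS'O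
      have hl'' : l ∈ ((S' ⊔ Omap p (Subgroup.normalizer (U : Set G)) : Subgroup G) : Set G) := hl'
      rw [hcoe] at hl''
      obtain ⟨s, hs, o, ho, rfl⟩ := hl''
      have hoC : o ∈ Subgroup.centralizer (U : Set G) :=
        Omap_le_centralizer Subgroup.le_normalizer le_rfl hUp ho
      have hoN : o ∈ Subgroup.normalizer (U : Set G) := hCN hoC
      have hzS : MulAut.conj (o * m) • S' = S' := by
        have h1 : MulAut.conj (s * o * m) • S' = S' := by
          rw [conj_mul_smul]; exact hlS
        have h2 : s * o * m = s * (o * m) := by group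
        rw [h2, conj_mul_smul] at h1
        have h3 := congrArg (fun K : Subgroup G => MulAut.conj s⁻¹ • K) h1
        simp only [conj_inv_smul_smul] at h3
        rw [h3]
        exact conj_smul_eq_self_of_mem (inv_mem hs)
      have hzS' : MulAut.conj (o * m)⁻¹ • S' ≤ (P : Subgroup G) := by
        have : MulAut.conj (o * m)⁻¹ • S' = S' := by
          conv_lhs => rw [← hzS]
          exact conj_inv_smul_smul _ _
        rw [this]; exact hS'P
      have hR := ih S' hS'P (by rw [← hcardU]; exact card_lt_of_lt hUlt) (o * m) hzS'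
      have hR' : ReachA (centricRad P) (U : Set G) (o * m) := hR.mono hUlt.le
      apply hR'.of_agree
      intro a ha
      have hca : o⁻¹ * a * o = a := by
        have := hoC a ha
        calc o⁻¹ * a * o = o⁻¹ * (a * o) := by group
          _ = o⁻¹ * (o * a) := by rw [this]
          _ = a := by group
      calc m⁻¹ * a * m = m⁻¹ * (o⁻¹ * a * o) * m := by rw [hca]
        _ = (o * m)⁻¹ * a * (o * m) := by group
  · unfold PCen at hcen
    push Not at hcen
    obtain ⟨x, hxC, hxp, hxU⟩ := hcen
    have hD := hfn.inf_normal hCN hNC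
    set D := ((P : Subgroup G) ⊓ Subgroup.normalizer (U : Set G)) ⊓
      Subgroup.centralizer (U : Set G) with hDdef
    have hDU : ¬ D ≤ U := by
      intro hle
      obtain ⟨c, hc, hcle⟩ := hD.exists_conj_le (isPGroup_zpowers_of_isPElem hxp)
        ((Subgroup.zpowers_le).mpr hxC)
      have h1 : c * x * c⁻¹ ∈ U := hle (hcle (conj_mem_conj_smul (Subgroup.mem_zpowers x)))
      have h2 : c⁻¹ * (c * x * c⁻¹) * c⁻¹⁻¹ ∈ MulAut.conj c⁻¹ • U := conj_mem_conj_smul h1
      rw [smul_eq_of_mem_normalizer (inv_mem (hCN hc))] at h2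
      apply hxU
      have h3 : c⁻¹ * (c * x * c⁻¹) * c⁻¹⁻¹ = x := by group
      rwa [h3] at h2
    have hDP : D ≤ (P : Subgroup G) := inf_le_left.trans inf_le_left
    have hBP : U ⊔ D ≤ (P : Subgroup G) := sup_le hUP hDP
    have hUB : U < U ⊔ D := by
      refine lt_of_le_of_ne le_sup_left ?_
      intro heq
      apply hDU
      rw [heq]
      exact le_sup_right
    have hmC : MulAut.conj m • Subgroup.centralizer (U : Set G) = Subgroup.centralizer (U : Set G) :=
      smul_eq_of_mem_normalizer (hNC hm)
    have hDm : IsSylIn p (MulAut.conj m • D) (Subgroup.centralizer (U : Set G)) := by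
      have := hD.conj m
      rwa [hmC] at this
    obtain ⟨c, hc, hcD⟩ := hD.exists_conj_eq hDm
    have hzU : MulAut.conj (c * m) • U = U := by
      rw [conj_mul_smul, smul_eq_of_mem_normalizer hm, smul_eq_of_mem_normalizer (hCN hc)]
    have hzD : MulAut.conj (c * m) • D = D := by
      rw [conj_mul_smul]; exact hcD
    have hzB : MulAut.conj (c * m) • (U ⊔ D) = U ⊔ D := by
      rw [Subgroup.smul_sup, hzU, hzD]
    have hzB' : MulAut.conj (c * m)⁻¹ • (U ⊔ D) ≤ (P : Subgroup G) := by
      have : MulAut.conj (c * m)⁻¹ • (U ⊔ D) = U ⊔ D := by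
        conv_lhs => rw [← hzB]
        exact conj_inv_smul_smul _ _
      rw [this]; exact hBP
    have hR := ih (U ⊔ D) hBP (by rw [← hcardU]; exact card_lt_of_lt hUB) (c * m) hzB'
    have hR' : ReachA (centricRad P) (U : Set G) (c * m) := hR.mono hUB.le
    apply hR'.of_agree
    intro a ha
    have hca : c⁻¹ * a * c = a := by
      have := hc a ha
      calc c⁻¹ * a * c = c⁻¹ * (a * c) := by group
        _ = c⁻¹ * (c * a) := by rw [this]
        _ = a := by group
    calc m⁻¹ * a * m = m⁻¹ * (c⁻¹ * a * c) * m := by rw [hca]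
      _ = (c * m)⁻¹ * a * (c * m) := by group

end Cfsg.Agent.Helper33
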