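import Mathlib
import Cfsg.Prelude.Def_Local
import Cfsg.Prelude.Def_TwoFusion
import Cfsg.Agent.Lib.Helper33.RadFusion2

set_option autoImplicit false

namespace Cfsg.Agent.Helper33

open Pointwise Cfsg

variable {G : Type*} [Group G] [Finite G] {p : ℕ} [Fact p.Prime]

/-- In a direct product of a `p`-group `Z` and a `p'`-group `K`, the `p'`-elements lie in `K`. -/
theorem mem_of_coprime_of_directProduct {Z K C : Subgroup G}
    (h : IsInternalDirectProduct Z K C) (hZ : IsPGroup p Z) (hK : (Nat.card K).Coprime p)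
    {c : G} (hc : c ∈ C) (hco : (orderOf c).Coprime p) : c ∈ K := by
  obtain ⟨-, -, hcomm, -, hsup⟩ := h
  rw [← hsup] at hc
  obtain ⟨z, hz, k, hk, rfl⟩ := mem_sup_of_commute hcomm hc
  have hzk : Commute z k := hcomm z hz k hk
  have hkord : (orderOf k).Coprime p := by
    have h1 : orderOf k ∣ Nat.card K := by
      have := orderOf_dvd_natCard (⟨k, hk⟩ : K)
      rwa [Subgroup.orderOf_mk] at this
    exact Nat.Coprime.coprime_dvd_left h1 hK
  have hcomm2 : Commute (z * k) k⁻¹ := (hzk.mul_left (Commute.refl k)).inv_right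
  have hzeq : z = (z * k) * k⁻¹ := by group
  have hzord : orderOf z ∣ Nat.lcm (orderOf (z * k)) (orderOf k⁻¹) := by
    conv_lhs => rw [hzeq]
    exact hcomm2.orderOf_mul_dvd_lcm
  have hzco : (orderOf z).Coprime p := by
    apply Nat.Coprime.coprime_dvd_left hzord
    rw [orderOf_inv]
    exact Nat.Coprime.coprime_dvd_left (Nat.lcm_dvd_mul _ _) (Nat.Coprime.mul_left hco hkord)
  obtain ⟨j, hj⟩ := isPElem_of_mem hZ hz
  have hz1 : z = 1 := by
    rw [← orderOf_eq_one_iff, hj]
    rcases Nat.eq_zero_or_pos j with h0 | h0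
    · rw [h0, pow_zero]
    · exfalso
      rw [hj] at hzco
      have hd : p ∣ p ^ j := dvd_pow_self p (Nat.pos_iff_ne_zero.mp h0)
      have := Nat.Coprime.coprime_dvd_left hd hzco
      exact (Fact.out : p.Prime).ne_one (Nat.coprime_self p |>.mp this)
  rw [hz1, one_mul]
  exact hk

theorem centralizer_le_Lmap (P : Sylow p G) {T : Subgroup G} (hT : T ∈ centricRad P) :
    Subgroup.centralizer (T : Set G) ≤ Lmap p (Subgroup.normalizer (T : Set G)) := by
  obtain ⟨⟨hTP, hfn⟩, hcen, hrad⟩ := hT
  have hTp : IsPGroup p T := P.isPGroup'.to_le hTP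
  have hdp := centric_imp_directProduct P T hTP (by
    intro g hg x hx
    obtain ⟨hxP, hxC⟩ := Subgroup.mem_inf.mp hx
    exact (hcen.conj g) x hxC (isPElem_of_mem P.isPGroup' hxP))
  set C := Subgroup.centralizer (T : Set G) with hC
  set K := (pPrimeCore p ↥C).map C.subtype with hK
  have hKcop : (Nat.card K).Coprime p := by
    rw [hK, Subgroup.card_map_of_injective (Subgroup.subtype_injective _)]
    exact card_pPrimeCore_coprime' p
  have hZp : IsPGroup p (T ⊓ C : Subgroup G) := hTp.to_le inf_le_left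
  have hCN : C ≤ Subgroup.normalizer (T : Set G) := Subgroup.centralizer_le_normalizer _
  have hKC : K ≤ C := Subgroup.map_subtype_le _
  have hKN : K ≤ Subgroup.normalizer (T : Set G) := hKC.trans hCN
  have hNK : Subgroup.normalizer (T : Set G) ≤ Subgroup.normalizer (K : Set G) := by
    intro n hn
    rw [mem_normalizer_iff_smul_eq]
    apply Subgroup.eq_of_le_of_card_ge _ (by rw [card_conj_smul])
    rw [conj_smul_le_iff]
    intro k hk
    have h1 : n * k * n⁻¹ ∈ C := by
      have := normalizer_le_normalizer_centralizer' T hn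
      have h3 : n * k * n⁻¹ ∈ MulAut.conj n • C := conj_mem_conj_smul (hKC hk)
      rwa [smul_eq_of_mem_normalizer this] at h3
    have hkord : (orderOf k).Coprime p := by
      have h1 : orderOf k ∣ Nat.card K := by
        have := orderOf_dvd_natCard (⟨k, hk⟩ : K)
        rwa [Subgroup.orderOf_mk] at this
      exact Nat.Coprime.coprime_dvd_left h1 hKcop
    have h2 : (orderOf (n * k * n⁻¹)).Coprime p := by
      have h4 : n * k * n⁻¹ = (MulAut.conj n).toMonoidHom k := by simp
      rw [h4, orderOf_injective (MulAut.conj n).toMonoidHom (MulAut.conj n).injective k]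
      exact hkord
    exact mem_of_coprime_of_directProduct hdp hZp hKcop h1 h2
  have hKO : K ≤ Omap p (Subgroup.normalizer (T : Set G)) := by
    have hn : (K.subgroupOf (Subgroup.normalizer (T : Set G))).Normal :=
      (Subgroup.normal_subgroupOf_iff_le_normalizer hKN).mpr hNK
    have hcard : (Nat.card (K.subgroupOf (Subgroup.normalizer (T : Set G)))).Coprime p := by
      rw [Nat.card_congr (Subgroup.subgroupOfEquivOfLe hKN).toEquiv]
      exact hKcop
    have h1 := le_pPrimeCore' hn hcard
    intro k hk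
    exact ⟨⟨k, hKN hk⟩, h1 (Subgroup.mem_subgroupOf.mpr hk), rfl⟩
  have hTL : T ≤ Lmap p (Subgroup.normalizer (T : Set G)) :=
    le_Lmap_of_normal Subgroup.le_normalizer le_rfl hTp
  rw [← hdp.2.2.2.2]
  exact sup_le (inf_le_left.trans hTL) (hKO.trans (Omap_le_Lmap p _))

theorem isInternalDirectProduct_Lmap (P : Sylow p G) {T : Subgroup G} (hT : T ∈ centricRad P) :
    IsInternalDirectProduct (Omap p (Subgroup.normalizer (T : Set G))) T
      (Lmap p (Subgroup.normalizer (T : Set G))) := by
  obtain ⟨⟨hTP, hfn⟩, hcen, hrad⟩ := hT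
  have hTp : IsPGroup p T := P.isPGroup'.to_le hTP
  have hTL : T ≤ Lmap p (Subgroup.normalizer (T : Set G)) :=
    le_Lmap_of_normal Subgroup.le_normalizer le_rfl hTp
  refine ⟨Omap_le_Lmap p _, hTL, ?_, inf_eq_bot_of_coprime (card_Omap_coprime _) hTp, ?_⟩
  · intro a ha b hb
    exact (Omap_le_centralizer Subgroup.le_normalizer le_rfl hTp ha b hb).symm
  · apply le_antisymm (sup_le (Omap_le_Lmap p _) hTL)
    have hLN := Lmap_le p (Subgroup.normalizer (T : Set G))
    have hNL := le_normalizer_Lmap p (Subgroup.normalizer (T : Set G))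
    have hS' := hfn.inf_normal hLN hNL
    have hS'eq : ((P : Subgroup G) ⊓ Subgroup.normalizer (T : Set G)) ⊓
        Lmap p (Subgroup.normalizer (T : Set G)) = T := by
      rw [inf_assoc, inf_eq_right.mpr hLN]
      exact le_antisymm hrad (le_inf hTP hTL)
    rw [hS'eq] at hS'
    have := Lmap_le_sup hS'
    rwa [sup_comm] at this

end Cfsg.Agent.Helper33
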