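import Mathlib
import Cfsg.Prelude.Def_Local
import Cfsg.Agent.Lib.Helper33.RadFusion3

set_option autoImplicit false

namespace Cfsg.Agent.Helper33

open Pointwise Cfsg
open scoped commutatorElement

variable {G : Type*} [Group G]

/-- elements of the normalizer of `N` commuting with `Q` modulo `N` -/
def cmod (N Q : Subgroup G) : Subgroup G where
  carrier := {x | x ∈ Subgroup.normalizer (N : Set G) ∧ ∀ q ∈ Q, ⁅x, q⁆ ∈ N}
  one_mem' := ⟨Subgroup.one_mem _, fun q _ => by simp⟩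
  mul_mem' := by
    rintro x y ⟨hx, hx'⟩ ⟨hy, hy'⟩
    refine ⟨Subgroup.mul_mem _ hx hy, fun q hq => ?_⟩
    have e : ⁅x * y, q⁆ = x * ⁅y, q⁆ * x⁻¹ * ⁅x, q⁆ := by
      simp only [commutatorElement_def]; group
    rw [e]
    exact N.mul_mem ((Subgroup.mem_normalizer_iff.1 hx _).1 (hy' q hq)) (hx' q hq)
  inv_mem' := by
    rintro x ⟨hx, hx'⟩
    refine ⟨Subgroup.inv_mem _ hx, fun q hq => ?_⟩
    have e : ⁅x⁻¹, q⁆ = x⁻¹ * (⁅x, q⁆)⁻¹ * x⁻¹⁻¹ := by
      simp only [commutatorElement_def]; group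
    rw [e]
    exact (Subgroup.mem_normalizer_iff.1 (Subgroup.inv_mem _ hx) _).1 (N.inv_mem (hx' q hq))

theorem mem_cmod {N Q : Subgroup G} {x : G} :
    x ∈ cmod N Q ↔ x ∈ Subgroup.normalizer (N : Set G) ∧ ∀ q ∈ Q, ⁅x, q⁆ ∈ N := Iff.rfl

/-- stability group of the descending chain `C` -/
def chainStabG (C : ℕ → Subgroup G) : Subgroup G := ⨅ j, cmod (C (j + 1)) (C j)

theorem mem_chainStabG {C : ℕ → Subgroup G} {y : G} :
    y ∈ chainStabG C ↔ ∀ j, y ∈ Subgroup.normalizer ((C (j + 1) : Subgroup G) : Set G) ∧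
      ∀ q ∈ C j, ⁅y, q⁆ ∈ C (j + 1) := by
  simp only [chainStabG, Subgroup.mem_iInf, mem_cmod]

theorem conj_pow_of_commute_commutator {z x : G} (h : Commute z ⁅z, x⁆) (n : ℕ) :
    z ^ n * x * (z ^ n)⁻¹ = ⁅z, x⁆ ^ n * x := by
  induction n with
  | zero => simp
  | succ n ih =>
    have h1 : z ^ (n + 1) * x * (z ^ (n + 1))⁻¹ = z * (z ^ n * x * (z ^ n)⁻¹) * z⁻¹ := by
      rw [pow_succ']; group
    rw [h1, ih]
    have h2 : z * (⁅z, x⁆ ^ n * x) * z⁻¹ = (z * ⁅z, x⁆ ^ n * z⁻¹) * (z * x * z⁻¹) := by group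
    rw [h2]
    have h3 : z * ⁅z, x⁆ ^ n * z⁻¹ = ⁅z, x⁆ ^ n := by
      have := (h.pow_right n).eq
      rw [this]; group
    have h4 : z * x * z⁻¹ = ⁅z, x⁆ * x := by
      rw [commutatorElement_def]; group
    rw [h3, h4, pow_succ, mul_assoc]

theorem chain_le_zero {C : ℕ → Subgroup G} (hanti : ∀ j, C (j + 1) ≤ C j) (j : ℕ) : C j ≤ C 0 := by
  induction j with
  | zero => exact le_rfl
  | succ j ih => exact (hanti j).trans ih

/-- an element stabilizing a chain of subgroups of exponent dividing `q` has a `q`-power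
centralizing the top of the chain -/
theorem chainStabG_pow_commute (C : ℕ → Subgroup G) (hanti : ∀ j, C (j + 1) ≤ C j) (m : ℕ)
    (hm : C m = ⊥) (q : ℕ) (hq : ∀ x ∈ C 0, x ^ q = 1) {y : G} (hy : y ∈ chainStabG C) :
    ∀ j ≤ m, ∀ x ∈ C (m - j), Commute (y ^ (q ^ j)) x := by
  intro j
  induction j with
  | zero =>
    intro _ x hx
    rw [Nat.sub_zero, hm, Subgroup.mem_bot] at hx
    rw [hx]; exact Commute.one_right _
  | succ j ih =>
    intro hj x hx
    have hjm : j ≤ m := by omega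
    set z := y ^ (q ^ j) with hz
    have hzs : z ∈ chainStabG C := Subgroup.pow_mem _ hy _
    have hidx : m - (j + 1) + 1 = m - j := by omega
    have hc : ⁅z, x⁆ ∈ C (m - j) := by
      have := (mem_chainStabG.mp hzs (m - (j + 1))).2 x hx
      rwa [hidx] at this
    have hcomm : Commute z ⁅z, x⁆ := ih hjm _ hc
    have h1 := conj_pow_of_commute_commutator hcomm q
    have h2 : ⁅z, x⁆ ^ q = 1 := hq _ (chain_le_zero hanti _ hc)
    rw [h2, one_mul] at h1
    have h3 : y ^ (q ^ (j + 1)) = z ^ q := by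
      rw [hz, ← pow_mul, pow_succ]
    rw [h3]
    show z ^ q * x = x * z ^ q
    calc z ^ q * x = (z ^ q * x * (z ^ q)⁻¹) * z ^ q := by group
      _ = x * z ^ q := by rw [h1]

theorem chainStabG_pow_mem_centralizer (C : ℕ → Subgroup G) (hanti : ∀ j, C (j + 1) ≤ C j) (m : ℕ)
    (hm : C m = ⊥) (q : ℕ) (hq : ∀ x ∈ C 0, x ^ q = 1) {y : G} (hy : y ∈ chainStabG C) :
    y ^ (q ^ m) ∈ Subgroup.centralizer ((C 0 : Subgroup G) : Set G) := by
  intro x hx
  have := chainStabG_pow_commute C hanti m hm q hq hy m le_rfl x (by simpa using hx)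
  exact this.eq.symm

/-- a normal subgroup all of whose elements have a `p`-power in `O_{p',p}` lies in `O_{p',p}` -/
theorem le_pPrimePCore_of_pow_mem {X : Type*} [Group X] [Finite X] {p : ℕ} [Fact p.Prime]
    (K : Subgroup X) [hK : K.Normal]
    (h : ∀ k ∈ K, ∃ m : ℕ, k ^ (p ^ m) ∈ pPrimePCore p X) : K ≤ pPrimePCore p X := by
  have := pPrimeCore_normal (G := X) p
  have hpc : IsPGroup p (pCore p (X ⧸ pPrimeCore p X)) := by
    have hsyl : ∀ S : Sylow p (X ⧸ pPrimeCore p X), pCore p (X ⧸ pPrimeCore p X) ≤ S :=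
      fun S => pCore_le_sylow S
    obtain ⟨S⟩ : Nonempty (Sylow p (X ⧸ pPrimeCore p X)) := inferInstance
    exact S.isPGroup'.to_le (hsyl S)
  intro x hx
  show (QuotientGroup.mk' (pPrimeCore p X)) x ∈ pCore p (X ⧸ pPrimeCore p X)
  have h1 : K.map (QuotientGroup.mk' (pPrimeCore p X)) ≤ pCore p (X ⧸ pPrimeCore p X) := by
    apply le_sSup
    refine ⟨hK.map _ (QuotientGroup.mk'_surjective _), ?_⟩
    rintro ⟨_, ⟨k, hk, rfl⟩⟩
    obtain ⟨m, hm⟩ := h k hk
    have hm' : ((QuotientGroup.mk' (pPrimeCore p X)) k) ^ (p ^ m) ∈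
        pCore p (X ⧸ pPrimeCore p X) := by
      rw [← map_pow]; exact hm
    obtain ⟨m', hm''⟩ := hpc ⟨_, hm'⟩
    refine ⟨m + m', ?_⟩
    apply Subtype.ext
    have := congrArg Subtype.val hm''
    simp only [Subgroup.coe_pow, Subgroup.coe_one] at this ⊢
    rw [pow_add, pow_mul]
    exact this
  exact h1 ⟨x, hx, rfl⟩

theorem le_Lmap_of_pow_mem [Finite G] {p : ℕ} [Fact p.Prime] {H K : Subgroup G} (hKH : K ≤ H)
    (hn : H ≤ Subgroup.normalizer (K : Set G))
    (h : ∀ k ∈ K, ∃ m : ℕ, k ^ (p ^ m) ∈ Lmap p H) : K ≤ Lmap p H := by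
  have : (K.subgroupOf H).Normal := (Subgroup.normal_subgroupOf_iff_le_normalizer hKH).mpr hn
  have h1 : K.subgroupOf H ≤ pPrimePCore p ↥H := by
    apply le_pPrimePCore_of_pow_mem
    intro k hk
    obtain ⟨m, hm⟩ := h k.1 (Subgroup.mem_subgroupOf.mp hk)
    refine ⟨m, ?_⟩
    obtain ⟨y, hy, hyeq⟩ := hm
    have : y = k ^ (p ^ m) := Subtype.ext (by simpa using hyeq)
    rwa [this] at hy
  intro u hu
  exact ⟨⟨u, hKH hu⟩, h1 (Subgroup.mem_subgroupOf.mpr hu), rfl⟩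

theorem mem_normalizer_of_conj_smul_le [Finite G] {g : G} {H : Subgroup G}
    (h : MulAut.conj g • H ≤ H) : g ∈ Subgroup.normalizer (H : Set G) := by
  rw [mem_normalizer_iff_smul_eq]
  exact Subgroup.eq_of_le_of_card_ge h (by rw [card_conj_smul])

end Cfsg.Agent.Helper33
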