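import Mathlib
import Cfsg.Prelude.Def_Local
import Cfsg.Agent.Lib.Helper33.ChainStab

set_option autoImplicit false

namespace Cfsg.Agent.Helper33

open Pointwise Cfsg
open scoped commutatorElement

variable {G : Type*} [Group G] [Finite G]

/-- `N ∩ N_G(U)` controls strong fusion in `R` with respect to `N` -/
def Ctl1 (N R U : Subgroup G) : Prop :=
  ∀ A : Subgroup G, A ≤ R → ∀ n ∈ N, MulAut.conj n • A ≤ R →
    ∃ h ∈ N ⊓ Subgroup.normalizer (U : Set G), ∃ c ∈ N ⊓ Subgroup.centralizer (A : Set G),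
      n = h * c

/-- simultaneous control by the normalizers of a family -/
def CtlFam (N R : Subgroup G) (F : Set (Subgroup G)) : Prop :=
  ∀ A : Subgroup G, A ≤ R → ∀ n ∈ N, MulAut.conj n • A ≤ R →
    ∃ h ∈ N, (∀ U ∈ F, h ∈ Subgroup.normalizer (U : Set G)) ∧
      ∃ c ∈ N ⊓ Subgroup.centralizer (A : Set G), n = h * c

theorem conj_smul_eq_of_mem_centralizer {c : G} {A : Subgroup G}
    (hc : c ∈ Subgroup.centralizer (A : Set G)) : MulAut.conj c • A = A :=
  smul_eq_of_mem_normalizer (centralizer_le_normalizer_sub A hc)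

theorem ctlFam_of_finite (N R : Subgroup G) (F : Set (Subgroup G)) (hF : F.Finite) :
    (∀ U ∈ F, U ≤ R ∧ Ctl1 N R U) → CtlFam N R F := by
  induction F, hF using Set.Finite.induction_on with
  | empty =>
    intro _ A _ n hn _
    exact ⟨n, hn, fun U hU => absurd hU (Set.notMem_empty U), 1,
      Subgroup.one_mem _, (mul_one n).symm⟩
  | @insert U F hUF hF ih =>
    intro h1 A hA n hn hnA
    have ihF := ih (fun U' hU' => h1 U' (Set.mem_insert_of_mem U hU'))
    obtain ⟨hUR, hUc⟩ := h1 U (Set.mem_insert U F)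
    obtain ⟨h₁, hh₁N, hh₁F, c₁, hc₁, rfl⟩ := ihF A hA n hn hnA
    obtain ⟨hc₁N, hc₁A⟩ := Subgroup.mem_inf.mp hc₁
    have hconjA : MulAut.conj h₁ • A = MulAut.conj (h₁ * c₁) • A := by
      rw [conj_mul_smul, conj_smul_eq_of_mem_centralizer hc₁A]
    set B := A ⊔ sSup F with hB
    have hBR : B ≤ R := sup_le hA (sSup_le fun U' hU' => (h1 U' (Set.mem_insert_of_mem U hU')).1)
    have hBh : MulAut.conj h₁ • B ≤ R := by
      rw [conj_smul_le_iff_le_inv]
      refine sup_le ?_ (sSup_le fun U' hU' => ?_)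
      · rw [← conj_smul_le_iff_le_inv, hconjA]; exact hnA
      · rw [← conj_smul_le_iff_le_inv, smul_eq_of_mem_normalizer (hh₁F U' hU')]
        exact (h1 U' (Set.mem_insert_of_mem U hU')).1
    obtain ⟨h₂, hh₂, c₂, hc₂, hcd⟩ := hUc B hBR h₁ hh₁N hBh
    obtain ⟨hh₂N, hh₂U⟩ := Subgroup.mem_inf.mp hh₂
    obtain ⟨hc₂N, hc₂B⟩ := Subgroup.mem_inf.mp hc₂
    have hc₂A : c₂ ∈ Subgroup.centralizer (A : Set G) :=
      Subgroup.centralizer_le (by exact_mod_cast (le_sup_left : A ≤ B)) hc₂B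
    refine ⟨h₂, hh₂N, ?_, c₂ * c₁, Subgroup.mem_inf.mpr
      ⟨N.mul_mem hc₂N hc₁N, Subgroup.mul_mem _ hc₂A hc₁A⟩, by rw [hcd]; group⟩
    intro U' hU'
    rcases Set.mem_insert_iff.mp hU' with rfl | hU'F
    · exact hh₂U
    · have hc₂U' : c₂ ∈ Subgroup.normalizer (U' : Set G) := by
        apply centralizer_le_normalizer_sub U'
        refine Subgroup.centralizer_le ?_ hc₂B
        have : U' ≤ B := (le_sSup hU'F).trans le_sup_right
        exact_mod_cast this
      have : h₂ = h₁ * c₂⁻¹ := by rw [hcd]; group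
      rw [this]
      exact Subgroup.mul_mem _ (hh₁F U' hU'F) (Subgroup.inv_mem _ hc₂U')

theorem ctl1_conj {N R V : Subgroup G} [hN : N.Normal] (h : Ctl1 N R V) {x : G}
    (hx : x ∈ Subgroup.normalizer (R : Set G)) : Ctl1 N R (MulAut.conj x • V) := by
  intro A hA n hn hnA
  have hxR : MulAut.conj x⁻¹ • R = R := smul_eq_of_mem_normalizer (inv_mem hx)
  have hA' : MulAut.conj x⁻¹ • A ≤ R := by
    rw [← hxR]; exact conj_smul_le_conj_smul hA
  have hn' : x⁻¹ * n * x ∈ N := by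
    have := hN.conj_mem n hn x⁻¹
    simpa using this
  have hnA' : MulAut.conj (x⁻¹ * n * x) • (MulAut.conj x⁻¹ • A) ≤ R := by
    rw [← conj_mul_smul]
    have e : x⁻¹ * n * x * x⁻¹ = x⁻¹ * n := by group
    rw [e, conj_mul_smul, ← hxR]
    exact conj_smul_le_conj_smul hnA
  obtain ⟨h', hh', c', hc', heq⟩ := h _ hA' _ hn' hnA'
  obtain ⟨hh'N, hh'V⟩ := Subgroup.mem_inf.mp hh'
  obtain ⟨hc'N, hc'A⟩ := Subgroup.mem_inf.mp hc'
  refine ⟨x * h' * x⁻¹, Subgroup.mem_inf.mpr ⟨hN.conj_mem h' hh'N x, ?_⟩, x * c' * x⁻¹,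
    Subgroup.mem_inf.mpr ⟨hN.conj_mem c' hc'N x, ?_⟩, ?_⟩
  · rw [normalizer_conj_smul]; exact conj_mem_conj_smul hh'V
  · have : x * c' * x⁻¹ ∈ MulAut.conj x • Subgroup.centralizer
        ((MulAut.conj x⁻¹ • A : Subgroup G) : Set G) := conj_mem_conj_smul hc'A
    rwa [← centralizer_conj_smul, conj_smul_inv_smul] at this
  · have : n = x * (x⁻¹ * n * x) * x⁻¹ := by group
    rw [this, heq]; group

theorem conj_smul_sSup_le {g : G} {F : Set (Subgroup G)} {K : Subgroup G}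
    (h : ∀ U ∈ F, MulAut.conj g • U ≤ K) : MulAut.conj g • sSup F ≤ K := by
  rw [conj_smul_le_iff_le_inv]
  refine sSup_le fun U hU => ?_
  rw [← conj_smul_le_iff_le_inv]
  exact h U hU

theorem Reach.mem_of_normalizer_le {𝓕 : Set (Subgroup G)} {A : Set G} {g : G} {K : Subgroup G}
    (h : Reach 𝓕 A g) (hK : ∀ T ∈ 𝓕, Subgroup.normalizer (T : Set G) ≤ K) : g ∈ K := by
  obtain ⟨l, hl, rfl⟩ := h
  induction l generalizing A with
  | nil => simp
  | cons hd tl ih =>
    obtain ⟨T, x⟩ := hd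
    simp only [List.map_cons, List.prod_cons]
    exact K.mul_mem (hK T hl.1 hl.2.1) (ih hl.2.2.2)

theorem lcs_le (W : Subgroup G) (i : ℕ) : W.lowerCentralSeries i ≤ W :=
  W.lowerCentralSeries_antitone (Nat.zero_le i)

theorem normalizer_le_normalizer_lcs (W : Subgroup G) (i : ℕ) :
    Subgroup.normalizer (W : Set G) ≤ Subgroup.normalizer ((W.lowerCentralSeries i : Subgroup G) : Set G) := by
  intro g hg
  rw [mem_normalizer_iff_smul_eq, ← map_conj_eq_smul, Subgroup.map_lowerCentralSeries,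
    map_conj_eq_smul, smul_eq_of_mem_normalizer hg]

theorem exists_lcs_eq_bot {p : ℕ} [Fact p.Prime] {W : Subgroup G} (hW : IsPGroup p W) :
    ∃ k, W.lowerCentralSeries k = ⊥ := by
  have : Group.IsNilpotent W := hW.isNilpotent
  exact (Subgroup.isNilpotent_iff_lowerCentralSeries W).mp this

section main

variable {p : ℕ} [Fact p.Prime]

theorem sylow_le_normalizer_inf (P : Sylow p G) (N : Subgroup G) [hN : N.Normal] :
    (P : Subgroup G) ≤ Subgroup.normalizer (((P : Subgroup G) ⊓ N : Subgroup G) : Set G) := by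
  intro x hx
  rw [mem_normalizer_iff_smul_eq, conj_smul_inf, conj_smul_eq_self_of_mem hx,
    smul_eq_of_mem_normalizer (by rw [Subgroup.normalizer_eq_top]; exact Subgroup.mem_top x)]

theorem isSylIn_inf_normal (P : Sylow p G) (N : Subgroup G) [hN : N.Normal] :
    IsSylIn p ((P : Subgroup G) ⊓ N) N :=
  (isSylIn_top P).inf_normal le_top (by rw [Subgroup.normalizer_eq_top])

/-- Frattini decomposition `G = N_G(P ∩ N) N`. -/
theorem exists_frattini (P : Sylow p G) (N : Subgroup G) [hN : N.Normal] (g : G) :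
    ∃ x ∈ Subgroup.normalizer (((P : Subgroup G) ⊓ N : Subgroup G) : Set G), ∃ n ∈ N, g = x * n := by
  have hR := isSylIn_inf_normal P N
  have hgN : MulAut.conj g⁻¹ • N = N :=
    smul_eq_of_mem_normalizer (by rw [Subgroup.normalizer_eq_top]; exact Subgroup.mem_top _)
  have hR' : IsSylIn p (MulAut.conj g⁻¹ • ((P : Subgroup G) ⊓ N)) N := by
    have := hR.conj g⁻¹
    rwa [hgN] at this
  obtain ⟨n, hn, hnR⟩ := hR.exists_conj_eq hR'
  rw [← conj_mul_smul] at hnR
  refine ⟨(n * g⁻¹)⁻¹, inv_mem (mem_normalizer_iff_smul_eq.mpr hnR), n, hn, by group⟩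

/-- strong closure from control in a normal subgroup -/
theorem stronglyClosed_of_ctl (P : Sylow p G) (N : Subgroup G) [hN : N.Normal] (W U : Subgroup G)
    (hctl : ∀ A : Subgroup G, A ≤ (P : Subgroup G) ⊓ N → ∀ n ∈ N,
      MulAut.conj n • A ≤ (P : Subgroup G) ⊓ N →
      ∃ h ∈ Subgroup.normalizer (W : Set G), ∃ c ∈ Subgroup.centralizer (A : Set G), n = h * c)
    (hNR : Subgroup.normalizer (((P : Subgroup G) ⊓ N : Subgroup G) : Set G) ≤
      Subgroup.normalizer (W : Set G))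
    (hUR : U ≤ (P : Subgroup G) ⊓ N)
    (hWU : Subgroup.normalizer (W : Set G) ≤ Subgroup.normalizer (U : Set G)) :
    ∀ a ∈ U, ∀ g : G, g * a * g⁻¹ ∈ (P : Subgroup G) → g * a * g⁻¹ ∈ U := by
  intro a ha g hg
  obtain ⟨x, hx, n, hn, rfl⟩ := exists_frattini P N g
  have haR := hUR ha
  have haN : a ∈ N := (Subgroup.mem_inf.mp haR).2
  have hgR : x * n * a * (x * n)⁻¹ ∈ (P : Subgroup G) ⊓ N :=
    Subgroup.mem_inf.mpr ⟨hg, hN.conj_mem a haN _⟩
  have hnR : n * a * n⁻¹ ∈ (P : Subgroup G) ⊓ N := by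
    have h1 : x⁻¹ * (x * n * a * (x * n)⁻¹) * x⁻¹⁻¹ ∈
        MulAut.conj x⁻¹ • ((P : Subgroup G) ⊓ N) := conj_mem_conj_smul hgR
    rw [smul_eq_of_mem_normalizer (inv_mem hx)] at h1
    have e : x⁻¹ * (x * n * a * (x * n)⁻¹) * x⁻¹⁻¹ = n * a * n⁻¹ := by group
    rwa [e] at h1
  have hA : Subgroup.zpowers a ≤ (P : Subgroup G) ⊓ N := (Subgroup.zpowers_le).mpr haR
  have hnA : MulAut.conj n • Subgroup.zpowers a ≤ (P : Subgroup G) ⊓ N := by
    rw [← map_conj_eq_smul, MonoidHom.map_zpowers, Subgroup.zpowers_le]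
    simpa using hnR
  obtain ⟨h, hh, c, hc, rfl⟩ := hctl _ hA n hn hnA
  have hca : c * a * c⁻¹ = a := by
    have := hc a (Subgroup.mem_zpowers a)
    calc c * a * c⁻¹ = (c * a) * c⁻¹ := rfl
      _ = (a * c) * c⁻¹ := by rw [this]
      _ = a := by group
  have h1 : h * a * h⁻¹ ∈ U := by
    have : h * a * h⁻¹ ∈ MulAut.conj h • U := conj_mem_conj_smul ha
    rwa [smul_eq_of_mem_normalizer (hWU hh)] at this
  have h2 : x * (h * a * h⁻¹) * x⁻¹ ∈ U := by
    have : x * (h * a * h⁻¹) * x⁻¹ ∈ MulAut.conj x • U := conj_mem_conj_smul h1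
    rwa [smul_eq_of_mem_normalizer (hWU (hNR hx))] at this
  have e : x * (h * c) * a * (x * (h * c))⁻¹ = x * (h * (c * a * c⁻¹) * h⁻¹) * x⁻¹ := by group
  rw [e, hca]
  exact h2

/-- the chain `T ≥ T ⊓ W_i ≥ T ⊓ W_{i+1} ≥ …` -/
def chainC (T W : Subgroup G) (i : ℕ) : ℕ → Subgroup G
  | 0 => T
  | j + 1 => T ⊓ W.lowerCentralSeries (i + j)

theorem conj_mem_of_mem_normalizer {g x : G} {H : Subgroup G}
    (hg : g ∈ Subgroup.normalizer (H : Set G)) (hx : x ∈ H) : g * x * g⁻¹ ∈ H :=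
  (Subgroup.mem_normalizer_iff.mp hg x).mp hx

/-- members of the Alperin–Goldschmidt family contain every `W_i` -/
theorem lcs_le_of_mem_centricRad (P : Sylow p G) (W : Subgroup G) (hWP : W ≤ (P : Subgroup G))
    (hPW : (P : Subgroup G) ≤ Subgroup.normalizer (W : Set G))
    (hsc : ∀ i, ∀ a ∈ W.lowerCentralSeries i, ∀ g : G, g * a * g⁻¹ ∈ (P : Subgroup G) →
      g * a * g⁻¹ ∈ W.lowerCentralSeries i)
    {T : Subgroup G} (hT : T ∈ centricRad P) (i : ℕ) :
    W.lowerCentralSeries i ≤ T := by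
  have hTP : T ≤ (P : Subgroup G) := hT.1.1
  have hTp : IsPGroup p T := P.isPGroup'.to_le hTP
  have hWp : IsPGroup p W := P.isPGroup'.to_le hWP
  obtain ⟨k, hk⟩ := exists_lcs_eq_bot hWp
  set H := Subgroup.normalizer (T : Set G) with hH
  set C := chainC T W i with hC
  have hC0 : C 0 = T := rfl
  have hCs : ∀ j, C (j + 1) = T ⊓ W.lowerCentralSeries (i + j) := fun j => rfl
  have hanti : ∀ j, C (j + 1) ≤ C j := by
    intro j
    cases j with
    | zero => rw [hCs, hC0]; exact inf_le_left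
    | succ j =>
      rw [hCs, hCs]
      exact inf_le_inf_left _ (W.lowerCentralSeries_antitone (by omega))
  have hbot : C (k + 1) = ⊥ := by
    rw [hCs, eq_bot_iff]
    refine inf_le_right.trans ?_
    rw [← hk]
    exact W.lowerCentralSeries_antitone (by omega)
  obtain ⟨e, he⟩ := IsPGroup.iff_card.mp hTp
  have hq : ∀ x ∈ C 0, x ^ (p ^ e) = 1 := by
    intro x hx
    have h1 : (⟨x, hx⟩ : T) ^ Nat.card T = 1 := pow_card_eq_one'
    rw [he] at h1
    have := congrArg Subtype.val h1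
    simpa using this
  -- H-invariance
  have hHinv : ∀ h ∈ H, ∀ j, ∀ x ∈ C j, h * x * h⁻¹ ∈ C j := by
    intro h hh j x hx
    cases j with
    | zero => exact conj_mem_of_mem_normalizer hh hx
    | succ j =>
      rw [hCs] at hx ⊢
      obtain ⟨hxT, hxW⟩ := Subgroup.mem_inf.mp hx
      have h1 : h * x * h⁻¹ ∈ T := conj_mem_of_mem_normalizer hh hxT
      exact Subgroup.mem_inf.mpr ⟨h1, hsc _ x hxW h (hTP h1)⟩
  have hHnorm : ∀ h ∈ H, ∀ j, h ∈ Subgroup.normalizer ((C j : Subgroup G) : Set G) := by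
    intro h hh j
    apply mem_normalizer_of_conj_smul_le
    rw [conj_smul_le_iff]
    exact hHinv h hh j
  set Y := H ⊓ chainStabG C with hY
  have hYH : Y ≤ H := inf_le_left
  have hHY : H ≤ Subgroup.normalizer (Y : Set G) := by
    intro h hh
    apply mem_normalizer_of_conj_smul_le
    rw [conj_smul_le_iff]
    intro y hy
    obtain ⟨hyH, hyS⟩ := Subgroup.mem_inf.mp hy
    refine Subgroup.mem_inf.mpr ⟨H.mul_mem (H.mul_mem hh hyH) (H.inv_mem hh), ?_⟩
    rw [mem_chainStabG]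
    intro j
    refine ⟨Subgroup.mul_mem _ (Subgroup.mul_mem _ (hHnorm h hh _) (hHnorm y hyH _))
      (Subgroup.inv_mem _ (hHnorm h hh _)), ?_⟩
    intro q hq'
    have h1 : h⁻¹ * q * h⁻¹⁻¹ ∈ C j := hHinv h⁻¹ (H.inv_mem hh) j q hq'
    have h2 := (mem_chainStabG.mp hyS j).2 _ h1
    have h3 := hHinv h hh (j + 1) _ h2
    have e : ⁅h * y * h⁻¹, q⁆ = h * ⁅y, h⁻¹ * q * h⁻¹⁻¹⁆ * h⁻¹ := by
      simp only [commutatorElement_def]; group
    rw [e]; exact h3
  have hYpow : ∀ y ∈ Y, ∃ m : ℕ, y ^ (p ^ m) ∈ Lmap p H := by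
    intro y hy
    have h1 := chainStabG_pow_mem_centralizer C hanti (k + 1) hbot (p ^ e) hq
      (Subgroup.mem_inf.mp hy).2
    refine ⟨e * (k + 1), ?_⟩
    rw [pow_mul]
    exact centralizer_le_Lmap P hT h1
  have hYL : Y ≤ Lmap p H := le_Lmap_of_pow_mem hYH hHY hYpow
  have hPlcs : ∀ j, (P : Subgroup G) ≤
      Subgroup.normalizer ((W.lowerCentralSeries j : Subgroup G) : Set G) :=
    fun j => hPW.trans (normalizer_le_normalizer_lcs W j)
  have hD : W.lowerCentralSeries i ⊓ H ≤ Y := by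
    intro d hd
    obtain ⟨hdW, hdH⟩ := Subgroup.mem_inf.mp hd
    refine Subgroup.mem_inf.mpr ⟨hdH, ?_⟩
    rw [mem_chainStabG]
    intro j
    refine ⟨hHnorm d hdH _, ?_⟩
    intro x hx
    have hxT : x ∈ T := chain_le_zero hanti j hx
    have h1 : ⁅d, x⁆ ∈ T := by
      rw [commutatorElement_def]
      have := conj_mem_of_mem_normalizer hdH hxT
      exact T.mul_mem this (T.inv_mem hxT)
    rw [hCs]
    refine Subgroup.mem_inf.mpr ⟨h1, ?_⟩
    cases j with
    | zero =>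
      rw [Nat.add_zero]
      have h2 : x * d⁻¹ * x⁻¹ ∈ W.lowerCentralSeries i :=
        conj_mem_of_mem_normalizer (hPlcs i (hTP hxT)) (inv_mem hdW)
      have e : ⁅d, x⁆ = d * (x * d⁻¹ * x⁻¹) := by
        rw [commutatorElement_def]; group
      rw [e]
      exact Subgroup.mul_mem _ hdW h2
    | succ j =>
      rw [hCs] at hx
      have hxW := (Subgroup.mem_inf.mp hx).2
      have h2 : ⁅x, d⁆ ∈ W.lowerCentralSeries (i + j + 1) := by
        rw [Subgroup.lowerCentralSeries_succ]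
        exact Subgroup.commutator_mem_commutator hxW (lcs_le W i hdW)
      have e : ⁅d, x⁆ = ⁅x, d⁆⁻¹ := (commutatorElement_inv x d).symm
      rw [e]
      exact Subgroup.inv_mem _ h2
  have hDT : W.lowerCentralSeries i ⊓ H ≤ T := by
    intro d hd
    apply hT.2.2
    exact Subgroup.mem_inf.mpr ⟨hWP (lcs_le W i (Subgroup.mem_inf.mp hd).1), hYL (hD hd)⟩
  by_contra hne
  set Q := T ⊔ W.lowerCentralSeries i with hQ
  have hQP : Q ≤ (P : Subgroup G) := sup_le hTP ((lcs_le W i).trans hWP)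
  have hTQ : T ≠ Q := by
    intro heq
    apply hne
    rw [heq]
    exact le_sup_right
  have hgrow := IsSylIn.normalizer_growth (P.isPGroup'.to_le hQP) (le_sup_left : T ≤ Q) hTQ
  obtain ⟨q, hq1, hq2⟩ := SetLike.exists_of_lt hgrow
  obtain ⟨hqQ, hqH⟩ := Subgroup.mem_inf.mp hq1
  have hcoe := Subgroup.coe_mul_of_left_le_normalizer_right T (W.lowerCentralSeries i)
    (hTP.trans (hPlcs i))
  have hqQ' : q ∈ ((T ⊔ W.lowerCentralSeries i : Subgroup G) : Set G) := hqQ
  rw [hcoe] at hqQ'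
  obtain ⟨t, ht, w, hw, rfl⟩ := hqQ'
  apply hq2
  have hwH : w ∈ H := by
    have : w = t⁻¹ * (t * w) := by group
    rw [this]
    exact H.mul_mem (H.inv_mem (Subgroup.le_normalizer ht)) hqH
  exact T.mul_mem ht (hDT (Subgroup.mem_inf.mpr ⟨hw, hwH⟩))

/-- members of the Alperin–Goldschmidt family contain `W` -/
theorem le_of_mem_centricRad (P : Sylow p G) (W : Subgroup G) (hWP : W ≤ (P : Subgroup G))
    (hPW : (P : Subgroup G) ≤ Subgroup.normalizer (W : Set G))
    (hsc : ∀ i, ∀ a ∈ W.lowerCentralSeries i, ∀ g : G, g * a * g⁻¹ ∈ (P : Subgroup G) →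
      g * a * g⁻¹ ∈ W.lowerCentralSeries i)
    {T : Subgroup G} (hT : T ∈ centricRad P) : W ≤ T := by
  simpa using lcs_le_of_mem_centricRad P W hWP hPW hsc hT 0

end main

end Cfsg.Agent.Helper33
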