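import Mathlib
import Cfsg.Agent.Lib.Helper33.SecFusionA
import Cfsg.Agent.Lib.Helper33.LiftControl

/-!
Lifting family control of strong fusion from the quotient by a normal `p'`-subgroup.
-/

set_option autoImplicit false
universe u
open Pointwise Cfsg

namespace Cfsg.Agent.Helper33

section B

variable {G : Type*} [Group G]

theorem mem_sup_normal_right {H D : Subgroup G} [D.Normal] {x : G} (hx : x ∈ H ⊔ D) :
    ∃ h ∈ H, ∃ d ∈ D, x = h * d := by
  have : x ∈ ((H ⊔ D : Subgroup G) : Set G) := hx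
  rw [Subgroup.mul_normal H D] at this
  obtain ⟨h, hh, d, hd, rfl⟩ := this
  exact ⟨h, hh, d, hd, rfl⟩

variable [Finite G] {p : ℕ} [Fact p.Prime]

/-- a `p`-subgroup is Sylow in its product with a normal `p'`-subgroup -/
theorem isSylIn_sup_pprime {Y D : Subgroup G} [D.Normal] (hY : IsPGroup p Y)
    (hD : (Nat.card D).Coprime p) : IsSylIn p Y (Y ⊔ D) := by
  refine ⟨le_sup_left, hY, ?_⟩
  intro hdvd
  have h1 := card_sup_dvd_of_normal' Y D
  have h2 : Nat.card (Y ⊔ D : Subgroup G) = Y.relIndex (Y ⊔ D) * Nat.card Y := by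
    rw [← Subgroup.relIndex_bot_left, ← Subgroup.relIndex_bot_left,
      ← Subgroup.relIndex_mul_relIndex ⊥ Y (Y ⊔ D) bot_le le_sup_left, mul_comm]
  rw [h2, mul_comm] at h1
  have h3 : Y.relIndex (Y ⊔ D) ∣ Nat.card D :=
    Nat.dvd_of_mul_dvd_mul_left Nat.card_pos h1
  have h4 : p ∣ Nat.card D := hdvd.trans h3
  have hp := (Fact.out : p.Prime)
  exact hp.one_lt.ne' (Nat.dvd_one.mp (by
    have := Nat.dvd_gcd h4 (dvd_refl p)
    rwa [hD] at this))

/-- Frattini: `N_G(Y D) ≤ N_G(Y) D` for a `p`-subgroup `Y` and a normal `p'`-subgroup `D`. -/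
theorem exists_frattini_pprime {Y D : Subgroup G} [hDn : D.Normal] (hY : IsPGroup p Y)
    (hD : (Nat.card D).Coprime p) {g : G}
    (hg : g ∈ Subgroup.normalizer ((Y ⊔ D : Subgroup G) : Set G)) :
    ∃ n ∈ Subgroup.normalizer (Y : Set G), ∃ d ∈ D, g = n * d := by
  have hsyl := isSylIn_sup_pprime hY hD
  have hsyl' : IsSylIn p (MulAut.conj g • Y) (Y ⊔ D) := by
    have := hsyl.conj g
    rwa [smul_eq_of_mem_normalizer hg] at this
  obtain ⟨u, hu, huY⟩ := hsyl'.exists_conj_eq hsyl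
  -- conj u • Y = conj g • Y
  have hn₁ : u⁻¹ * g ∈ Subgroup.normalizer (Y : Set G) := by
    rw [mem_normalizer_iff_smul_eq, conj_mul_smul, ← huY, conj_inv_smul_smul]
  obtain ⟨y₁, hy₁, d₁, hd₁, rfl⟩ := mem_sup_normal_right hu
  refine ⟨y₁ * ((y₁ * d₁)⁻¹ * g), mul_mem (Subgroup.le_normalizer hy₁) hn₁,
    ((y₁ * d₁)⁻¹ * g)⁻¹ * d₁ * ((y₁ * d₁)⁻¹ * g), ?_, by group⟩
  have := hDn.conj_mem d₁ hd₁ ((y₁ * d₁)⁻¹ * g)⁻¹
  simpa using this

end B

section B2

variable {p : ℕ} [Fact p.Prime]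

theorem image_rc {G H : Type*} [Group G] [Group H] (f : G →* H) (x : G) (A : Set G) :
    f '' (rc x A) = rc (f x) (f '' A) := by
  ext b
  constructor
  · rintro ⟨_, ⟨a, ha, rfl⟩, rfl⟩
    exact ⟨f a, ⟨a, ha, rfl⟩, by simp⟩
  · rintro ⟨_, ⟨a, ha, rfl⟩, rfl⟩
    exact ⟨_, ⟨a, ha, rfl⟩, by simp⟩

/-- lifting a step chain from the quotient by a normal `p'`-subgroup -/
theorem lift_chain_pprime {𝓦 : Set (∀ (Q : Type u) [Group Q], Subgroup Q)}
    (h𝓦 : ∀ W ∈ 𝓦, IsCharPFunctor.{u} p W) {G : Type u} [Group G] [Finite G]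
    (D : Subgroup G) [hDn : D.Normal] (hD : (Nat.card D).Coprime p) (S : Sylow p G) :
    ∀ (l' : List (G ⧸ D)) (A : Set G), A ⊆ (S : Subgroup G) →
      IsStepChain (StepIn (indFam 𝓦 (G ⧸ D)) ⊤ ((S : Subgroup G).map (QuotientGroup.mk' D)))
        (((S : Subgroup G).map (QuotientGroup.mk' D) : Subgroup (G ⧸ D)) : Set (G ⧸ D))
        ((QuotientGroup.mk' D) '' A) l' →
      ∃ l : List G, IsStepChain (GlobStep (indFam 𝓦 G) S) ((S : Subgroup G) : Set G) A l ∧
        (QuotientGroup.mk' D) l.prod = l'.prod := by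
  intro l'
  induction l' with
  | nil => intro A _ _; exact ⟨[], trivial, by simp⟩
  | cons ybar tl ih =>
    intro A hA h
    obtain ⟨⟨_, ⟨W, hW, rfl⟩, hy⟩, hSbar, hrest⟩ := h
    set π := QuotientGroup.mk' D with hπ
    set Y := inducedFunctor W (S : Subgroup G) with hY
    have hYS : Y ≤ (S : Subgroup G) := indF_le W _
    have hYp : IsPGroup p Y := S.isPGroup'.to_le hYS
    have hSD : D ⊓ (S : Subgroup G) = ⊥ := inf_eq_bot_of_coprime hD S.isPGroup'
    have hmap : inducedFunctor W ((S : Subgroup G).map π) = Y.map π := by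
      apply indF_map (h𝓦 W hW) π _ S.isPGroup'
      intro x hx hx1
      have hxD : x ∈ D := by
        rw [← QuotientGroup.ker_mk' D]; exact hx1
      have : x ∈ D ⊓ (S : Subgroup G) := ⟨hxD, hx⟩
      rwa [hSD, Subgroup.mem_bot] at this
    obtain ⟨y₀, rfl⟩ := QuotientGroup.mk'_surjective D ybar
    have hy₀ : y₀ ∈ Subgroup.normalizer ((Y ⊔ D : Subgroup G) : Set G) := by
      have h1 := (Subgroup.mem_inf.mp hy).2
      change π y₀ ∈ Subgroup.normalizer ((inducedFunctor W ((S : Subgroup G).map π) : Subgroup (G ⧸ D)) : Set (G ⧸ D)) at h1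
      rw [hmap] at h1
      have h2 : y₀ ∈ (Subgroup.normalizer ((Y.map π : Subgroup (G ⧸ D)) : Set (G ⧸ D))).comap π := h1
      rw [Subgroup.comap_normalizer_eq_of_surjective _ (QuotientGroup.mk'_surjective D),
        Subgroup.comap_map_eq, QuotientGroup.ker_mk'] at h2
      exact h2
    obtain ⟨n, hn, d, hd, rfl⟩ := exists_frattini_pprime hYp hD hy₀
    have hπd : ∀ z ∈ D, π z = 1 := fun z hz => (QuotientGroup.eq_one_iff z).mpr hz
    have hπnd : π (n * d) = π n := by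
      rw [map_mul, hπd d hd, mul_one]
    rw [hπnd] at hSbar hrest
    -- the conjugate of closure A
    set P₁ := MulAut.conj n⁻¹ • Subgroup.closure A with hP₁
    have hclA : Subgroup.closure A ≤ (S : Subgroup G) := (Subgroup.closure_le _).mpr hA
    have hP₁p : IsPGroup p P₁ := isPGroup_conj_smul (S.isPGroup'.to_le hclA)
    have hrcP₁ : rc n A ⊆ P₁ := by
      rintro _ ⟨a, ha, rfl⟩
      have := conj_mem_conj_smul (g := n⁻¹) (Subgroup.subset_closure ha)
      rw [inv_inv] at this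
      exact this
    have hSNY : (S : Subgroup G) ≤ Subgroup.normalizer (Y : Set G) := by
      have := normalizer_le_normalizer_functor (isConjugacyFunctor_indF (h𝓦 W hW) G) S.isPGroup'
      exact Subgroup.le_normalizer.trans this
    have hP₁N : P₁ ≤ Subgroup.normalizer (Y : Set G) := by
      have h1 : P₁ ≤ MulAut.conj n⁻¹ • Subgroup.normalizer (Y : Set G) :=
        conj_smul_le_conj_smul (hclA.trans hSNY)
      rwa [conj_smul_eq_self_of_mem (inv_mem hn)] at h1
    have hP₁SD : P₁ ≤ (S : Subgroup G) ⊔ D := by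
      rw [hP₁, ← map_conj_eq_smul, MonoidHom.map_closure, Subgroup.closure_le]
      rintro _ ⟨a, ha, rfl⟩
      have h1 : π (n⁻¹ * a * n) ∈ (S : Subgroup G).map π := by
        apply hSbar
        refine ⟨π a, ⟨a, ha, rfl⟩, by simp⟩
      have h2 : n⁻¹ * a * n ∈ ((S : Subgroup G).map π).comap π := h1
      rw [Subgroup.comap_map_eq, QuotientGroup.ker_mk'] at h2
      simpa using h2
    set E := ((S : Subgroup G) ⊔ D) ⊓ Subgroup.normalizer (Y : Set G) with hE
    have hSE : IsSylIn p (S : Subgroup G) E :=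
      (isSylIn_top S).of_le (le_inf le_sup_left hSNY) le_top
    obtain ⟨e, he, heP₁⟩ := hSE.exists_conj_le hP₁p (le_inf hP₁SD hP₁N)
    obtain ⟨s, hs, d', hd', rfl⟩ := mem_sup_normal_right (Subgroup.mem_inf.mp he).1
    have hd'N : d' ∈ Subgroup.normalizer (Y : Set G) := by
      have := mul_mem (inv_mem (hSNY hs)) (Subgroup.mem_inf.mp he).2
      simpa using this
    have hd'P₁ : MulAut.conj d' • P₁ ≤ (S : Subgroup G) := by
      have h1 : MulAut.conj s⁻¹ • (MulAut.conj (s * d') • P₁) ≤ MulAut.conj s⁻¹ • (S : Subgroup G) :=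
        conj_smul_le_conj_smul heP₁
      rw [← conj_mul_smul, conj_smul_eq_self_of_mem (inv_mem hs)] at h1
      simpa using h1
    set n' := n * d'⁻¹ with hn'
    have hπn' : π n' = π n := by
      rw [hn', map_mul, map_inv, hπd d' hd', inv_one, mul_one]
    have hn'N : n' ∈ Subgroup.normalizer (Y : Set G) := mul_mem hn (inv_mem hd'N)
    have hrcS : rc n' A ⊆ (S : Subgroup G) := by
      rw [hn', rc_mul]
      rintro _ ⟨b, hb, rfl⟩
      apply hd'P₁
      have := conj_mem_conj_smul (g := d') (hrcP₁ hb)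
      simpa using this
    have hrest' : IsStepChain (StepIn (indFam 𝓦 (G ⧸ D)) ⊤ ((S : Subgroup G).map π))
        (((S : Subgroup G).map π : Subgroup (G ⧸ D)) : Set (G ⧸ D)) (π '' (rc n' A)) tl := by
      rw [image_rc, hπn']; exact hrest
    obtain ⟨l, hl, hlprod⟩ := ih (rc n' A) hrcS hrest'
    refine ⟨n' :: l, ⟨⟨_, ⟨W, hW, rfl⟩, Subgroup.mem_inf.mpr ⟨Subgroup.mem_top _, hn'N⟩⟩, hrcS, hl⟩, ?_⟩
    rw [List.prod_cons, List.prod_cons, map_mul, hlprod, hπn', hπnd]

theorem isSylIn_map_top {G H : Type*} [Group G] [Group H] [Finite G] (f : G →* H)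
    (hf : Function.Surjective f) (S : Sylow p G) : IsSylIn p ((S : Subgroup G).map f) ⊤ := by
  refine ⟨le_top, S.isPGroup'.map f, ?_⟩
  rw [Subgroup.relIndex_top_right]
  intro hdvd
  exact S.not_dvd_index (hdvd.trans (Subgroup.index_map_dvd _ hf))

/-- Family control of strong fusion lifts from the quotient by a normal `p'`-subgroup. -/
theorem fcsf_of_quot_pprime {𝓦 : Set (∀ (Q : Type u) [Group Q], Subgroup Q)}
    (h𝓦 : ∀ W ∈ 𝓦, IsCharPFunctor.{u} p W) {G : Type u} [Group G] [Finite G]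
    (D : Subgroup G) [hDn : D.Normal] (hD : (Nat.card D).Coprime p)
    (h : FamilyControlsStrongFusionIn p (indFam 𝓦 (G ⧸ D)) ⊤) :
    FamilyControlsStrongFusionIn p (indFam 𝓦 G) ⊤ := by
  obtain ⟨S⟩ : Nonempty (Sylow p G) := inferInstance
  apply fcsf_top_of_good S
  intro A x hA hAx
  set π := QuotientGroup.mk' D with hπ
  have hsyl : IsSylIn p ((S : Subgroup G).map π) ⊤ :=
    isSylIn_map_top π (QuotientGroup.mk'_surjective D) S
  have hAbar : π '' A ⊆ ((S : Subgroup G).map π : Subgroup (G ⧸ D)) := by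
    rintro _ ⟨a, ha, rfl⟩; exact ⟨a, hA ha, rfl⟩
  have hAxbar : rc (π x) (π '' A) ⊆ ((S : Subgroup G).map π : Subgroup (G ⧸ D)) := by
    rw [← image_rc]
    rintro _ ⟨a, ha, rfl⟩; exact ⟨a, hAx ha, rfl⟩
  obtain ⟨l', hl', hl'a⟩ := family_good_at (isConjugacyFunctor_indFam h𝓦 (G ⧸ D)) h hsyl
    (π '' A) (π x) (Subgroup.mem_top _) hAbar hAxbar
  obtain ⟨l, hl, hlprod⟩ := lift_chain_pprime h𝓦 D hD S l' A hA hl'
  refine ⟨l, hl, fun a ha => ?_⟩
  -- both sides lie in `S` and agree modulo `D`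
  have hSD : D ⊓ (S : Subgroup G) = ⊥ := inf_eq_bot_of_coprime hD S.isPGroup'
  have h1 : l.prod⁻¹ * a * l.prod ∈ (S : Subgroup G) := by
    have hchain : Good (GlobStep (indFam 𝓦 G) S) ((S : Subgroup G) : Set G) A l.prod :=
      ⟨l, hl, fun _ _ => rfl⟩
    have := good_rc_subset hA hchain
    exact this ⟨a, ha, rfl⟩
  have h2 : x⁻¹ * a * x ∈ (S : Subgroup G) := hAx ⟨a, ha, rfl⟩
  have h3 : π (l.prod⁻¹ * a * l.prod) = π (x⁻¹ * a * x) := by
    have := hl'a (π a) ⟨a, ha, rfl⟩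
    rw [map_mul, map_mul, map_inv, map_mul, map_mul, map_inv, hlprod]
    exact this
  have h4 : (l.prod⁻¹ * a * l.prod)⁻¹ * (x⁻¹ * a * x) ∈ D ⊓ (S : Subgroup G) := by
    refine Subgroup.mem_inf.mpr ⟨?_, mul_mem (inv_mem h1) h2⟩
    have h5 : π ((l.prod⁻¹ * a * l.prod)⁻¹ * (x⁻¹ * a * x)) = 1 := by
      rw [map_mul, map_inv, h3, inv_mul_cancel]
    exact (QuotientGroup.eq_one_iff _).mp h5
  rw [hSD, Subgroup.mem_bot] at h4
  exact inv_mul_eq_one.mp h4

end B2

end Cfsg.Agent.Helper33
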