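import Mathlib
import Cfsg.Agent.Lib.Helper33.SecFusionB

/-!
Two reductions for strong fusion: the Frattini splitting `G = (S N) N_G(S ∩ N)` for a normal
subgroup `N`, and the lifting from `G / Q` for a normal `p`-subgroup `Q` with `G = S C_G(Q)`.
-/

set_option autoImplicit false
universe u
open Pointwise Cfsg

namespace Cfsg.Agent.Helper33

section C

variable {G : Type*} [Group G] [Finite G] {p : ℕ} [Fact p.Prime]

theorem rc_subset_iff_closure_le {A : Set G} {x : G} {H : Subgroup G} :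
    rc x A ⊆ H ↔ MulAut.conj x⁻¹ • Subgroup.closure A ≤ H := by
  rw [← map_conj_eq_smul, MonoidHom.map_closure, Subgroup.closure_le]
  constructor
  · rintro h _ ⟨a, ha, rfl⟩
    apply h
    exact ⟨a, ha, by simp⟩
  · rintro h _ ⟨a, ha, rfl⟩
    have := h ⟨a, ha, rfl⟩
    simpa using this

/-- Frattini splitting of a conjugation. -/
theorem frattini_split (S : Sylow p G) (N : Subgroup G) [hN : N.Normal] (A : Set G) (x : G)
    (hA : A ⊆ (S : Subgroup G)) (hAx : rc x A ⊆ (S : Subgroup G)) :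
    ∃ u ∈ (S : Subgroup G) ⊔ N,
      ∃ m ∈ Subgroup.normalizer (((S : Subgroup G) ⊓ N : Subgroup G) : Set G),
        x = u * m ∧ rc u A ⊆ (S : Subgroup G) := by
  set R := (S : Subgroup G) ⊓ N with hR
  obtain ⟨m₀, hm₀, n₀, hn₀, hx⟩ := exists_frattini S N x⁻¹
  set n := n₀⁻¹ with hn
  set m := m₀⁻¹ with hm
  have hxnm : x = n * m := by
    have : x = (x⁻¹)⁻¹ := (inv_inv x).symm
    rw [this, hx, mul_inv_rev]
  have hnN : n ∈ N := inv_mem hn₀
  have hmR : m ∈ Subgroup.normalizer (R : Set G) := inv_mem hm₀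
  have hclA : Subgroup.closure A ≤ (S : Subgroup G) := (Subgroup.closure_le _).mpr hA
  set P₁ := MulAut.conj n⁻¹ • Subgroup.closure A with hP₁
  have hP₁p : IsPGroup p P₁ := isPGroup_conj_smul (S.isPGroup'.to_le hclA)
  have hrcP₁ : rc n A ⊆ P₁ := rc_subset_iff_closure_le.mpr le_rfl
  have hSR : (S : Subgroup G) ≤ Subgroup.normalizer (R : Set G) := sylow_le_normalizer_inf S N
  have hP₁m : P₁ ≤ MulAut.conj m • (S : Subgroup G) := by
    have h1 : MulAut.conj x⁻¹ • Subgroup.closure A ≤ (S : Subgroup G) :=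
      rc_subset_iff_closure_le.mp hAx
    have h2 : MulAut.conj m • (MulAut.conj x⁻¹ • Subgroup.closure A) ≤
        MulAut.conj m • (S : Subgroup G) := conj_smul_le_conj_smul h1
    rw [← conj_mul_smul] at h2
    have e : m * x⁻¹ = n⁻¹ := by rw [hxnm]; group
    rwa [e] at h2
  have hP₁R : P₁ ≤ Subgroup.normalizer (R : Set G) := by
    refine hP₁m.trans ?_
    have := conj_smul_le_conj_smul (g := m) hSR
    rwa [conj_smul_eq_self_of_mem hmR] at this
  have hP₁G₁ : P₁ ≤ (S : Subgroup G) ⊔ N := by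
    have h1 : P₁ ≤ MulAut.conj n⁻¹ • ((S : Subgroup G) ⊔ N) :=
      conj_smul_le_conj_smul (hclA.trans le_sup_left)
    rwa [conj_smul_eq_self_of_mem (inv_mem (le_sup_right (a := (S : Subgroup G)) hnN))] at h1
  set E := ((S : Subgroup G) ⊔ N) ⊓ Subgroup.normalizer (R : Set G) with hE
  have hSE : IsSylIn p (S : Subgroup G) E :=
    (isSylIn_top S).of_le (le_inf le_sup_left hSR) le_top
  obtain ⟨e, he, heP₁⟩ := hSE.exists_conj_le hP₁p (le_inf hP₁G₁ hP₁R)
  obtain ⟨he1, he2⟩ := Subgroup.mem_inf.mp he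
  refine ⟨n * e⁻¹, mul_mem (le_sup_right (a := (S : Subgroup G)) hnN) (inv_mem he1), e * m,
    mul_mem he2 hmR, by rw [hxnm]; group, ?_⟩
  rw [rc_mul]
  rintro _ ⟨b, hb, rfl⟩
  apply heP₁
  have := conj_mem_conj_smul (g := e) (hrcP₁ hb)
  simpa using this

/-- strong fusion is generated by the fusion in `S N` and in `N_G(S ∩ N)` -/
theorem good_of_frattini (S : Sylow p G) (N : Subgroup G) [hN : N.Normal] (Pred : G → Prop)
    (h₁ : ∀ (A : Set G) (u : G), u ∈ (S : Subgroup G) ⊔ N → A ⊆ (S : Subgroup G) →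
      rc u A ⊆ (S : Subgroup G) → Good Pred ((S : Subgroup G) : Set G) A u)
    (h₂ : ∀ (A : Set G) (m : G),
      m ∈ Subgroup.normalizer (((S : Subgroup G) ⊓ N : Subgroup G) : Set G) →
      A ⊆ (S : Subgroup G) → rc m A ⊆ (S : Subgroup G) → Good Pred ((S : Subgroup G) : Set G) A m)
    (A : Set G) (x : G) (hA : A ⊆ (S : Subgroup G)) (hAx : rc x A ⊆ (S : Subgroup G)) :
    Good Pred ((S : Subgroup G) : Set G) A x := by
  obtain ⟨u, hu, m, hm, rfl, hAu⟩ := frattini_split S N A x hA hAx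
  exact Good.trans (h₁ A u hu hA hAu) (h₂ (rc u A) m hm hAu (by rw [← rc_mul]; exact hAx))

end C

end Cfsg.Agent.Helper33
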