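import Mathlib
import Cfsg.Prelude.Def_ConjugacyFunctors
import Cfsg.Prelude.Def_Transfer
import Cfsg.Agent.Lib.Helper33.Control

set_option autoImplicit false
open Pointwise Cfsg

namespace Cfsg.Agent.Helper33

variable {G : Type*} [Group G]

theorem Reach.first_moved {𝓕 : Set (Subgroup G)} {A : Set G} {h : G} (hr : Reach 𝓕 A h)
    (hne : rc h A ≠ A) :
    ∃ T ∈ 𝓕, A ⊆ T ∧ ∃ x ∈ Subgroup.normalizer (T : Set G), rc x A ≠ A := by
  obtain ⟨l, hl, rfl⟩ := hr
  induction l with
  | nil => simp [rc_one] at hne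
  | cons hd tl ih =>
    obtain ⟨T, x⟩ := hd
    by_cases hx : rc x A = A
    · have h2 := hl.2.2.2
      rw [hx] at h2
      apply ih h2
      simp only [List.map_cons, List.prod_cons] at hne
      rwa [rc_mul, hx] at hne
    · exact ⟨T, hl.1, hl.2.2.1, x, hl.2.1, hx⟩

section fin

variable [Finite G] {p : ℕ} [Fact p.Prime]

/-- candidates: well-placed `T` containing `A` whose normalizer moves `A` inside `N_S(T)` -/
def IsCandidate (W : Subgroup G → Subgroup G) (S : Sylow p G) (A T : Subgroup G) : Prop :=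
  IsWellPlaced p W (S : Subgroup G) T ∧ A ≤ T ∧
    ∃ g ∈ Subgroup.normalizer (T : Set G),
      MulAut.conj g • A ≤ (S : Subgroup G) ⊓ Subgroup.normalizer (T : Set G) ∧ MulAut.conj g • A ≠ A

theorem candidate_improve {W : Subgroup G → Subgroup G} (hW : IsConjugacyFunctor p W)
    (hWZ : ∀ P : Subgroup G, IsPGroup p ↥P → P ⊓ Subgroup.centralizer (P : Set G) ≤ W P)
    (S : Sylow p G) (A : Subgroup G)
    (hAZ : A ≤ (S : Subgroup G) ⊓ Subgroup.centralizer ((S : Subgroup G) : Set G))
    (hAN : Subgroup.normalizer ((W (S : Subgroup G) : Subgroup G) : Set G) ≤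
      Subgroup.normalizer ((A : Subgroup G) : Set G))
    (n : ℕ) : ∀ T : Subgroup G, IsCandidate W S A T →
      Nat.card (S : Subgroup G) - Nat.card ((S : Subgroup G) ⊓ Subgroup.normalizer (T : Set G) : Subgroup G) = n →
      ∃ T' : Subgroup G, IsCandidate W S A T' ∧
        Subgroup.normalizer ((W ((S : Subgroup G) ⊓ Subgroup.normalizer (T' : Set G)) : Subgroup G) : Set G) ≤
          Subgroup.normalizer ((A : Subgroup G) : Set G) := by
  induction n using Nat.strong_induction_on with
  | _ n ih =>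
  intro T hT hn
  by_cases h2 : Subgroup.normalizer ((W ((S : Subgroup G) ⊓ Subgroup.normalizer (T : Set G)) : Subgroup G) : Set G) ≤
      Subgroup.normalizer ((A : Subgroup G) : Set G)
  · exact ⟨T, hT, h2⟩
  · obtain ⟨hwp, hAT, -⟩ := hT
    have hN₀p : IsPGroup p ((S : Subgroup G) ⊓ Subgroup.normalizer (T : Set G) : Subgroup G) :=
      S.isPGroup'.to_le inf_le_left
    have hN₀ : (S : Subgroup G) ⊓ Subgroup.normalizer (T : Set G) ≠ S := by
      intro h0
      rw [h0] at h2
      exact h2 hAN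
    have hW₁S : W ((S : Subgroup G) ⊓ Subgroup.normalizer (T : Set G)) ≤ (S : Subgroup G) :=
      (conjFunctor_le hW hN₀p).trans inf_le_left
    have hwp₁ := IsWellPlaced.tail hwp hW₁S
    have hgrow := IsSylIn.normalizer_growth S.isPGroup' (inf_le_left : (S : Subgroup G) ⊓ Subgroup.normalizer (T : Set G) ≤ S) hN₀
    have hNN₁ : (S : Subgroup G) ⊓ Subgroup.normalizer (((S : Subgroup G) ⊓ Subgroup.normalizer (T : Set G) : Subgroup G) : Set G) ≤
        (S : Subgroup G) ⊓ Subgroup.normalizer ((W ((S : Subgroup G) ⊓ Subgroup.normalizer (T : Set G)) : Subgroup G) : Set G) :=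
      inf_le_inf_left _ (normalizer_le_normalizer_functor hW hN₀p)
    have hcard1 := card_lt_of_lt (lt_of_lt_of_le hgrow hNN₁)
    have hcard3 : Nat.card ((S : Subgroup G) ⊓ Subgroup.normalizer ((W ((S : Subgroup G) ⊓ Subgroup.normalizer (T : Set G)) : Subgroup G) : Set G) : Subgroup G) ≤ Nat.card (S : Subgroup G) :=
      Subgroup.card_le_of_le inf_le_left
    -- A ≤ T₁
    have hAT₁ : A ≤ W ((S : Subgroup G) ⊓ Subgroup.normalizer (T : Set G)) := by
      refine le_trans ?_ (hWZ _ hN₀p)
      refine le_inf (le_inf (hAZ.trans inf_le_left) (hAT.trans Subgroup.le_normalizer)) ?_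
      refine (hAZ.trans inf_le_right).trans ?_
      exact Subgroup.centralizer_le (by
        intro x hx
        exact (inf_le_left : (S : Subgroup G) ⊓ Subgroup.normalizer (T : Set G) ≤ S) hx)
    -- T₁ is a candidate
    have hcand : IsCandidate W S A (W ((S : Subgroup G) ⊓ Subgroup.normalizer (T : Set G))) := by
      refine ⟨hwp₁, hAT₁, ?_⟩
      rw [SetLike.not_le_iff_exists] at h2
      obtain ⟨x, hx, hxA⟩ := h2
      refine ⟨x, hx, ?_, ?_⟩
      · refine le_trans (conj_smul_le_conj_smul hAT₁) ?_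
        rw [smul_eq_of_mem_normalizer hx]
        exact le_inf hW₁S Subgroup.le_normalizer
      · intro h0
        exact hxA (mem_normalizer_iff_smul_eq.mpr h0)
    exact ih _ (by omega) _ hcand rfl

theorem exists_candidate {W : Subgroup G → Subgroup G} (hW : IsConjugacyFunctor p W)
    (S : Sylow p G) (A : Subgroup G)
    (hnwc : ¬ Cfsg.IsWeaklyClosed A (S : Subgroup G)) (hAS : A ≤ (S : Subgroup G)) :
    ∃ T, IsCandidate W S A T := by
  have : ∃ g : G, MulAut.conj g • A ≤ (S : Subgroup G) ∧ MulAut.conj g • A ≠ A := by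
    by_contra hcon
    push Not at hcon
    exact hnwc ⟨hAS, fun g hg => hcon g hg⟩
  obtain ⟨g, hg1, hg2⟩ := this
  have h' : ∀ T : Subgroup G, T ≤ (S : Subgroup G) →
      ∃ U ∈ {T : Subgroup G | IsWellPlaced p W (S : Subgroup G) T}, (∃ g : G, MulAut.conj g • T = U) ∧
      IsSylIn p ((S : Subgroup G) ⊓ Subgroup.normalizer (U : Set G))
        (Subgroup.normalizer (U : Set G)) := by
    intro T hT
    obtain ⟨g, -, hg⟩ := exists_wellPlaced hW S hT
    refine ⟨_, hg, ⟨g, rfl⟩, ?_⟩
    have := ((isWellPlaced_iff_isSylIn S.isPGroup').mp hg).2 0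
    rwa [functorTower_zero] at this
  have hr := reach_of_criterion S _ (fun U hU => hU.1) h' A hAS g⁻¹ (by rw [inv_inv]; exact hg1)
  have hne : rc g⁻¹ (A : Set G) ≠ A := by
    rw [rc_coe, inv_inv]
    intro h0
    exact hg2 (SetLike.coe_injective h0)
  obtain ⟨T, hT, hAT, x, hx, hxA⟩ := hr.first_moved hne
  refine ⟨T, hT, hAT, x⁻¹, inv_mem hx, ?_, ?_⟩
  · refine le_trans (conj_smul_le_conj_smul (show A ≤ T from hAT)) ?_
    rw [smul_eq_of_mem_normalizer (inv_mem hx)]
    exact le_inf hT.1 Subgroup.le_normalizer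
  · intro h0
    apply hxA
    rw [rc_coe, h0]

end fin

end Cfsg.Agent.Helper33
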