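import Mathlib
import Cfsg.Agent.Lib.Helper33.SecFusionC

/-!
Lifting of strong fusion from `G / Q`, for a normal `p`-subgroup `Q` with `G = S C_G(Q)`.
-/

set_option autoImplicit false
universe u
open Pointwise Cfsg
open scoped commutatorElement

namespace Cfsg.Agent.Helper33

section D

variable {G : Type*} [Group G] [Finite G] {p : ℕ} [Fact p.Prime]

/-- lifting a step chain from the quotient by a normal `p`-subgroup -/
theorem lift_chain_pgroup (S : Sylow p G) (Q : Subgroup G) [Q.Normal] (hQS : Q ≤ (S : Subgroup G))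
    (Pred : G → Prop) (Pred' : G ⧸ Q → Prop)
    (hPred : ∀ y, Pred' (QuotientGroup.mk' Q y) → Pred y) :
    ∀ (l' : List (G ⧸ Q)) (B : Set G),
      IsStepChain Pred' (((S : Subgroup G).map (QuotientGroup.mk' Q) : Subgroup (G ⧸ Q)) : Set (G ⧸ Q))
        ((QuotientGroup.mk' Q) '' B) l' →
      ∃ l : List G, IsStepChain Pred ((S : Subgroup G) : Set G) B l ∧
        (QuotientGroup.mk' Q) l.prod = l'.prod := by
  intro l'
  induction l' with
  | nil => intro B _; exact ⟨[], trivial, by simp⟩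
  | cons ybar tl ih =>
    intro B h
    obtain ⟨hP, hSbar, hrest⟩ := h
    obtain ⟨y, rfl⟩ := QuotientGroup.mk'_surjective Q ybar
    have hrcS : rc y B ⊆ (S : Subgroup G) := by
      rintro _ ⟨b, hb, rfl⟩
      have h1 : (QuotientGroup.mk' Q) (y⁻¹ * b * y) ∈ (S : Subgroup G).map (QuotientGroup.mk' Q) := by
        apply hSbar
        exact ⟨(QuotientGroup.mk' Q) b, ⟨b, hb, rfl⟩, by simp⟩
      have h2 : y⁻¹ * b * y ∈ ((S : Subgroup G).map (QuotientGroup.mk' Q)).comap (QuotientGroup.mk' Q) := h1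
      rw [Subgroup.comap_map_eq, QuotientGroup.ker_mk', sup_eq_left.mpr hQS] at h2
      exact h2
    obtain ⟨l, hl, hlprod⟩ := ih (rc y B) (by rw [image_rc]; exact hrest)
    exact ⟨y :: l, ⟨hPred y hP, hrcS, hl⟩, by rw [List.prod_cons, List.prod_cons, map_mul, hlprod]⟩

/-- the chain `T ≥ Q ≥ 1` -/
def chainTQ (T Q : Subgroup G) : ℕ → Subgroup G
  | 0 => T
  | 1 => Q
  | _ + 2 => ⊥

theorem exists_pow_mem_centralizer_of_factor (S : Sylow p G) (Q : Subgroup G) [Q.Normal]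
    (hSC : ∀ g : G, ∃ s ∈ (S : Subgroup G), ∃ c ∈ Subgroup.centralizer (Q : Set G), g = s * c)
    (k : G) : ∃ a : ℕ, k ^ (p ^ a) ∈ Subgroup.centralizer (Q : Set G) := by
  obtain ⟨s, hs, c₀, hc₀, rfl⟩ := hSC k
  obtain ⟨a, ha⟩ := (IsPGroup.iff_orderOf.mp S.isPGroup') ⟨s, hs⟩
  refine ⟨a, ?_⟩
  have hs1 : s ^ (p ^ a) = 1 := by
    have h1 : (⟨s, hs⟩ : (S : Subgroup G)) ^ (p ^ a) = 1 := by rw [← ha]; exact pow_orderOf_eq_one _
    have := congrArg Subtype.val h1
    simpa using this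
  set CQ := Subgroup.centralizer (Q : Set G) with hCQ
  have hc1 : (QuotientGroup.mk' CQ) c₀ = 1 := (QuotientGroup.eq_one_iff c₀).mpr hc₀
  have h1 : (QuotientGroup.mk' CQ) ((s * c₀) ^ (p ^ a)) = 1 := by
    rw [map_pow, map_mul, hc1, mul_one, ← map_pow, hs1, map_one]
  exact (QuotientGroup.eq_one_iff _).mp h1

/-- the core step: a member of the Alperin–Goldschmidt family -/
theorem good_core_pgroup (S : Sylow p G) (Q : Subgroup G) [hQn : Q.Normal]
    (hQS : Q ≤ (S : Subgroup G))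
    (hSC : ∀ g : G, ∃ s ∈ (S : Subgroup G), ∃ c ∈ Subgroup.centralizer (Q : Set G), g = s * c)
    (Pred : G → Prop) (Pred' : G ⧸ Q → Prop)
    (hPred : ∀ y, Pred' (QuotientGroup.mk' Q y) → Pred y)
    (hS : ∀ s ∈ (S : Subgroup G), Pred s)
    (hquot : ∀ (A' : Set (G ⧸ Q)) (x' : G ⧸ Q),
      A' ⊆ ((S : Subgroup G).map (QuotientGroup.mk' Q) : Subgroup (G ⧸ Q)) →
      rc x' A' ⊆ ((S : Subgroup G).map (QuotientGroup.mk' Q) : Subgroup (G ⧸ Q)) →
      Good Pred' (((S : Subgroup G).map (QuotientGroup.mk' Q) : Subgroup (G ⧸ Q)) : Set (G ⧸ Q)) A' x')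
    {T : Subgroup G} (hT : T ∈ centricRad S) {z : G} (hz : z ∈ Subgroup.normalizer (T : Set G)) :
    Good Pred ((S : Subgroup G) : Set G) (T : Set G) z := by
  have hTS : T ≤ (S : Subgroup G) := hT.1.1
  have hTp : IsPGroup p T := S.isPGroup'.to_le hTS
  have hQT : Q ≤ T := by
    apply le_of_mem_centricRad S Q hQS _ _ hT
    · rw [Subgroup.normalizer_eq_top]; exact le_top
    · intro i a ha g _
      exact (Subgroup.lowerCentralSeries_normal Q i).conj_mem a ha g
  set π := QuotientGroup.mk' Q with hπ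
  have hπQ : ∀ q : G, π q = 1 ↔ q ∈ Q := fun q => QuotientGroup.eq_one_iff q
  have hTbar : π '' (T : Set G) ⊆ ((S : Subgroup G).map π : Subgroup (G ⧸ Q)) := by
    rintro _ ⟨t, ht, rfl⟩; exact ⟨t, hTS ht, rfl⟩
  have hzT : rc z (T : Set G) = T := rc_normalizer hz
  have hTz : rc (π z) (π '' (T : Set G)) ⊆ ((S : Subgroup G).map π : Subgroup (G ⧸ Q)) := by
    rw [← image_rc, hzT]; exact hTbar
  obtain ⟨l', hl', hl'a⟩ := hquot _ _ hTbar hTz
  obtain ⟨l, hl, hlprod⟩ := lift_chain_pgroup S Q hQS Pred Pred' hPred l' T hl'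
  set y := l.prod with hy
  have hyT : Good Pred ((S : Subgroup G) : Set G) (T : Set G) y := ⟨l, hl, fun _ _ => rfl⟩
  have hagree : ∀ t ∈ T, π (y⁻¹ * t * y) = π (z⁻¹ * t * z) := by
    intro t ht
    have := hl'a (π t) ⟨t, ht, rfl⟩
    rw [map_mul, map_mul, map_inv, map_mul, map_mul, map_inv, hlprod]
    exact this
  set c := z * y⁻¹ with hc
  have hzcy : z = c * y := by rw [hc]; group
  have hcQ : ∀ t ∈ T, ⁅c⁻¹, t⁆ ∈ Q := by
    intro t ht
    rw [← hπQ]
    have e : ⁅c⁻¹, t⁆ = y * (z⁻¹ * t * z) * y⁻¹ * t⁻¹ := by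
      rw [commutatorElement_def, hc]; group
    rw [e, map_mul, map_mul, map_mul, ← hagree t ht]
    simp only [map_mul, map_inv]
    group
  have hcinvN : c⁻¹ ∈ Subgroup.normalizer (T : Set G) := by
    apply mem_normalizer_of_conj_smul_le
    rw [conj_smul_le_iff]
    intro t ht
    have h1 := hQT (hcQ t ht)
    have e : c⁻¹ * t * c⁻¹⁻¹ = ⁅c⁻¹, t⁆ * t := by rw [commutatorElement_def]; group
    rw [e]
    exact T.mul_mem h1 ht
  set H := Subgroup.normalizer (T : Set G) with hH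
  set K := cmod Q T ⊓ H with hK
  have hcK : c ∈ K := by
    have : c⁻¹ ∈ K := Subgroup.mem_inf.mpr
      ⟨⟨by rw [Subgroup.normalizer_eq_top]; exact Subgroup.mem_top _, hcQ⟩, hcinvN⟩
    simpa using inv_mem this
  -- `K ≤ O_{p',p}(N_G(T))`
  have hHK : H ≤ Subgroup.normalizer (K : Set G) := by
    intro h hh
    apply mem_normalizer_of_conj_smul_le
    rw [conj_smul_le_iff]
    intro k hk
    obtain ⟨hk1, hk2⟩ := Subgroup.mem_inf.mp hk
    refine Subgroup.mem_inf.mpr ⟨⟨by rw [Subgroup.normalizer_eq_top]; exact Subgroup.mem_top _, ?_⟩,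
      H.mul_mem (H.mul_mem hh hk2) (H.inv_mem hh)⟩
    intro t ht
    have h1 : h⁻¹ * t * h⁻¹⁻¹ ∈ T := conj_mem_of_mem_normalizer (H.inv_mem hh) ht
    have h2 := hk1.2 _ h1
    have e : ⁅h * k * h⁻¹, t⁆ = h * ⁅k, h⁻¹ * t * h⁻¹⁻¹⁆ * h⁻¹ := by
      simp only [commutatorElement_def]; group
    rw [e]
    exact hQn.conj_mem _ h2 h
  obtain ⟨e, he⟩ := IsPGroup.iff_card.mp hTp
  have hq : ∀ x ∈ chainTQ T Q 0, x ^ (p ^ e) = 1 := by
    intro x hx
    have h1 : (⟨x, hx⟩ : T) ^ Nat.card T = 1 := pow_card_eq_one'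
    rw [he] at h1
    have := congrArg Subtype.val h1
    simpa using this
  have hanti : ∀ j, chainTQ T Q (j + 1) ≤ chainTQ T Q j := by
    intro j
    match j with
    | 0 => exact hQT
    | 1 => exact bot_le
    | _ + 2 => exact bot_le
  have hKpow : ∀ k ∈ K, ∃ m : ℕ, k ^ (p ^ m) ∈ Lmap p H := by
    intro k hk
    obtain ⟨a, ha⟩ := exists_pow_mem_centralizer_of_factor S Q hSC k
    have hk' : k ^ (p ^ a) ∈ K := K.pow_mem hk _
    have hstab : k ^ (p ^ a) ∈ chainStabG (chainTQ T Q) := by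
      rw [mem_chainStabG]
      intro j
      match j with
      | 0 =>
        exact ⟨by show _ ∈ Subgroup.normalizer ((Q : Subgroup G) : Set G)
                  rw [Subgroup.normalizer_eq_top]; exact Subgroup.mem_top _,
          fun t ht => (Subgroup.mem_inf.mp hk').1.2 t ht⟩
      | 1 =>
        refine ⟨by show _ ∈ Subgroup.normalizer (((⊥ : Subgroup G) : Subgroup G) : Set G)
                   rw [Subgroup.normalizer_eq_top]; exact Subgroup.mem_top _, ?_⟩
        intro q hq'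
        show ⁅k ^ (p ^ a), q⁆ ∈ (⊥ : Subgroup G)
        rw [Subgroup.mem_bot, commutatorElement_eq_one_iff_commute]
        exact (ha q hq').symm
      | j + 2 =>
        refine ⟨by show _ ∈ Subgroup.normalizer (((⊥ : Subgroup G) : Subgroup G) : Set G)
                   rw [Subgroup.normalizer_eq_top]; exact Subgroup.mem_top _, ?_⟩
        intro q hq'
        have hq1 : q = 1 := Subgroup.mem_bot.mp hq'
        show ⁅k ^ (p ^ a), q⁆ ∈ (⊥ : Subgroup G)
        rw [hq1, Subgroup.mem_bot]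
        simp
    have h1 := chainStabG_pow_mem_centralizer (chainTQ T Q) hanti 2 rfl (p ^ e) hq hstab
    refine ⟨a + e * 2, ?_⟩
    rw [pow_add, pow_mul, pow_mul]
    exact centralizer_le_Lmap S hT h1
  have hKL : K ≤ Lmap p H := le_Lmap_of_pow_mem inf_le_right hHK hKpow
  have hdp := isInternalDirectProduct_Lmap S hT
  have hcL : c ∈ Omap p H ⊔ T := by rw [hdp.2.2.2.2]; exact hKL hcK
  obtain ⟨o, ho, t, ht, hcot⟩ := mem_sup_of_commute hdp.2.2.1 hcL
  have hcT : Good Pred ((S : Subgroup G) : Set G) (T : Set G) c := by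
    have h1 : Good Pred ((S : Subgroup G) : Set G) (T : Set G) t := by
      apply Good.single (hS t (hTS ht))
      rw [rc_normalizer (Subgroup.le_normalizer ht)]
      exact hTS
    apply h1.of_agree
    intro a ha
    have hoa := hdp.2.2.1 o ho a ha
    rw [hcot]
    calc (o * t)⁻¹ * a * (o * t) = t⁻¹ * (o⁻¹ * (a * o)) * t := by group
      _ = t⁻¹ * (o⁻¹ * (o * a)) * t := by rw [hoa]
      _ = t⁻¹ * a * t := by group
  rw [hzcy]
  apply Good.trans hcT
  have hcN : c ∈ H := by simpa using inv_mem hcinvN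
  rw [rc_normalizer hcN]
  exact hyT

/-- Lifting strong fusion from `G / Q` when `G = S C_G(Q)`. -/
theorem good_of_quot_pgroup (S : Sylow p G) (Q : Subgroup G) [hQn : Q.Normal]
    (hQS : Q ≤ (S : Subgroup G))
    (hSC : ∀ g : G, ∃ s ∈ (S : Subgroup G), ∃ c ∈ Subgroup.centralizer (Q : Set G), g = s * c)
    (Pred : G → Prop) (Pred' : G ⧸ Q → Prop)
    (hPred : ∀ y, Pred' (QuotientGroup.mk' Q y) → Pred y)
    (hS : ∀ s ∈ (S : Subgroup G), Pred s)
    (hquot : ∀ (A' : Set (G ⧸ Q)) (x' : G ⧸ Q),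
      A' ⊆ ((S : Subgroup G).map (QuotientGroup.mk' Q) : Subgroup (G ⧸ Q)) →
      rc x' A' ⊆ ((S : Subgroup G).map (QuotientGroup.mk' Q) : Subgroup (G ⧸ Q)) →
      Good Pred' (((S : Subgroup G).map (QuotientGroup.mk' Q) : Subgroup (G ⧸ Q)) : Set (G ⧸ Q)) A' x')
    (A : Set G) (x : G) (hA : A ⊆ (S : Subgroup G)) (hAx : rc x A ⊆ (S : Subgroup G)) :
    Good Pred ((S : Subgroup G) : Set G) A x := by
  have hclA : Subgroup.closure A ≤ (S : Subgroup G) := (Subgroup.closure_le _).mpr hA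
  have hx' : MulAut.conj x⁻¹ • Subgroup.closure A ≤ (S : Subgroup G) :=
    rc_subset_iff_closure_le.mp hAx
  obtain ⟨g', hg'a, hreach⟩ := reachA_centricRad S (Subgroup.closure A) hclA x hx'
  have hgood : Good Pred ((S : Subgroup G) : Set G) (Subgroup.closure A : Set G) g' := by
    refine Reach.bind ?_ hreach
    intro T hT z hz y hy
    exact (good_core_pgroup S Q hQS hSC Pred Pred' hPred hS hquot hT hz).mono hy
  exact (hgood.mono Subgroup.subset_closure).of_agree
    (fun a ha => (hg'a a (Subgroup.subset_closure ha)).symm)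

end D

end Cfsg.Agent.Helper33
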