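import Mathlib
import Cfsg.Agent.Lib.Helper33.SecFusionD

/-!
Sections of sections (after helper30's `SectionFunctor`), constrained groups, and the local
hypothesis of Glauberman's Theorem 6.6.
-/

set_option autoImplicit false
universe u
open Pointwise Cfsg

namespace Cfsg.Agent.Helper33

section Sections

/-- A property of groups (in universe `u`) holds in every section `K/R` of `X`. -/
def SecHave (P : ∀ (Q : Type u) [Group Q], Prop) (X : Type u) [Group X] : Prop :=
  ∀ (K R : Subgroup X) [(R.subgroupOf K).Normal], P (↥K ⧸ R.subgroupOf K)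

/-- Isomorphism invariance among finite groups. -/
def IsoInvFin (P : ∀ (Q : Type u) [Group Q], Prop) : Prop :=
  ∀ (Q R : Type u) [Group Q] [Group R] [Finite Q], (Q ≃* R) → P Q → P R

variable {P : ∀ (Q : Type u) [Group Q], Prop}

theorem SecHave.self (hP : IsoInvFin P) {X : Type u} [Group X] [Finite X]
    (h : SecHave P X) : P X := by
  have hbot : (⊥ : Subgroup X).subgroupOf ⊤ = ⊥ := Subgroup.bot_subgroupOf _
  have : ((⊥ : Subgroup X).subgroupOf ⊤).Normal := by rw [hbot]; infer_instance
  have e : (↥(⊤ : Subgroup X) ⧸ (⊥ : Subgroup X).subgroupOf ⊤) ≃* X :=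
    ((QuotientGroup.quotientMulEquivOfEq hbot).trans QuotientGroup.quotientBot).trans
      Subgroup.topEquiv
  exact hP _ _ e (h ⊤ ⊥)

theorem SecHave.subgroup (hP : IsoInvFin P) {X : Type u} [Group X] [Finite X]
    (h : SecHave P X) (N : Subgroup X) : SecHave P ↥N := by
  intro K R hR
  have hinj : Function.Injective N.subtype := N.subtype_injective
  have hR' : ((R.map N.subtype).subgroupOf (K.map N.subtype)).Normal := by
    constructor
    rintro ⟨n, hn⟩ hnR ⟨g, hg⟩
    rw [Subgroup.mem_subgroupOf] at hnR ⊢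
    obtain ⟨r, hr, hrn⟩ := hnR
    obtain ⟨k, hk, hkg⟩ := hg
    obtain ⟨n', hn', hnn⟩ := hn
    have hnr : n' = r := hinj (hnn.trans hrn.symm)
    subst hnr
    have h1 := hR.conj_mem ⟨n', hn'⟩ (by rw [Subgroup.mem_subgroupOf]; exact hr) ⟨k, hk⟩
    rw [Subgroup.mem_subgroupOf] at h1
    refine ⟨k * n' * k⁻¹, h1, ?_⟩
    simp only [map_mul, map_inv, hkg, hnn]
    rfl
  have e : (↥(K.map N.subtype) ⧸ (R.map N.subtype).subgroupOf (K.map N.subtype)) ≃*
      (↥K ⧸ R.subgroupOf K) := by
    refine (QuotientGroup.congr (R.subgroupOf K)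
      ((R.map N.subtype).subgroupOf (K.map N.subtype))
      (K.equivMapOfInjective N.subtype hinj) ?_).symm
    ext ⟨x, hx⟩
    constructor
    · rintro ⟨y, hy, hyx⟩
      rw [Subgroup.mem_subgroupOf]
      rw [SetLike.mem_coe, Subgroup.mem_subgroupOf] at hy
      refine ⟨y.1, hy, ?_⟩
      have := congrArg Subtype.val hyx
      simpa using this
    · intro hxR
      rw [Subgroup.mem_subgroupOf] at hxR
      obtain ⟨r, hr, hrx⟩ := hxR
      obtain ⟨k, hk, hkx⟩ := hx
      have hkr : k = r := hinj (hkx.trans hrx.symm)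
      subst hkr
      refine ⟨⟨k, hk⟩, ?_, ?_⟩
      · rw [SetLike.mem_coe, Subgroup.mem_subgroupOf]; exact hr
      · apply Subtype.ext
        simpa using hkx
  exact hP _ _ e (h (K.map N.subtype) (R.map N.subtype))

theorem SecHave.quotient (hP : IsoInvFin P) {X : Type u} [Group X] [Finite X]
    (h : SecHave P X) (V : Subgroup X) [V.Normal] : SecHave P (X ⧸ V) := by
  intro K R hR
  let π := QuotientGroup.mk' V
  let f : ↥(K.comap π) →* ↥K := π.subgroupComap K
  have hf : Function.Surjective f :=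
    π.subgroupComap_surjective_of_surjective K (QuotientGroup.mk'_surjective V)
  have hker : (R.comap π).subgroupOf (K.comap π) = (R.subgroupOf K).comap f := by
    ext x; rfl
  have : ((R.comap π).subgroupOf (K.comap π)).Normal := by rw [hker]; infer_instance
  let g : ↥(K.comap π) →* ↥K ⧸ R.subgroupOf K := (QuotientGroup.mk' (R.subgroupOf K)).comp f
  have hg : Function.Surjective g := (QuotientGroup.mk'_surjective _).comp hf
  have hkg : g.ker = (R.comap π).subgroupOf (K.comap π) := by
    rw [hker]; ext x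
    rw [MonoidHom.mem_ker, Subgroup.mem_comap]
    exact QuotientGroup.eq_one_iff _
  have e : (↥(K.comap π) ⧸ (R.comap π).subgroupOf (K.comap π)) ≃* (↥K ⧸ R.subgroupOf K) :=
    (QuotientGroup.quotientMulEquivOfEq hkg.symm).trans
      (QuotientGroup.quotientKerEquivOfSurjective g hg)
  exact hP _ _ e (h (K.comap π) (R.comap π))

end Sections

section Constr

/-- `C_H(O_p(H)) ≤ O_p(H)` -/
def Constr (p : ℕ) (H : Type*) [Group H] : Prop :=
  Subgroup.centralizer ((pCore p H : Subgroup H) : Set H) ≤ pCore p H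

theorem normal_pgroup_le_pCore {p : ℕ} {H : Type*} [Group H] {N : Subgroup H} (hN : N.Normal)
    (hp : IsPGroup p N) : N ≤ pCore p H :=
  le_sSup ⟨hN, hp⟩

theorem pCore_map_le {p : ℕ} {Q R : Type*} [Group Q] [Group R] (φ : Q ≃* R) :
    (pCore p Q).map φ.toMonoidHom ≤ pCore p R := by
  rw [Subgroup.map_le_iff_le_comap]
  apply sSup_le
  rintro N ⟨hN1, hN2⟩
  rw [← Subgroup.map_le_iff_le_comap]
  exact normal_pgroup_le_pCore (hN1.map _ φ.surjective) (hN2.map _)

theorem pCore_map_equiv {p : ℕ} {Q R : Type*} [Group Q] [Group R] (φ : Q ≃* R) :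
    (pCore p Q).map φ.toMonoidHom = pCore p R := by
  apply le_antisymm (pCore_map_le φ)
  intro x hx
  refine ⟨φ.symm x, ?_, by simp⟩
  have := pCore_map_le (p := p) φ.symm ⟨x, hx, rfl⟩
  simpa using this

theorem constr_of_equiv {p : ℕ} {Q R : Type*} [Group Q] [Group R] (φ : Q ≃* R)
    (h : Constr p R) : Constr p Q := by
  intro x hx
  have h1 : φ x ∈ Subgroup.centralizer ((pCore p R : Subgroup R) : Set R) := by
    rw [Subgroup.mem_centralizer_iff]
    intro y hy
    rw [SetLike.mem_coe, ← pCore_map_equiv φ] at hy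
    obtain ⟨q, hq, rfl⟩ := hy
    have := Subgroup.mem_centralizer_iff.mp hx q hq
    show φ q * φ x = φ x * φ q
    rw [← map_mul, ← map_mul, this]
  have h2 := h h1
  rw [← pCore_map_equiv φ] at h2
  obtain ⟨q, hq, hqx⟩ := h2
  have : q = x := φ.injective hqx
  rw [← this]; exact hq

end Constr

end Cfsg.Agent.Helper33
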