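import Mathlib
import Cfsg.Agent.Lib.Helper33.SecFusionE

/-!
Glauberman's Theorem 6.6 (strong fusion): a family of isomorphism-invariant `p`-group functors that
controls strong fusion in every constrained section controls strong fusion.
-/

set_option autoImplicit false
universe u
open Pointwise Cfsg

namespace Cfsg.Agent.Helper33

section F1

variable {G : Type*} [Group G] [Finite G] {p : ℕ} [Fact p.Prime]

/-- `O_{p'}(N)` is normalized by `N_G(N)` -/
theorem normalizer_le_normalizer_Omap (N : Subgroup G) :
    Subgroup.normalizer (N : Set G) ≤ Subgroup.normalizer ((Omap p N : Subgroup G) : Set G) := by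
  intro g hg
  apply mem_normalizer_of_conj_smul_le
  set K := Omap p N with hK
  have hKN : K ≤ N := Subgroup.map_subtype_le _
  set K' := MulAut.conj g • K with hK'
  have hK'N : K' ≤ N := by
    have := conj_smul_le_conj_smul (g := g) hKN
    rwa [smul_eq_of_mem_normalizer hg] at this
  have hNK' : N ≤ Subgroup.normalizer (K' : Set G) := by
    intro n hn
    rw [hK', normalizer_conj_smul, mem_conj_smul]
    apply le_normalizer_Omap p N
    have := conj_mem_of_mem_normalizer (inv_mem hg) hn
    simpa using this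
  have hnorm : (K'.subgroupOf N).Normal :=
    (Subgroup.normal_subgroupOf_iff_le_normalizer hK'N).mpr hNK'
  have hcard : (Nat.card (K'.subgroupOf N)).Coprime p := by
    have h1 : Nat.card (K'.subgroupOf N) = Nat.card K' :=
      Nat.card_congr (Subgroup.subgroupOfEquivOfLe hK'N).toEquiv
    rw [h1, hK', card_conj_smul]
    exact card_Omap_coprime N
  have hle := le_pPrimeCore' hnorm hcard
  intro x hx
  exact ⟨⟨x, hK'N hx⟩, hle (Subgroup.mem_subgroupOf.mpr hx), rfl⟩

/-- If `C_S(O_p(G)) ≤ O_p(G)` then `G / O_{p'}(G)` is constrained. -/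
theorem constr_quot_pprime (S : Sylow p G)
    (hCS : (S : Subgroup G) ⊓ Subgroup.centralizer ((pCore p G : Subgroup G) : Set G) ≤ pCore p G) :
    Constr p (G ⧸ pPrimeCore p G) := by
  set Q := pCore p G with hQ
  set D := pPrimeCore p G with hD
  have hQn : Q.Normal := pCore_normal p
  have hDn : D.Normal := pPrimeCore_normal p
  have hQS : Q ≤ (S : Subgroup G) := pCore_le_sylow S
  have hQp : IsPGroup p Q := S.isPGroup'.to_le hQS
  have hDcop : (Nat.card D).Coprime p := card_pPrimeCore_coprime' p
  set π := QuotientGroup.mk' D with hπ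
  have hQbar : Q.map π ≤ pCore p (G ⧸ D) :=
    normal_pgroup_le_pCore (hQn.map _ (QuotientGroup.mk'_surjective D)) (hQp.map _)
  -- the structure of `C_G(Q)`
  have hdp := centric_imp_directProduct S Q hQS (by
    intro g _
    rw [smul_eq_of_mem_normalizer (by rw [Subgroup.normalizer_eq_top]; exact Subgroup.mem_top g)]
    exact hCS)
  set C := Subgroup.centralizer (Q : Set G) with hC
  have hKD : Omap p C ≤ D := by
    apply le_pPrimeCore' _ (card_Omap_coprime C)
    rw [← Subgroup.normalizer_eq_top_iff, eq_top_iff]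
    refine le_trans ?_ (normalizer_le_normalizer_Omap C)
    rw [Subgroup.normalizer_eq_top]
  intro xbar hxbar
  obtain ⟨x, rfl⟩ := QuotientGroup.mk'_surjective D xbar
  have hxC : x ∈ C := by
    rw [hC, Subgroup.mem_centralizer_iff]
    intro q hq
    have h1 : π q * π x = π x * π q :=
      Subgroup.mem_centralizer_iff.mp hxbar (π q) (hQbar ⟨q, hq, rfl⟩)
    have h2 : (q * x)⁻¹ * (x * q) ∈ D := by
      rw [← QuotientGroup.eq_one_iff, ← QuotientGroup.mk'_apply, map_mul, map_inv, map_mul, map_mul,
        h1, inv_mul_cancel]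
    have h3 : (q * x)⁻¹ * (x * q) ∈ Q := by
      have e : (q * x)⁻¹ * (x * q) = x⁻¹ * q⁻¹ * x⁻¹⁻¹ * q := by group
      rw [e]
      exact Q.mul_mem (hQn.conj_mem _ (Q.inv_mem hq) _) hq
    have h4 : (q * x)⁻¹ * (x * q) ∈ D ⊓ Q := ⟨h2, h3⟩
    rw [inf_eq_bot_of_coprime hDcop hQp, Subgroup.mem_bot] at h4
    exact (inv_mul_eq_one.mp h4)
  have hx2 : x ∈ (Q ⊓ C) ⊔ Omap p C := by
    have := hdp.2.2.2.2
    rw [show (pPrimeCore p ↥C).map C.subtype = Omap p C from rfl] at this
    rw [this]; exact hxC
  have hx3 : x ∈ Q ⊔ D := sup_le_sup inf_le_left hKD hx2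
  obtain ⟨q, hq, d, hd, rfl⟩ := mem_sup_normal_right hx3
  have hπd : π d = 1 := (QuotientGroup.eq_one_iff d).mpr hd
  rw [map_mul, hπd, mul_one]
  exact hQbar ⟨q, hq, rfl⟩

end F1

section F2

variable {p : ℕ} [Fact p.Prime]

/-- the local hypothesis of Theorem 6.6 -/
def LocHyp (p : ℕ) (𝓦 : Set (∀ (Q : Type u) [Group Q], Subgroup Q)) (H : Type u) [Group H] : Prop :=
  Constr p H → FamilyControlsStrongFusionIn p (indFam 𝓦 H) ⊤

theorem locHyp_isoInv {𝓦 : Set (∀ (Q : Type u) [Group Q], Subgroup Q)}
    (h𝓦 : ∀ W ∈ 𝓦, IsCharPFunctor.{u} p W) : IsoInvFin (LocHyp.{u} p 𝓦) := by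
  intro Q R _ _ _ φ hQ hR
  have h1 := hQ (constr_of_equiv φ hR)
  have h2 := fcsf_range h𝓦 φ.toMonoidHom φ.injective h1
  have : φ.toMonoidHom.range = ⊤ := MonoidHom.range_eq_top.mpr φ.surjective
  rwa [this] at h2

theorem constr_pgroup (S : Type*) [Group S] (hS : IsPGroup p S) : Constr p S := by
  intro x _
  have h1 : (⊤ : Subgroup S) ≤ pCore p S :=
    normal_pgroup_le_pCore inferInstance (hS.to_subgroup ⊤)
  exact h1 (Subgroup.mem_top x)

theorem card_quotient_lt {G : Type*} [Group G] [Finite G] (N : Subgroup G) (hN : N ≠ ⊥) :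
    Nat.card (G ⧸ N) < Nat.card G := by
  rw [Subgroup.card_eq_card_quotient_mul_card_subgroup N]
  have h1 : 1 < Nat.card N := (Subgroup.one_lt_card_iff_ne_bot N).mpr hN
  have h2 : 0 < Nat.card (G ⧸ N) := Nat.card_pos
  nlinarith

theorem card_subgroup_lt {G : Type*} [Group G] [Finite G] (K : Subgroup G) (hK : K ≠ ⊤) :
    Nat.card K < Nat.card G := by
  rw [← Subgroup.card_top (G := G)]
  exact card_lt_of_lt (lt_top_iff_ne_top.mpr hK)

/-- **Glauberman's Theorem 6.6** for strong fusion. -/
theorem secFusion_main {𝓦 : Set (∀ (Q : Type u) [Group Q], Subgroup Q)}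
    (h𝓦 : ∀ W ∈ 𝓦, IsCharPFunctor.{u} p W) :
    ∀ (n : ℕ) (G : Type u) [Group G] [Finite G], Nat.card G = n →
      SecHave (LocHyp.{u} p 𝓦) G → FamilyControlsStrongFusionIn p (indFam 𝓦 G) ⊤ := by
  intro n
  induction n using Nat.strong_induction_on with
  | _ n ih =>
  intro G _ _ hcard hsec
  have hiso := locHyp_isoInv (p := p) h𝓦
  have h𝔚 := isConjugacyFunctor_indFam h𝓦 G
  have ihsub : ∀ K : Subgroup G, K ≠ ⊤ → FamilyControlsStrongFusionIn p (indFam 𝓦 G) K := by
    intro K hK
    have hlt : Nat.card K < n := hcard ▸ card_subgroup_lt K hK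
    have h1 := ih _ hlt ↥K rfl (hsec.subgroup hiso K)
    have h2 := fcsf_range h𝓦 K.subtype K.subtype_injective h1
    rwa [Subgroup.range_subtype] at h2
  obtain ⟨S⟩ : Nonempty (Sylow p G) := inferInstance
  set Q := pCore p G with hQdef
  have hQS : Q ≤ (S : Subgroup G) := pCore_le_sylow S
  have hQn : Q.Normal := pCore_normal p
  by_cases hQ : Q = ⊥
  · -- `O_p(G) = 1`: the tower argument
    apply familyControlsStrongFusion_global h𝔚 S
    intro T hTS hTne _
    apply ihsub
    intro htop
    have hTn : T.Normal := Subgroup.normalizer_eq_top_iff.mp htop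
    have h1 : T ≤ Q := normal_pgroup_le_pCore hTn (S.isPGroup'.to_le hTS)
    rw [hQ] at h1
    exact hTne (le_bot_iff.mp h1)
  · apply fcsf_top_of_good S
    -- fusion inside proper subgroups containing `S`
    have hsubgood : ∀ K : Subgroup G, K ≠ ⊤ → (S : Subgroup G) ≤ K → ∀ (A : Set G) (u : G),
        u ∈ K → A ⊆ (S : Subgroup G) → rc u A ⊆ (S : Subgroup G) →
        Good (GlobStep (indFam 𝓦 G) S) ((S : Subgroup G) : Set G) A u := by
      intro K hK hSK A u hu hA hAu
      have h1 := family_good_at h𝔚 (ihsub K hK) ((isSylIn_top S).of_le hSK le_top) A u hu hA hAu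
      refine h1.mono_pred ?_
      rintro y ⟨W, hW, hy⟩
      exact ⟨W, hW, Subgroup.mem_inf.mpr ⟨Subgroup.mem_top _, (Subgroup.mem_inf.mp hy).2⟩⟩
    set C := Subgroup.centralizer (Q : Set G) with hC
    set N := Q ⊔ C with hN
    have hNn : N.Normal := inferInstance
    set R := (S : Subgroup G) ⊓ N with hR
    by_cases hRQ : R ≤ Q
    · -- `G / O_{p'}(G)` is constrained
      have hcon : Constr p (G ⧸ pPrimeCore p G) := by
        apply constr_quot_pprime S
        exact le_trans (inf_le_inf_left _ le_sup_right) hRQ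
      have : (pPrimeCore p G).Normal := pPrimeCore_normal p
      have hloc : LocHyp p 𝓦 (G ⧸ pPrimeCore p G) :=
        (hsec.quotient hiso (pPrimeCore p G)).self hiso
      have h1 := fcsf_of_quot_pprime h𝓦 (pPrimeCore p G) (card_pPrimeCore_coprime' p) (hloc hcon)
      exact fun A x hA hAx => good_of_fcsf_top h𝔚 h1 S A x hA hAx
    · have hNR : Subgroup.normalizer (R : Set G) ≠ ⊤ := by
        intro htop
        have hRn : R.Normal := Subgroup.normalizer_eq_top_iff.mp htop
        exact hRQ (normal_pgroup_le_pCore hRn (S.isPGroup'.to_le inf_le_left))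
      by_cases hSN : (S : Subgroup G) ⊔ N = ⊤
      · -- `G = S C_G(Q)`
        have hSC : ∀ g : G, ∃ s ∈ (S : Subgroup G), ∃ c ∈ C, g = s * c := by
          intro g
          have h1 : g ∈ (S : Subgroup G) ⊔ C := by
            have h2 : (S : Subgroup G) ⊔ N = (S : Subgroup G) ⊔ C := by
              rw [hN, ← sup_assoc, sup_eq_left.mpr hQS]
            rw [← h2, hSN]; exact Subgroup.mem_top g
          exact mem_sup_normal_right h1
        set π := QuotientGroup.mk' Q with hπ
        set Sbar := (S : Subgroup G).map π with hSbar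
        have hSbarsyl : IsSylIn p Sbar ⊤ := isSylIn_map_top π (QuotientGroup.mk'_surjective Q) S
        have hSbarp : IsPGroup p Sbar := hSbarsyl.isPGroup
        have hSbarne : Sbar ≠ ⊥ := by
          intro h0
          apply hRQ
          have h1 : (S : Subgroup G) ≤ Q := by
            intro s hs
            have : π s ∈ Sbar := ⟨s, hs, rfl⟩
            rw [h0, Subgroup.mem_bot] at this
            exact (QuotientGroup.eq_one_iff s).mp this
          exact inf_le_left.trans h1
        have hQne : Q ≠ ⊥ := hQ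
        have hquotctl : FamilyControlsStrongFusionIn p (indFam 𝓦 (G ⧸ Q)) ⊤ := by
          have hlt : Nat.card (G ⧸ Q) < n := hcard ▸ card_quotient_lt Q hQne
          exact ih _ hlt (G ⧸ Q) rfl (hsec.quotient hiso Q)
        have h𝔚' := isConjugacyFunctor_indFam h𝓦 (G ⧸ Q)
        set M : (∀ (X : Type u) [Group X], Subgroup X) → Subgroup G := fun W =>
          (Subgroup.normalizer ((inducedFunctor W Sbar : Subgroup (G ⧸ Q)) : Set (G ⧸ Q))).comap π
          with hM
        set Pred : G → Prop := fun y => y ∈ (S : Subgroup G) ∨ ∃ W ∈ 𝓦, y ∈ M W with hPred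
        have hstepgood : ∀ (y : G) (B : Set G), Pred y → B ⊆ (S : Subgroup G) →
            rc y B ⊆ (S : Subgroup G) →
            Good (GlobStep (indFam 𝓦 G) S) ((S : Subgroup G) : Set G) B y := by
          rintro y B (hy | ⟨W, hW, hy⟩) hB hBy
          · -- steps inside `S`
            have hlocS : LocHyp p 𝓦 ↥(S : Subgroup G) := (hsec.subgroup hiso S).self hiso
            have h1 := hlocS (constr_pgroup _ S.isPGroup')
            have h2 := fcsf_range h𝓦 (S : Subgroup G).subtype (Subgroup.subtype_injective _) h1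
            rw [Subgroup.range_subtype] at h2
            have hSS : IsSylIn p (S : Subgroup G) (S : Subgroup G) :=
              (isSylIn_top S).of_le le_rfl le_top
            have h3 := family_good_at h𝔚 h2 hSS B y hy hB hBy
            refine h3.mono_pred ?_
            rintro z ⟨W, hW, hz⟩
            exact ⟨W, hW, Subgroup.mem_inf.mpr ⟨Subgroup.mem_top _, (Subgroup.mem_inf.mp hz).2⟩⟩
          · -- steps inside `M W`
            have hWc := h𝔚' _ ⟨W, hW, rfl⟩
            have hSM : (S : Subgroup G) ≤ M W := by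
              intro s hs
              show π s ∈ Subgroup.normalizer ((inducedFunctor W Sbar : Subgroup (G ⧸ Q)) : Set (G ⧸ Q))
              exact normalizer_le_normalizer_functor hWc hSbarp (Subgroup.le_normalizer ⟨s, hs, rfl⟩)
            have hMne : M W ≠ ⊤ := by
              intro htop
              have hYn : (inducedFunctor W Sbar : Subgroup (G ⧸ Q)).Normal := by
                rw [← Subgroup.normalizer_eq_top_iff, eq_top_iff]
                intro gbar _
                obtain ⟨g, rfl⟩ := QuotientGroup.mk'_surjective Q gbar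
                have : g ∈ M W := by rw [htop]; exact Subgroup.mem_top g
                exact this
              have hYle : inducedFunctor W Sbar ≤ Sbar := indF_le W Sbar
              set Y := (inducedFunctor W Sbar : Subgroup (G ⧸ Q)).comap π with hY
              have hYS : Y ≤ (S : Subgroup G) := by
                have h1 : Y ≤ Sbar.comap π := Subgroup.comap_mono hYle
                rw [hSbar, Subgroup.comap_map_eq, QuotientGroup.ker_mk', sup_eq_left.mpr hQS] at h1
                exact h1
              have hYQ : Y ≤ Q :=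
                normal_pgroup_le_pCore (hYn.comap π) (S.isPGroup'.to_le hYS)
              have hbot : inducedFunctor W Sbar = ⊥ := by
                rw [eq_bot_iff]
                intro ybar hybar
                obtain ⟨y', rfl⟩ := QuotientGroup.mk'_surjective Q ybar
                have : y' ∈ Q := hYQ hybar
                rw [Subgroup.mem_bot]
                exact (QuotientGroup.eq_one_iff y').mpr this
              exact (hWc Sbar hSbarp).2.1 hSbarne hbot
            exact hsubgood (M W) hMne hSM B y hy hB hBy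
        intro A x hA hAx
        have hgood : Good Pred ((S : Subgroup G) : Set G) A x := by
          refine good_of_quot_pgroup S Q hQS hSC Pred (StepIn (indFam 𝓦 (G ⧸ Q)) ⊤ Sbar) ?_ ?_ ?_
            A x hA hAx
          · rintro y ⟨_, ⟨W, hW, rfl⟩, hy⟩
            exact Or.inr ⟨W, hW, (Subgroup.mem_inf.mp hy).2⟩
          · intro s hs; exact Or.inl hs
          · intro A' x' hA' hA'x'
            exact family_good_at h𝔚' hquotctl hSbarsyl A' x' (Subgroup.mem_top _) hA' hA'x'
        exact hgood.bind hstepgood hA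
      · exact good_of_frattini S N _ (hsubgood _ hSN le_sup_left)
          (hsubgood _ hNR (sylow_le_normalizer_inf S N))

/-- Theorem 6.6 (strong fusion) in closed form. -/
theorem secFusion {𝓦 : Set (∀ (Q : Type u) [Group Q], Subgroup Q)}
    (h𝓦 : ∀ W ∈ 𝓦, IsCharPFunctor.{u} p W) (G : Type u) [Group G] [Finite G]
    (h : SecHave (LocHyp.{u} p 𝓦) G) : FamilyControlsStrongFusionIn p (indFam 𝓦 G) ⊤ :=
  secFusion_main h𝓦 _ G rfl h

end F2

end Cfsg.Agent.Helper33
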