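import Mathlib
import Cfsg.Agent.Lib.Helper33.KInfB
import Cfsg.Agent.Lib.Helper33.WC74
import Cfsg.Agent.Lib.Helper33.Syl

/-!
Local form of the quadratic key lemma for the `K`-infinity functors, in every subgroup `H`.
-/

set_option autoImplicit false
universe u
open Cfsg

namespace Cfsg.Agent.Helper33

section

variable {p : ℕ} [Fact p.Prime] {G : Type u} [Group G] [Finite G]

theorem indF_subgroupOf_map {W : ∀ (Q : Type u) [Group Q], Subgroup Q}
    (hW : IsCharPFunctor.{u} p W) (H T : Subgroup G) (hTH : T ≤ H) (hT : IsPGroup p T) :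
    (inducedFunctor W (T.subgroupOf H)).map H.subtype = inducedFunctor W T := by
  have hT' : IsPGroup p (T.subgroupOf H) := by
    have := hT.comap_subtype (K := H)
    exact this
  have h := indF_map hW H.subtype (T.subgroupOf H) hT' (fun x _ hx => by
    apply Subtype.ext
    simpa using hx)
  rw [← h, Subgroup.map_subgroupOf_eq_of_le hTH]

theorem not_normal_of_not_le_normalizer {W : ∀ (Q : Type u) [Group Q], Subgroup Q}
    (hW : IsCharPFunctor.{u} p W) (H T : Subgroup G) (hTH : T ≤ H) (hT : IsPGroup p T)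
    (hnot : ¬ H ≤ Subgroup.normalizer ((inducedFunctor W T : Subgroup G) : Set G)) :
    ¬ (inducedFunctor W (T.subgroupOf H)).Normal := by
  intro hn
  apply hnot
  intro h hh
  have h1 : (⟨h, hh⟩ : ↥H) ∈ Subgroup.normalizer
      ((inducedFunctor W (T.subgroupOf H) : Subgroup ↥H) : Set ↥H) := by
    rw [Subgroup.normalizer_eq_top]; exact Subgroup.mem_top _
  have h2 := map_mem_normalizer_map H.subtype h1
  rw [indF_subgroupOf_map hW H T hTH hT] at h2
  exact h2

/-- the local quadratic property of the `K`-infinity functors -/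
theorem kInf_local_quad (H T : Subgroup G) (hTH : T ≤ H) (hT : IsPGroup p T)
    (hidx : ¬ p ∣ T.relIndex H)
    (hnot : ¬ H ≤ Subgroup.normalizer ((inducedFunctor kInfLower T : Subgroup G) : Set G) ∨
      ¬ H ≤ Subgroup.normalizer ((inducedFunctor kInfUpper T : Subgroup G) : Set G)) :
    ∃ g : G, g ∈ T ∧ g ∉ pCoreOf p H ∧
      ⁅⁅pCoreOf p H ⊓ Subgroup.centralizer ((pCoreOf p H : Subgroup G) : Set G),
        Subgroup.zpowers g⁆, Subgroup.zpowers g⁆ = ⊥ := by
  have hsyl : IsSylIn p T H := ⟨hTH, hT, hidx⟩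
  have hcoe := hsyl.coe_toSylow
  have hK : ¬ (inducedFunctor kInfLower ((hsyl.toSylow : Sylow p ↥H) : Subgroup ↥H)).Normal ∨
      ¬ (inducedFunctor kInfUpper ((hsyl.toSylow : Sylow p ↥H) : Subgroup ↥H)).Normal := by
    rw [hcoe]
    rcases hnot with h | h
    · exact Or.inl (not_normal_of_not_le_normalizer (p := p) isCharPFunctor_kInfLower H T hTH hT h)
    · exact Or.inr (not_normal_of_not_le_normalizer (p := p) isCharPFunctor_kInfUpper H T hTH hT h)
  obtain ⟨g', hg'S, hg'T, hquad⟩ := exists_quadratic_of_kInf_not_normal hsyl.toSylow hK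
  rw [hcoe] at hg'S
  refine ⟨(g' : G), Subgroup.mem_subgroupOf.mp hg'S, ?_, ?_⟩
  · intro hmem
    unfold pCoreOf at hmem
    obtain ⟨y, hy, hyg⟩ := hmem
    have : y = g' := Subtype.ext hyg
    exact hg'T (this ▸ hy)
  · haveI := pCore_normal (G := ↥H) p
    have hZn : (pCore p ↥H ⊓ Subgroup.centralizer ((pCore p ↥H : Subgroup ↥H) : Set ↥H)).Normal :=
      Subgroup.normal_inf_normal _ _
    have hZc : IsMulCommutative
        ↥(pCore p ↥H ⊓ Subgroup.centralizer ((pCore p ↥H : Subgroup ↥H) : Set ↥H)) := by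
      refine ⟨⟨fun a b => ?_⟩⟩
      apply Subtype.ext
      exact (Subgroup.mem_centralizer_iff.mp b.2.2 a.1 a.2.1)
    have hZS : pCore p ↥H ⊓ Subgroup.centralizer ((pCore p ↥H : Subgroup ↥H) : Set ↥H) ≤
        ((hsyl.toSylow : Sylow p ↥H) : Subgroup ↥H) :=
      inf_le_left.trans (pCore_le_sylow _)
    have h2 := hquad _ hZn hZc hZS
    have h3 := congrArg (Subgroup.map H.subtype) h2
    rw [Subgroup.map_commutator, Subgroup.map_commutator, MonoidHom.map_zpowers,
      map_subtype_inf_centralizer, Subgroup.map_bot] at h3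
    exact h3

end

end Cfsg.Agent.Helper33
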