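import Mathlib
import Cfsg.Prelude.Def_PLocal
import Cfsg.Prelude.Def_LocalEven

/-!
Tools for Glauberman's transfer argument with an Engel-type element.

The first part (trace of an operator with `(x - 1)^(p-1) = 0` in characteristic `p`, chief factors
below a normal `p`-subgroup) is copied, with thanks, from helper31's `QuadAct2` / `GTStable`
/ `ItoFactor` and helper2's `Nilpotent`, so that this file depends on Mathlib only.
-/

set_option autoImplicit false
set_option linter.style.haveILetI false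

namespace Cfsg.Agent.Helper33.Engel

open Finset

section Trace

variable {p : ℕ} [hp : Fact p.Prime]

lemma geom_sum_eq_sub_pow :
    (∑ i ∈ range p, (Polynomial.X : Polynomial (ZMod p)) ^ i) = (Polynomial.X - 1) ^ (p - 1) := by
  have h1 : (∑ i ∈ range p, (Polynomial.X : Polynomial (ZMod p)) ^ i) * (Polynomial.X - 1) =
      Polynomial.X ^ p - 1 := geom_sum_mul _ _
  have h2 : ((Polynomial.X : Polynomial (ZMod p)) - 1) ^ p = Polynomial.X ^ p - 1 := by
    rw [sub_pow_char, one_pow]
  have h3 : ((Polynomial.X : Polynomial (ZMod p)) - 1) ^ p =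
      (Polynomial.X - 1) ^ (p - 1) * (Polynomial.X - 1) := by
    rw [← pow_succ]
    congr 1
    have := hp.out.one_lt
    omega
  have hne : ((Polynomial.X : Polynomial (ZMod p)) - 1) ≠ 0 := by
    have := Polynomial.X_sub_C_ne_zero (1 : ZMod p)
    simpa using this
  exact mul_right_cancel₀ hne (by rw [h1, ← h2, h3])

lemma ring_trace {E : Type*} [Ring E] [Algebra (ZMod p) E] (x : E)
    (h : (x - 1) ^ (p - 1) = 0) : ∑ i ∈ range p, x ^ i = 0 ∧ x ^ p = 1 := by
  have h1 := congrArg (Polynomial.aeval x) (geom_sum_eq_sub_pow (p := p))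
  simp only [map_sum, map_pow, Polynomial.aeval_X, map_sub, map_one] at h1
  refine ⟨by rw [h1, h], ?_⟩
  have h2 := geom_sum_mul x p
  rw [h1, h, zero_mul] at h2
  exact (sub_eq_zero.mp h2.symm)

lemma add_tr {M : Type*} [AddCommGroup M] [Module (ZMod p) M] (xL : M →ₗ[ZMod p] M)
    (h : ∀ w : M, (fun w => xL w - w)^[p - 1] w = 0) :
    xL ^ p = 1 ∧ ∑ j ∈ range p, xL ^ j = 0 := by
  have hdpow : ∀ (j : ℕ) (w : M), ((xL - 1) ^ j) w = (fun w => xL w - w)^[j] w := by
    intro j
    induction j with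
    | zero => intro w; simp
    | succ j ih =>
      intro w
      rw [pow_succ', Module.End.mul_apply, ih, Function.iterate_succ_apply']
      rfl
  have hzero : (xL - 1) ^ (p - 1) = 0 := by
    apply LinearMap.ext
    intro w
    rw [hdpow, h]
    rfl
  obtain ⟨h1, h2⟩ := ring_trace (p := p) xL hzero
  exact ⟨h2, h1⟩

variable {W : Type*} [CommGroup W]

/-- From `(x - 1)^(p-1) = 0` on a group of exponent `p`: `x ^ p = 1` and the trace of `x` is zero. -/
theorem tr_of_iter (hexp : ∀ w : W, w ^ p = 1) (x : MulAut W)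
    (h : ∀ w : W, (fun w => x w / w)^[p - 1] w = 1) :
    x ^ p = 1 ∧ ∀ w : W, ∏ j ∈ range p, (x ^ j) w = 1 := by
  have h0 : ∀ w : Additive W, p • w = 0 := by
    intro w
    show Additive.ofMul ((Additive.toMul w) ^ p) = 0
    rw [hexp]; rfl
  haveI inst : Module (ZMod p) (Additive W) := AddCommGroup.zmodModule h0
  have hiter : ∀ (j : ℕ) (w : W),
      (fun w : Additive W =>
        ((MonoidHom.toAdditive x.toMonoidHom).toZModLinearMap p) w - w)^[j] (Additive.ofMul w) =
        Additive.ofMul ((fun w => x w / w)^[j] w) := by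
    intro j
    induction j with
    | zero => intro w; rfl
    | succ j ih =>
      intro w
      rw [Function.iterate_succ_apply', ih, Function.iterate_succ_apply']
      rfl
  obtain ⟨h1, h2⟩ := add_tr (p := p) ((MonoidHom.toAdditive x.toMonoidHom).toZModLinearMap p) (by
    intro w
    obtain ⟨w, rfl⟩ := Additive.ofMul.surjective w
    rw [hiter, h]
    rfl)
  have hpow : ∀ (j : ℕ) (w : W),
      (((MonoidHom.toAdditive x.toMonoidHom).toZModLinearMap p) ^ j) (Additive.ofMul w) =
        Additive.ofMul ((x ^ j) w) := by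
    intro j
    induction j with
    | zero => intro w; simp
    | succ j ih =>
      intro w
      rw [pow_succ', Module.End.mul_apply, ih, pow_succ', MulAut.mul_apply]
      rfl
  refine ⟨?_, ?_⟩
  · ext w
    have := hpow p w
    rw [h1, Module.End.one_apply] at this
    exact (Additive.ofMul.injective this).symm
  · intro w
    have h3 := congrArg (fun f => f (Additive.ofMul w)) h2
    simp only [LinearMap.sum_apply, LinearMap.zero_apply] at h3
    rw [Finset.sum_congr rfl (fun j _ => hpow j w), ← ofMul_prod] at h3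
    exact Additive.ofMul.injective h3

end Trace

section Chief

variable {G : Type*} [Group G]

/-- A nontrivial normal subgroup of a nilpotent group meets the centre nontrivially.
(Same argument as `Cfsg.Agent.Helper62.normal_inf_center_ne_bot`, restated here with light imports.) -/
theorem normal_inf_center_ne_bot {N : Type*} [Group N] [Group.IsNilpotent N]
    (K : Subgroup N) [K.Normal] (hK : K ≠ ⊥) : K ⊓ Subgroup.center N ≠ ⊥ := by
  classical
  let c : ℕ → Subgroup N := fun j => Nat.rec K (fun _ X => ⁅X, (⊤ : Subgroup N)⁆) j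
  have c0 : c 0 = K := rfl
  have cs : ∀ j, c (j + 1) = ⁅c j, (⊤ : Subgroup N)⁆ := fun j => rfl
  have hcn : ∀ j, (c j).Normal := by
    intro j
    induction j with
    | zero => rw [c0]; infer_instance
    | succ j ih => rw [cs]; exact @Subgroup.commutator_normal _ _ (c j) ⊤ ih inferInstance
  have hcK : ∀ j, c j ≤ K := by
    intro j
    induction j with
    | zero => rw [c0]
    | succ j ih =>
      rw [cs]
      exact (@Subgroup.commutator_le_left _ _ (c j) ⊤ (hcn j)).trans ih
  have hcl : ∀ j, c j ≤ (⊤ : Subgroup N).lowerCentralSeries j := by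
    intro j
    induction j with
    | zero => rw [c0]; simp
    | succ j ih =>
      rw [cs, Subgroup.lowerCentralSeries_succ]
      exact Subgroup.commutator_mono ih le_rfl
  obtain ⟨n, hn⟩ := Subgroup.nilpotent_iff_lowerCentralSeries.mp (inferInstance : Group.IsNilpotent N)
  have hex : ∃ j, c j = ⊥ := ⟨n, le_bot_iff.mp (hn ▸ hcl n)⟩
  obtain ⟨j, hj, hjmin⟩ : ∃ j, c j = ⊥ ∧ ∀ i < j, c i ≠ ⊥ :=
    ⟨@Nat.find (fun n => c n = ⊥) (Classical.decPred _) hex,
      @Nat.find_spec (fun n => c n = ⊥) (Classical.decPred _) hex,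
      fun i hi => @Nat.find_min (fun n => c n = ⊥) (Classical.decPred _) hex i hi⟩
  have hj0 : j ≠ 0 := by
    intro h
    rw [h, c0] at hj
    exact hK hj
  obtain ⟨i, hi⟩ := Nat.exists_eq_succ_of_ne_zero hj0
  have hci : c i ≠ ⊥ := by
    have : i < j := by omega
    exact hjmin i this
  have hcomm : ⁅c i, (⊤ : Subgroup N)⁆ = ⊥ := by
    rw [← cs, ← Nat.succ_eq_add_one, ← hi]; exact hj
  have hcen : c i ≤ Subgroup.center N := Subgroup.commutator_top_right_eq_bot_iff_le_center.mp hcomm
  intro h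
  apply hci
  rw [eq_bot_iff, ← h]
  exact le_inf (hcK i) hcen


/-- A minimal normal subgroup which is abelian has prime exponent. -/
lemma exists_prime_exponent [Finite G] (N : Subgroup G) (hN : N.Normal) (hN1 : N ≠ ⊥)
    (hcomm : ∀ x ∈ N, ∀ y ∈ N, x * y = y * x)
    (hmin : ∀ M : Subgroup G, M.Normal → M ≠ ⊥ → M ≤ N → M = N) :
    ∃ p : ℕ, p.Prime ∧ ∀ x ∈ N, x ^ p = 1 := by
  have hcard : Nat.card N ≠ 1 := by
    intro h
    exact hN1 (Subgroup.card_eq_one.mp h)
  obtain ⟨p, hp, hpd⟩ := Nat.exists_prime_and_dvd hcard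
  haveI : Fact p.Prime := ⟨hp⟩
  obtain ⟨x, hx⟩ := exists_prime_orderOf_dvd_card' p hpd
  let M : Subgroup G :=
    { carrier := {y | y ∈ N ∧ y ^ p = 1}
      mul_mem' := by
        rintro y z ⟨hy, hy1⟩ ⟨hz, hz1⟩
        refine ⟨N.mul_mem hy hz, ?_⟩
        have hc : Commute y z := hcomm y hy z hz
        rw [hc.mul_pow, hy1, hz1, one_mul]
      one_mem' := ⟨N.one_mem, one_pow p⟩
      inv_mem' := by
        rintro y ⟨hy, hy1⟩
        exact ⟨N.inv_mem hy, by rw [inv_pow, hy1, inv_one]⟩ }
  have hMN : M ≤ N := fun y hy => hy.1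
  have hMnormal : M.Normal := by
    refine ⟨fun y hy g => ⟨hN.conj_mem y hy.1 g, ?_⟩⟩
    rw [conj_pow, hy.2]
    group
  have hM1 : M ≠ ⊥ := by
    intro h
    have hxM : (x : G) ∈ M := by
      refine ⟨x.2, ?_⟩
      have := pow_orderOf_eq_one x
      rw [hx] at this
      have h2 := congrArg Subtype.val this
      simpa using h2
    rw [h, Subgroup.mem_bot] at hxM
    have : x = 1 := Subtype.ext hxM
    rw [this, orderOf_one] at hx
    exact hp.one_lt.ne hx
  have hMeq := hmin M hMnormal hM1 hMN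
  refine ⟨p, hp, fun y hy => ?_⟩
  have : y ∈ M := by rw [hMeq]; exact hy
  exact this.2

/-- Properties of a chief factor `V' / V''` below a normal `p`-subgroup `H`: it is centralized by
`H` and has exponent `p`. -/
theorem chief_props [Finite G] {p : ℕ} [Fact p.Prime] (H V' V'' : Subgroup G) [hH : H.Normal]
    [hV' : V'.Normal] [hV'' : V''.Normal] (hHp : IsPGroup p H) (h1 : V'' < V') (h2 : V' ≤ H)
    (hchief : ∀ X : Subgroup G, X.Normal → V'' ≤ X → X ≤ V' → X = V'' ∨ X = V') :
    (∀ h ∈ H, ∀ v ∈ V', h * v * h⁻¹ * v⁻¹ ∈ V'') ∧ (∀ v ∈ V', v ^ p ∈ V'') := by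
  set mk := QuotientGroup.mk' V'' with hmk
  have hsurj : Function.Surjective mk := QuotientGroup.mk'_surjective _
  set U := V'.map mk with hU
  set Hb := H.map mk with hHb
  have hUn : U.Normal := hV'.map _ hsurj
  have hHbn : Hb.Normal := hH.map _ hsurj
  have hHbp : IsPGroup p Hb := hHp.map _
  have hUH : U ≤ Hb := Subgroup.map_mono h2
  obtain ⟨v₀, hv₀, hv₀'⟩ := SetLike.exists_of_lt h1
  have hmk1 : ∀ g : G, mk g = 1 ↔ g ∈ V'' := fun g => QuotientGroup.eq_one_iff g
  have hv₀ne : mk v₀ ≠ 1 := fun h => hv₀' ((hmk1 v₀).mp h)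
  have hUne : U ≠ ⊥ := by
    intro h
    have : mk v₀ ∈ U := Subgroup.mem_map_of_mem _ hv₀
    rw [h, Subgroup.mem_bot] at this
    exact hv₀ne this
  have hmin : ∀ M : Subgroup (G ⧸ V''), M.Normal → M ≠ ⊥ → M ≤ U → M = U := by
    intro M hMn hM1 hMU
    have hXn : (M.comap mk).Normal := hMn.comap _
    have hX1 : V'' ≤ M.comap mk := by
      intro x hx
      rw [Subgroup.mem_comap, (hmk1 x).mpr hx]
      exact M.one_mem
    have hX2 : M.comap mk ≤ V' := by
      intro x hx
      obtain ⟨v, hv, hvx⟩ := hMU (Subgroup.mem_comap.mp hx)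
      have h3 : mk (v⁻¹ * x) = 1 := by rw [map_mul, map_inv, hvx, inv_mul_cancel]
      have h4 : v⁻¹ * x ∈ V' := (le_of_lt h1) ((hmk1 _).mp h3)
      have h5 : x = v * (v⁻¹ * x) := by group
      rw [h5]; exact V'.mul_mem hv h4
    have hMeq : M = (M.comap mk).map mk := (Subgroup.map_comap_eq_self_of_surjective hsurj M).symm
    rcases hchief _ hXn hX1 hX2 with h | h
    · exfalso
      apply hM1
      rw [hMeq, h, eq_bot_iff]
      rintro _ ⟨x, hx, rfl⟩
      rw [Subgroup.mem_bot]
      exact (hmk1 x).mpr hx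
    · rw [hMeq, h]
  -- `U` is central in `Hb`
  have hcent : U ≤ Subgroup.centralizer (Hb : Set (G ⧸ V'')) := by
    haveI : Group.IsNilpotent ↥Hb := hHbp.isNilpotent
    haveI : (U.subgroupOf Hb).Normal := hUn.subgroupOf Hb
    have hY : U.subgroupOf Hb ≠ ⊥ := by
      intro h
      rw [Subgroup.subgroupOf_eq_bot, disjoint_iff, inf_eq_left.mpr hUH] at h
      exact hUne h
    have h3 := normal_inf_center_ne_bot (U.subgroupOf Hb) hY
    obtain ⟨z, hz1⟩ := (Subgroup.ne_bot_iff_exists_ne_one).mp h3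
    have hz21 := (Subgroup.mem_inf.mp z.2).1
    have hz22 := (Subgroup.mem_inf.mp z.2).2
    have hzU : ((z : ↥Hb) : G ⧸ V'') ∈ U := Subgroup.mem_subgroupOf.mp hz21
    have hzc : ((z : ↥Hb) : G ⧸ V'') ∈ Subgroup.centralizer (Hb : Set (G ⧸ V'')) := by
      rw [Subgroup.mem_centralizer_iff]
      intro y hy
      have := (Subgroup.mem_center_iff.mp hz22) ⟨y, hy⟩
      exact congrArg Subtype.val this
    haveI := hUn
    haveI := hHbn
    have hMn : (U ⊓ Subgroup.centralizer (Hb : Set (G ⧸ V''))).Normal := inferInstance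
    have hM1 : U ⊓ Subgroup.centralizer (Hb : Set (G ⧸ V'')) ≠ ⊥ := by
      intro h
      have : ((z : ↥Hb) : G ⧸ V'') ∈ U ⊓ Subgroup.centralizer (Hb : Set (G ⧸ V'')) := ⟨hzU, hzc⟩
      rw [h, Subgroup.mem_bot] at this
      apply hz1
      apply Subtype.ext
      apply Subtype.ext
      exact this
    have := hmin _ hMn hM1 inf_le_left
    rw [← this]
    exact inf_le_right
  have hcomm : ∀ x ∈ U, ∀ y ∈ U, x * y = y * x := by
    intro x hx y hy
    have := Subgroup.mem_centralizer_iff.mp (hcent hx) y (hUH hy)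
    exact this.symm
  refine ⟨?_, ?_⟩
  · intro h hh v hv
    rw [← hmk1]
    have h3 := Subgroup.mem_centralizer_iff.mp (hcent (Subgroup.mem_map_of_mem mk hv)) (mk h)
      (Subgroup.mem_map_of_mem mk hh)
    rw [map_mul, map_mul, map_mul, map_inv, map_inv, h3]
    group
  · obtain ⟨q, hq, hqexp⟩ := exists_prime_exponent U hUn hUne hcomm hmin
    have hqp : q = p := by
      have h3 : (mk v₀) ^ q = 1 := hqexp _ (Subgroup.mem_map_of_mem _ hv₀)
      have h4 : orderOf (mk v₀) = q := by
        rcases (Nat.dvd_prime hq).mp (orderOf_dvd_of_pow_eq_one h3) with h | h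
        · exact absurd (orderOf_eq_one_iff.mp h) hv₀ne
        · exact h
      obtain ⟨k, hk⟩ := hHbp ⟨mk v₀, Subgroup.mem_map_of_mem _ (h2 hv₀)⟩
      have h5 : (mk v₀) ^ p ^ k = 1 := by
        have := congrArg Subtype.val hk
        simpa using this
      have h6 := orderOf_dvd_of_pow_eq_one h5
      rw [h4] at h6
      exact (Nat.prime_dvd_prime_iff_eq hq Fact.out).mp (hq.dvd_of_dvd_pow h6)
    intro v hv
    rw [← hmk1, map_pow, ← hqp]
    exact hqexp _ (Subgroup.mem_map_of_mem _ hv)


end Chief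

section Norm

open scoped commutatorElement

open Cfsg

variable {G : Type*} [Group G]

instance secNormal (V' V'' : Subgroup G) [hV' : V'.Normal] [V''.Normal] :
    (V'.map (QuotientGroup.mk' V'')).Normal :=
  hV'.map _ (QuotientGroup.mk'_surjective _)

/-- The action of `G` on the section `V' V'' / V''` (after helper31). -/
noncomputable def secAct (V' V'' : Subgroup G) [V'.Normal] [V''.Normal] :
    G →* MulAut ↥(V'.map (QuotientGroup.mk' V'')) :=
  (MulAut.conjNormal (H := V'.map (QuotientGroup.mk' V''))).comp (QuotientGroup.mk' V'')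

lemma secAct_apply_coe (V' V'' : Subgroup G) [V'.Normal] [V''.Normal] (g : G)
    (u : ↥(V'.map (QuotientGroup.mk' V''))) :
    ((secAct V' V'' g u : ↥(V'.map (QuotientGroup.mk' V''))) : G ⧸ V'') =
      (QuotientGroup.mk' V'' g) * (u : G ⧸ V'') * (QuotientGroup.mk' V'' g)⁻¹ := rfl

/-- the ordered product of the conjugates `u^j x u^{-j}`, `j < n` -/
def cp (u x : G) : ℕ → G
  | 0 => 1
  | n + 1 => cp u x n * (u ^ n * x * (u ^ n)⁻¹)

theorem cp_mem_of_mem (U : Subgroup G) [hU : U.Normal] (u x : G) (hx : x ∈ U) (n : ℕ) :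
    cp u x n ∈ U := by
  induction n with
  | zero => exact U.one_mem
  | succ n ih => exact U.mul_mem ih (hU.conj_mem x hx _)

/-- an element `u` with `[U, u; p-1] ≤ V` on an elementary abelian section `U/V`: the norm of `u`
vanishes on `U/V`. -/
theorem cp_mem_of_engel {p : ℕ} [Fact p.Prime] (U V : Subgroup G) [hU : U.Normal]
    [hV : V.Normal] (hab : ∀ x ∈ U, ∀ y ∈ U, x * y * x⁻¹ * y⁻¹ ∈ V) (hexp : ∀ x ∈ U, x ^ p ∈ V)
    (u : G) (hu : iterCommutator U (Subgroup.zpowers u) (p - 1) ≤ V) (x : G) (hx : x ∈ U) :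
    cp u x p ∈ V := by
  set mk := QuotientGroup.mk' V with hmk
  have hmk1 : ∀ g : G, mk g = 1 ↔ g ∈ V := fun g => QuotientGroup.eq_one_iff g
  set φ := secAct U V with hφ
  have hUcomm : ∀ a b : ↥(U.map mk), a * b = b * a := by
    rintro ⟨_, v, hv, rfl⟩ ⟨_, v', hv', rfl⟩
    apply Subtype.ext
    show mk v * mk v' = mk v' * mk v
    have h3 := (hmk1 _).mpr (hab v hv v' hv')
    rw [map_mul, map_mul, map_mul, map_inv, map_inv] at h3
    calc mk v * mk v' = (mk v * mk v' * (mk v)⁻¹ * (mk v')⁻¹) * (mk v' * mk v) := by group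
      _ = mk v' * mk v := by rw [h3, one_mul]
  letI : CommGroup ↥(U.map mk) :=
    { (inferInstance : Group ↥(U.map mk)) with mul_comm := hUcomm }
  have hexp' : ∀ w : ↥(U.map mk), w ^ p = 1 := by
    rintro ⟨_, v, hv, rfl⟩
    apply Subtype.ext
    show (mk v) ^ p = 1
    rw [← map_pow]
    exact (hmk1 _).mpr (hexp v hv)
  have hδ : ∀ (i : ℕ) (w : ↥(U.map mk)), ∃ y ∈ iterCommutator U (Subgroup.zpowers u) i,
      (((fun w => φ u w / w)^[i] w : ↥(U.map mk)) : G ⧸ V) = mk y := by
    intro i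
    induction i with
    | zero =>
      intro w
      obtain ⟨v, hv, hvw⟩ := w.2
      exact ⟨v, hv, hvw.symm⟩
    | succ i ih =>
      intro w
      obtain ⟨y, hy, hye⟩ := ih w
      refine ⟨⁅u, y⁆, ?_, ?_⟩
      · show ⁅u, y⁆ ∈ ⁅iterCommutator U (Subgroup.zpowers u) i, Subgroup.zpowers u⁆
        rw [Subgroup.commutator_comm]
        exact Subgroup.commutator_mem_commutator (Subgroup.mem_zpowers u) hy
      · rw [Function.iterate_succ_apply']
        show ((φ u ((fun w => φ u w / w)^[i] w) / ((fun w => φ u w / w)^[i] w) :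
          ↥(U.map mk)) : G ⧸ V) = mk ⁅u, y⁆
        rw [Subgroup.coe_div, secAct_apply_coe, hye, commutatorElement_def, map_mul, map_mul,
          map_mul, map_inv, map_inv, div_eq_mul_inv]
  have hδ0 : ∀ w : ↥(U.map mk), (fun w => φ u w / w)^[p - 1] w = 1 := by
    intro w
    obtain ⟨y, hy, hye⟩ := hδ (p - 1) w
    apply Subtype.ext
    rw [hye]
    exact (hmk1 y).mpr (hu hy)
  obtain ⟨-, htr⟩ := tr_of_iter hexp' (φ u) hδ0
  set w : ↥(U.map mk) := ⟨mk x, Subgroup.mem_map_of_mem _ hx⟩ with hw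
  have hcp : ∀ n : ℕ, mk (cp u x n) = ((∏ j ∈ range n, (φ u ^ j) w : ↥(U.map mk)) : G ⧸ V) := by
    intro n
    induction n with
    | zero => simp [cp]
    | succ n ih =>
      rw [Finset.prod_range_succ, Subgroup.coe_mul, ← ih]
      show mk (cp u x n * (u ^ n * x * (u ^ n)⁻¹)) = _
      rw [← map_pow, secAct_apply_coe, map_mul, map_mul, map_mul, map_inv]
  rw [← hmk1, hcp, htr]
  rfl

end Norm

end Cfsg.Agent.Helper33.Engel
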