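import Mathlib
import Cfsg.Prelude.Def_ConjugacyFunctors
import Cfsg.Agent.Lib.Helper33.FamilyControl

set_option autoImplicit false
open Pointwise Cfsg
open scoped commutatorElement

namespace Cfsg.Agent.Helper33

variable {G : Type*} [Group G]

theorem conj_smul_commutator (k : G) (A B : Subgroup G) :
    MulAut.conj k • ⁅A, B⁆ = ⁅MulAut.conj k • A, MulAut.conj k • B⁆ :=
  Subgroup.map_commutator A B (MulAut.conj k).toMonoidHom

section fin

variable [Finite G] {p : ℕ} [Fact p.Prime]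

/-- the derived part of the normalizer of `W T` inside `H`, cut down to `T` -/
abbrev derivedPart (W : Subgroup G → Subgroup G) (H T : Subgroup G) : Subgroup G :=
  T ⊓ ⁅H ⊓ Subgroup.normalizer ((W T : Subgroup G) : Set G),
    H ⊓ Subgroup.normalizer ((W T : Subgroup G) : Set G)⁆

theorem derivedPart_conj {W : Subgroup G → Subgroup G} (hW : IsConjugacyFunctor p W)
    {H T : Subgroup G} (hT : IsPGroup p T) {k : G} (hk : k ∈ H) :
    MulAut.conj k • derivedPart W H T = derivedPart W H (MulAut.conj k • T) := by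
  unfold derivedPart
  rw [conj_smul_inf, conj_smul_commutator, conj_smul_inf, conj_smul_eq_self_of_mem hk,
    ← normalizer_conj_smul, ← conjFunctor_conj hW hT]

theorem controlsTransferIn_at {W : Subgroup G → Subgroup G} (hW : IsConjugacyFunctor p W)
    {H : Subgroup G} (h : ControlsTransferIn p W H) {T₁ : Subgroup G} (hT₁ : IsSylIn p T₁ H) :
    T₁ ⊓ ⁅H, H⁆ = derivedPart W H T₁ := by
  obtain ⟨T₀, hT₀H, hT₀p, hT₀i, heq⟩ := h
  have hT₀ : IsSylIn p T₀ H := ⟨hT₀H, hT₀p, hT₀i⟩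
  obtain ⟨k, hkH, hk⟩ := hT₁.exists_conj_eq hT₀
  have h1 := congrArg (fun X : Subgroup G => MulAut.conj k • X) heq
  beta_reduce at h1
  rw [conj_smul_inf, conj_smul_commutator, conj_smul_eq_self_of_mem hkH, hk] at h1
  rw [h1]
  have := derivedPart_conj hW hT₀p hkH (T := T₀)
  rw [hk] at this
  exact this

theorem familyControlsTransferIn_at {𝓦 : Set (Subgroup G → Subgroup G)}
    (h𝓦 : ∀ W ∈ 𝓦, IsConjugacyFunctor p W)
    {H : Subgroup G} (h : FamilyControlsTransferIn p 𝓦 H) {T₁ : Subgroup G}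
    (hT₁ : IsSylIn p T₁ H) :
    T₁ ⊓ ⁅H, H⁆ = ⨆ W ∈ 𝓦, derivedPart W H T₁ := by
  obtain ⟨T₀, hT₀H, hT₀p, hT₀i, heq⟩ := h
  have hT₀ : IsSylIn p T₀ H := ⟨hT₀H, hT₀p, hT₀i⟩
  obtain ⟨k, hkH, hk⟩ := hT₁.exists_conj_eq hT₀
  have h1 := congrArg (fun X : Subgroup G => MulAut.conj k • X) heq
  beta_reduce at h1
  rw [conj_smul_inf, conj_smul_commutator, conj_smul_eq_self_of_mem hkH, hk] at h1
  rw [h1, ← map_conj_eq_smul, Subgroup.map_iSup]
  apply iSup_congr
  intro W
  rw [Subgroup.map_iSup]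
  apply iSup_congr
  intro hW
  have := derivedPart_conj (h𝓦 W hW) hT₀p hkH (T := T₀)
  rw [hk] at this
  exact this

/-- Telescoping along an Alperin chain. -/
theorem reach_transfer {𝓕 : Set (Subgroup G)} {D : Subgroup G}
    (hstep : ∀ T ∈ 𝓕, ∀ y ∈ Subgroup.normalizer (T : Set G), ∀ a ∈ T, a * (y⁻¹ * a * y)⁻¹ ∈ D)
    {A : Set G} {g : G} (h : Reach 𝓕 A g) : ∀ a ∈ A, a * (g⁻¹ * a * g)⁻¹ ∈ D := by
  obtain ⟨l, hl, rfl⟩ := h
  induction l generalizing A with
  | nil => intro a _; simp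
  | cons hd tl ih =>
    obtain ⟨T, y⟩ := hd
    intro a ha
    have h1 := hstep T hl.1 y hl.2.1 a (hl.2.2.1 ha)
    have h2 := ih hl.2.2.2 (y⁻¹ * a * y) ⟨a, ha, rfl⟩
    simp only [List.map_cons, List.prod_cons]
    have := D.mul_mem h1 h2
    convert this using 1
    group

theorem commutator_step_mem {T : Subgroup G} {y a : G}
    (hy : y ∈ Subgroup.normalizer (T : Set G)) (ha : a ∈ T) :
    a * (y⁻¹ * a * y)⁻¹ ∈ T ⊓ ⁅Subgroup.normalizer (T : Set G), Subgroup.normalizer (T : Set G)⁆ := by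
  have e : a * (y⁻¹ * a * y)⁻¹ = ⁅a, y⁻¹⁆ := by
    rw [commutatorElement_def]; group
  refine Subgroup.mem_inf.mpr ⟨?_, ?_⟩
  · apply T.mul_mem ha (T.inv_mem _)
    have h1 := smul_eq_of_mem_normalizer (inv_mem hy)
    rw [← h1]
    have := conj_mem_conj_smul (g := y⁻¹) ha
    rwa [inv_inv] at this
  · rw [e]
    exact Subgroup.commutator_mem_commutator (Subgroup.le_normalizer ha) (inv_mem hy)

/-- tower induction for transfer -/
theorem tower_transfer {W : Subgroup G → Subgroup G} (hW : IsConjugacyFunctor p W) (S : Sylow p G)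
    (hloc : ∀ T : Subgroup G, T ≠ ⊥ → IsWellPlaced p W (S : Subgroup G) T →
      ControlsTransferIn p W (Subgroup.normalizer ((T : Subgroup G) : Set G)))
    (n : ℕ) : ∀ T : Subgroup G, IsWellPlaced p W (S : Subgroup G) T → T ≠ ⊥ →
    Nat.card (S : Subgroup G) - Nat.card ((S : Subgroup G) ⊓ Subgroup.normalizer (T : Set G) : Subgroup G) = n →
    ((S : Subgroup G) ⊓ Subgroup.normalizer (T : Set G)) ⊓
      ⁅Subgroup.normalizer (T : Set G), Subgroup.normalizer (T : Set G)⁆ ≤
      (S : Subgroup G) ⊓ ⁅Subgroup.normalizer ((W (S : Subgroup G) : Subgroup G) : Set G),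
        Subgroup.normalizer ((W (S : Subgroup G) : Subgroup G) : Set G)⁆ := by
  induction n using Nat.strong_induction_on with
  | _ n ih =>
  intro T hwp hne hn
  have hsyl : IsSylIn p ((S : Subgroup G) ⊓ Subgroup.normalizer (T : Set G))
      (Subgroup.normalizer (T : Set G)) := by
    have := ((isWellPlaced_iff_isSylIn S.isPGroup').mp hwp).2 0
    rwa [functorTower_zero] at this
  have hN₀p : IsPGroup p ((S : Subgroup G) ⊓ Subgroup.normalizer (T : Set G) : Subgroup G) :=
    S.isPGroup'.to_le inf_le_left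
  rw [controlsTransferIn_at hW (hloc T hne hwp) hsyl]
  have hstep : derivedPart W (Subgroup.normalizer (T : Set G)) ((S : Subgroup G) ⊓ Subgroup.normalizer (T : Set G)) ≤
      ((S : Subgroup G) ⊓ Subgroup.normalizer (T : Set G)) ⊓
        ⁅Subgroup.normalizer ((W ((S : Subgroup G) ⊓ Subgroup.normalizer (T : Set G)) : Subgroup G) : Set G),
          Subgroup.normalizer ((W ((S : Subgroup G) ⊓ Subgroup.normalizer (T : Set G)) : Subgroup G) : Set G)⁆ :=
    inf_le_inf_left _ (Subgroup.commutator_mono inf_le_right inf_le_right)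
  refine hstep.trans ?_
  by_cases hN₀ : (S : Subgroup G) ⊓ Subgroup.normalizer (T : Set G) = S
  · rw [hN₀]
  · have hTN₀ : T ≤ (S : Subgroup G) ⊓ Subgroup.normalizer (T : Set G) := le_inf hwp.1 Subgroup.le_normalizer
    have hN₀ne : (S : Subgroup G) ⊓ Subgroup.normalizer (T : Set G) ≠ ⊥ := by
      intro h0
      apply hne
      rw [h0] at hTN₀
      exact le_bot_iff.mp hTN₀
    have hT₁ne := (hW _ hN₀p).2.1 hN₀ne
    have hW₁S : W ((S : Subgroup G) ⊓ Subgroup.normalizer (T : Set G)) ≤ (S : Subgroup G) :=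
      (conjFunctor_le hW hN₀p).trans inf_le_left
    have hwp₁ := IsWellPlaced.tail hwp hW₁S
    have hgrow := IsSylIn.normalizer_growth S.isPGroup' (inf_le_left : (S : Subgroup G) ⊓ Subgroup.normalizer (T : Set G) ≤ S) hN₀
    have hNN₁ : (S : Subgroup G) ⊓ Subgroup.normalizer (((S : Subgroup G) ⊓ Subgroup.normalizer (T : Set G) : Subgroup G) : Set G) ≤
        (S : Subgroup G) ⊓ Subgroup.normalizer ((W ((S : Subgroup G) ⊓ Subgroup.normalizer (T : Set G)) : Subgroup G) : Set G) :=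
      inf_le_inf_left _ (normalizer_le_normalizer_functor hW hN₀p)
    have hcard1 := card_lt_of_lt (lt_of_lt_of_le hgrow hNN₁)
    have hcard3 : Nat.card ((S : Subgroup G) ⊓ Subgroup.normalizer ((W ((S : Subgroup G) ⊓ Subgroup.normalizer (T : Set G)) : Subgroup G) : Set G) : Subgroup G) ≤ Nat.card (S : Subgroup G) :=
      Subgroup.card_le_of_le inf_le_left
    have hN₀N₁ : (S : Subgroup G) ⊓ Subgroup.normalizer (T : Set G) ≤
        (S : Subgroup G) ⊓ Subgroup.normalizer ((W ((S : Subgroup G) ⊓ Subgroup.normalizer (T : Set G)) : Subgroup G) : Set G) :=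
      (le_of_lt hgrow).trans hNN₁
    exact (inf_le_inf_right _ hN₀N₁).trans (ih _ (by omega) _ hwp₁ hT₁ne rfl)

theorem focal_le_of_gens (S : Sylow p G) (D : Subgroup G)
    (h : ∀ x ∈ (S : Subgroup G), ∀ u : G, u * x * u⁻¹ ∈ (S : Subgroup G) → x * (u * x * u⁻¹)⁻¹ ∈ D) :
    (S : Subgroup G) ⊓ ⁅(⊤ : Subgroup G), ⊤⁆ ≤ D := by
  have h1 : (S : Subgroup G) ⊓ ⁅(⊤ : Subgroup G), ⊤⁆ = (S : Subgroup G).focalSubgroup := by
    rw [inf_comm]
    exact Subgroup.commutator_inf_eq_focalSubgroup S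
  rw [h1, Subgroup.focalSubgroup_def, Subgroup.closure_le]
  rintro g ⟨hgS, x, hxS, u, rfl⟩
  have e : ⁅x, u⁆ = x * (u * x * u⁻¹)⁻¹ := by rw [commutatorElement_def]; group
  rw [e]
  apply h x hxS u
  have : u * x * u⁻¹ = (x⁻¹ * ⁅x, u⁆)⁻¹ := by rw [commutatorElement_def]; group
  rw [this]
  exact inv_mem (mul_mem (inv_mem hxS) hgS)

theorem controlsTransfer_global {W : Subgroup G → Subgroup G} (hW : IsConjugacyFunctor p W)
    (S : Sylow p G)
    (hloc : ∀ T : Subgroup G, T ≠ ⊥ → IsWellPlaced p W (S : Subgroup G) T →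
      ControlsTransferIn p W (Subgroup.normalizer ((T : Subgroup G) : Set G))) :
    ControlsTransferIn p W ⊤ := by
  refine ⟨S, le_top, S.isPGroup', (isSylIn_top S).not_dvd, ?_⟩
  rw [top_inf_eq]
  apply le_antisymm
  · refine le_inf inf_le_left ?_
    refine (focal_le_of_gens S ((S : Subgroup G) ⊓ ⁅Subgroup.normalizer ((W (S : Subgroup G) : Subgroup G) : Set G),
        Subgroup.normalizer ((W (S : Subgroup G) : Subgroup G) : Set G)⁆) ?_).trans inf_le_right
    intro x hxS u hux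
    by_cases hx1 : x = 1
    · rw [hx1]; simp
    have h' : ∀ T : Subgroup G, T ≤ (S : Subgroup G) →
        ∃ U ∈ {T : Subgroup G | IsWellPlaced p W (S : Subgroup G) T}, (∃ g : G, MulAut.conj g • T = U) ∧
        IsSylIn p ((S : Subgroup G) ⊓ Subgroup.normalizer (U : Set G))
          (Subgroup.normalizer (U : Set G)) := by
      intro T hT
      obtain ⟨g, -, hg⟩ := exists_wellPlaced hW S hT
      refine ⟨_, hg, ⟨g, rfl⟩, ?_⟩
      have := ((isWellPlaced_iff_isSylIn S.isPGroup').mp hg).2 0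
      rwa [functorTower_zero] at this
    have hA' : Subgroup.zpowers x ≤ (S : Subgroup G) := by
      rw [Subgroup.zpowers_le]; exact hxS
    have hg' : MulAut.conj (u⁻¹)⁻¹ • Subgroup.zpowers x ≤ (S : Subgroup G) := by
      rw [inv_inv, conj_smul_le_iff]
      intro y hy
      obtain ⟨k, rfl⟩ := Subgroup.mem_zpowers_iff.mp hy
      have : u * x ^ k * u⁻¹ = (u * x * u⁻¹) ^ k := by
        rw [← MulAut.conj_apply, ← MulAut.conj_apply, map_zpow]
      rw [this]
      exact Subgroup.zpow_mem _ hux k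
    have hr := reach_of_criterion S _ (fun U hU => hU.1) h' (Subgroup.zpowers x) hA' u⁻¹ hg'
    have hr' := Reach.filter_ne_bot (hr.mono (show ({x} : Set G) ⊆ Subgroup.zpowers x by
      rw [Set.singleton_subset_iff]; exact Subgroup.mem_zpowers x)) ⟨x, rfl, hx1⟩
    have := reach_transfer (D := (S : Subgroup G) ⊓ ⁅Subgroup.normalizer ((W (S : Subgroup G) : Subgroup G) : Set G),
        Subgroup.normalizer ((W (S : Subgroup G) : Subgroup G) : Set G)⁆) ?_ hr' x rfl
    · rwa [inv_inv] at this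
    · rintro T ⟨hwp, hTne⟩ y hy a ha
      have hTN₀ : T ≤ (S : Subgroup G) ⊓ Subgroup.normalizer (T : Set G) := le_inf hwp.1 Subgroup.le_normalizer
      apply tower_transfer hW S hloc _ T hwp hTne rfl
      exact inf_le_inf_right _ hTN₀ (commutator_step_mem hy ha)
  · exact inf_le_inf_left _ (Subgroup.commutator_mono le_top le_top)

end fin

end Cfsg.Agent.Helper33
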