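import Mathlib
import Cfsg.Prelude.Def_ConjugacyFunctors
import Cfsg.Agent.Lib.Helper33.TransferControl

set_option autoImplicit false
open Pointwise Cfsg
open scoped commutatorElement

namespace Cfsg.Agent.Helper33

variable {G : Type*} [Group G]

theorem IsChainR.mono_family {𝓕 𝓕' : Set (Subgroup G)} (h𝓕 : 𝓕 ⊆ 𝓕') {l : List (Subgroup G × G)} :
    ∀ {A : Set G}, IsChainR 𝓕 A l → IsChainR 𝓕' A l := by
  induction l with
  | nil => intro A _; trivial
  | cons hd tl ih =>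
    intro A h
    obtain ⟨T, x⟩ := hd
    exact ⟨h𝓕 h.1, h.2.1, h.2.2.1, ih h.2.2.2⟩

theorem Reach.filter_contains {𝓕 : Set (Subgroup G)} {A : Set G} {g : G} (h : Reach 𝓕 A g) :
    Reach {T | T ∈ 𝓕 ∧ ∃ y : G, rc y A ⊆ T} A g := by
  obtain ⟨l, hl, rfl⟩ := h
  refine ⟨l, ?_, rfl⟩
  induction l generalizing A with
  | nil => trivial
  | cons hd tl ih =>
    obtain ⟨T, x⟩ := hd
    refine ⟨⟨hl.1, 1, by rw [rc_one]; exact hl.2.2.1⟩, hl.2.1, hl.2.2.1, ?_⟩
    refine IsChainR.mono_family ?_ (ih hl.2.2.2)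
    rintro T' ⟨hT', y, hy⟩
    exact ⟨hT', x * y, by rw [rc_mul]; exact hy⟩

section fin

variable [Finite G] {p : ℕ} [Fact p.Prime]

/-- the target subgroup for a family -/
abbrev famD (𝓦 : Set (Subgroup G → Subgroup G)) (S : Sylow p G) : Subgroup G :=
  ⨆ W ∈ 𝓦, derivedPart W ⊤ (S : Subgroup G)

theorem local_D {𝓦 : Set (Subgroup G → Subgroup G)}
    (h𝓦 : ∀ W ∈ 𝓦, IsConjugacyFunctor p W) (S : Sylow p G)
    (hloc : ∀ T : Subgroup G, T ≤ (S : Subgroup G) → T ≠ ⊥ →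
      ¬ p ∣ ((S : Subgroup G) ⊓ Subgroup.normalizer ((T : Subgroup G) : Set G)).relIndex
        (Subgroup.normalizer ((T : Subgroup G) : Set G)) →
      FamilyControlsTransferIn p 𝓦 (Subgroup.normalizer ((T : Subgroup G) : Set G)))
    (c : ℕ)
    (hstar : ∀ M₀ : Subgroup G, M₀ ≤ (S : Subgroup G) → M₀ ≠ ⊥ → c < Nat.card M₀ →
      ∀ W ∈ 𝓦, M₀ ⊓ ⁅Subgroup.normalizer ((W M₀ : Subgroup G) : Set G),
        Subgroup.normalizer ((W M₀ : Subgroup G) : Set G)⁆ ≤ famD 𝓦 S)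
    (T : Subgroup G) (hT : T ≤ (S : Subgroup G)) (hne : T ≠ ⊥)
    (hsyl : IsSylIn p ((S : Subgroup G) ⊓ Subgroup.normalizer (T : Set G))
      (Subgroup.normalizer (T : Set G)))
    (hcard : c < Nat.card ((S : Subgroup G) ⊓ Subgroup.normalizer (T : Set G) : Subgroup G)) :
    ((S : Subgroup G) ⊓ Subgroup.normalizer (T : Set G)) ⊓
      ⁅Subgroup.normalizer (T : Set G), Subgroup.normalizer (T : Set G)⁆ ≤ famD 𝓦 S := by
  rw [familyControlsTransferIn_at h𝓦 (hloc T hT hne hsyl.not_dvd) hsyl]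
  have hTN₀ : T ≤ (S : Subgroup G) ⊓ Subgroup.normalizer (T : Set G) := le_inf hT Subgroup.le_normalizer
  have hN₀ne : (S : Subgroup G) ⊓ Subgroup.normalizer (T : Set G) ≠ ⊥ := by
    intro h0
    apply hne
    rw [h0] at hTN₀
    exact le_bot_iff.mp hTN₀
  apply iSup₂_le
  intro W hW
  refine le_trans ?_ (hstar _ inf_le_left hN₀ne hcard W hW)
  exact inf_le_inf_left _ (Subgroup.commutator_mono inf_le_right inf_le_right)

theorem star_D {𝓦 : Set (Subgroup G → Subgroup G)}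
    (h𝓦 : ∀ W ∈ 𝓦, IsConjugacyFunctor p W) (S : Sylow p G)
    (hloc : ∀ T : Subgroup G, T ≤ (S : Subgroup G) → T ≠ ⊥ →
      ¬ p ∣ ((S : Subgroup G) ⊓ Subgroup.normalizer ((T : Subgroup G) : Set G)).relIndex
        (Subgroup.normalizer ((T : Subgroup G) : Set G)) →
      FamilyControlsTransferIn p 𝓦 (Subgroup.normalizer ((T : Subgroup G) : Set G)))
    (n : ℕ) : ∀ M₀ : Subgroup G, M₀ ≤ (S : Subgroup G) → M₀ ≠ ⊥ →
      Nat.card (S : Subgroup G) - Nat.card M₀ = n →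
      ∀ W ∈ 𝓦, M₀ ⊓ ⁅Subgroup.normalizer ((W M₀ : Subgroup G) : Set G),
        Subgroup.normalizer ((W M₀ : Subgroup G) : Set G)⁆ ≤ famD 𝓦 S := by
  induction n using Nat.strong_induction_on with
  | _ n ih =>
  intro M₀ hM₀S hM₀ne hn W hW
  by_cases hM₀ : M₀ = S
  · rw [hM₀]
    refine le_trans ?_ (le_iSup₂ (f := fun W (_ : W ∈ 𝓦) => derivedPart W ⊤ (S : Subgroup G)) W hW)
    unfold derivedPart
    rw [top_inf_eq]
  · have hM₀p : IsPGroup p M₀ := S.isPGroup'.to_le hM₀S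
    have hV := conjFunctor_le (h𝓦 W hW) hM₀p
    have hVne := ((h𝓦 W hW) M₀ hM₀p).2.1 hM₀ne
    have hVS : W M₀ ≤ (S : Subgroup G) := hV.trans hM₀S
    have hgrow := IsSylIn.normalizer_growth S.isPGroup' hM₀S hM₀
    have hNN : (S : Subgroup G) ⊓ Subgroup.normalizer (M₀ : Set G) ≤
        (S : Subgroup G) ⊓ Subgroup.normalizer ((W M₀ : Subgroup G) : Set G) :=
      inf_le_inf_left _ (normalizer_le_normalizer_functor (h𝓦 W hW) hM₀p)
    have hM₀M : M₀ ≤ (S : Subgroup G) ⊓ Subgroup.normalizer ((W M₀ : Subgroup G) : Set G) :=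
      (le_of_lt hgrow).trans hNN
    have hcardM := card_lt_of_lt (lt_of_lt_of_le hgrow hNN)
    have hcardS : Nat.card M₀ ≤ Nat.card (S : Subgroup G) := Subgroup.card_le_of_le hM₀S
    have hstar' : ∀ M₀' : Subgroup G, M₀' ≤ (S : Subgroup G) → M₀' ≠ ⊥ → Nat.card M₀ < Nat.card M₀' →
        ∀ W ∈ 𝓦, M₀' ⊓ ⁅Subgroup.normalizer ((W M₀' : Subgroup G) : Set G),
        Subgroup.normalizer ((W M₀' : Subgroup G) : Set G)⁆ ≤ famD 𝓦 S := by
      intro M₀' h1 h2 h3
      have := Subgroup.card_le_of_le h1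
      exact ih (Nat.card (S : Subgroup G) - Nat.card M₀') (by omega) M₀' h1 h2 rfl
    obtain ⟨k, hk1, hk2, hk3⟩ := exists_conj_fully_normalized S hVS
    have hV'ne : MulAut.conj k • W M₀ ≠ ⊥ := by rw [Ne, conj_smul_eq_bot_iff]; exact hVne
    have hMM' : MulAut.conj k • ((S : Subgroup G) ⊓ Subgroup.normalizer ((W M₀ : Subgroup G) : Set G)) ≤
        (S : Subgroup G) ⊓ Subgroup.normalizer ((MulAut.conj k • W M₀ : Subgroup G) : Set G) := by
      refine le_inf hk1 ?_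
      rw [normalizer_conj_smul]
      exact conj_smul_le_conj_smul inf_le_right
    have hcardM' := Subgroup.card_le_of_le hMM'
    rw [card_conj_smul] at hcardM'
    have hMne : (S : Subgroup G) ⊓ Subgroup.normalizer ((W M₀ : Subgroup G) : Set G) ≠ ⊥ := by
      intro h0
      apply hM₀ne
      rw [h0] at hM₀M
      exact le_bot_iff.mp hM₀M
    intro z hz
    obtain ⟨hz1, hz2⟩ := Subgroup.mem_inf.mp hz
    -- (i)
    have hi : k * z * k⁻¹ ∈ famD 𝓦 S := by
      apply local_D h𝓦 S hloc (Nat.card M₀) hstar' _ hk2 hV'ne hk3 (by omega)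
      refine Subgroup.mem_inf.mpr ⟨hMM' (conj_mem_conj_smul (hM₀M hz1)), ?_⟩
      rw [normalizer_conj_smul, ← conj_smul_commutator]
      exact conj_mem_conj_smul hz2
    -- (ii)
    have hii : z * (k * z * k⁻¹)⁻¹ ∈ famD 𝓦 S := by
      have hr := reach_fullyNormalized S _ (inf_le_left : (S : Subgroup G) ⊓ Subgroup.normalizer ((W M₀ : Subgroup G) : Set G) ≤ S) k⁻¹
        (by rw [inv_inv]; exact hk1)
      have hr' := Reach.filter_ne_bot hr.filter_contains (exists_ne_one_of_ne_bot hMne)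
      have := reach_transfer (D := famD 𝓦 S) ?_ hr' z (hM₀M hz1)
      · rwa [inv_inv] at this
      · rintro T ⟨⟨⟨hTS, hTsyl⟩, y, hy⟩, hTne⟩ x hx a ha
        have hTN₀ : T ≤ (S : Subgroup G) ⊓ Subgroup.normalizer (T : Set G) := le_inf hTS Subgroup.le_normalizer
        have hc1 := card_le_of_rc_subset hy
        have hc2 := Subgroup.card_le_of_le hTN₀
        apply local_D h𝓦 S hloc (Nat.card M₀) hstar' T hTS hTne hTsyl (by omega)
        exact inf_le_inf_right _ hTN₀ (commutator_step_mem hx ha)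
    have := (famD 𝓦 S).mul_mem hii hi
    have e : z * (k * z * k⁻¹)⁻¹ * (k * z * k⁻¹) = z := by group
    rwa [e] at this

theorem familyControlsTransfer_global {𝓦 : Set (Subgroup G → Subgroup G)}
    (h𝓦 : ∀ W ∈ 𝓦, IsConjugacyFunctor p W) (S : Sylow p G)
    (hloc : ∀ T : Subgroup G, T ≤ (S : Subgroup G) → T ≠ ⊥ →
      ¬ p ∣ ((S : Subgroup G) ⊓ Subgroup.normalizer ((T : Subgroup G) : Set G)).relIndex
        (Subgroup.normalizer ((T : Subgroup G) : Set G)) →
      FamilyControlsTransferIn p 𝓦 (Subgroup.normalizer ((T : Subgroup G) : Set G))) :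
    FamilyControlsTransferIn p 𝓦 ⊤ := by
  refine ⟨S, le_top, S.isPGroup', (isSylIn_top S).not_dvd, ?_⟩
  apply le_antisymm
  · apply focal_le_of_gens S (famD 𝓦 S)
    intro x hxS u hux
    by_cases hx1 : x = 1
    · rw [hx1]; simp
    have hA' : Subgroup.zpowers x ≤ (S : Subgroup G) := by
      rw [Subgroup.zpowers_le]; exact hxS
    have hg' : MulAut.conj (u⁻¹)⁻¹ • Subgroup.zpowers x ≤ (S : Subgroup G) := by
      rw [inv_inv, conj_smul_le_iff]
      intro y hy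
      obtain ⟨k, rfl⟩ := Subgroup.mem_zpowers_iff.mp hy
      have : u * x ^ k * u⁻¹ = (u * x * u⁻¹) ^ k := by
        rw [← MulAut.conj_apply, ← MulAut.conj_apply, map_zpow]
      rw [this]
      exact Subgroup.zpow_mem _ hux k
    have hr := reach_fullyNormalized S (Subgroup.zpowers x) hA' u⁻¹ hg'
    have hr' := Reach.filter_ne_bot (hr.mono (show ({x} : Set G) ⊆ Subgroup.zpowers x by
      rw [Set.singleton_subset_iff]; exact Subgroup.mem_zpowers x)) ⟨x, rfl, hx1⟩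
    have := reach_transfer (D := famD 𝓦 S) ?_ hr' x rfl
    · rwa [inv_inv] at this
    · rintro T ⟨⟨hTS, hTsyl⟩, hTne⟩ y hy a ha
      have hTN₀ : T ≤ (S : Subgroup G) ⊓ Subgroup.normalizer (T : Set G) := le_inf hTS Subgroup.le_normalizer
      apply local_D h𝓦 S hloc 0 ?_ T hTS hTne hTsyl Nat.card_pos
      · exact inf_le_inf_right _ hTN₀ (commutator_step_mem hy ha)
      · intro M₀ h1 h2 _
        exact star_D h𝓦 S hloc _ M₀ h1 h2 rfl
  · apply iSup₂_le
    intro W hW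
    exact inf_le_inf_left _ (Subgroup.commutator_mono inf_le_left inf_le_left)

end fin

end Cfsg.Agent.Helper33
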