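import Mathlib
import Cfsg.Agent.Lib.Helper33.SecFusionF
import Cfsg.Agent.Lib.Helper33.FamilyTransfer

/-!
Section conjugacy functors and transfer (Glauberman, Thm 6.6): transport lemmas.
-/

set_option autoImplicit false
universe u
open Pointwise Cfsg

namespace Cfsg.Agent.Helper33

section TA

variable {p : ℕ} [Fact p.Prime]

theorem map_normalizer_of_injective {H G : Type*} [Group H] [Group G] (f : H →* G)
    (hf : Function.Injective f) (Y : Subgroup H) :
    (Subgroup.normalizer (Y : Set H)).map f =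
      f.range ⊓ Subgroup.normalizer ((Y.map f : Subgroup G) : Set G) := by
  apply le_antisymm
  · rintro _ ⟨h, hh, rfl⟩
    exact Subgroup.mem_inf.mpr ⟨⟨h, rfl⟩, map_mem_normalizer_map f hh⟩
  · rintro g hg
    obtain ⟨⟨h, rfl⟩, hN⟩ := Subgroup.mem_inf.mp hg
    refine ⟨h, ?_, rfl⟩
    show h ∈ Subgroup.normalizer (Y : Set H)
    rw [Subgroup.mem_normalizer_iff] at hN ⊢
    intro y
    have h1 := hN (f y)
    have e : f h * f y * (f h)⁻¹ = f (h * y * h⁻¹) := by simp
    rw [e, Subgroup.mem_map_iff_mem hf, Subgroup.mem_map_iff_mem hf] at h1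
    exact h1

/-- Family control of transfer, transported along an injective homomorphism. -/
theorem fct_range {𝓦 : Set (∀ (Q : Type u) [Group Q], Subgroup Q)}
    (h𝓦 : ∀ W ∈ 𝓦, IsCharPFunctor.{u} p W) {H G : Type u} [Group H] [Group G] [Finite H]
    (f : H →* G) (hf : Function.Injective f)
    (h : FamilyControlsTransferIn p (indFam 𝓦 H) ⊤) :
    FamilyControlsTransferIn p (indFam 𝓦 G) f.range := by
  obtain ⟨T₀, -, hT₀p, hT₀i, heq⟩ := h
  refine ⟨T₀.map f, Subgroup.map_le_range f T₀, hT₀p.map f, ?_, ?_⟩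
  · rw [MonoidHom.range_eq_map, Subgroup.relIndex_map_map_of_injective _ _ hf]
    exact hT₀i
  · have h1 : T₀.map f ⊓ ⁅f.range, f.range⁆ = (T₀ ⊓ ⁅(⊤ : Subgroup H), ⊤⁆).map f := by
      rw [Subgroup.map_inf _ _ f hf, Subgroup.map_commutator, ← MonoidHom.range_eq_map]
    rw [h1, heq]
    unfold indFam
    rw [iSup_image, iSup_image, Subgroup.map_iSup]
    congr 1
    funext W
    rw [Subgroup.map_iSup]
    congr 1
    funext hW
    have hfin : Finite T₀ := inferInstance
    have h2 : inducedFunctor W (T₀.map f) = (inducedFunctor W T₀).map f :=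
      indF_map (h𝓦 W hW) f T₀ hT₀p (fun x _ hx => hf (by rw [hx, map_one]))
    rw [Subgroup.map_inf _ _ f hf, Subgroup.map_commutator, top_inf_eq,
      map_normalizer_of_injective f hf, h2]

theorem fct_top_iff {G : Type*} [Group G] (𝔚 : Set (Subgroup G → Subgroup G)) :
    FamilyControlsTransferIn p 𝔚 ⊤ ↔ ∃ T : Subgroup G, IsPGroup p T ∧ ¬ p ∣ T.index ∧
      T ⊓ ⁅(⊤ : Subgroup G), ⊤⁆ = ⨆ W ∈ 𝔚, T ⊓ ⁅Subgroup.normalizer ((W T : Subgroup G) : Set G),
        Subgroup.normalizer ((W T : Subgroup G) : Set G)⁆ := by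
  unfold FamilyControlsTransferIn
  constructor
  · rintro ⟨T, -, hT, hi, he⟩
    refine ⟨T, hT, ?_, ?_⟩
    · rwa [Subgroup.relIndex_top_right] at hi
    · simp only [top_inf_eq] at he
      exact he
  · rintro ⟨T, hT, hi, he⟩
    refine ⟨T, le_top, hT, ?_, ?_⟩
    · rwa [Subgroup.relIndex_top_right]
    · simp only [top_inf_eq]
      exact he

/-- control of transfer read at a given Sylow subgroup -/
theorem fct_top_at {G : Type*} [Group G] [Finite G] {𝔚 : Set (Subgroup G → Subgroup G)}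
    (h𝔚 : ∀ W ∈ 𝔚, IsConjugacyFunctor p W) (h : FamilyControlsTransferIn p 𝔚 ⊤) (S : Sylow p G) :
    (S : Subgroup G) ⊓ ⁅(⊤ : Subgroup G), ⊤⁆ = famD 𝔚 S :=
  familyControlsTransferIn_at h𝔚 h (isSylIn_top S)

theorem fct_top_of_le {G : Type*} [Group G] [Finite G] {𝔚 : Set (Subgroup G → Subgroup G)}
    (S : Sylow p G) (h : (S : Subgroup G) ⊓ ⁅(⊤ : Subgroup G), ⊤⁆ ≤ famD 𝔚 S) :
    FamilyControlsTransferIn p 𝔚 ⊤ := by
  refine ⟨S, le_top, S.isPGroup', (isSylIn_top S).not_dvd, le_antisymm h ?_⟩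
  refine iSup₂_le fun W _ => ?_
  exact inf_le_inf_left _ (Subgroup.commutator_mono inf_le_left inf_le_left)

end TA

end Cfsg.Agent.Helper33
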