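import Mathlib
import Cfsg.Agent.Lib.Helper33.SecTransferA

/-!
Lifting family control of transfer from the quotient by a normal `p'`-subgroup.
-/

set_option autoImplicit false
universe u
open Pointwise Cfsg

namespace Cfsg.Agent.Helper33

section TB

variable {p : ℕ} [Fact p.Prime]

theorem relIndex_sup_dvd_card {G : Type*} [Group G] [Finite G] (H D : Subgroup G) [D.Normal] :
    H.relIndex (H ⊔ D) ∣ Nat.card D := by
  have h1 := card_sup_dvd_of_normal' H D
  have h2 : Nat.card (H ⊔ D : Subgroup G) = H.relIndex (H ⊔ D) * Nat.card H := by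
    rw [← Subgroup.relIndex_bot_left, ← Subgroup.relIndex_bot_left,
      ← Subgroup.relIndex_mul_relIndex ⊥ H (H ⊔ D) bot_le le_sup_left, mul_comm]
  rw [h2, mul_comm] at h1
  exact Nat.dvd_of_mul_dvd_mul_left Nat.card_pos h1

/-- a Sylow subgroup of `H` is Sylow in `H D` for a normal `p'`-subgroup `D` -/
theorem IsSylIn.sup_pprime {G : Type*} [Group G] [Finite G] {P H D : Subgroup G} [D.Normal]
    (h : IsSylIn p P H) (hD : (Nat.card D).Coprime p) : IsSylIn p P (H ⊔ D) := by
  refine ⟨h.le.trans le_sup_left, h.isPGroup, ?_⟩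
  rw [← Subgroup.relIndex_mul_relIndex P H (H ⊔ D) h.le le_sup_left]
  intro hdvd
  have hp := (Fact.out : p.Prime)
  rcases hp.dvd_mul.mp hdvd with h1 | h1
  · exact h.not_dvd h1
  · have h4 : p ∣ Nat.card D := h1.trans (relIndex_sup_dvd_card H D)
    exact hp.one_lt.ne' (Nat.dvd_one.mp (by
      have := Nat.dvd_gcd h4 (dvd_refl p)
      rwa [hD] at this))

/-- Family control of transfer lifts from the quotient by a normal `p'`-subgroup. -/
theorem fct_of_quot_pprime {𝓦 : Set (∀ (Q : Type u) [Group Q], Subgroup Q)}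
    (h𝓦 : ∀ W ∈ 𝓦, IsCharPFunctor.{u} p W) {G : Type u} [Group G] [Finite G]
    (D : Subgroup G) [hDn : D.Normal] (hD : (Nat.card D).Coprime p)
    (h : FamilyControlsTransferIn p (indFam 𝓦 (G ⧸ D)) ⊤) :
    FamilyControlsTransferIn p (indFam 𝓦 G) ⊤ := by
  obtain ⟨S⟩ : Nonempty (Sylow p G) := inferInstance
  set π := QuotientGroup.mk' D with hπ
  have hπD : ∀ z : G, π z = 1 ↔ z ∈ D := fun z => QuotientGroup.eq_one_iff z
  have hsyl : IsSylIn p ((S : Subgroup G).map π) ⊤ :=
    isSylIn_map_top π (QuotientGroup.mk'_surjective D) S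
  have hbar := familyControlsTransferIn_at (isConjugacyFunctor_indFam h𝓦 (G ⧸ D)) h hsyl
  have hSD : D ⊓ (S : Subgroup G) = ⊥ := inf_eq_bot_of_coprime hD S.isPGroup'
  apply fct_top_of_le S
  -- the local comparison
  have hclaim : ∀ W ∈ 𝓦, derivedPart (inducedFunctor (G := G ⧸ D) W) ⊤ ((S : Subgroup G).map π) ≤
      (derivedPart (inducedFunctor (G := G) W) ⊤ (S : Subgroup G)).map π := by
    intro W hW
    set Y := inducedFunctor W (S : Subgroup G) with hY
    have hYS : Y ≤ (S : Subgroup G) := indF_le W _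
    have hYp : IsPGroup p Y := S.isPGroup'.to_le hYS
    have hmap : inducedFunctor W ((S : Subgroup G).map π) = Y.map π := by
      apply indF_map (h𝓦 W hW) π _ S.isPGroup'
      intro x hx hx1
      have : x ∈ D ⊓ (S : Subgroup G) := ⟨(hπD x).mp hx1, hx⟩
      rwa [hSD, Subgroup.mem_bot] at this
    set NW := (⊤ : Subgroup G) ⊓ Subgroup.normalizer (Y : Set G) with hNW
    have hSNW : (S : Subgroup G) ≤ NW := by
      rw [hNW, top_inf_eq]
      have := normalizer_le_normalizer_functor (isConjugacyFunctor_indF (h𝓦 W hW) G) S.isPGroup'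
      exact Subgroup.le_normalizer.trans this
    have hNbar : (⊤ : Subgroup (G ⧸ D)) ⊓
        Subgroup.normalizer ((inducedFunctor W ((S : Subgroup G).map π) : Subgroup (G ⧸ D)) : Set (G ⧸ D)) ≤
        NW.map π := by
      rw [hmap, top_inf_eq]
      intro ybar hybar
      obtain ⟨y₀, rfl⟩ := QuotientGroup.mk'_surjective D ybar
      have h2 : y₀ ∈ (Subgroup.normalizer ((Y.map π : Subgroup (G ⧸ D)) : Set (G ⧸ D))).comap π := hybar
      rw [Subgroup.comap_normalizer_eq_of_surjective _ (QuotientGroup.mk'_surjective D),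
        Subgroup.comap_map_eq, QuotientGroup.ker_mk'] at h2
      obtain ⟨n, hn, d, hd, rfl⟩ := exists_frattini_pprime hYp hD h2
      refine ⟨n, ?_, ?_⟩
      · rw [hNW, top_inf_eq]; exact hn
      · rw [map_mul, (hπD d).mpr hd, mul_one]
    set N' := ⁅NW, NW⁆ with hN'
    have hN'NW : N' ≤ NW := Subgroup.commutator_le_self NW
    have hsylN' : IsSylIn p ((S : Subgroup G) ⊓ N') N' := by
      apply ((isSylIn_top S).of_le hSNW le_top).inf_normal hN'NW
      intro g hg
      rw [mem_normalizer_iff_smul_eq, hN', conj_smul_commutator, conj_smul_eq_self_of_mem hg]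
    have hsylK : IsSylIn p ((S : Subgroup G) ⊓ N') (N' ⊔ D) := hsylN'.sup_pprime hD
    intro ybar hybar
    obtain ⟨hy1, hy2⟩ := Subgroup.mem_inf.mp hybar
    have hy3 : ybar ∈ N'.map π := by
      have := Subgroup.commutator_mono hNbar hNbar hy2
      rwa [← Subgroup.map_commutator] at this
    obtain ⟨s, hs, rfl⟩ := hy1
    obtain ⟨n', hn', hn's⟩ := hy3
    have hsK : s ∈ N' ⊔ D := by
      have h3 : n'⁻¹ * s ∈ D := by
        rw [← hπD, map_mul, map_inv, hn's, inv_mul_cancel]
      have : s = n' * (n'⁻¹ * s) := by group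
      rw [this]
      exact Subgroup.mul_mem _ (Subgroup.mem_sup_left hn') (Subgroup.mem_sup_right h3)
    have heq := hsylK.eq_of_le (Q := (S : Subgroup G) ⊓ (N' ⊔ D)) (S.isPGroup'.to_le inf_le_left)
      inf_le_right (le_inf inf_le_left (inf_le_right.trans le_sup_left))
    have hs' : s ∈ (S : Subgroup G) ⊓ N' := by
      rw [← heq]; exact Subgroup.mem_inf.mpr ⟨hs, hsK⟩
    exact ⟨s, hs', rfl⟩
  intro x hx
  obtain ⟨hxS, hxG⟩ := Subgroup.mem_inf.mp hx
  have h1 : π x ∈ ((S : Subgroup G).map π) ⊓ ⁅(⊤ : Subgroup (G ⧸ D)), ⊤⁆ := by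
    refine Subgroup.mem_inf.mpr ⟨⟨x, hxS, rfl⟩, ?_⟩
    have : π x ∈ Subgroup.map π ⁅(⊤ : Subgroup G), ⊤⁆ := ⟨x, hxG, rfl⟩
    rw [Subgroup.map_commutator] at this
    exact Subgroup.commutator_mono le_top le_top this
  rw [hbar] at h1
  have h2 : (⨆ F ∈ indFam 𝓦 (G ⧸ D), derivedPart F ⊤ ((S : Subgroup G).map π)) ≤
      (famD (indFam 𝓦 G) S).map π := by
    unfold indFam
    rw [iSup_image]
    refine iSup₂_le fun W hW => ?_
    refine (hclaim W hW).trans (Subgroup.map_mono ?_)
    exact le_iSup₂_of_le (inducedFunctor (G := G) W) ⟨W, hW, rfl⟩ le_rfl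
  obtain ⟨t, ht, htx⟩ := h2 h1
  have htS : t ∈ (S : Subgroup G) := by
    have : famD (indFam 𝓦 G) S ≤ (S : Subgroup G) := iSup₂_le fun W _ => inf_le_left
    exact this ht
  have h3 : t⁻¹ * x ∈ D ⊓ (S : Subgroup G) := by
    refine Subgroup.mem_inf.mpr ⟨?_, mul_mem (inv_mem htS) hxS⟩
    rw [← hπD, map_mul, map_inv, htx, inv_mul_cancel]
  rw [hSD, Subgroup.mem_bot] at h3
  have : x = t := by
    have := inv_mul_eq_one.mp h3
    exact this.symm
  rw [this]; exact ht

end TB

end Cfsg.Agent.Helper33
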