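import Mathlib
import Cfsg.Agent.Lib.Helper33.SecTransferB

/-!
Two reductions for the focal subgroup: the Frattini splitting, and the quotient by a normal
`p`-subgroup `Q` with `G = S C_G(Q)` (where `Q ∩ G' ≤ S'` by transfer).
-/

set_option autoImplicit false
universe u
open Pointwise Cfsg
open scoped commutatorElement

namespace Cfsg.Agent.Helper33

section TC

variable {G : Type*} [Group G] [Finite G] {p : ℕ} [Fact p.Prime]

/-- the focal subgroup is generated by the focal subgroups of `S N` and `N_G(S ∩ N)` -/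
theorem focal_le_of_frattini (S : Sylow p G) (N : Subgroup G) [hN : N.Normal] (D : Subgroup G)
    (h₁ : (S : Subgroup G) ⊓ ⁅(S : Subgroup G) ⊔ N, (S : Subgroup G) ⊔ N⁆ ≤ D)
    (h₂ : (S : Subgroup G) ⊓ ⁅Subgroup.normalizer (((S : Subgroup G) ⊓ N : Subgroup G) : Set G),
      Subgroup.normalizer (((S : Subgroup G) ⊓ N : Subgroup G) : Set G)⁆ ≤ D) :
    (S : Subgroup G) ⊓ ⁅(⊤ : Subgroup G), ⊤⁆ ≤ D := by
  apply focal_le_of_gens S D
  intro x hxS u hux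
  have hA : ({x} : Set G) ⊆ (S : Subgroup G) := by
    rintro _ rfl; exact hxS
  have hAu : rc u⁻¹ ({x} : Set G) ⊆ (S : Subgroup G) := by
    rintro _ ⟨a, rfl, rfl⟩
    show u⁻¹⁻¹ * a * u⁻¹ ∈ (S : Subgroup G)
    rw [inv_inv]
    exact hux
  obtain ⟨v, hv, m, hm, huvm, hvS⟩ := frattini_split S N {x} u⁻¹ hA hAu
  have hyS : v⁻¹ * x * v ∈ (S : Subgroup G) := hvS ⟨x, rfl, rfl⟩
  have hu : u = m⁻¹ * v⁻¹ := by
    have : u = (u⁻¹)⁻¹ := (inv_inv u).symm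
    rw [this, huvm, mul_inv_rev]
  have e : x * (u * x * u⁻¹)⁻¹ =
      ⁅x, v⁻¹⁆ * ⁅v⁻¹ * x * v, m⁻¹⁆ := by
    rw [hu, commutatorElement_def, commutatorElement_def]; group
  rw [e]
  have hSR := sylow_le_normalizer_inf S N
  have hux' : m⁻¹ * (v⁻¹ * x * v) * m⁻¹⁻¹ ∈ (S : Subgroup G) := by
    have : m⁻¹ * (v⁻¹ * x * v) * m⁻¹⁻¹ = u * x * u⁻¹ := by rw [hu]; group
    rw [this]; exact hux
  refine D.mul_mem (h₁ (Subgroup.mem_inf.mpr ⟨?_, ?_⟩)) (h₂ (Subgroup.mem_inf.mpr ⟨?_, ?_⟩))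
  · have e2 : ⁅x, v⁻¹⁆ = x * (v⁻¹ * x * v)⁻¹ := by rw [commutatorElement_def]; group
    rw [e2]
    exact mul_mem hxS (inv_mem hyS)
  · exact Subgroup.commutator_mem_commutator (Subgroup.mem_sup_left hxS) (inv_mem hv)
  · have e2 : ⁅v⁻¹ * x * v, m⁻¹⁆ = (v⁻¹ * x * v) * (m⁻¹ * (v⁻¹ * x * v) * m⁻¹⁻¹)⁻¹ := by
      rw [commutatorElement_def]; group
    rw [e2]
    exact mul_mem hyS (inv_mem hux')
  · exact Subgroup.commutator_mem_commutator (hSR hyS) (inv_mem hm)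

open MonoidHom in
/-- evaluation of the transfer at an element whose conjugates in `H` agree modulo `ker ϕ` -/
theorem transfer_eq_pow_of_key {A : Type*} [CommGroup A] {H : Subgroup G} (ϕ : H →* A)
    [H.FiniteIndex] (g : G) (hg : g ∈ H)
    (key : ∀ (k : ℕ) (g₀ : G) (hk : g₀⁻¹ * g ^ k * g₀ ∈ H),
      ϕ ⟨g₀⁻¹ * g ^ k * g₀, hk⟩ = ϕ ⟨g, hg⟩ ^ k) :
    transfer ϕ g = ϕ ⟨g, hg⟩ ^ H.index := by
  classical
  let := H.fintypeQuotientOfFiniteIndex
  rw [transfer_eq_prod_quotient_orbitRel_zpowers_quot]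
  rw [Finset.prod_congr rfl (fun q _ => key _ _ _), Finset.prod_pow_eq_pow_sum,
    ← Subgroup.index_eq_sum_minimalPeriod H g]

/-- `Q ∩ G' ≤ S'` when `G = S C_G(Q)` -/
theorem inf_commutator_le_of_factor (S : Sylow p G) (Q : Subgroup G) [hQn : Q.Normal]
    (hQS : Q ≤ (S : Subgroup G))
    (hSC : ∀ g : G, ∃ s ∈ (S : Subgroup G), ∃ c ∈ Subgroup.centralizer (Q : Set G), g = s * c) :
    Q ⊓ ⁅(⊤ : Subgroup G), ⊤⁆ ≤ ⁅(S : Subgroup G), (S : Subgroup G)⁆ := by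
  intro q hq
  obtain ⟨hqQ, hqG⟩ := Subgroup.mem_inf.mp hq
  have hqS : q ∈ (S : Subgroup G) := hQS hqQ
  set ϕ : ↥(S : Subgroup G) →* Abelianization ↥(S : Subgroup G) := Abelianization.of with hϕ
  have hfi : (S : Subgroup G).FiniteIndex := inferInstance
  have h1 : MonoidHom.transfer ϕ q = 1 := by
    have := Abelianization.commutator_subset_ker (MonoidHom.transfer ϕ)
    exact this (by rw [commutator_def]; exact hqG)
  have h2 : MonoidHom.transfer ϕ q = ϕ ⟨q, hqS⟩ ^ (S : Subgroup G).index := by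
    apply transfer_eq_pow_of_key ϕ q hqS
    intro k g₀ hk
    obtain ⟨s, hs, c, hc, rfl⟩ := hSC g₀
    have hqk : s⁻¹ * q ^ k * s ∈ Q := by
      have := hQn.conj_mem (q ^ k) (Q.pow_mem hqQ k) s⁻¹
      simpa using this
    have hcomm : c * (s⁻¹ * q ^ k * s) = (s⁻¹ * q ^ k * s) * c := (hc _ hqk).symm
    have e : (s * c)⁻¹ * q ^ k * (s * c) = s⁻¹ * q ^ k * s := by
      calc (s * c)⁻¹ * q ^ k * (s * c) = c⁻¹ * ((s⁻¹ * q ^ k * s) * c) := by group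
        _ = c⁻¹ * (c * (s⁻¹ * q ^ k * s)) := by rw [hcomm]
        _ = s⁻¹ * q ^ k * s := by group
    have e2 : (⟨(s * c)⁻¹ * q ^ k * (s * c), hk⟩ : ↥(S : Subgroup G)) =
        (⟨s, hs⟩ : ↥(S : Subgroup G))⁻¹ * ⟨q, hqS⟩ ^ k * ⟨s, hs⟩ := by
      apply Subtype.ext
      simp only [Subgroup.coe_mul, Subgroup.coe_inv, Subgroup.coe_pow]
      exact e
    rw [e2, map_mul, map_mul, map_inv, map_pow]
    rw [mul_comm (ϕ ⟨s, hs⟩)⁻¹, mul_assoc, inv_mul_cancel, mul_one]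
  rw [h2] at h1
  -- the order of `ϕ q` is a power of `p` and divides the index
  have h3 : ϕ ⟨q, hqS⟩ = 1 := by
    obtain ⟨a, ha⟩ := (IsPGroup.iff_orderOf.mp S.isPGroup') ⟨q, hqS⟩
    have h4 : ϕ ⟨q, hqS⟩ ^ (p ^ a) = 1 := by
      rw [← map_pow, ← ha, pow_orderOf_eq_one, map_one]
    have hcop : Nat.Coprime (p ^ a) (S : Subgroup G).index :=
      Nat.Coprime.pow_left a ((Nat.Prime.coprime_iff_not_dvd Fact.out).mpr S.not_dvd_index)
    have h5 := orderOf_dvd_of_pow_eq_one h4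
    have h6 := orderOf_dvd_of_pow_eq_one h1
    have h7 : orderOf (ϕ ⟨q, hqS⟩) ∣ 1 := by
      have := Nat.dvd_gcd h5 h6
      rwa [hcop] at this
    exact orderOf_eq_one_iff.mp (Nat.dvd_one.mp h7)
  have h8 : (⟨q, hqS⟩ : ↥(S : Subgroup G)) ∈ commutator ↥(S : Subgroup G) := by
    rw [← Abelianization.ker_of]; exact h3
  have h9 := Subgroup.mem_map_of_mem (S : Subgroup G).subtype h8
  rw [Subgroup.map_subtype_commutator] at h9
  exact h9

end TC

end Cfsg.Agent.Helper33
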