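import Mathlib
import Cfsg.Agent.Lib.Helper33.SecTransferC

/-!
Glauberman's Theorem 6.6 (transfer): a family of isomorphism-invariant `p`-group functors that
controls transfer in every constrained section controls transfer.
-/

set_option autoImplicit false
universe u
open Pointwise Cfsg

namespace Cfsg.Agent.Helper33

section TD

variable {p : ℕ} [Fact p.Prime]

/-- the preimage of `N_{G/Q}(W(S/Q))` -/
def quotNormalizer {G : Type u} [Group G] (S Q : Subgroup G) [Q.Normal]
    (W : ∀ (X : Type u) [Group X], Subgroup X) : Subgroup G :=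
  (Subgroup.normalizer ((inducedFunctor W (S.map (QuotientGroup.mk' Q)) : Subgroup (G ⧸ Q)) :
    Set (G ⧸ Q))).comap (QuotientGroup.mk' Q)

theorem sylow_le_quotNormalizer {W : ∀ (X : Type u) [Group X], Subgroup X}
    (hW : IsCharPFunctor.{u} p W) {G : Type u} [Group G] [Finite G] (S : Sylow p G)
    (Q : Subgroup G) [Q.Normal] : (S : Subgroup G) ≤ quotNormalizer (S : Subgroup G) Q W := by
  intro s hs
  have hWc := isConjugacyFunctor_indF hW (G ⧸ Q)
  have hSbarp : IsPGroup p ((S : Subgroup G).map (QuotientGroup.mk' Q)) := S.isPGroup'.map _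
  exact normalizer_le_normalizer_functor hWc hSbarp (Subgroup.le_normalizer ⟨s, hs, rfl⟩)

theorem quotNormalizer_ne_top {W : ∀ (X : Type u) [Group X], Subgroup X}
    (hW : IsCharPFunctor.{u} p W) {G : Type u} [Group G] [Finite G] (S : Sylow p G)
    (hSQ : ¬ (S : Subgroup G) ≤ pCore p G) :
    haveI := pCore_normal (G := G) p
    quotNormalizer (S : Subgroup G) (pCore p G) W ≠ ⊤ := by
  haveI hQn := pCore_normal (G := G) p
  intro htop
  set Q := pCore p G with hQ
  set π := QuotientGroup.mk' Q with hπ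
  set Sbar := (S : Subgroup G).map π with hSbar
  have hQS : Q ≤ (S : Subgroup G) := pCore_le_sylow S
  have hWc := isConjugacyFunctor_indF hW (G ⧸ Q)
  have hSbarp : IsPGroup p Sbar := S.isPGroup'.map _
  have hSbarne : Sbar ≠ ⊥ := by
    intro h0
    apply hSQ
    intro s hs
    have : π s ∈ Sbar := ⟨s, hs, rfl⟩
    rw [h0, Subgroup.mem_bot] at this
    exact (QuotientGroup.eq_one_iff s).mp this
  have hYn : (inducedFunctor W Sbar : Subgroup (G ⧸ Q)).Normal := by
    rw [← Subgroup.normalizer_eq_top_iff, eq_top_iff]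
    intro gbar _
    obtain ⟨g, rfl⟩ := QuotientGroup.mk'_surjective Q gbar
    have : g ∈ quotNormalizer (S : Subgroup G) Q W := by rw [htop]; exact Subgroup.mem_top g
    exact this
  have hYle : inducedFunctor W Sbar ≤ Sbar := indF_le W Sbar
  set Y := (inducedFunctor W Sbar : Subgroup (G ⧸ Q)).comap π with hY
  have hYS : Y ≤ (S : Subgroup G) := by
    have h1 : Y ≤ Sbar.comap π := Subgroup.comap_mono hYle
    rw [hSbar, Subgroup.comap_map_eq, QuotientGroup.ker_mk', sup_eq_left.mpr hQS] at h1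
    exact h1
  have hYQ : Y ≤ Q := normal_pgroup_le_pCore (hYn.comap π) (S.isPGroup'.to_le hYS)
  have hbot : inducedFunctor W Sbar = ⊥ := by
    rw [eq_bot_iff]
    intro ybar hybar
    obtain ⟨y', rfl⟩ := QuotientGroup.mk'_surjective Q ybar
    have : y' ∈ Q := hYQ hybar
    rw [Subgroup.mem_bot]
    exact (QuotientGroup.eq_one_iff y').mpr this
  exact (hWc Sbar hSbarp).2.1 hSbarne hbot

/-- quotient lifting for the focal subgroup when `G = S C_G(Q)` -/
theorem focal_le_of_quot_pgroup {𝓦 : Set (∀ (Q : Type u) [Group Q], Subgroup Q)}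
    (h𝓦 : ∀ W ∈ 𝓦, IsCharPFunctor.{u} p W) {G : Type u} [Group G] [Finite G] (S : Sylow p G)
    (Q : Subgroup G) [hQn : Q.Normal] (hQS : Q ≤ (S : Subgroup G))
    (hSC : ∀ g : G, ∃ s ∈ (S : Subgroup G), ∃ c ∈ Subgroup.centralizer (Q : Set G), g = s * c)
    (hquot : FamilyControlsTransferIn p (indFam 𝓦 (G ⧸ Q)) ⊤) (D : Subgroup G)
    (hS' : ⁅(S : Subgroup G), (S : Subgroup G)⁆ ≤ D)
    (hM : ∀ W ∈ 𝓦, (S : Subgroup G) ⊓
      ⁅quotNormalizer (S : Subgroup G) Q W, quotNormalizer (S : Subgroup G) Q W⁆ ≤ D) :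
    (S : Subgroup G) ⊓ ⁅(⊤ : Subgroup G), ⊤⁆ ≤ D := by
  set π := QuotientGroup.mk' Q with hπ
  have hπQ : ∀ z : G, π z = 1 ↔ z ∈ Q := fun z => QuotientGroup.eq_one_iff z
  have hsurj := QuotientGroup.mk'_surjective Q
  have hsyl : IsSylIn p ((S : Subgroup G).map π) ⊤ := isSylIn_map_top π hsurj S
  have hbar := familyControlsTransferIn_at (isConjugacyFunctor_indFam h𝓦 (G ⧸ Q)) hquot hsyl
  set T₁ : Subgroup G := ⨆ W ∈ 𝓦, (S : Subgroup G) ⊓
    ⁅quotNormalizer (S : Subgroup G) Q W, quotNormalizer (S : Subgroup G) Q W⁆ with hT₁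
  have hT₁D : T₁ ≤ D := iSup₂_le hM
  have hT₁G : T₁ ≤ (S : Subgroup G) ⊓ ⁅(⊤ : Subgroup G), ⊤⁆ :=
    iSup₂_le fun W _ => inf_le_inf_left _ (Subgroup.commutator_mono le_top le_top)
  have hclaim : ∀ W ∈ 𝓦, derivedPart (inducedFunctor (G := G ⧸ Q) W) ⊤ ((S : Subgroup G).map π) ≤
      T₁.map π := by
    intro W hW
    set M := quotNormalizer (S : Subgroup G) Q W with hMdef
    have hMmap : M.map π = (⊤ : Subgroup (G ⧸ Q)) ⊓ Subgroup.normalizer
        ((inducedFunctor W ((S : Subgroup G).map π) : Subgroup (G ⧸ Q)) : Set (G ⧸ Q)) := by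
      rw [top_inf_eq, hMdef, quotNormalizer, Subgroup.map_comap_eq_self_of_surjective hsurj]
    intro ybar hybar
    obtain ⟨hy1, hy2⟩ := Subgroup.mem_inf.mp hybar
    rw [← hMmap, ← Subgroup.map_commutator] at hy2
    obtain ⟨s, hs, rfl⟩ := hy1
    obtain ⟨m', hm', hm's⟩ := hy2
    have h3 : m'⁻¹ * s ∈ Q := by
      rw [← hπQ, map_mul, map_inv, hm's, inv_mul_cancel]
    have hm'S : m' ∈ (S : Subgroup G) := by
      have : m' = s * (m'⁻¹ * s)⁻¹ := by group
      rw [this]
      exact mul_mem hs (inv_mem (hQS h3))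
    refine ⟨m', ?_, hm's⟩
    exact Subgroup.mem_iSup_of_mem W (Subgroup.mem_iSup_of_mem hW (Subgroup.mem_inf.mpr ⟨hm'S, hm'⟩))
  intro x hx
  obtain ⟨hxS, hxG⟩ := Subgroup.mem_inf.mp hx
  have h1 : π x ∈ ((S : Subgroup G).map π) ⊓ ⁅(⊤ : Subgroup (G ⧸ Q)), ⊤⁆ := by
    refine Subgroup.mem_inf.mpr ⟨⟨x, hxS, rfl⟩, ?_⟩
    have : π x ∈ Subgroup.map π ⁅(⊤ : Subgroup G), ⊤⁆ := ⟨x, hxG, rfl⟩
    rw [Subgroup.map_commutator] at this
    exact Subgroup.commutator_mono le_top le_top this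
  rw [hbar] at h1
  have h2 : (⨆ F ∈ indFam 𝓦 (G ⧸ Q), derivedPart F ⊤ ((S : Subgroup G).map π)) ≤ T₁.map π := by
    unfold indFam
    rw [iSup_image]
    exact iSup₂_le hclaim
  obtain ⟨t, ht, htx⟩ := h2 h1
  have htG := hT₁G ht
  have h3 : t⁻¹ * x ∈ Q ⊓ ⁅(⊤ : Subgroup G), ⊤⁆ := by
    refine Subgroup.mem_inf.mpr ⟨?_, mul_mem (inv_mem (Subgroup.mem_inf.mp htG).2) hxG⟩
    rw [← hπQ, map_mul, map_inv, htx, inv_mul_cancel]
  have h4 := hS' (inf_commutator_le_of_factor S Q hQS hSC h3)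
  have : x = t * (t⁻¹ * x) := by group
  rw [this]
  exact D.mul_mem (hT₁D ht) h4

/-- classes of groups closed under subgroups and quotients -/
structure SecClass (𝒳 : ∀ (H : Type u) [Group H], Prop) : Prop where
  sub : ∀ (H : Type u) [Group H] [Finite H] (K : Subgroup H), 𝒳 H → 𝒳 ↥K
  quot : ∀ (H : Type u) [Group H] [Finite H] (N : Subgroup H) [N.Normal], 𝒳 H → 𝒳 (H ⧸ N)

theorem card_quotient_le {G : Type*} [Group G] [Finite G] (N : Subgroup G) :
    Nat.card (G ⧸ N) ≤ Nat.card G := by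
  rw [Subgroup.card_eq_card_quotient_mul_card_subgroup N]
  exact Nat.le_mul_of_pos_right _ Nat.card_pos

/-- **Glauberman's Theorem 6.6** for transfer, in inductive form. -/
theorem secTransfer_main {𝓦 : Set (∀ (Q : Type u) [Group Q], Subgroup Q)}
    (h𝓦 : ∀ W ∈ 𝓦, IsCharPFunctor.{u} p W) {𝒳 : ∀ (H : Type u) [Group H], Prop}
    (h𝒳 : SecClass 𝒳)
    (hloc : ∀ (H : Type u) [Group H] [Finite H], 𝒳 H → Constr p H →
      (∀ (H' : Type u) [Group H'] [Finite H'], 𝒳 H' → Nat.card H' < Nat.card H →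
        FamilyControlsTransferIn p (indFam 𝓦 H') ⊤) →
      FamilyControlsTransferIn p (indFam 𝓦 H) ⊤) :
    ∀ (n : ℕ) (G : Type u) [Group G] [Finite G], Nat.card G = n → 𝒳 G →
      FamilyControlsTransferIn p (indFam 𝓦 G) ⊤ := by
  intro n
  induction n using Nat.strong_induction_on with
  | _ n ih =>
  intro G _ _ hcard hXG
  have h𝔚 := isConjugacyFunctor_indFam h𝓦 G
  have ih' : ∀ (H' : Type u) [Group H'] [Finite H'], 𝒳 H' → Nat.card H' < Nat.card G →
      FamilyControlsTransferIn p (indFam 𝓦 H') ⊤ := by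
    intro H' _ _ hX hlt
    exact ih _ (hcard ▸ hlt) H' rfl hX
  have ihsub : ∀ K : Subgroup G, K ≠ ⊤ → FamilyControlsTransferIn p (indFam 𝓦 G) K := by
    intro K hK
    have h1 := ih' ↥K (h𝒳.sub G K hXG) (card_subgroup_lt K hK)
    have h2 := fct_range h𝓦 K.subtype K.subtype_injective h1
    rwa [Subgroup.range_subtype] at h2
  obtain ⟨S⟩ : Nonempty (Sylow p G) := inferInstance
  set Q := pCore p G with hQdef
  have hQS : Q ≤ (S : Subgroup G) := pCore_le_sylow S
  have hQn : Q.Normal := pCore_normal p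
  by_cases hQ : Q = ⊥
  · apply familyControlsTransfer_global h𝔚 S
    intro T hTS hTne _
    apply ihsub
    intro htop
    have hTn : T.Normal := Subgroup.normalizer_eq_top_iff.mp htop
    have h1 : T ≤ Q := normal_pgroup_le_pCore hTn (S.isPGroup'.to_le hTS)
    rw [hQ] at h1
    exact hTne (le_bot_iff.mp h1)
  · apply fct_top_of_le S
    have hsub : ∀ K : Subgroup G, K ≠ ⊤ → (S : Subgroup G) ≤ K →
        (S : Subgroup G) ⊓ ⁅K, K⁆ ≤ famD (indFam 𝓦 G) S := by
      intro K hK hSK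
      rw [familyControlsTransferIn_at h𝔚 (ihsub K hK) ((isSylIn_top S).of_le hSK le_top)]
      refine iSup₂_le fun F hF => ?_
      refine le_iSup₂_of_le F hF ?_
      exact inf_le_inf_left _ (Subgroup.commutator_mono (inf_le_inf_right _ le_top)
        (inf_le_inf_right _ le_top))
    set C := Subgroup.centralizer (Q : Set G) with hC
    set N := Q ⊔ C with hN
    have hNn : N.Normal := inferInstance
    set R := (S : Subgroup G) ⊓ N with hR
    by_cases hRQ : R ≤ Q
    · have hcon : Constr p (G ⧸ pPrimeCore p G) := by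
        apply constr_quot_pprime S
        exact le_trans (inf_le_inf_left _ le_sup_right) hRQ
      have : (pPrimeCore p G).Normal := pPrimeCore_normal p
      have h0 := hloc (G ⧸ pPrimeCore p G) (h𝒳.quot G _ hXG) hcon (by
        intro H' _ _ hX hlt
        exact ih' H' hX (lt_of_lt_of_le hlt (card_quotient_le _)))
      have h1 := fct_of_quot_pprime h𝓦 (pPrimeCore p G) (card_pPrimeCore_coprime' p) h0
      exact (fct_top_at h𝔚 h1 S).le
    · have hNR : Subgroup.normalizer (R : Set G) ≠ ⊤ := by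
        intro htop
        have hRn : R.Normal := Subgroup.normalizer_eq_top_iff.mp htop
        exact hRQ (normal_pgroup_le_pCore hRn (S.isPGroup'.to_le inf_le_left))
      by_cases hSN : (S : Subgroup G) ⊔ N = ⊤
      · have hSC : ∀ g : G, ∃ s ∈ (S : Subgroup G), ∃ c ∈ C, g = s * c := by
          intro g
          have h1 : g ∈ (S : Subgroup G) ⊔ C := by
            have h2 : (S : Subgroup G) ⊔ N = (S : Subgroup G) ⊔ C := by
              rw [hN, ← sup_assoc, sup_eq_left.mpr hQS]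
            rw [← h2, hSN]; exact Subgroup.mem_top g
          exact mem_sup_normal_right h1
        have hSnotQ : ¬ (S : Subgroup G) ≤ Q := fun h => hRQ (inf_le_left.trans h)
        have hSne : (S : Subgroup G) ≠ ⊤ := by
          intro htop
          apply hSnotQ
          rw [htop]
          exact normal_pgroup_le_pCore inferInstance (by rw [← htop]; exact S.isPGroup')
        have hquot := ih' (G ⧸ Q) (h𝒳.quot G Q hXG) (card_quotient_lt Q hQ)
        refine focal_le_of_quot_pgroup h𝓦 S Q hQS hSC hquot _ ?_ ?_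
        · exact (le_inf (Subgroup.commutator_le_self _) le_rfl).trans (hsub _ hSne le_rfl)
        · intro W hW
          exact hsub _ (quotNormalizer_ne_top (h𝓦 W hW) S hSnotQ)
            (sylow_le_quotNormalizer (h𝓦 W hW) S Q)
      · exact focal_le_of_frattini S N _ (hsub _ hSN le_sup_left)
          (hsub _ hNR (sylow_le_normalizer_inf S N))

/-- the local hypothesis of Theorem 6.6 for transfer -/
def LocHypT (p : ℕ) (𝓦 : Set (∀ (Q : Type u) [Group Q], Subgroup Q)) (H : Type u) [Group H] : Prop :=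
  Constr p H → FamilyControlsTransferIn p (indFam 𝓦 H) ⊤

theorem fct_isoInv {𝓦 : Set (∀ (Q : Type u) [Group Q], Subgroup Q)}
    (h𝓦 : ∀ W ∈ 𝓦, IsCharPFunctor.{u} p W) :
    IsoInvFin (fun (H : Type u) [Group H] => FamilyControlsTransferIn p (indFam 𝓦 H) ⊤) := by
  intro Q R _ _ _ φ h1
  have h2 := fct_range h𝓦 φ.toMonoidHom φ.injective h1
  have : φ.toMonoidHom.range = ⊤ := MonoidHom.range_eq_top.mpr φ.surjective
  rwa [this] at h2

theorem locHypT_isoInv {𝓦 : Set (∀ (Q : Type u) [Group Q], Subgroup Q)}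
    (h𝓦 : ∀ W ∈ 𝓦, IsCharPFunctor.{u} p W) : IsoInvFin (LocHypT.{u} p 𝓦) := by
  intro Q R _ _ _ φ hQ hR
  exact fct_isoInv h𝓦 Q R φ (hQ (constr_of_equiv φ hR))

theorem secClass_secHave {P : ∀ (Q : Type u) [Group Q], Prop} (hP : IsoInvFin P) :
    SecClass (fun (H : Type u) [Group H] => SecHave P H) :=
  ⟨fun _ _ _ K h => h.subgroup hP K, fun _ _ _ N _ h => h.quotient hP N⟩

/-- Theorem 6.6 (transfer) in closed form. -/
theorem secTransfer {𝓦 : Set (∀ (Q : Type u) [Group Q], Subgroup Q)}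
    (h𝓦 : ∀ W ∈ 𝓦, IsCharPFunctor.{u} p W) (G : Type u) [Group G] [Finite G]
    (h : SecHave (LocHypT.{u} p 𝓦) G) : FamilyControlsTransferIn p (indFam 𝓦 G) ⊤ := by
  have hiso := locHypT_isoInv (p := p) h𝓦
  refine secTransfer_main h𝓦 (secClass_secHave hiso) ?_ _ G rfl h
  intro H _ _ hX hcon _
  exact hX.self hiso hcon

end TD

end Cfsg.Agent.Helper33
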