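import Mathlib
import Cfsg.Agent.Lib.Helper33.SecTransferD

/-!
Control of transfer from a focal condition in the constrained sections (Glauberman).
-/

set_option autoImplicit false
universe u
open Pointwise Cfsg

namespace Cfsg.Agent.Helper33

section TE

variable {p : ℕ} [Fact p.Prime]

/-- quotient lifting for the focal subgroup, given a bound for `Q ∩ G'` -/
theorem focal_le_of_quot_pgroup' {𝓦 : Set (∀ (Q : Type u) [Group Q], Subgroup Q)}
    (h𝓦 : ∀ W ∈ 𝓦, IsCharPFunctor.{u} p W) {G : Type u} [Group G] [Finite G] (S : Sylow p G)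
    (Q : Subgroup G) [hQn : Q.Normal] (hQS : Q ≤ (S : Subgroup G))
    (hquot : FamilyControlsTransferIn p (indFam 𝓦 (G ⧸ Q)) ⊤) (D : Subgroup G)
    (hQD : Q ⊓ ⁅(⊤ : Subgroup G), ⊤⁆ ≤ D)
    (hM : ∀ W ∈ 𝓦, (S : Subgroup G) ⊓
      ⁅quotNormalizer (S : Subgroup G) Q W, quotNormalizer (S : Subgroup G) Q W⁆ ≤ D) :
    (S : Subgroup G) ⊓ ⁅(⊤ : Subgroup G), ⊤⁆ ≤ D := by
  set π := QuotientGroup.mk' Q with hπ
  have hπQ : ∀ z : G, π z = 1 ↔ z ∈ Q := fun z => QuotientGroup.eq_one_iff z
  have hsurj := QuotientGroup.mk'_surjective Q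
  have hsyl : IsSylIn p ((S : Subgroup G).map π) ⊤ := isSylIn_map_top π hsurj S
  have hbar := familyControlsTransferIn_at (isConjugacyFunctor_indFam h𝓦 (G ⧸ Q)) hquot hsyl
  set T₁ : Subgroup G := ⨆ W ∈ 𝓦, (S : Subgroup G) ⊓
    ⁅quotNormalizer (S : Subgroup G) Q W, quotNormalizer (S : Subgroup G) Q W⁆ with hT₁
  have hT₁D : T₁ ≤ D := iSup₂_le hM
  have hT₁G : T₁ ≤ (S : Subgroup G) ⊓ ⁅(⊤ : Subgroup G), ⊤⁆ :=
    iSup₂_le fun W _ => inf_le_inf_left _ (Subgroup.commutator_mono le_top le_top)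
  have hclaim : ∀ W ∈ 𝓦, derivedPart (inducedFunctor (G := G ⧸ Q) W) ⊤ ((S : Subgroup G).map π) ≤
      T₁.map π := by
    intro W hW
    set M := quotNormalizer (S : Subgroup G) Q W with hMdef
    have hMmap : M.map π = (⊤ : Subgroup (G ⧸ Q)) ⊓ Subgroup.normalizer
        ((inducedFunctor W ((S : Subgroup G).map π) : Subgroup (G ⧸ Q)) : Set (G ⧸ Q)) := by
      rw [top_inf_eq, hMdef, quotNormalizer, Subgroup.map_comap_eq_self_of_surjective hsurj]
    intro ybar hybar
    obtain ⟨hy1, hy2⟩ := Subgroup.mem_inf.mp hybar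
    rw [← hMmap, ← Subgroup.map_commutator] at hy2
    obtain ⟨s, hs, rfl⟩ := hy1
    obtain ⟨m', hm', hm's⟩ := hy2
    have h3 : m'⁻¹ * s ∈ Q := by
      rw [← hπQ, map_mul, map_inv, hm's, inv_mul_cancel]
    have hm'S : m' ∈ (S : Subgroup G) := by
      have : m' = s * (m'⁻¹ * s)⁻¹ := by group
      rw [this]
      exact mul_mem hs (inv_mem (hQS h3))
    refine ⟨m', ?_, hm's⟩
    exact Subgroup.mem_iSup_of_mem W (Subgroup.mem_iSup_of_mem hW (Subgroup.mem_inf.mpr ⟨hm'S, hm'⟩))
  intro x hx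
  obtain ⟨hxS, hxG⟩ := Subgroup.mem_inf.mp hx
  have h1 : π x ∈ ((S : Subgroup G).map π) ⊓ ⁅(⊤ : Subgroup (G ⧸ Q)), ⊤⁆ := by
    refine Subgroup.mem_inf.mpr ⟨⟨x, hxS, rfl⟩, ?_⟩
    have : π x ∈ Subgroup.map π ⁅(⊤ : Subgroup G), ⊤⁆ := ⟨x, hxG, rfl⟩
    rw [Subgroup.map_commutator] at this
    exact Subgroup.commutator_mono le_top le_top this
  rw [hbar] at h1
  have h2 : (⨆ F ∈ indFam 𝓦 (G ⧸ Q), derivedPart F ⊤ ((S : Subgroup G).map π)) ≤ T₁.map π := by
    unfold indFam
    rw [iSup_image]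
    exact iSup₂_le hclaim
  obtain ⟨t, ht, htx⟩ := h2 h1
  have htG := hT₁G ht
  have h3 : t⁻¹ * x ∈ Q ⊓ ⁅(⊤ : Subgroup G), ⊤⁆ := by
    refine Subgroup.mem_inf.mpr ⟨?_, mul_mem (inv_mem (Subgroup.mem_inf.mp htG).2) hxG⟩
    rw [← hπQ, map_mul, map_inv, htx, inv_mul_cancel]
  have : x = t * (t⁻¹ * x) := by group
  rw [this]
  exact D.mul_mem (hT₁D ht) (hQD h3)

/-- the focal condition in a group -/
def FocalHyp (p : ℕ) (W : ∀ (Q : Type u) [Group Q], Subgroup Q) (H : Type u) [Group H] : Prop :=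
  Constr p H → ∀ T : Sylow p H, pCore p H ⊓ commutator H = pCore p H ⊓
    ⁅Subgroup.normalizer ((inducedFunctor W (T : Subgroup H) : Subgroup H) : Set H),
      Subgroup.normalizer ((inducedFunctor W (T : Subgroup H) : Subgroup H) : Set H)⁆

theorem focalHyp_isoInv {W : ∀ (Q : Type u) [Group Q], Subgroup Q} (hW : IsCharPFunctor.{u} p W) :
    IsoInvFin (FocalHyp.{u} p W) := by
  intro Q R _ _ _ φ hQ hR T'
  have hinj : Function.Injective φ.toMonoidHom := φ.injective
  have hsurj : Function.Surjective φ.toMonoidHom := φ.surjective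
  set T : Sylow p Q := T'.comapOfInjective φ.toMonoidHom hinj
    (by rw [MonoidHom.range_eq_top.mpr hsurj]; exact le_top) with hT
  have hTmap : (T : Subgroup Q).map φ.toMonoidHom = T' := by
    rw [hT, Sylow.coe_comapOfInjective, Subgroup.map_comap_eq_self_of_surjective hsurj]
  have h1 := hQ (constr_of_equiv φ hR) T
  have h2 := congrArg (Subgroup.map φ.toMonoidHom) h1
  have hcomm : (commutator Q).map φ.toMonoidHom = commutator R := by
    rw [commutator_def, commutator_def, Subgroup.map_commutator,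
      Subgroup.map_top_of_surjective _ hsurj]
  have hfin : Finite (T : Subgroup Q) := inferInstance
  have hind : (inducedFunctor W (T : Subgroup Q)).map φ.toMonoidHom =
      inducedFunctor W (T' : Subgroup R) := by
    rw [← hTmap]
    exact (indF_map hW φ.toMonoidHom _ T.isPGroup' (fun x _ hx => hinj (by rw [hx, map_one]))).symm
  rw [Subgroup.map_inf _ _ _ hinj, Subgroup.map_inf _ _ _ hinj, hcomm, pCore_map_equiv φ,
    Subgroup.map_commutator] at h2
  have hnorm : (Subgroup.normalizer ((inducedFunctor W (T : Subgroup Q) : Subgroup Q) : Set Q)).map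
      φ.toMonoidHom =
      Subgroup.normalizer ((inducedFunctor W (T' : Subgroup R) : Subgroup R) : Set R) := by
    have := Subgroup.map_equiv_normalizer_eq (inducedFunctor W (T : Subgroup Q)) φ
    rw [← hind]
    exact this
  rw [hnorm] at h2
  exact h2

theorem singleton_charP {W : ∀ (Q : Type u) [Group Q], Subgroup Q} (hW : IsCharPFunctor.{u} p W) :
    ∀ W' ∈ ({W} : Set (∀ (Q : Type u) [Group Q], Subgroup Q)), IsCharPFunctor.{u} p W' :=
  fun W' h => by rw [Set.mem_singleton_iff.mp h]; exact hW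

/-- a constrained group with the focal condition: control of transfer, given it for the smaller
groups of the class -/
theorem fct_of_focalHyp {W : ∀ (Q : Type u) [Group Q], Subgroup Q} (hW : IsCharPFunctor.{u} p W)
    {𝒳 : ∀ (H : Type u) [Group H], Prop} (h𝒳 : SecClass 𝒳) (H : Type u) [Group H] [Finite H]
    (hX : 𝒳 H) (hfoc : FocalHyp p W H) (hcon : Constr p H)
    (ih : ∀ (H' : Type u) [Group H'] [Finite H'], 𝒳 H' → Nat.card H' < Nat.card H →
      FamilyControlsTransferIn p (indFam {W} H') ⊤) :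
    FamilyControlsTransferIn p (indFam {W} H) ⊤ := by
  have h𝓦 := singleton_charP (p := p) hW
  have h𝔚 := isConjugacyFunctor_indFam h𝓦 H
  obtain ⟨S⟩ : Nonempty (Sylow p H) := inferInstance
  set P := pCore p H with hP
  have hPn : P.Normal := pCore_normal p
  have hPS : P ≤ (S : Subgroup H) := pCore_le_sylow S
  apply fct_top_of_le S
  set N := Subgroup.normalizer ((inducedFunctor W (S : Subgroup H) : Subgroup H) : Set H) with hN
  have hDge : (S : Subgroup H) ⊓ ⁅N, N⁆ ≤ famD (indFam {W} H) S := by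
    refine le_iSup₂_of_le (inducedFunctor (G := H) W) ⟨W, rfl, rfl⟩ ?_
    show (S : Subgroup H) ⊓ ⁅N, N⁆ ≤ (S : Subgroup H) ⊓ ⁅⊤ ⊓ N, ⊤ ⊓ N⁆
    rw [top_inf_eq]
  by_cases hSP : (S : Subgroup H) ≤ P
  · have hSeq : (S : Subgroup H) = P := le_antisymm hSP hPS
    have hNtop : N = ⊤ := by
      rw [eq_top_iff]
      have h1 := normalizer_le_normalizer_functor (isConjugacyFunctor_indF hW H) S.isPGroup'
      refine le_trans ?_ h1
      rw [hSeq, Subgroup.normalizer_eq_top]
    rw [hNtop] at hDge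
    exact hDge
  · have hP0 : P ≠ ⊥ := by
      intro h0
      apply hSP
      intro s _
      apply hcon
      rw [Subgroup.mem_centralizer_iff]
      intro y hy
      rw [SetLike.mem_coe, ← hP, h0, Subgroup.mem_bot] at hy
      rw [hy]; simp
    have hquot := ih (H ⧸ P) (h𝒳.quot H P hX) (card_quotient_lt P hP0)
    set M := quotNormalizer (S : Subgroup H) P W with hM
    have hMne : M ≠ ⊤ := quotNormalizer_ne_top hW S hSP
    have hSM : (S : Subgroup H) ≤ M := sylow_le_quotNormalizer hW S P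
    have hMD : (S : Subgroup H) ⊓ ⁅M, M⁆ ≤ famD (indFam {W} H) S := by
      have h1 := ih ↥M (h𝒳.sub H M hX) (card_subgroup_lt M hMne)
      have h2 := fct_range h𝓦 M.subtype M.subtype_injective h1
      rw [Subgroup.range_subtype] at h2
      rw [familyControlsTransferIn_at h𝔚 h2 ((isSylIn_top S).of_le hSM le_top)]
      refine iSup₂_le fun F hF => ?_
      refine le_iSup₂_of_le F hF ?_
      exact inf_le_inf_left _ (Subgroup.commutator_mono (inf_le_inf_right _ le_top)
        (inf_le_inf_right _ le_top))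
    have hQD : P ⊓ ⁅(⊤ : Subgroup H), ⊤⁆ ≤ famD (indFam {W} H) S := by
      have h1 := hfoc hcon S
      rw [commutator_def] at h1
      rw [h1]
      exact (inf_le_inf_right _ hPS).trans hDge
    refine focal_le_of_quot_pgroup' h𝓦 S P hPS hquot _ hQD ?_
    intro W' hW'
    rw [Set.mem_singleton_iff.mp hW']
    exact hMD

/-- Control of transfer from the focal condition in the constrained sections. -/
theorem secTransfer_focal {W : ∀ (Q : Type u) [Group Q], Subgroup Q} (hW : IsCharPFunctor.{u} p W)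
    (G : Type u) [Group G] [Finite G] (h : SecHave (FocalHyp.{u} p W) G) :
    FamilyControlsTransferIn p (indFam {W} G) ⊤ := by
  have hiso := focalHyp_isoInv (p := p) hW
  have hcls := secClass_secHave hiso
  refine secTransfer_main (singleton_charP hW) hcls ?_ _ G rfl h
  intro H _ _ hX hcon ih
  exact fct_of_focalHyp hW hcls H hX (hX.self hiso) hcon ih

theorem controlsTransferIn_of_fct {G : Type u} [Group G] {W : ∀ (Q : Type u) [Group Q], Subgroup Q}
    (h : FamilyControlsTransferIn p (indFam {W} G) ⊤) :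
    ControlsTransferIn p (inducedFunctor (G := G) W) ⊤ := by
  obtain ⟨T, hT1, hT2, hT3, heq⟩ := h
  refine ⟨T, hT1, hT2, hT3, ?_⟩
  rw [heq]
  unfold indFam
  rw [Set.image_singleton, iSup_singleton]

end TE

end Cfsg.Agent.Helper33
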