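import Mathlib
import Cfsg.Agent.Lib.Helper33.EngelA
import Cfsg.Agent.Lib.Helper33.SecTransferE

/-!
Combinatorial lemmas for the transfer argument: products over the orbits of a permutation, a chain
of subgroups generated by a normal subset of a `p`-group, and the transfer of an element all of
whose conjugates lie in the subgroup.
-/

set_option autoImplicit false
universe u
open Pointwise Cfsg

namespace Cfsg.Agent.Helper33.Engel

open Cfsg.Agent.Helper33

section Orbits

/-- If the product of `c` over every nontrivial `σ`-orbit in `F` is `1`, the product over `F`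
is the product over the fixed points. -/
theorem prod_eq_prod_fixed {Ω A : Type*} [DecidableEq Ω] [Fintype Ω] [CommMonoid A]
    (σ : Equiv.Perm Ω) (c : Ω → A) :
    ∀ F : Finset Ω, (∀ q ∈ F, σ q ∈ F) →
      (∀ q ∈ F, σ q ≠ q →
        ∏ i ∈ Finset.range (Function.minimalPeriod σ q), c ((σ ^ i) q) = 1) →
      ∏ q ∈ F, c q = ∏ q ∈ F.filter (fun q => σ q = q), c q := by
  intro F
  induction' hn : F.card using Nat.strong_induction_on with n ih generalizing F
  intro hF h
  by_cases hall : ∀ q ∈ F, σ q = q
  · rw [Finset.filter_true_of_mem hall]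
  · push Not at hall
    obtain ⟨q₀, hq₀F, hq₀⟩ := hall
    set m := Function.minimalPeriod σ q₀ with hm
    have hmpos : 0 < m := by
      apply Function.IsPeriodicPt.minimalPeriod_pos (n := orderOf σ) (orderOf_pos σ)
      show σ^[orderOf σ] q₀ = q₀
      rw [Equiv.Perm.iterate_eq_pow, pow_orderOf_eq_one]; rfl
    set O := (Finset.range m).image (fun i => (σ ^ i) q₀) with hO
    have hpowF : ∀ i, (σ ^ i) q₀ ∈ F := by
      intro i
      induction i with
      | zero => simpa using hq₀F
      | succ i ih' => rw [pow_succ', Equiv.Perm.mul_apply]; exact hF _ ih'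
    have hOF : O ⊆ F := by
      intro q hq
      obtain ⟨i, -, rfl⟩ := Finset.mem_image.mp hq
      exact hpowF i
    have hper : (σ ^ m) q₀ = q₀ := by
      have := Function.isPeriodicPt_minimalPeriod σ q₀
      rw [← Equiv.Perm.iterate_eq_pow]; exact this
    have hq₀O : q₀ ∈ O := Finset.mem_image.mpr ⟨0, Finset.mem_range.mpr hmpos, by simp⟩
    have hOσ' : ∀ q, σ q ∈ O → q ∈ O := by
      intro q hq
      obtain ⟨i, hi, hiq⟩ := Finset.mem_image.mp hq
      rw [Finset.mem_range] at hi
      cases i with
      | zero =>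
        have h1 : σ q = σ ((σ ^ (m - 1)) q₀) := by
          rw [← Equiv.Perm.mul_apply, ← pow_succ', Nat.sub_add_cancel hmpos, hper]
          simpa using hiq.symm
        rw [σ.injective h1]
        exact Finset.mem_image.mpr ⟨m - 1, Finset.mem_range.mpr (by omega), rfl⟩
      | succ i =>
        have h1 : σ q = σ ((σ ^ i) q₀) := by
          rw [← Equiv.Perm.mul_apply, ← pow_succ']; exact hiq.symm
        rw [σ.injective h1]
        exact Finset.mem_image.mpr ⟨i, Finset.mem_range.mpr (by omega), rfl⟩
    have hinj : Set.InjOn (fun i => (σ ^ i) q₀) (Finset.range m : Set ℕ) := by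
      intro i hi j hj hij
      simp only [Finset.coe_range, Set.mem_Iio] at hi hj
      refine (Function.iterate_eq_iterate_iff_of_lt_minimalPeriod hi hj).mp ?_
      rw [Equiv.Perm.iterate_eq_pow, Equiv.Perm.iterate_eq_pow]
      exact hij
    have hprodO : ∏ q ∈ O, c q = 1 := by
      rw [hO, Finset.prod_image hinj]; exact h q₀ hq₀F hq₀
    have hnofix : ∀ q ∈ O, σ q ≠ q := by
      intro q hq hfix
      obtain ⟨i, -, rfl⟩ := Finset.mem_image.mp hq
      apply hq₀
      have h1 : (σ ^ i) (σ q₀) = (σ ^ i) q₀ := by
        rw [← Equiv.Perm.mul_apply, ← pow_succ, pow_succ', Equiv.Perm.mul_apply]; exact hfix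
      exact (σ ^ i).injective h1
    set F' := F \ O with hF'
    have hF'σ : ∀ q ∈ F', σ q ∈ F' := by
      intro q hq
      rw [Finset.mem_sdiff] at hq ⊢
      exact ⟨hF q hq.1, fun h' => hq.2 (hOσ' q h')⟩
    have hcard : F'.card < n := by
      rw [← hn]
      apply Finset.card_lt_card
      refine ⟨Finset.sdiff_subset, fun hsub => ?_⟩
      exact (Finset.mem_sdiff.mp (hsub hq₀F)).2 hq₀O
    have h1 := ih _ hcard F' rfl hF'σ (fun q hq => h q (Finset.mem_sdiff.mp hq).1)
    have h2 : ∏ q ∈ F, c q = (∏ q ∈ F', c q) * ∏ q ∈ O, c q := (Finset.prod_sdiff hOF).symm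
    rw [h2, hprodO, mul_one, h1]
    apply Finset.prod_congr _ (fun _ _ => rfl)
    ext q
    simp only [Finset.mem_filter, Finset.mem_sdiff, hF']
    constructor
    · rintro ⟨⟨hqF, -⟩, hfix⟩; exact ⟨hqF, hfix⟩
    · rintro ⟨hqF, hfix⟩; exact ⟨⟨hqF, fun hqO => hnofix q hqO hfix⟩, hfix⟩

end Orbits

section Chain

variable {G : Type*} [Group G] [Finite G] {p : ℕ} [Fact p.Prime]

/-- A property of subgroups that holds for `⊥` and passes from `D'` to `D' ⟨u⟩` for `u ∈ E`
normalizing `D'` holds for the subgroup generated by the normal subset `E` of the `p`-group `S`. -/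
theorem chain_closure (S : Subgroup G) (hS : IsPGroup p S) (E : Set G) (hES : E ⊆ S)
    (hconj : ∀ s ∈ S, ∀ u ∈ E, s * u * s⁻¹ ∈ E) (Pr : Subgroup G → Prop) (h0 : Pr ⊥)
    (hstep : ∀ D' : Subgroup G, Pr D' → ∀ u ∈ E, u ∈ Subgroup.normalizer (D' : Set G) →
      Pr (D' ⊔ Subgroup.zpowers u)) : Pr (Subgroup.closure E) := by
  classical
  set D := Subgroup.closure E with hD
  have hDS : D ≤ S := (Subgroup.closure_le S).mpr hES
  have key : ∀ n : ℕ, ∀ D' : Subgroup G, D' ≤ D → D' ≤ Subgroup.closure (E ∩ D') → Pr D' →
      Nat.card D - Nat.card D' = n → Pr D := by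
    intro n
    induction n using Nat.strong_induction_on with
    | _ n ih =>
    intro D' hD'D hD'E hPD' hn
    by_cases hDD : D' = D
    · rw [← hDD]; exact hPD'
    · have hex : ∃ u ∈ E, u ∈ Subgroup.normalizer (D' : Set G) ∧ u ∉ D' := by
        by_contra hno
        push Not at hno
        set N₁ := S ⊓ Subgroup.normalizer (D' : Set G) with hN₁
        have hD'N₁ : D' ≤ N₁ := le_inf (hD'D.trans hDS) Subgroup.le_normalizer
        have hN₁S : N₁ = S := by
          by_contra hne
          have hlt := IsSylIn.normalizer_growth hS (inf_le_left : N₁ ≤ S) hne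
          obtain ⟨s, hs, hsN₁⟩ := SetLike.exists_of_lt hlt
          apply hsN₁
          obtain ⟨hsS, hsN⟩ := Subgroup.mem_inf.mp hs
          refine Subgroup.mem_inf.mpr ⟨hsS, ?_⟩
          rw [mem_normalizer_iff_smul_eq]
          apply Subgroup.eq_of_le_of_card_ge
          · rw [conj_smul_le_iff]
            intro x hx
            have hx' := hD'E hx
            refine Subgroup.closure_induction (p := fun y _ => s * y * s⁻¹ ∈ D') ?_ ?_ ?_ ?_ hx'
            · intro y hy
              obtain ⟨hyE, hyD'⟩ := hy
              have h1 : s * y * s⁻¹ ∈ E := hconj s hsS y hyE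
              have h2 : s * y * s⁻¹ ∈ N₁ :=
                (Subgroup.mem_normalizer_iff.mp hsN y).mp (hD'N₁ hyD')
              exact hno _ h1 (Subgroup.mem_inf.mp h2).2
            · simp
            · intro a b _ _ ha hb
              have : s * (a * b) * s⁻¹ = (s * a * s⁻¹) * (s * b * s⁻¹) := by group
              rw [this]; exact D'.mul_mem ha hb
            · intro a _ ha
              have : s * a⁻¹ * s⁻¹ = (s * a * s⁻¹)⁻¹ := by group
              rw [this]; exact D'.inv_mem ha
          · rw [card_conj_smul]
        apply hDD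
        apply le_antisymm hD'D
        rw [hD, Subgroup.closure_le]
        intro u hu
        have huN : u ∈ N₁ := by rw [hN₁S]; exact hES hu
        exact hno u hu (Subgroup.mem_inf.mp huN).2
      obtain ⟨u, huE, huN, huD'⟩ := hex
      set D'' := D' ⊔ Subgroup.zpowers u with hD''
      have huD'' : u ∈ D'' := (le_sup_right : Subgroup.zpowers u ≤ D'') (Subgroup.mem_zpowers u)
      have hD''D : D'' ≤ D := by
        refine sup_le hD'D ?_
        rw [Subgroup.zpowers_le]; exact Subgroup.subset_closure huE
      have hD''E : D'' ≤ Subgroup.closure (E ∩ D'') := by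
        apply sup_le
        · refine hD'E.trans (Subgroup.closure_mono (Set.inter_subset_inter_right _ ?_))
          exact (le_sup_left : D' ≤ D'')
        · rw [Subgroup.zpowers_le]
          exact Subgroup.subset_closure ⟨huE, huD''⟩
      have hc1 : Nat.card D' < Nat.card D'' := by
        by_contra hle
        push Not at hle
        have := Subgroup.eq_of_le_of_card_ge (le_sup_left : D' ≤ D'') hle
        apply huD'
        rw [this]; exact huD''
      have hc2 : Nat.card D'' ≤ Nat.card D := Subgroup.card_le_of_le hD''D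
      exact ih (Nat.card D - Nat.card D'') (by omega) D'' hD''D hD''E
        (hstep D' hPD' u huE huN) rfl
  refine key _ ⊥ bot_le bot_le h0 rfl

end Chain

section Transfer

open MonoidHom Subgroup Subgroup.leftTransversals

variable {G : Type*} [Group G] {A : Type*} [CommGroup A]

/-- the transfer of an element all of whose conjugates lie in `H` -/
theorem transfer_of_conj_mem {H : Subgroup G} [H.FiniteIndex] (ϕ : H →* A) (x : G)
    (hx : ∀ g : G, g⁻¹ * x * g ∈ H) [inst : Fintype (G ⧸ H)] :
    transfer ϕ x = ∏ q : G ⧸ H, ϕ ⟨q.out⁻¹ * x * q.out, hx _⟩ := by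
  have hinst : inst = H.fintypeQuotientOfFiniteIndex := Subsingleton.elim _ _
  subst hinst
  let T : H.LeftTransversal := ⟨Set.range (Quotient.out : G ⧸ H → G),
    isComplement_range_left QuotientGroup.out_eq'⟩
  rw [transfer_def ϕ T]
  unfold diff
  apply Finset.prod_congr rfl
  intro q _
  congr 1
  apply Subtype.ext
  have hxq : x⁻¹ • q = q := by
    induction q using QuotientGroup.induction_on with
    | H g =>
      show ((x⁻¹ * g : G) : G ⧸ H) = (g : G ⧸ H)
      rw [QuotientGroup.eq]
      have := hx g
      simpa [mul_assoc] using this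
  show ((T.2.leftQuotientEquiv q : G))⁻¹ * ((x • T).2.leftQuotientEquiv q : G) = _
  rw [smul_apply_eq_smul_apply_inv_smul, hxq,
    IsComplement.leftQuotientEquiv_apply (f := (Quotient.out : G ⧸ H → G)) QuotientGroup.out_eq']
  simp [mul_assoc]

end Transfer

end Cfsg.Agent.Helper33.Engel
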