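import Mathlib
import Cfsg.Agent.Lib.Helper33.EngelB
import Cfsg.Agent.Lib.Helper33.ChainStab

/-!
The transfer argument: if `M` is the unique maximal subgroup over a Sylow `p`-subgroup `S`, `X/Y` is
an elementary abelian normal section inside `M` with `Y ∩ G' ≤ M'`, and some `u ∈ S ∖ O_p(G)` has
`[X, u; p-1] ≤ Y`, then `X ∩ G' ≤ M'`.
-/

set_option autoImplicit false
universe u
open Pointwise Cfsg

namespace Cfsg.Agent.Helper33.Engel

open Cfsg.Agent.Helper33

section Core

variable {G : Type*} [Group G] [Finite G] {p : ℕ} [Fact p.Prime]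

theorem cp_conj (g v x : G) (n : ℕ) :
    cp (g * v * g⁻¹) x n = g * cp v (g⁻¹ * x * g) n * g⁻¹ := by
  induction n with
  | zero => simp [cp]
  | succ n ih =>
    show cp (g * v * g⁻¹) x n * ((g * v * g⁻¹) ^ n * x * ((g * v * g⁻¹) ^ n)⁻¹) =
      g * (cp v (g⁻¹ * x * g) n * (v ^ n * (g⁻¹ * x * g) * (v ^ n)⁻¹)) * g⁻¹
    rw [ih, conj_pow]
    group

theorem engel_core (S : Sylow p G) (M : Subgroup G) (hSM : (S : Subgroup G) ≤ M)
    (hM : ∀ H : Subgroup G, (S : Subgroup G) ≤ H → H ≠ ⊤ → H ≤ M)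
    (X Y : Subgroup G) [hX : X.Normal] [hYn : Y.Normal] (hXM : X ≤ M)
    (hY : Y ⊓ ⁅(⊤ : Subgroup G), ⊤⁆ ≤ ⁅M, M⁆)
    (u : G) (huS : u ∈ (S : Subgroup G)) (huP : u ∉ pCore p G)
    (hu : ∀ y ∈ X, cp u⁻¹ y p ∈ Y) :
    X ⊓ ⁅(⊤ : Subgroup G), ⊤⁆ ≤ ⁅M, M⁆ := by
  classical
  haveI : M.FiniteIndex := inferInstance
  letI : Fintype (G ⧸ M) := Fintype.ofFinite _
  set ϕ : ↥M →* Abelianization ↥M := Abelianization.of with hϕ
  have hconjM : ∀ y ∈ X, ∀ g : G, g⁻¹ * y * g ∈ M := fun y hy g =>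
    hXM (by simpa using hX.conj_mem y hy g⁻¹)
  have hG'n : (⁅(⊤ : Subgroup G), (⊤ : Subgroup G)⁆ : Subgroup G).Normal :=
    Subgroup.commutator_normal ⊤ ⊤
  -- the set of good elements and the subgroup it generates
  set E : Set G := {v | v ∈ (S : Subgroup G) ∧ ∀ y ∈ X, cp v⁻¹ y p ∈ Y} with hE
  have hES : E ⊆ (S : Subgroup G) := fun v hv => hv.1
  have hEconj : ∀ g : G, ∀ v ∈ E, g * v * g⁻¹ ∈ (S : Subgroup G) → g * v * g⁻¹ ∈ E := by
    intro g v hv hgS
    refine ⟨hgS, fun y hy => ?_⟩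
    have e : (g * v * g⁻¹)⁻¹ = g * v⁻¹ * g⁻¹ := by group
    rw [e, cp_conj]
    apply hYn.conj_mem
    apply hv.2
    simpa using hX.conj_mem y hy g⁻¹
  set D := Subgroup.closure E with hD
  have huE : u ∈ E := ⟨huS, hu⟩
  have huD : u ∈ D := Subgroup.subset_closure huE
  have hDS : D ≤ (S : Subgroup G) := (Subgroup.closure_le _).mpr hES
  -- weak closure
  have hweak : ∀ g : G, MulAut.conj g • D ≤ (S : Subgroup G) →
      g ∈ Subgroup.normalizer (D : Set G) := by
    intro g hg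
    apply mem_normalizer_of_conj_smul_le
    rw [conj_smul_le_iff]
    intro d hd
    refine Subgroup.closure_induction (p := fun y _ => g * y * g⁻¹ ∈ D) ?_ ?_ ?_ ?_ hd
    · intro v hv
      apply Subgroup.subset_closure
      apply hEconj g v hv
      exact hg (conj_mem_conj_smul (Subgroup.subset_closure hv))
    · simp
    · intro a b _ _ ha hb
      have : g * (a * b) * g⁻¹ = (g * a * g⁻¹) * (g * b * g⁻¹) := by group
      rw [this]; exact D.mul_mem ha hb
    · intro a _ ha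
      have : g * a⁻¹ * g⁻¹ = (g * a * g⁻¹)⁻¹ := by group
      rw [this]; exact D.inv_mem ha
  have hSN : (S : Subgroup G) ≤ Subgroup.normalizer (D : Set G) := by
    intro s hs
    apply hweak
    rw [conj_smul_le_iff]
    intro d hd
    exact (S : Subgroup G).mul_mem ((S : Subgroup G).mul_mem hs (hDS hd)) ((S : Subgroup G).inv_mem hs)
  have hNtop : Subgroup.normalizer (D : Set G) ≠ ⊤ := by
    intro htop
    have hDn : D.Normal := Subgroup.normalizer_eq_top_iff.mp htop
    exact huP (normal_pgroup_le_pCore hDn (S.isPGroup'.to_le hDS) huD)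
  have hNM : Subgroup.normalizer (D : Set G) ≤ M := hM _ hSN hNtop
  have hsylM : IsSylIn p (S : Subgroup G) M := (isSylIn_top S).of_le hSM le_top
  -- the only fixed point of `D`
  have hfix : ∀ g : G, (∀ d ∈ D, d • (g : G ⧸ M) = (g : G ⧸ M)) → g ∈ M := by
    intro g hg
    have h1 : MulAut.conj g⁻¹ • D ≤ M := by
      rw [conj_smul_le_iff]
      intro d hd
      have := hg d hd
      have h2 : ((d * g : G) : G ⧸ M) = (g : G ⧸ M) := this
      rw [QuotientGroup.eq] at h2
      have e : g⁻¹ * d * g⁻¹⁻¹ = ((d * g)⁻¹ * g)⁻¹ := by group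
      rw [e]; exact M.inv_mem h2
    obtain ⟨m, hm, hle⟩ := hsylM.exists_conj_le (isPGroup_conj_smul (S.isPGroup'.to_le hDS)) h1
    rw [← conj_mul_smul] at hle
    have h3 := hNM (hweak _ hle)
    have e : g = (m⁻¹ * (m * g⁻¹))⁻¹ := by group
    rw [e]
    exact M.inv_mem (M.mul_mem (M.inv_mem hm) h3)
  intro x hx
  obtain ⟨hxX, hxG⟩ := Subgroup.mem_inf.mp hx
  -- the function `ψ g y = ϕ (g⁻¹ y g)`
  let ψ : G → G → Abelianization ↥M := fun g y =>
    if h : g⁻¹ * y * g ∈ M then ϕ ⟨_, h⟩ else 1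
  have hψ : ∀ g y (h : g⁻¹ * y * g ∈ M), ψ g y = ϕ ⟨_, h⟩ := fun g y h => dif_pos h
  have hψmul : ∀ g, ∀ y₁ ∈ X, ∀ y₂ ∈ X, ψ g (y₁ * y₂) = ψ g y₁ * ψ g y₂ := by
    intro g y₁ h₁ y₂ h₂
    rw [hψ g _ (hconjM _ (X.mul_mem h₁ h₂) g), hψ g _ (hconjM _ h₁ g), hψ g _ (hconjM _ h₂ g),
      ← map_mul]
    congr 1
    apply Subtype.ext
    simp only [Subgroup.coe_mul]
    group
  have hψone : ∀ g, ψ g 1 = 1 := by
    intro g
    have h1 : g⁻¹ * 1 * g ∈ M := by simp
    rw [hψ g 1 h1]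
    have : (⟨g⁻¹ * 1 * g, h1⟩ : ↥M) = 1 := by apply Subtype.ext; simp
    rw [this, map_one]
  have hψM : ∀ g, ∀ m ∈ M, ∀ y ∈ X, ψ (g * m) y = ψ g y := by
    intro g m hm y hy
    rw [hψ _ _ (hconjM y hy _), hψ _ _ (hconjM y hy g)]
    have : (⟨(g * m)⁻¹ * y * (g * m), hconjM y hy _⟩ : ↥M) =
        (⟨m, hm⟩ : ↥M)⁻¹ * ⟨g⁻¹ * y * g, hconjM y hy g⟩ * ⟨m, hm⟩ := by
      apply Subtype.ext
      simp only [Subgroup.coe_mul, Subgroup.coe_inv]
      group
    rw [this, map_mul, map_mul, map_inv, mul_comm (ϕ ⟨m, hm⟩)⁻¹, mul_assoc, inv_mul_cancel,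
      mul_one]
  have hϕker : ∀ (z : G) (hzM : z ∈ M), z ∈ ⁅M, M⁆ → ϕ ⟨z, hzM⟩ = 1 := by
    intro z hzM hz
    rw [← MonoidHom.mem_ker, Abelianization.ker_of]
    rw [← Subgroup.map_subtype_commutator] at hz
    obtain ⟨w, hw, hwz⟩ := hz
    have : w = ⟨z, hzM⟩ := Subtype.ext hwz
    rw [← this]; exact hw
  have hψker : ∀ g, ∀ z ∈ Y ⊓ ⁅(⊤ : Subgroup G), ⊤⁆, ψ g z = 1 := by
    intro g z hz
    have hz' : g⁻¹ * z * g ∈ Y ⊓ ⁅(⊤ : Subgroup G), ⊤⁆ := by
      refine Subgroup.mem_inf.mpr ⟨?_, ?_⟩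
      · simpa using hYn.conj_mem z hz.1 g⁻¹
      · simpa using hG'n.conj_mem z hz.2 g⁻¹
    have hzM' := hY hz'
    have hzM : g⁻¹ * z * g ∈ M := Subgroup.commutator_le_self M hzM'
    rw [hψ g z hzM]
    exact hϕker _ hzM hzM'
  let c : G ⧸ M → Abelianization ↥M := fun q => ψ q.out x
  have hc : ∀ g : G, c (g : G ⧸ M) = ψ g x := by
    intro g
    have h1 : ((g : G ⧸ M)).out⁻¹ * g ∈ M := by
      rw [← QuotientGroup.eq]; exact QuotientGroup.out_eq' _
    have e : g = (g : G ⧸ M).out * ((g : G ⧸ M).out⁻¹ * g) := by group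
    show ψ (g : G ⧸ M).out x = ψ g x
    conv_rhs => rw [e]
    exact (hψM _ _ h1 x hxX).symm
  -- the key relation
  have hR : ∀ v ∈ E, ∀ q : G ⧸ M, ∏ i ∈ Finset.range p, c (v ^ i • q) = 1 := by
    intro v hv q
    induction q using QuotientGroup.induction_on with
    | H g =>
      have h1 : ∀ n : ℕ, ∏ i ∈ Finset.range n, c (v ^ i • (g : G ⧸ M)) = ψ g (cp v⁻¹ x n) := by
        intro n
        induction n with
        | zero => simp [cp, hψone]
        | succ n ih =>
          rw [Finset.prod_range_succ, ih]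
          show _ * c (((v ^ n * g : G)) : G ⧸ M) =
            ψ g (cp v⁻¹ x n * ((v⁻¹) ^ n * x * ((v⁻¹) ^ n)⁻¹))
          rw [hc, hψmul g _ (cp_mem_of_mem X _ _ hxX n) _ (hX.conj_mem x hxX _)]
          congr 1
          rw [hψ _ _ (hconjM x hxX _), hψ _ _ (hconjM _ (hX.conj_mem x hxX _) g)]
          congr 1
          apply Subtype.ext
          simp only []
          rw [inv_pow]
          group
      rw [h1 p]
      apply hψker
      exact Subgroup.mem_inf.mpr ⟨hv.2 x hxX, cp_mem_of_mem _ _ _ hxG p⟩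
  -- the property of subgroups
  let Pr : Subgroup G → Prop := fun D' =>
    ∏ q ∈ Finset.univ.filter (fun q : G ⧸ M => D' ≤ MulAction.stabilizer G q), c q = 1
  have h0 : Pr ⊥ := by
    show ∏ q ∈ Finset.univ.filter (fun q : G ⧸ M => ⊥ ≤ MulAction.stabilizer G q), c q = 1
    have hx' : ∀ g : G, g⁻¹ * x * g ∈ M := hconjM x hxX
    have h1 : MonoidHom.transfer ϕ x = 1 := by
      have := Abelianization.commutator_subset_ker (MonoidHom.transfer ϕ)
      exact this (by rw [commutator_def]; exact hxG)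
    rw [transfer_of_conj_mem ϕ x hx'] at h1
    rw [Finset.filter_true_of_mem (fun q _ => bot_le)]
    rw [← h1]
    apply Finset.prod_congr rfl
    intro q _
    exact hψ _ _ (hx' _)
  have hstep : ∀ D' : Subgroup G, Pr D' → ∀ v ∈ E, v ∈ Subgroup.normalizer (D' : Set G) →
      Pr (D' ⊔ Subgroup.zpowers v) := by
    intro D' hD' v hv hvN
    set σ : Equiv.Perm (G ⧸ M) := MulAction.toPermHom G (G ⧸ M) v with hσ
    have hσpow : ∀ (i : ℕ) (q : G ⧸ M), (σ ^ i) q = v ^ i • q := by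
      intro i q
      rw [hσ, ← map_pow]
      rfl
    set F := Finset.univ.filter (fun q : G ⧸ M => D' ≤ MulAction.stabilizer G q) with hF
    have hFσ : ∀ q ∈ F, σ q ∈ F := by
      intro q hq
      rw [hF, Finset.mem_filter] at hq ⊢
      refine ⟨Finset.mem_univ _, fun d hd => ?_⟩
      rw [MulAction.mem_stabilizer_iff]
      show d • (v • q) = v • q
      have h1 : v⁻¹ * d * v ∈ D' := by
        have := (Subgroup.mem_normalizer_iff.mp (Subgroup.inv_mem _ hvN) d).mp hd
        simpa using this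
      have h2 := MulAction.mem_stabilizer_iff.mp (hq.2 h1)
      calc d • (v • q) = v • ((v⁻¹ * d * v) • q) := by
            rw [← mul_smul, ← mul_smul]; congr 1; group
        _ = v • q := by rw [h2]
    obtain ⟨a, ha⟩ := (IsPGroup.iff_orderOf.mp S.isPGroup') ⟨v, hv.1⟩
    have hvpa : v ^ (p ^ a) = 1 := by
      have h1 := pow_orderOf_eq_one (⟨v, hv.1⟩ : ↥(S : Subgroup G))
      rw [ha] at h1
      have := congrArg Subtype.val h1
      simpa using this
    have horb : ∀ q ∈ F, σ q ≠ q →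
        ∏ i ∈ Finset.range (Function.minimalPeriod σ q), c ((σ ^ i) q) = 1 := by
      intro q _ hq
      have hper : Function.IsPeriodicPt σ (p ^ a) q := by
        show σ^[p ^ a] q = q
        rw [Equiv.Perm.iterate_eq_pow, hσpow, hvpa, one_smul]
      have hdvd := hper.minimalPeriod_dvd
      obtain ⟨j, -, hj⟩ := (Nat.dvd_prime_pow Fact.out).mp hdvd
      have hj0 : j ≠ 0 := by
        intro h0
        rw [h0, pow_zero, Function.minimalPeriod_eq_one_iff_isFixedPt] at hj
        exact hq hj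
      obtain ⟨j', rfl⟩ := Nat.exists_eq_succ_of_ne_zero hj0
      rw [hj, pow_succ']
      have h2 : ∀ m' : ℕ, ∏ i ∈ Finset.range (p * m'), c ((σ ^ i) q) = 1 := by
        intro m'
        induction m' with
        | zero => simp
        | succ m' ih =>
          rw [Nat.mul_succ, Finset.prod_range_add, ih, one_mul]
          have := hR v hv (v ^ (p * m') • q)
          rw [← this]
          apply Finset.prod_congr rfl
          intro i _
          rw [hσpow, add_comm, pow_add, mul_smul]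
      exact h2 _
    have h1 := prod_eq_prod_fixed σ c F hFσ horb
    show ∏ q ∈ Finset.univ.filter
      (fun q : G ⧸ M => D' ⊔ Subgroup.zpowers v ≤ MulAction.stabilizer G q), c q = 1
    have h2 : Finset.univ.filter
        (fun q : G ⧸ M => D' ⊔ Subgroup.zpowers v ≤ MulAction.stabilizer G q) =
        F.filter (fun q => σ q = q) := by
      ext q
      simp only [hF, Finset.mem_filter, Finset.mem_univ, true_and, sup_le_iff,
        Subgroup.zpowers_le, MulAction.mem_stabilizer_iff]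
      rfl
    rw [h2, ← h1]
    exact hD'
  have hfin := chain_closure (S : Subgroup G) S.isPGroup' E hES
    (fun s hs v hv => hEconj s v hv
      ((S : Subgroup G).mul_mem ((S : Subgroup G).mul_mem hs hv.1) ((S : Subgroup G).inv_mem hs)))
    Pr h0 hstep
  -- only the trivial coset is fixed by `D`
  have hone : Finset.univ.filter (fun q : G ⧸ M => D ≤ MulAction.stabilizer G q) =
      {((1 : G) : G ⧸ M)} := by
    ext q
    simp only [Finset.mem_filter, Finset.mem_univ, true_and, Finset.mem_singleton]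
    constructor
    · intro hq
      induction q using QuotientGroup.induction_on with
      | H g =>
        have hgM := hfix g (fun d hd => MulAction.mem_stabilizer_iff.mp (hq hd))
        rw [eq_comm, QuotientGroup.eq]
        simpa using hgM
    · rintro rfl d hd
      rw [MulAction.mem_stabilizer_iff]
      show ((d * 1 : G) : G ⧸ M) = ((1 : G) : G ⧸ M)
      rw [QuotientGroup.eq]
      have := hNM (hSN (hDS hd))
      simpa using M.inv_mem this
  have hfin' : c ((1 : G) : G ⧸ M) = 1 := by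
    have : ∏ q ∈ Finset.univ.filter (fun q : G ⧸ M => D ≤ MulAction.stabilizer G q), c q = 1 :=
      hfin
    rw [hone, Finset.prod_singleton] at this
    exact this
  rw [hc 1] at hfin'
  have hxM : x ∈ M := hXM hxX
  have h1 : (1 : G)⁻¹ * x * 1 ∈ M := by simpa using hxM
  rw [hψ 1 x h1] at hfin'
  have h2 : (⟨(1 : G)⁻¹ * x * 1, h1⟩ : ↥M) = ⟨x, hxM⟩ := by apply Subtype.ext; simp
  rw [h2, ← MonoidHom.mem_ker, Abelianization.ker_of] at hfin'
  have h3 := Subgroup.mem_map_of_mem M.subtype hfin'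
  rw [Subgroup.map_subtype_commutator] at h3
  exact h3

end Core

end Cfsg.Agent.Helper33.Engel
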