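import Cfsg.Agent.S1350
import Cfsg.Agent.S1392
import Cfsg.Agent.S1396
import Cfsg.Agent.S1404
import Cfsg.Agent.S1408
import Cfsg.Agent.S1410
import Cfsg.Agent.S0033
import Cfsg.Agent.Lib.Helper33.Syl
import Cfsg.Agent.Lib.Helper34.BG10c
import Cfsg.Agent.Lib.Helper52.CoprimeSylow
import Cfsg.Agent.Lib.Helper54.BGOvergroup
import Cfsg.Agent.Lib.Helper55.BGHall
import Cfsg.Agent.Lib.Helper20.BG13A

/-!
# Pieces of Bender–Glauberman Theorem 12.5 (for S1417)

`lemmaI`: for `p ∈ τ₂(M)`, `A ≤ M` elementary abelian of order `p²` with `C_G(A) ≤ M`, and `g ∉ M`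
with `A ≤ M^g`: `M_σ ∩ M^g = 1`.

`parts_adf`: clauses (a), (d), (f) of Theorem 12.5 and the statement on Sylow normalizers.
-/

set_option autoImplicit false
open Pointwise

namespace Cfsg.Agent.Helper33.BG125

open Subgroup Cfsg
open Cfsg.Agent.Helper33
open Cfsg.Agent.Helper34.BG (isElementaryAbelian_isPGroup isElementaryAbelian_conj
  isElementaryAbelian_mono isElementaryAbelian_sup isElementaryAbelian_zpowers
  commute_of_isElementaryAbelian isCoatom_conj ne_top_of_le_coatom normalizer_coatom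
  solvable_of_ne_top not_normalizer_le_of_not_mem_sigma)
open Cfsg.Agent.Helper55.BGB (sigmaCore_le isPi_sigmaCore le_normalizer_sigmaCore
  le_sigmaCore_of_isPGroup)

variable {G : Type*} [Group G]

/-! ### Generalities -/

theorem le_normalizer_inf {A K H : Subgroup G} (hK : A ≤ normalizer (K : Set G))
    (hH : A ≤ normalizer (H : Set G)) : A ≤ normalizer ((K ⊓ H : Subgroup G) : Set G) := by
  intro a ha
  rw [mem_normalizer_iff]
  intro n
  rw [mem_inf, mem_inf, ← mem_normalizer_iff.mp (hK ha) n, ← mem_normalizer_iff.mp (hH ha) n]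

section fin

variable [Finite G]

theorem factorization_card_of_not_dvd_index {q : ℕ} {K : Subgroup G}
    (h : ¬ q ∣ K.index) : (Nat.card K).factorization q = (Nat.card G).factorization q := by
  have h1 : Nat.card K * K.index = Nat.card G := Subgroup.card_mul_index K
  have hK0 : Nat.card K ≠ 0 := Nat.card_pos.ne'
  have hi0 : K.index ≠ 0 := Subgroup.index_ne_zero_of_finite
  rw [← h1, Nat.factorization_mul hK0 hi0]
  simp [Nat.factorization_eq_zero_of_not_dvd h]

theorem eq_of_le_of_card_sylow {q : ℕ} [hq : Fact q.Prime] {S R : Subgroup G}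
    (hS : Nat.card S = q ^ (Nat.card G).factorization q) (hR : IsPGroup q R) (h : S ≤ R) :
    R = S := by
  obtain ⟨n, hn⟩ := IsPGroup.iff_card.mp hR
  have h1 : q ^ n ∣ Nat.card G := by rw [← hn]; exact Subgroup.card_subgroup_dvd_card R
  have h2 : n ≤ (Nat.card G).factorization q :=
    (hq.out.pow_dvd_iff_le_factorization Nat.card_pos.ne').mp h1
  have h3 : Nat.card R ≤ Nat.card S := by
    rw [hn, hS]; exact Nat.pow_le_pow_right hq.out.pos h2
  exact (Subgroup.eq_of_le_of_card_ge h h3).symm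

theorem mem_maxInv_of_card_sylow {q : ℕ} [hq : Fact q.Prime] {A S : Subgroup G}
    (hS : Nat.card S = q ^ (Nat.card G).factorization q) (hAS : A ≤ normalizer (S : Set G)) :
    S ∈ Cfsg.maxInvSubgroups ⊤ A {q} :=
  Cfsg.Agent.Helper54.mem_maxInvSubgroups_of_isMaxInvQ A q S
    ⟨IsPGroup.of_card hS, hAS, fun _ hR _ hle => eq_of_le_of_card_sylow hS hR hle⟩

theorem isSylIn_of_card_sylow {q : ℕ} [hq : Fact q.Prime] {S M : Subgroup G}
    (hS : Nat.card S = q ^ (Nat.card G).factorization q) (hSM : S ≤ M) : IsSylIn q S M := by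
  obtain ⟨T, hT⟩ := exists_isSylIn (p := q) M
  refine hT.of_card_le (IsPGroup.of_card hS) hSM ?_
  obtain ⟨n, hn⟩ := IsPGroup.iff_card.mp hT.isPGroup
  have h1 : q ^ n ∣ Nat.card G := by rw [← hn]; exact Subgroup.card_subgroup_dvd_card T
  have h2 : n ≤ (Nat.card G).factorization q :=
    (hq.out.pow_dvd_iff_le_factorization Nat.card_pos.ne').mp h1
  rw [hn, hS]; exact Nat.pow_le_pow_right hq.out.pos h2

/-- the normalizer of a Sylow `q`-subgroup of `M` lies in `M` when `q ∈ σ(M)`. -/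
theorem normalizer_le_of_mem_sigma {q : ℕ} [hq : Fact q.Prime] {S M : Subgroup G}
    (hS : IsSylIn q S M) (hσ : q ∈ Cfsg.sigma M) : normalizer (S : Set G) ≤ M := by
  obtain ⟨-, -, P, hP⟩ := hσ
  obtain ⟨x, hx, hxe⟩ := hS.exists_conj_eq (isSylIn_of_sylow M P)
  rw [← hxe, normalizer_conj_smul]
  calc MulAut.conj x • normalizer ((((P : Subgroup M).map M.subtype : Subgroup G)) : Set G)
      ≤ MulAut.conj x • M := conj_smul_le_conj_smul hP
    _ = M := conj_smul_eq_self_of_mem hx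

/-! ### The transitivity hypothesis for `A` -/

theorem mem_of_centralizer_pow (hG : Cfsg.IsMinSimpleOddOrder G) (M : Subgroup G) (hM : IsCoatom M)
    (p : ℕ) [Fact p.Prime] (hp : p ∈ Cfsg.tau2 M) (A : Subgroup G)
    (hA : A ≤ M ∧ Cfsg.IsElementaryAbelian p A ∧ Nat.card A = p ^ 2) :
    ∀ x ∈ Subgroup.centralizer (A : Set G), x ^ p = 1 ↔ x ∈ A := by
  obtain ⟨hAM, hAe, hAc⟩ := hA
  have h08 := (Cfsg.Agent.S1408.result hG M hM p hp.2.1 hp.2.2.1 hp.2.2.2).2 A hAM hAe hAc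
  intro x hx
  constructor
  · intro hxp
    have hB : IsElementaryAbelian p (A ⊔ zpowers x) := by
      refine isElementaryAbelian_sup hAe (isElementaryAbelian_zpowers hxp) ?_
      intro a ha b hb
      obtain ⟨k, rfl⟩ := mem_zpowers_iff.mp hb
      have h1 : Commute a x := (mem_centralizer_iff.mp hx a ha)
      exact (h1.zpow_right k).eq
    have h2 := h08 (A ⊔ zpowers x) hB le_sup_left
    rw [← h2]
    exact le_sup_right (a := A) (mem_zpowers x)
  · intro hxA
    exact hAe.2 x hxA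

theorem transitivity_A (hG : Cfsg.IsMinSimpleOddOrder G) (M : Subgroup G) (hM : IsCoatom M)
    (p : ℕ) [hpp : Fact p.Prime] (hp : p ∈ Cfsg.tau2 M) (A : Subgroup G)
    (hA : A ≤ M ∧ Cfsg.IsElementaryAbelian p A ∧ Nat.card A = p ^ 2) :
    Cfsg.TransitivityHypothesis A := by
  have hdvd : p ∣ Nat.card G := by
    have h1 : p ∣ Nat.card A := by rw [hA.2.2]; exact dvd_pow_self p (by norm_num)
    exact h1.trans (Subgroup.card_subgroup_dvd_card A)
  exact Cfsg.Agent.S1396.result hG p hdvd A (isElementaryAbelian_isPGroup hA.2.1) hA.2.1.1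
    (Or.inl ⟨mem_of_centralizer_pow hG M hM p hp A hA,
      fun H hH => Cfsg.Agent.S1410.result hG p H hH⟩)

/-! ### Lemma I -/

theorem lemmaI_smul (hG : Cfsg.IsMinSimpleOddOrder G) (M : Subgroup G) (hM : IsCoatom M)
    (p : ℕ) [hpp : Fact p.Prime] (hp : p ∈ Cfsg.tau2 M) (A : Subgroup G)
    (hA : A ≤ M ∧ Cfsg.IsElementaryAbelian p A ∧ Nat.card A = p ^ 2)
    (hCA : Subgroup.centralizer (A : Set G) ≤ M) (g : G) (hg : g ∉ M)
    (hAg : A ≤ MulAut.conj g • M) :
    Cfsg.sigmaCore M ⊓ MulAut.conj g • M = ⊥ := by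
  by_contra hD
  set K : Subgroup G := Cfsg.sigmaCore M with hK
  set H : Subgroup G := MulAut.conj g • M with hH
  obtain ⟨hHallM, hHallG, -⟩ := Cfsg.Agent.S1350.result hG M hM
  have hpσ : p ∉ Cfsg.sigma M := hp.2.1
  have hTrans := transitivity_A hG M hM p hp A hA
  obtain ⟨hAM, hAe, hAc⟩ := hA
  have hKM : K ≤ M := sigmaCore_le M
  -- a prime divisor of `|D|`
  have hcardD : Nat.card (K ⊓ H : Subgroup G) ≠ 1 := fun h => hD (Subgroup.card_eq_one.mp h)
  obtain ⟨q, hq, hqD⟩ := Nat.exists_prime_and_dvd hcardD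
  have : Fact q.Prime := ⟨hq⟩
  have hqK : q ∣ Nat.card K := hqD.trans (Subgroup.card_dvd_of_le inf_le_left)
  have hqσ : q ∈ Cfsg.sigma M := isPi_sigmaCore M q hq hqK
  have hqp : q ≠ p := fun h => hpσ (h ▸ hqσ)
  -- coprimality
  have hpK : ¬ p ∣ Nat.card K := fun h => hpσ (isPi_sigmaCore M p hpp.out h)
  have hcop : (Nat.card A).Coprime (Nat.card K) := by
    rw [hAc]; exact Nat.Coprime.pow_left 2 ((Nat.Prime.coprime_iff_not_dvd hpp.out).mpr hpK)
  have hqA : ¬ q ∣ Nat.card A := by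
    rw [hAc]
    intro h
    exact hqp ((Nat.prime_dvd_prime_iff_eq hq hpp.out).mp (hq.dvd_of_dvd_pow h))
  -- `A` is solvable and normalizes everything
  have hAtop : A ≠ ⊤ := ne_top_of_le_coatom hM hAM
  have hAsolv : Group.IsSolvable A := solvable_of_ne_top hG hAtop
  have hAK : A ≤ normalizer (K : Set G) := hAM.trans (le_normalizer_sigmaCore M)
  have hAH : A ≤ normalizer (H : Set G) := hAg.trans le_normalizer
  have hAD : A ≤ normalizer ((K ⊓ H : Subgroup G) : Set G) := le_normalizer_inf hAK hAH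
  have hcopD : (Nat.card A).Coprime (Nat.card (K ⊓ H : Subgroup G)) :=
    Nat.Coprime.coprime_dvd_right (Subgroup.card_dvd_of_le inf_le_left) hcop
  -- `X`: an `A`-invariant Sylow `q`-subgroup of `D`
  obtain ⟨X, hXD, hXc, hAX⟩ :=
    Cfsg.Agent.Helper52.exists_invariant_sylow A (K ⊓ H) hAD hcopD (Or.inl hAsolv) q
  have hXq : IsPGroup q X := IsPGroup.of_card hXc
  have hXne : X ≠ ⊥ := by
    intro h
    have h1 : Nat.card X = 1 := by rw [h]; exact Subgroup.card_bot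
    rw [hXc, Cfsg.Agent.Helper52.sylCard] at h1
    have h2 : (Nat.card (K ⊓ H : Subgroup G)).factorization q = 0 := by
      by_contra h0
      have : 1 < q ^ (Nat.card (K ⊓ H : Subgroup G)).factorization q :=
        Nat.one_lt_pow h0 hq.one_lt
      omega
    rcases (Nat.factorization_eq_zero_iff _ _).mp h2 with h3 | h3 | h3
    · exact h3 hq
    · exact h3 hqD
    · exact Nat.card_pos.ne' h3
  have hXK : X ≤ K := hXD.trans inf_le_left
  have hXH : X ≤ H := hXD.trans inf_le_right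
  -- `S₁ ⊇ X`: an `A`-invariant Sylow `q`-subgroup of `K`
  obtain ⟨S₁, hS₁K, hS₁c, hXS₁, hAS₁⟩ :=
    Cfsg.Agent.Helper52.exists_invariant_sylow_ge A K hAK hcop (Or.inl hAsolv) q X hXK hXq hAX
  -- `K₂ = K^g`
  set K₂ : Subgroup G := MulAut.conj g • K with hK₂
  have hAK₂ : A ≤ normalizer (K₂ : Set G) := by
    rw [hK₂, normalizer_conj_smul]
    exact hAg.trans (conj_smul_le_conj_smul (le_normalizer_sigmaCore M))
  have hcop₂ : (Nat.card A).Coprime (Nat.card K₂) := by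
    rw [hK₂, card_conj_smul]; exact hcop
  have hXK₂ : X ≤ K₂ := by
    have h1 : MulAut.conj g⁻¹ • X ≤ M := by
      have := conj_smul_le_conj_smul (g := g⁻¹) hXH
      rwa [hH, conj_inv_smul_smul] at this
    have h2 : MulAut.conj g⁻¹ • X ≤ K :=
      le_sigmaCore_of_isPGroup hq hHallM hqσ h1 (isPGroup_conj_smul hXq)
    have h3 := conj_smul_le_conj_smul (g := g) h2
    rwa [conj_smul_inv_smul] at h3
  obtain ⟨S₂, hS₂K, hS₂c, hXS₂, hAS₂⟩ :=
    Cfsg.Agent.Helper52.exists_invariant_sylow_ge A K₂ hAK₂ hcop₂ (Or.inl hAsolv) q X hXK₂ hXq hAX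
  -- both are Sylow `q`-subgroups of `G`
  have hqidx : ¬ q ∣ K.index := hHallG.2 q hq hqσ
  have hfac : (Nat.card K).factorization q = (Nat.card G).factorization q :=
    factorization_card_of_not_dvd_index hqidx
  have hS₁card : Nat.card S₁ = q ^ (Nat.card G).factorization q := by
    rw [hS₁c, Cfsg.Agent.Helper52.sylCard, hfac]
  have hS₂card : Nat.card S₂ = q ^ (Nat.card G).factorization q := by
    rw [hS₂c, Cfsg.Agent.Helper52.sylCard, hK₂, card_conj_smul, hfac]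
  have hm₁ : S₁ ∈ Cfsg.maxInvSubgroups ⊤ A {q} := mem_maxInv_of_card_sylow hS₁card hAS₁
  have hm₂ : S₂ ∈ Cfsg.maxInvSubgroups ⊤ A {q} := mem_maxInv_of_card_sylow hS₂card hAS₂
  -- apply the transitivity theorem
  have hHtop : H ≠ ⊤ := (isCoatom_conj hM g).1
  have hH₁ : H ⊓ S₁ ≠ ⊥ := fun h => hXne (le_bot_iff.mp (h ▸ le_inf hXH hXS₁))
  have hH₂ : H ⊓ S₂ ≠ ⊥ := fun h => hXne (le_bot_iff.mp (h ▸ le_inf hXH hXS₂))
  obtain ⟨k, hk, hkS⟩ :=
    Cfsg.Agent.S1392.result hG A hTrans q hq hqA S₁ S₂ hm₁ hm₂ H hHtop hAg hH₁ hH₂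
  have hkM : k ∈ M := by
    apply hCA
    unfold Cfsg.piCoreOf at hk
    obtain ⟨y, -, rfl⟩ := hk
    exact y.2
  rw [map_conj_eq_smul] at hkS
  -- `S₂ ≤ M`
  have hS₂M : S₂ ≤ M := by
    rw [hkS, ← conj_smul_eq_self_of_mem hkM]
    exact conj_smul_le_conj_smul (hS₁K.trans hKM)
  have hS₂syl : IsSylIn q S₂ M := isSylIn_of_card_sylow hS₂card hS₂M
  have hNS₂ : normalizer (S₂ : Set G) ≤ M := normalizer_le_of_mem_sigma hS₂syl hqσ
  have hS₂ne : S₂ ≠ ⊥ := fun h => hXne (le_bot_iff.mp (h ▸ hXS₂))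
  -- `S₂^{g⁻¹} ≤ M`
  have hS₂g : S₂.map (MulAut.conj g⁻¹).toMonoidHom ≤ M := by
    rw [map_conj_eq_smul]
    have : MulAut.conj g⁻¹ • S₂ ≤ MulAut.conj g⁻¹ • K₂ := conj_smul_le_conj_smul hS₂K
    rw [hK₂, conj_inv_smul_smul] at this
    exact this.trans hKM
  obtain ⟨m, hm, c, hc, hgmc⟩ :=
    (Cfsg.Agent.S1404.result hG M hM q hqσ S₂ (IsPGroup.of_card hS₂card) hS₂ne hS₂M).1 g⁻¹ hS₂g
  have hcM : c ∈ M := hNS₂ (Subgroup.centralizer_le_normalizer _ hc)
  have : g⁻¹ ∈ M := by rw [hgmc]; exact M.mul_mem hm hcM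
  exact hg (by simpa using M.inv_mem this)

theorem lemmaI (hG : Cfsg.IsMinSimpleOddOrder G) (M : Subgroup G) (hM : IsCoatom M)
    (p : ℕ) [Fact p.Prime] (hp : p ∈ Cfsg.tau2 M) (A : Subgroup G)
    (hA : A ≤ M ∧ Cfsg.IsElementaryAbelian p A ∧ Nat.card A = p ^ 2)
    (hCA : Subgroup.centralizer (A : Set G) ≤ M) (g : G) (hg : g ∉ M)
    (hAg : A ≤ M.map (MulAut.conj g).toMonoidHom) :
    Cfsg.sigmaCore M ⊓ M.map (MulAut.conj g).toMonoidHom = ⊥ :=
  lemmaI_smul hG M hM p hp A hA hCA g hg hAg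

/-! ### Clauses (a), (d), (f) -/

theorem parts_adf (hG : Cfsg.IsMinSimpleOddOrder G) (M : Subgroup G) (hM : IsCoatom M)
    (p : ℕ) [hpp : Fact p.Prime] (hp : p ∈ Cfsg.tau2 M)
    (h16a : ∀ B : Subgroup G, B ≤ M → Cfsg.IsElementaryAbelian p B → Nat.card B = p ^ 2 →
      Subgroup.centralizer (B : Set G) ≤ M)
    (h16b : ∀ B : Subgroup G, B ≤ M → Cfsg.IsElementaryAbelian p B → Nat.card B = p ^ 2 →
      ∃ B0 : Subgroup G, B0 ≤ B ∧ Nat.card B0 = p ∧ Subgroup.normalizer (B0 : Set G) ≤ M)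
    (A : Subgroup G) (hA : A ≤ M ∧ Cfsg.IsElementaryAbelian p A ∧ Nat.card A = p ^ 2) :
    Group.IsNilpotent (Cfsg.sigmaCore M) ∧
    (∀ P : Sylow p M,
      ¬ Subgroup.normalizer (((P : Subgroup M).map M.subtype : Subgroup G) : Set G) ≤ M) ∧
    Cfsg.sigmaCore M ⊓ Subgroup.centralizer (A : Set G) = ⊥ ∧
    ∃ A1 : Subgroup G, A1 ≤ A ∧ Nat.card A1 = p ∧
      Cfsg.sigmaCore M ⊓ Subgroup.centralizer (A1 : Set G) = ⊥ := by
  have hpσ : p ∉ Cfsg.sigma M := hp.2.1
  have hAM := hA.1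
  have hAe := hA.2.1
  have hAc := hA.2.2
  have hdvd : p ∣ Nat.card M := by
    have h1 : p ∣ Nat.card A := by rw [hAc]; exact dvd_pow_self p (by norm_num)
    exact h1.trans (Subgroup.card_dvd_of_le hAM)
  -- clause on Sylow normalizers
  have h2 : ∀ P : Sylow p M,
      ¬ Subgroup.normalizer (((P : Subgroup M).map M.subtype : Subgroup G) : Set G) ≤ M :=
    fun P => not_normalizer_le_of_not_mem_sigma (isSylIn_of_sylow M P) hdvd hpσ
  -- a Sylow `p`-subgroup `T ⊇ A` of `M` and `g ∈ N(T) ∖ M`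
  obtain ⟨T, hT, hAT⟩ := exists_isSylIn_ge (p := p) (isElementaryAbelian_isPGroup hAe) hAM
  have hNT : ¬ normalizer (T : Set G) ≤ M := not_normalizer_le_of_not_mem_sigma hT hdvd hpσ
  obtain ⟨g, hgN, hgM⟩ := SetLike.not_le_iff_exists.mp hNT
  have hgT : MulAut.conj g • T = T := smul_eq_of_mem_normalizer hgN
  have hgT' : MulAut.conj g⁻¹ • T = T := by
    conv_lhs => rw [← hgT]
    exact conj_inv_smul_smul g T
  have hTM : T ≤ M := hT.le
  have hAg : A ≤ MulAut.conj g • M := by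
    calc A ≤ T := hAT
      _ = MulAut.conj g • T := hgT.symm
      _ ≤ MulAut.conj g • M := conj_smul_le_conj_smul hTM
  have hI : Cfsg.sigmaCore M ⊓ MulAut.conj g • M = ⊥ :=
    lemmaI_smul hG M hM p hp A hA (h16a A hAM hAe hAc) g hgM hAg
  -- the conjugate `A' = A^{g⁻¹}`
  have hA'T : MulAut.conj g⁻¹ • A ≤ T := by
    calc MulAut.conj g⁻¹ • A ≤ MulAut.conj g⁻¹ • T := conj_smul_le_conj_smul hAT
      _ = T := hgT'
  have hA'M : MulAut.conj g⁻¹ • A ≤ M := hA'T.trans hTM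
  have hA'e : IsElementaryAbelian p (MulAut.conj g⁻¹ • A) := isElementaryAbelian_conj hAe g⁻¹
  have hA'c : Nat.card (MulAut.conj g⁻¹ • A : Subgroup G) = p ^ 2 := by
    rw [card_conj_smul]; exact hAc
  -- clause (d)
  have h3 : Cfsg.sigmaCore M ⊓ Subgroup.centralizer (A : Set G) = ⊥ := by
    rw [eq_bot_iff, ← hI]
    refine inf_le_inf_left _ ?_
    have h1 : centralizer ((MulAut.conj g⁻¹ • A : Subgroup G) : Set G) ≤ M :=
      h16a _ hA'M hA'e hA'c
    rw [centralizer_conj_smul] at h1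
    have h4 := conj_smul_le_conj_smul (g := g) h1
    rwa [conj_smul_inv_smul] at h4
  -- clause (f)
  have h4 : ∃ A1 : Subgroup G, A1 ≤ A ∧ Nat.card A1 = p ∧
      Cfsg.sigmaCore M ⊓ Subgroup.centralizer (A1 : Set G) = ⊥ := by
    obtain ⟨B0, hB0A, hB0c, hB0N⟩ := h16b _ hA'M hA'e hA'c
    refine ⟨MulAut.conj g • B0, ?_, ?_, ?_⟩
    · have := conj_smul_le_conj_smul (g := g) hB0A
      rwa [conj_smul_inv_smul] at this
    · rw [card_conj_smul]; exact hB0c
    · rw [eq_bot_iff, ← hI]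
      refine inf_le_inf_left _ ?_
      calc centralizer ((MulAut.conj g • B0 : Subgroup G) : Set G)
          ≤ normalizer ((MulAut.conj g • B0 : Subgroup G) : Set G) :=
            Subgroup.centralizer_le_normalizer _
        _ = MulAut.conj g • normalizer (B0 : Set G) := normalizer_conj_smul g B0
        _ ≤ MulAut.conj g • M := conj_smul_le_conj_smul hB0N
  -- clause (a)
  have h1 : Group.IsNilpotent (Cfsg.sigmaCore M) := by
    obtain ⟨A1, hA1A, hA1c, hA1K⟩ := h4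
    have : IsCyclic A1 := isCyclic_of_prime_card hA1c
    obtain ⟨⟨x, hxA1⟩, hgen⟩ := IsCyclic.exists_generator (α := A1)
    have hxM : x ∈ M := hAM (hA1A hxA1)
    have hxp : x ^ p = 1 := hAe.2 x (hA1A hxA1)
    refine Cfsg.Agent.Helper20.BG13.nilpotent_of_free (Cfsg.sigmaCore M) x
      (le_normalizer_sigmaCore M hxM) p hpp.out hxp ?_
    intro y hyK hy1 hxy
    apply hy1
    have hyC : y ∈ centralizer (A1 : Set G) := by
      rw [mem_centralizer_iff]
      intro a ha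
      obtain ⟨k, hk⟩ := mem_zpowers_iff.mp (hgen ⟨a, ha⟩)
      have hak : a = x ^ k := by
        have := congrArg Subtype.val hk
        simpa using this.symm
      rw [hak]
      have hc : Commute x y := hxy
      exact (hc.zpow_left k).eq
    have : y ∈ Cfsg.sigmaCore M ⊓ centralizer (A1 : Set G) := mem_inf.mpr ⟨hyK, hyC⟩
    rw [hA1K] at this
    exact mem_bot.mp this
  exact ⟨h1, h2, h3, h4⟩

end fin

end Cfsg.Agent.Helper33.BG125
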