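import Mathlib
import Cfsg.Agent.Lib.Helper97.FXDefs
import Cfsg.Agent.Lib.Helper97.FXDefs2
import Cfsg.Agent.Lib.Helper48.SympRep

/-!
# FX wave 2 (helper97 server, S3818): (IRRSUB) `exists_irr_sub`
-/

set_option autoImplicit false

namespace Cfsg.Agent.Helper33.FX

open Cfsg.Agent.Helper97.FX Cfsg.Agent.Helper48.SympRep
open scoped TensorProduct

universe u

section DS
variable {K : Type*} [Field K] {G : Type*} [Group G] [Finite G]
variable {V : Type u} [AddCommGroup V] [Module K V] [FiniteDimensional K V]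

/-- **(IRRSUB) [M] Mathlib only.** W := a nonzero invariant subspace of minimal finrank. An invariant U ≤ ↥W gives U.map W.subtype invariant in V, ≤ W: ⊥ or of the same finrank. -/
theorem exists_irr_sub [Nontrivial V] (ρ : G →* Module.End K V) :
    ∃ (W : Submodule K V) (hW : Inv ρ W), W ≠ ⊥ ∧ Irr (subRep ρ W hW) := by
  classical
  let S : Set ℕ := {n | ∃ W : Submodule K V, Inv ρ W ∧ W ≠ ⊥ ∧ Module.finrank K W = n}
  have hS : S.Nonempty := ⟨_, ⊤, fun g w _ => trivial, top_ne_bot, rfl⟩
  obtain ⟨W, hW, hne, hn⟩ := Nat.sInf_mem hS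
  refine ⟨W, hW, hne, ?_⟩
  intro U hU
  by_cases hU0 : U = ⊥
  · left; exact hU0
  · right
    have hinv : Inv ρ (U.map W.subtype) := by
      intro g v hv
      obtain ⟨u, hu, rfl⟩ := Submodule.mem_map.1 hv
      exact Submodule.mem_map.2 ⟨subRep ρ W hW g u, hU g u hu, rfl⟩
    have hne' : U.map W.subtype ≠ ⊥ := by
      intro h
      apply hU0
      rw [Submodule.eq_bot_iff]
      intro u hu
      have h1 : W.subtype u ∈ U.map W.subtype := Submodule.mem_map_of_mem hu
      rw [h, Submodule.mem_bot] at h1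
      exact Subtype.ext h1
    have hle : sInf S ≤ Module.finrank K (U.map W.subtype) := Nat.sInf_le ⟨_, hinv, hne', rfl⟩
    rw [Submodule.finrank_map_subtype_eq, ← hn] at hle
    exact Submodule.eq_top_of_finrank_eq (le_antisymm (Submodule.finrank_le U) hle)

end DS

end Cfsg.Agent.Helper33.FX
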