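import Mathlib
import Cfsg.Agent.Lib.Helper97.FXDefs
import Cfsg.Agent.Lib.Helper97.FXDefs2
import Cfsg.Agent.Lib.Helper48.SympRep

/-!
# FX wave 2 (helper97 server, S3818): (CENT) `central_case`
-/

set_option autoImplicit false

namespace Cfsg.Agent.Helper33.FX

open Cfsg.Agent.Helper97.FX Cfsg.Agent.Helper48.SympRep
open scoped TensorProduct

universe u

section RT
variable {K : Type*} [Field K] [IsAlgClosed K] {G : Type*} [Group G] [Finite G]
variable {V : Type u} [AddCommGroup V] [Module K V] [FiniteDimensional K V] [Nontrivial V]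

/-- **(CENT) [S] Mathlib only.** x central: ker (ρ x - 1) is invariant; = ⊤ would give ρ x = 1, x = 1 (injective), but orderOf x = p is prime. So it is ⊥, fixDim = 0 < finrank. -/
theorem central_case (ρ : G →* Module.End K V) (hirr : Irr ρ) (hf : Function.Injective ρ)
    {p : ℕ} (hp : p.Prime) (x : G) (hx : orderOf x = p) (hxc : x ∈ Subgroup.center G) :
    2 * fixDim (ρ x) < Module.finrank K V := by
  have hinv : ∀ g, ∀ w ∈ LinearMap.ker (ρ x - 1), ρ g w ∈ LinearMap.ker (ρ x - 1) := by
    intro g w hw
    rw [LinearMap.mem_ker, LinearMap.sub_apply, Module.End.one_apply, sub_eq_zero] at hw ⊢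
    have hcomm : x * g = g * x := (Subgroup.mem_center_iff.1 hxc g).symm
    calc ρ x (ρ g w) = (ρ x * ρ g) w := rfl
      _ = (ρ g * ρ x) w := by rw [← map_mul, hcomm, map_mul]
      _ = ρ g (ρ x w) := rfl
      _ = ρ g w := by rw [hw]
  rcases hirr _ hinv with h | h
  · rw [fixDim_def, h, finrank_bot, mul_zero]
    exact Module.finrank_pos
  · exfalso
    have h1 : ρ x = 1 := by
      ext v
      have hv : v ∈ LinearMap.ker (ρ x - 1) := by rw [h]; trivial
      rw [LinearMap.mem_ker, LinearMap.sub_apply, Module.End.one_apply, sub_eq_zero] at hv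
      rw [hv, Module.End.one_apply]
    have hx1 : x = 1 := hf (by rw [h1, map_one])
    rw [hx1, orderOf_one] at hx
    exact hp.one_lt.ne' hx.symm

end RT

end Cfsg.Agent.Helper33.FX
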