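import Mathlib
import Cfsg.Agent.Lib.Helper97.FXDefs
import Cfsg.Agent.Lib.Helper97.FXDefs2
import Cfsg.Agent.Lib.Helper48.SympRep

/-!
# FX wave 2 (helper97 server, S3818): (CHARNE) `card_ne_zero_of_clean`
(with a local copy `h33_exists_minimal_normal_le` of (MINSUB))
-/

set_option autoImplicit false

namespace Cfsg.Agent.Helper33.FX

open Cfsg.Agent.Helper97.FX Cfsg.Agent.Helper48.SympRep
open scoped TensorProduct

universe u

/-- local copy of (MINSUB) -/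
theorem h33_exists_minimal_normal_le {G : Type*} [Group G] [Finite G] (N : Subgroup G)
    (hN : N.Normal) (hne : N ≠ ⊥) :
    ∃ N₀ : Subgroup G, N₀.Normal ∧ N₀ ≠ ⊥ ∧ N₀ ≤ N ∧
      ∀ M : Subgroup G, M.Normal → M ≤ N₀ → M = ⊥ ∨ M = N₀ := by
  induction' hn : Nat.card N using Nat.strong_induction_on with n ih generalizing N
  by_cases hmin : ∀ M : Subgroup G, M.Normal → M ≤ N → M = ⊥ ∨ M = N
  · exact ⟨N, hN, hne, le_rfl, hmin⟩
  · push_neg at hmin
    obtain ⟨M, hMn, hMle, hMbot, hMN⟩ := hmin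
    have hlt : Nat.card M < Nat.card N := by
      rcases lt_or_ge (Nat.card M) (Nat.card N) with h | h
      · exact h
      · exact absurd (Subgroup.eq_of_le_of_card_ge hMle h) hMN
    obtain ⟨N₀, h1, h2, h3, h4⟩ := ih (Nat.card M) (hn ▸ hlt) M hMn hMbot rfl
    exact ⟨N₀, h1, h2, h3.trans hMle, h4⟩

section RT
variable {K : Type*} [Field K] [IsAlgClosed K] {G : Type*} [Group G] [Finite G]
variable {V : Type u} [AddCommGroup V] [Module K V] [FiniteDimensional K V] [Nontrivial V]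

/-- **(CHARNE) [S-M] uses (MINSUB).** N₀ ≤ N minimal normal: |N₀| = r^i, i ≥ 1, (r^i : K) ≠ 0 (Clean), so (r : K) ≠ 0, so (|N| : K) = (r : K)^k ≠ 0. -/
theorem card_ne_zero_of_clean (ρ : G →* Module.End K V) (hc : Clean ρ) (N : Subgroup G)
    [N.Normal] {r : ℕ} (hr : r.Prime) (hNr : IsPGroup r N) (hne : N ≠ ⊥) :
    (Nat.card N : K) ≠ 0 := by
  haveI : Fact r.Prime := ⟨hr⟩
  obtain ⟨N₀, hN₀n, hN₀ne, hN₀le, hN₀min⟩ := h33_exists_minimal_normal_le N inferInstance hne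
  obtain ⟨k, hk⟩ := hNr.exists_card_eq
  have hdvd : Nat.card N₀ ∣ r ^ k := hk ▸ Subgroup.card_dvd_of_le hN₀le
  obtain ⟨i, -, hi⟩ := (Nat.dvd_prime_pow hr).1 hdvd
  have hi0 : i ≠ 0 := by
    rintro rfl
    rw [pow_zero] at hi
    exact hN₀ne (Subgroup.card_eq_one.1 hi)
  have h1 := (hc N₀ hN₀n hN₀ne hN₀min).1
  rw [hi, Nat.cast_pow] at h1
  have hr0 : (r : K) ≠ 0 := by
    intro h0
    apply h1
    rw [h0, zero_pow hi0]
  rw [hk, Nat.cast_pow]
  exact pow_ne_zero k hr0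

end RT

end Cfsg.Agent.Helper33.FX
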