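import Mathlib
import Cfsg.Agent.Lib.Helper12.SUOT0

/-!
# SUOT sub-server (helper12, S2282): piece (T10), the multiplicative generator.

NOTE: `mulGen_ne_zero` carries the extra hypothesis `hF` (the version without it is false for `ZMod 2`).
-/

set_option autoImplicit false

namespace Cfsg.Agent.Helper33.SUOT

open Matrix Cfsg Cfsg.Agent.Helper13 Cfsg.Agent.Helper87.PsuA Cfsg.Agent.Helper12.SUOT

variable {F : Type*} [Field F] [Fintype F] {q n : ℕ}

theorem exists_mulGen : ∃ al : F, IsMulGen al := by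
  classical
  obtain ⟨g, hg⟩ := IsCyclic.exists_monoid_generator (α := Fˣ)
  refine ⟨(g : F), fun x hx => ?_⟩
  obtain ⟨k, hk⟩ := (Submonoid.mem_powers_iff _ _).mp (hg (Units.mk0 x hx))
  refine ⟨k, ?_⟩
  have := congrArg Units.val hk
  rw [Units.val_pow_eq_pow_val, Units.val_mk0] at this
  exact this.symm

theorem mulGen_ne_zero (hF : Fintype.card F = q ^ 2) (al : F) (hgen : IsMulGen al) : al ≠ 0 := by
  classical
  rintro rfl
  have h1 : ∀ x : F, x ≠ 0 → x = 1 := by
    intro x hx
    obtain ⟨k, hk⟩ := hgen x hx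
    rcases Nat.eq_zero_or_pos k with rfl | hk0
    · rw [hk, pow_zero]
    · rw [zero_pow hk0.ne'] at hk
      exact absurd hk hx
  have hcard : Fintype.card F = 2 := by
    have huniv : (Finset.univ : Finset F) = {0, 1} := by
      ext x
      simp only [Finset.mem_univ, Finset.mem_insert, Finset.mem_singleton, true_iff]
      by_cases hx : x = 0
      · exact Or.inl hx
      · exact Or.inr (h1 x hx)
    rw [← Finset.card_univ, huniv]
    exact Finset.card_pair zero_ne_one
  rw [hF] at hcard
  have hq : q < 2 := by nlinarith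
  interval_cases q <;> omega

theorem mulGen_not_fixed (hF : Fintype.card F = q ^ 2) (al : F) (hgen : IsMulGen al) :
    al ^ q ≠ al := by
  intro h
  apply frobQ_ne_id hF
  apply RingHom.ext
  intro x
  rw [RingHom.id_apply]
  by_cases hx : x = 0
  · rw [hx, map_zero]
  · obtain ⟨k, rfl⟩ := hgen x hx
    rw [map_pow, frobQ_apply, h]

theorem hom_of_mulGen (al : F) (hgen : IsMulGen al) :
    ∀ S : AddSubgroup F, (∃ a ∈ S, a ≠ 0) → (∀ a ∈ S, al * a ∈ S) → S = ⊤ := by
  intro S ⟨a0, ha0S, ha0⟩ hS
  have hpow : ∀ k : ℕ, ∀ a ∈ S, al ^ k * a ∈ S := by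
    intro k
    induction k with
    | zero => intro a ha; rw [pow_zero, one_mul]; exact ha
    | succ k ih => intro a ha; rw [pow_succ', mul_assoc]; exact hS _ (ih a ha)
  rw [eq_top_iff]
  intro x _
  by_cases hx : x = 0
  · rw [hx]; exact S.zero_mem
  · have hne : x * a0⁻¹ ≠ 0 := mul_ne_zero hx (inv_ne_zero ha0)
    obtain ⟨k, hk⟩ := hgen _ hne
    have := hpow k a0 ha0S
    rw [← hk, mul_assoc, inv_mul_cancel₀ ha0, mul_one] at this
    exact this

end Cfsg.Agent.Helper33.SUOT
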