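import Mathlib
import Cfsg.Prelude.Def_LieTypeDatum
import Cfsg.Agent.Lib.Helper43.GF.Defs
import Cfsg.Agent.Lib.Helper44.EllBlock
import Cfsg.Agent.Lib.Helper43.OrthPlus
import Cfsg.Agent.Lib.Helper43.OrthMinus

/-!
# GF (EX) (helper43 server, row S2717): the minus form with coefficients in `F₀`, anisotropic
over `F₀`, is isometric over the quadratic extension `F` to the plus form.

Explicit isometry: a root `θ` of `X² + aX + b` in `F`; the binary part
`z₁² + a z₁ z₂ + b z₂² = (z₁ - θ z₂)(z₁ + (a + θ) z₂)` becomes the last hyperbolic plane.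
-/

set_option autoImplicit false

namespace Cfsg.Agent.Helper33.GF

open Matrix QuadraticMap Cfsg.Agent.Helper43 Cfsg.Agent.Helper43.GF

section Maps

variable {F : Type*} [Field F] (k : ℕ)

/-- the forward map `(Fin k ⊕ Fin k) ⊕ Fin 2 → F` to `Fin (k+1) ⊕ Fin (k+1) → F` -/
noncomputable def exFwd (θ a : F) :
    (((Fin k ⊕ Fin k) ⊕ Fin 2) → F) →ₗ[F] ((Fin (k + 1) ⊕ Fin (k + 1)) → F) where
  toFun y := Sum.elim
    (Fin.snoc (fun i : Fin k => y (Sum.inl (Sum.inl i))) (y (Sum.inr 0) - θ * y (Sum.inr 1)))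
    (Fin.snoc (fun i : Fin k => y (Sum.inl (Sum.inr i)))
      (y (Sum.inr 0) + (a + θ) * y (Sum.inr 1)))
  map_add' y y' := by
    funext j
    rcases j with j | j
    · refine Fin.lastCases ?_ (fun i => ?_) j
      · simp only [Sum.elim_inl, Fin.snoc_last, Pi.add_apply]; ring
      · simp only [Sum.elim_inl, Fin.snoc_castSucc, Pi.add_apply]
    · refine Fin.lastCases ?_ (fun i => ?_) j
      · simp only [Sum.elim_inr, Fin.snoc_last, Pi.add_apply]; ring
      · simp only [Sum.elim_inr, Fin.snoc_castSucc, Pi.add_apply]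
  map_smul' c y := by
    funext j
    rcases j with j | j
    · refine Fin.lastCases ?_ (fun i => ?_) j
      · simp only [Sum.elim_inl, Fin.snoc_last, Pi.smul_apply, smul_eq_mul, RingHom.id_apply]; ring
      · simp only [Sum.elim_inl, Fin.snoc_castSucc, Pi.smul_apply, smul_eq_mul, RingHom.id_apply]
    · refine Fin.lastCases ?_ (fun i => ?_) j
      · simp only [Sum.elim_inr, Fin.snoc_last, Pi.smul_apply, smul_eq_mul, RingHom.id_apply]; ring
      · simp only [Sum.elim_inr, Fin.snoc_castSucc, Pi.smul_apply, smul_eq_mul, RingHom.id_apply]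

/-- the backward map -/
noncomputable def exBwd (θ d : F) :
    ((Fin (k + 1) ⊕ Fin (k + 1)) → F) →ₗ[F] (((Fin k ⊕ Fin k) ⊕ Fin 2) → F) where
  toFun x := Sum.elim
    (Sum.elim (fun i : Fin k => x (Sum.inl (Fin.castSucc i)))
      (fun i : Fin k => x (Sum.inr (Fin.castSucc i))))
    ![x (Sum.inl (Fin.last k)) +
        θ * ((x (Sum.inr (Fin.last k)) - x (Sum.inl (Fin.last k))) * d),
      (x (Sum.inr (Fin.last k)) - x (Sum.inl (Fin.last k))) * d]
  map_add' x x' := by
    funext j
    rcases j with (j | j) | j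
    · simp
    · simp
    · fin_cases j
      · simp; ring
      · simp; ring
  map_smul' c x := by
    funext j
    rcases j with (j | j) | j
    · simp
    · simp
    · fin_cases j
      · simp; ring
      · simp; ring

theorem exFwd_exBwd (θ a d : F) (hd : (a + 2 * θ) * d = 1) :
    (exFwd k θ a).comp (exBwd k θ d) = LinearMap.id := by
  apply LinearMap.ext
  intro x
  funext j
  rcases j with j | j
  · refine Fin.lastCases ?_ (fun i => ?_) j
    · simp [exFwd, exBwd]
    · simp [exFwd, exBwd]
  · refine Fin.lastCases ?_ (fun i => ?_) j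
    · simp only [exFwd, exBwd, LinearMap.coe_comp, LinearMap.coe_mk, AddHom.coe_mk,
        Function.comp_apply, Sum.elim_inr, Fin.snoc_last, Matrix.cons_val_zero,
        Matrix.cons_val_one, LinearMap.id_coe, id_eq]
      linear_combination (x (Sum.inr (Fin.last k)) - x (Sum.inl (Fin.last k))) * hd
    · simp [exFwd, exBwd]

theorem exBwd_exFwd (θ a d : F) (hd : (a + 2 * θ) * d = 1) :
    (exBwd k θ d).comp (exFwd k θ a) = LinearMap.id := by
  apply LinearMap.ext
  intro y
  funext j
  rcases j with (j | j) | j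
  · simp [exFwd, exBwd]
  · simp [exFwd, exBwd]
  · fin_cases j
    · simp only [exFwd, exBwd, LinearMap.coe_comp, LinearMap.coe_mk, AddHom.coe_mk,
        Function.comp_apply, Sum.elim_inr, Sum.elim_inl, Fin.snoc_last, Matrix.cons_val_zero,
        LinearMap.id_coe, id_eq, Fin.zero_eta]
      linear_combination (θ * y (Sum.inr 1)) * hd
    · simp only [exFwd, exBwd, LinearMap.coe_comp, LinearMap.coe_mk, AddHom.coe_mk,
        Function.comp_apply, Sum.elim_inr, Sum.elim_inl, Fin.snoc_last, Matrix.cons_val_one,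
        Matrix.cons_val_zero, Matrix.cons_val_fin_one, LinearMap.id_coe, id_eq, Fin.mk_one]
      linear_combination (y (Sum.inr 1)) * hd

theorem stdPlus_exFwd (θ a b : F) (hθ : θ ^ 2 + a * θ + b = 0)
    (y : ((Fin k ⊕ Fin k) ⊕ Fin 2) → F) :
    stdPlus F (k + 1) (exFwd k θ a y) = stdMinus F k a b y := by
  rw [stdPlus_apply, stdMinus_apply]
  unfold Cfsg.quadFormPlus Cfsg.quadFormMinus
  rw [Fin.sum_univ_castSucc]
  simp only [exFwd, LinearMap.coe_mk, AddHom.coe_mk, Sum.elim_inl, Sum.elim_inr,
    Fin.snoc_castSucc, Fin.snoc_last]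
  linear_combination (-(y (Sum.inr 1)) ^ 2) * hθ

end Maps

theorem exists_twData {F₀ F : Type*} [Field F₀] [Fintype F₀] [Field F] [Fintype F] (emb : F₀ →+* F)
    (hcard : Fintype.card F = Fintype.card F₀ ^ 2) (k : ℕ) (a₀ b₀ : F₀)
    (hab : ∀ z₁ z₂ : F₀, z₁ ^ 2 + a₀ * z₁ * z₂ + b₀ * z₂ ^ 2 = 0 → z₁ = 0 ∧ z₂ = 0) :
    Nonempty (TwData (stdMinus F k (emb a₀) (emb b₀)) (stdPlus F (k + 1))) := by
  classical
  let _ : Algebra F₀ F := emb.toAlgebra
  have halg : ∀ x : F₀, algebraMap F₀ F x = emb x := fun _ => rfl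
  have hfr : Module.finrank F₀ F = 2 := by
    have h1 : Fintype.card F = Fintype.card F₀ ^ Module.finrank F₀ F :=
      Module.card_eq_pow_finrank
    rw [hcard] at h1
    exact (Nat.pow_right_injective (Fintype.one_lt_card (α := F₀)) h1).symm
  obtain ⟨θ, hθ⟩ := Cfsg.Agent.Helper44.exists_root_quadratic (K := F) (F := F₀) hfr a₀ b₀ hab
  rw [halg, halg] at hθ
  have hinj : Function.Injective emb := emb.injective
  -- the discriminant is nonzero
  have hδ : emb a₀ + 2 * θ ≠ 0 := by
    intro h0
    by_cases h2 : (2 : F₀) = 0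
    · -- characteristic 2
      have h2F : (2 : F) = 0 := by
        have h3 : emb 2 = emb 0 := congrArg emb h2
        rw [map_ofNat, map_zero] at h3
        exact h3
      have ha : a₀ = 0 := by
        apply hinj
        rw [map_zero]
        rw [h2F, zero_mul, add_zero] at h0
        exact h0
      have hchar : ringChar F₀ = 2 := by
        have hdvd : ringChar F₀ ∣ 2 := by
          have := (ringChar.spec F₀ 2).mp (by exact_mod_cast h2)
          exact this
        have hpr : (ringChar F₀).Prime := CharP.char_is_prime F₀ (ringChar F₀)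
        exact (Nat.prime_dvd_prime_iff_eq hpr Nat.prime_two).mp hdvd
      obtain ⟨t, ht⟩ := FiniteField.isSquare_of_char_two hchar b₀
      have := hab t 1 (by rw [ha, ht]; linear_combination (t * t) * h2)
      exact one_ne_zero this.2
    · -- odd characteristic
      have h2F : (2 : F) ≠ 0 := by
        intro h
        apply h2
        apply hinj
        rw [map_zero, map_ofNat]
        exact h
      have hθ' : θ = emb (-a₀ / 2) := by
        rw [map_div₀, map_neg, map_ofNat]
        field_simp
        linear_combination h0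
      have := hab (-a₀ / 2) 1 (by
        apply hinj
        rw [map_zero]
        simp only [map_add, map_mul, map_pow, map_one]
        rw [← hθ']
        linear_combination hθ)
      exact one_ne_zero this.2
  set d : F := (emb a₀ + 2 * θ)⁻¹ with hd
  have hdd : (emb a₀ + 2 * θ) * d = 1 := mul_inv_cancel₀ hδ
  refine ⟨{ H := LinearMap.toMatrix' (exFwd k θ (emb a₀))
            H' := LinearMap.toMatrix' (exBwd k θ d)
            hHH' := ?_
            hH'H := ?_
            hQ := ?_ }⟩
  · rw [← LinearMap.toMatrix'_comp, exFwd_exBwd k θ (emb a₀) d hdd, LinearMap.toMatrix'_id]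
  · rw [← LinearMap.toMatrix'_comp, exBwd_exFwd k θ (emb a₀) d hdd, LinearMap.toMatrix'_id]
  · intro y
    rw [LinearMap.toMatrix'_mulVec]
    exact stdPlus_exFwd k θ (emb a₀) (emb b₀) hθ y

end Cfsg.Agent.Helper33.GF
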