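import Mathlib
import Cfsg.Prelude.Def_LieTypeDatum
import Cfsg.Agent.Lib.Helper43.GF.Basic
import Cfsg.Agent.Lib.Helper40.OEV.A3
import Cfsg.Agent.Lib.Helper40.FixedSubfield
import Cfsg.Agent.Lib.Helper44.EllBlock
import Cfsg.Agent.Lib.Helper5.OMFClass
import Cfsg.Agent.Lib.Helper5.OrthLag7

/-!
# GF (NH) (helper43 server, second batch, row S2717): the cocycle `H σ(H')` of a minus-type twist
does not preserve the two classes of maximal totally singular subspaces of the plus form.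

Proof A of the signature file: `U' = lagMinus θ` (θ a root of `X² + aX + b` in `F`), `σ U' = lagMinus (σ θ)`,
`dim (U' ∩ σ U') = k`; `W = H U'`, `X = H (σ U')`, `U = σ W`, `coc U = X`; the three-subspace
parity of helper40 (`A3.three_parity`) applied to `(W, X, U)` and to `(U₀, W, U)` with the σ-stable
standard Lagrangian `U₀`.
-/

set_option autoImplicit false

namespace Cfsg.Agent.Helper33.GF

open Module QuadraticMap Matrix Cfsg.Agent.Helper43 Cfsg.Agent.Helper43.GF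
  Cfsg.Agent.Helper40.OrthEven Cfsg.Agent.Helper40.OEV

section transport

variable {K : Type*} [Field K] {V V' : Type*} [AddCommGroup V] [Module K V]
  [AddCommGroup V'] [Module K V']

theorem nh_polar_map (Q : QuadraticForm K V) (Q' : QuadraticForm K V') (e : V' ≃ₗ[K] V)
    (he : ∀ y, Q (e y) = Q' y) (x y : V') : polar Q (e x) (e y) = polar Q' x y := by
  unfold polar
  rw [← map_add, he, he, he]

theorem nh_tslag_map (Q : QuadraticForm K V) (Q' : QuadraticForm K V') (e : V' ≃ₗ[K] V)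
    (he : ∀ y, Q (e y) = Q' y) {U' : Submodule K V'} (hU' : IsTSLag Q' U') :
    IsTSLag Q (U'.map (e : V' →ₗ[K] V)) := by
  have hlag : Cfsg.Agent.Helper5.OrthLag.IsLag Q' U' := hU'.1
  refine ⟨?_, ?_⟩
  · ext x
    rw [LinearMap.BilinForm.mem_orthogonal_iff]
    constructor
    · intro h
      refine ⟨e.symm x, ?_, by simp⟩
      show e.symm x ∈ U'
      rw [hlag.mem_iff]
      intro n hn
      have h1 : polarBilin Q (e n) x = 0 :=
        h (e n) (Submodule.mem_map_of_mem (f := (e : V' →ₗ[K] V)) hn)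
      rw [polarBilin_apply_apply] at h1
      rw [← nh_polar_map Q Q' e he, e.apply_symm_apply]
      exact h1
    · rintro ⟨u, hu, rfl⟩ n hn
      obtain ⟨m, hm, rfl⟩ := hn
      show polarBilin Q (e m) (e u) = 0
      rw [polarBilin_apply_apply, nh_polar_map Q Q' e he]
      exact hlag.polar_eq_zero hm hu
  · rintro _ ⟨u, hu, rfl⟩
    show Q (e u) = 0
    rw [he]
    exact hU'.2 u hu

theorem nh_finrank_map (e : V' ≃ₗ[K] V) (U' : Submodule K V') :
    finrank K ↥(U'.map (e : V' →ₗ[K] V)) = finrank K ↥U' :=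
  (LinearEquiv.finrank_eq (Submodule.equivMapOfInjective (e : V' →ₗ[K] V) e.injective U')).symm

theorem nh_finrank_inf_map (e : V' ≃ₗ[K] V) (U' W' : Submodule K V') :
    finrank K ↥(U'.map (e : V' →ₗ[K] V) ⊓ W'.map (e : V' →ₗ[K] V)) = finrank K ↥(U' ⊓ W') := by
  rw [← Submodule.map_inf (e : V' →ₗ[K] V) e.injective]
  exact nh_finrank_map e (U' ⊓ W')

end transport

section minusLag

open Cfsg.Agent.Helper5.OrthLag Cfsg.Agent.Helper40.OEV.A3

variable {F : Type*} [Field F] (k : ℕ)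

theorem nh_sigSub_lagMinus (σ : F ≃+* F) (θ : F) :
    sigSub σ (lagMinus F k θ) = lagMinus F k (σ θ) := by
  ext v
  rw [mem_sigSub, mem_lagMinus, mem_lagMinus]
  constructor
  · rintro ⟨h1, h2⟩
    refine ⟨fun i => ?_, ?_⟩
    · exact (map_eq_zero_iff σ.symm σ.symm.injective).1 (h1 i)
    · have h3 := congrArg σ h2
      rw [map_mul, RingEquiv.apply_symm_apply, RingEquiv.apply_symm_apply] at h3
      exact h3
  · rintro ⟨h1, h2⟩
    refine ⟨fun i => ?_, ?_⟩
    · show σ.symm (v (Sum.inl (Sum.inr i))) = 0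
      rw [h1 i, map_zero]
    · show σ.symm (v (Sum.inr 0)) = θ * σ.symm (v (Sum.inr 1))
      rw [h2, map_mul, RingEquiv.symm_apply_apply]

/-- coordinates on `lagMinus θ ⊓ lagMinus θ'` for `θ ≠ θ'` -/
noncomputable def nhCoord (θ θ' : F) (h : θ ≠ θ') :
    ↥(lagMinus F k θ ⊓ lagMinus F k θ') ≃ₗ[F] (Fin k → F) where
  toFun v := fun i => v.1 (Sum.inl (Sum.inl i))
  map_add' _ _ := rfl
  map_smul' _ _ := rfl
  invFun g := ⟨fun j => Sum.elim (Sum.elim g (fun _ => 0)) (fun _ => 0) j,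
    ⟨⟨fun _ => rfl, by simp⟩, ⟨fun _ => rfl, by simp⟩⟩⟩
  left_inv v := by
    apply Subtype.ext
    funext j
    obtain ⟨⟨h1, h2⟩, ⟨_, h4⟩⟩ := v.2
    have h5 : v.1 (Sum.inr 1) = 0 := by
      have h6 : (θ - θ') * v.1 (Sum.inr 1) = 0 := by
        rw [sub_mul, ← h2, ← h4, sub_self]
      rcases mul_eq_zero.1 h6 with h7 | h7
      · exact absurd (sub_eq_zero.1 h7) h
      · exact h7
    have h8 : v.1 (Sum.inr 0) = 0 := by rw [h2, h5, mul_zero]
    rcases j with (i | i) | t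
    · rfl
    · exact (h1 i).symm
    · fin_cases t
      · exact h8.symm
      · exact h5.symm
  right_inv g := by
    funext i
    rfl

theorem nh_finrank_inf_lagMinus (θ θ' : F) (h : θ ≠ θ') :
    finrank F ↥(lagMinus F k θ ⊓ lagMinus F k θ') = k := by
  rw [LinearEquiv.finrank_eq (nhCoord k θ θ' h), Module.finrank_fin_fun]

end minusLag

section plusLag

open Cfsg.Agent.Helper5.OrthAut Cfsg.Agent.Helper40.OEV.A3

variable (F : Type*) [Field F] (m : ℕ)

theorem nh_isTSLag_lagPlus : IsTSLag (stdPlus F m) (lagPlus F m) := by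
  refine ⟨isLag_lagPlus F m, ?_⟩
  intro v hv
  rw [stdPlus_apply]
  unfold Cfsg.quadFormPlus
  apply Finset.sum_eq_zero
  intro i _
  rw [(mem_lagPlus F m v).1 hv i, mul_zero]

theorem nh_sigSub_lagPlus (σ : F ≃+* F) : sigSub σ (lagPlus F m) = lagPlus F m := by
  ext v
  rw [mem_sigSub, mem_lagPlus, mem_lagPlus]
  constructor
  · intro h i
    exact (map_eq_zero_iff σ.symm σ.symm.injective).1 (h i)
  · intro h i
    show σ.symm (v (Sum.inr i)) = 0
    rw [h i, map_zero]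

end plusLag

section field

open Cfsg.Agent.Helper40.FixK

variable {F₀ F : Type*} [Field F₀] [Fintype F₀] [Field F] [Fintype F]

theorem nh_card (emb : F₀ →+* F) (σ : F ≃+* F) (hσ : orderOf σ = 2)
    (hι1 : ∀ y, σ (emb y) = emb y) (hι2 : ∀ a, σ a = a → ∃ y, emb y = a) :
    Fintype.card F = Fintype.card F₀ ^ 2 := by
  classical
  have : Fintype (fixK σ) := Fintype.ofFinite _
  have h1 : Fintype.card F = Fintype.card (fixK σ) ^ Module.finrank (fixK σ) F :=
    Module.card_eq_pow_finrank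
  rw [finrank_fixK, hσ] at h1
  have h2 : Fintype.card F₀ = Fintype.card (fixK σ) := by
    apply Fintype.card_congr
    refine Equiv.ofBijective (fun y => ⟨emb y, hι1 y⟩) ⟨?_, ?_⟩
    · intro x y hxy
      exact emb.injective (congrArg Subtype.val hxy)
    · rintro ⟨a, ha⟩
      obtain ⟨y, hy⟩ := hι2 a ha
      exact ⟨y, Subtype.ext hy⟩
  rw [h1, h2]

theorem nh_exists_root (emb : F₀ →+* F) (hcard : Fintype.card F = Fintype.card F₀ ^ 2)
    (a₀ b₀ : F₀)
    (hab : ∀ z₁ z₂ : F₀, z₁ ^ 2 + a₀ * z₁ * z₂ + b₀ * z₂ ^ 2 = 0 → z₁ = 0 ∧ z₂ = 0) :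
    ∃ θ : F, θ ^ 2 + emb a₀ * θ + emb b₀ = 0 := by
  classical
  let _ : Algebra F₀ F := emb.toAlgebra
  have halg : ∀ x : F₀, algebraMap F₀ F x = emb x := fun _ => rfl
  have hfr : Module.finrank F₀ F = 2 := by
    have h1 : Fintype.card F = Fintype.card F₀ ^ Module.finrank F₀ F :=
      Module.card_eq_pow_finrank
    rw [hcard] at h1
    exact (Nat.pow_right_injective (Fintype.one_lt_card (α := F₀)) h1).symm
  obtain ⟨θ, hθ⟩ := Cfsg.Agent.Helper44.exists_root_quadratic (K := F) (F := F₀) hfr a₀ b₀ hab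
  rw [halg, halg] at hθ
  exact ⟨θ, hθ⟩

end field

section main

open Cfsg.Agent.Helper5.OrthLag Cfsg.Agent.Helper5.OrthAut Cfsg.Agent.Helper40.OEV.A3

/-- the linear equivalence given by a twisting datum -/
noncomputable def nhEquiv {F : Type*} [Field F] {ι ι' : Type} [Fintype ι] [DecidableEq ι]
    [Fintype ι'] [DecidableEq ι'] {Q' : QuadraticForm F (ι' → F)} {Q : QuadraticForm F (ι → F)}
    (T : TwData Q' Q) : (ι' → F) ≃ₗ[F] (ι → F) :=
  LinearEquiv.ofLinear (Matrix.toLin' T.H) (Matrix.toLin' T.H')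
    (by rw [← Matrix.toLin'_mul, T.hHH', Matrix.toLin'_one])
    (by rw [← Matrix.toLin'_mul, T.hH'H, Matrix.toLin'_one])

theorem nhEquiv_apply {F : Type*} [Field F] {ι ι' : Type} [Fintype ι] [DecidableEq ι]
    [Fintype ι'] [DecidableEq ι'] {Q' : QuadraticForm F (ι' → F)} {Q : QuadraticForm F (ι → F)}
    (T : TwData Q' Q) (y : ι' → F) : nhEquiv T y = T.H *ᵥ y := by
  show Matrix.toLin' T.H y = _
  rw [Matrix.toLin'_apply]

/-- the cocycle maps `σ (H U')` onto `H (σ U')` -/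
theorem nh_image_coc {F : Type*} [Field F] {ι ι' : Type} [Fintype ι] [DecidableEq ι]
    [Fintype ι'] [DecidableEq ι'] {Q' : QuadraticForm F (ι' → F)} {Q : QuadraticForm F (ι → F)}
    (T : TwData Q' Q) (σ : F ≃+* F) (U' : Submodule F (ι' → F)) :
    Cfsg.imageSubmodule (T.coc σ) (sigSub σ (U'.map (nhEquiv T : (ι' → F) →ₗ[F] (ι → F)))) =
      (sigSub σ U').map (nhEquiv T : (ι' → F) →ₗ[F] (ι → F)) := by
  have key : ∀ y : ι' → F, T.coc σ *ᵥ (fun i => σ ((T.H *ᵥ y) i)) = T.H *ᵥ (fun j => σ (y j)) := by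
    intro y
    unfold TwData.coc
    rw [← Matrix.mulVec_mulVec, rect_map_mulVec, Matrix.mulVec_mulVec, T.hH'H, Matrix.one_mulVec]
  unfold Cfsg.imageSubmodule
  ext x
  constructor
  · rintro ⟨v, hv, rfl⟩
    have hv' : (fun i => σ.symm (v i)) ∈ U'.map (nhEquiv T : (ι' → F) →ₗ[F] (ι → F)) := hv
    obtain ⟨y, hy, hyv⟩ := hv'
    have hyv' : T.H *ᵥ y = fun i => σ.symm (v i) := by
      rw [← nhEquiv_apply]; exact hyv
    refine ⟨fun j => σ (y j), (sig_mem_sigSub σ U' y).2 hy, ?_⟩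
    show nhEquiv T (fun j => σ (y j)) = Matrix.toLin' (T.coc σ) v
    rw [nhEquiv_apply, Matrix.toLin'_apply, ← key, hyv']
    congr 1
    funext i
    simp
  · rintro ⟨z, hz, rfl⟩
    have hz' : (fun j => σ.symm (z j)) ∈ U' := hz
    refine ⟨fun i => σ ((T.H *ᵥ (fun j => σ.symm (z j))) i), ?_, ?_⟩
    · exact (sig_mem_sigSub σ _ _).2 ⟨fun j => σ.symm (z j), hz', nhEquiv_apply T _⟩
    · show Matrix.toLin' (T.coc σ) _ = nhEquiv T z
      rw [Matrix.toLin'_apply, key, nhEquiv_apply]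
      congr 1
      funext j
      simp

theorem coc_not_preserves {F₀ F : Type*} [Field F₀] [Fintype F₀] [Field F] [Fintype F] (emb : F₀ →+* F)
    {k : ℕ} (hk : 1 ≤ k) (a₀ b₀ : F₀)
    (hab : ∀ z₁ z₂ : F₀, z₁ ^ 2 + a₀ * z₁ * z₂ + b₀ * z₂ ^ 2 = 0 → z₁ = 0 ∧ z₂ = 0)
    (T : TwData (stdMinus F k (emb a₀) (emb b₀)) (stdPlus F (k + 1)))
    (σ : F ≃+* F) (hσ : orderOf σ = 2) (hι1 : ∀ y, σ (emb y) = emb y)
    (hι2 : ∀ a, σ a = a → ∃ y, emb y = a) :
    ¬ Cfsg.PreservesSingularClasses (⇑(stdPlus F (k + 1))) (T.coc σ) := by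
  classical
  have hcard := nh_card emb σ hσ hι1 hι2
  obtain ⟨θ, hθ⟩ := nh_exists_root emb hcard a₀ b₀ hab
  have hinj : Function.Injective emb := emb.injective
  -- σ θ ≠ θ
  have hθσ : θ ≠ σ θ := by
    intro h
    obtain ⟨t, ht⟩ := hι2 θ h.symm
    have := hab t 1 (by
      apply hinj
      rw [map_zero]
      simp only [map_add, map_mul, map_pow, map_one]
      rw [ht]
      linear_combination hθ)
    exact one_ne_zero this.2
  -- the discriminant
  have hd : (emb a₀) ^ 2 - 4 * emb b₀ ≠ 0 := by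
    have hab' : AnisoPair a₀ b₀ := hab
    have h0 := hab'.disc_ne_zero'
    intro h
    apply h0
    apply hinj
    rw [map_sub, map_pow, map_mul, map_ofNat, h, map_zero]
  -- the forms
  have hQ : (polarBilin (stdPlus F (k + 1))).Nondegenerate := stdPlus_nondegenerate F (k + 1)
  have hQ' : (polarBilin (stdMinus F k (emb a₀) (emb b₀))).Nondegenerate :=
    stdMinus_nondegenerate' F k _ _ hd
  have hexc : Fintype.card F ≠ 2 ∨ Fintype.card (Fin (k + 1) ⊕ Fin (k + 1)) ≠ 4 := by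
    left
    rw [hcard]
    have h2 : 2 ≤ Fintype.card F₀ := Fintype.one_lt_card
    nlinarith
  have hσQ : ∀ v : Fin (k + 1) ⊕ Fin (k + 1) → F,
      stdPlus F (k + 1) (fun i => σ (v i)) = σ (stdPlus F (k + 1) v) := by
    intro v
    rw [stdPlus_apply, stdPlus_apply]
    unfold Cfsg.quadFormPlus
    simp only [map_sum, map_mul]
  have hσQ' : ∀ v : (Fin k ⊕ Fin k) ⊕ Fin 2 → F,
      stdMinus F k (emb a₀) (emb b₀) (fun i => σ (v i)) =
        σ (stdMinus F k (emb a₀) (emb b₀) v) := by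
    intro v
    rw [stdMinus_apply, stdMinus_apply]
    unfold Cfsg.quadFormMinus
    simp only [map_sum, map_mul, map_add, map_pow, hι1]
  -- the Lagrangians
  have hU₀ : IsTSLag (stdPlus F (k + 1)) (lagPlus F (k + 1)) := nh_isTSLag_lagPlus F (k + 1)
  have hU' : IsTSLag (stdMinus F k (emb a₀) (emb b₀)) (lagMinus F k θ) :=
    Cfsg.Agent.Helper5.OMF.isTSLag_lagMinus F k _ _ θ hθ hd
  have hU'' : IsTSLag (stdMinus F k (emb a₀) (emb b₀)) (sigSub σ (lagMinus F k θ)) := tslag_sigSub (stdMinus F k (emb a₀) (emb b₀)) σ hσQ' hU'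
  set e := nhEquiv T with hedef
  have he : ∀ y, stdPlus F (k + 1) (e y) = stdMinus F k (emb a₀) (emb b₀) y := by
    intro y
    rw [hedef, nhEquiv_apply]
    exact T.hQ y
  set W := (lagMinus F k θ).map (e : ((Fin k ⊕ Fin k) ⊕ Fin 2 → F) →ₗ[F] (Fin (k + 1) ⊕ Fin (k + 1) → F)) with hWdef
  set X := (sigSub σ (lagMinus F k θ)).map (e : ((Fin k ⊕ Fin k) ⊕ Fin 2 → F) →ₗ[F] (Fin (k + 1) ⊕ Fin (k + 1) → F)) with hXdef
  have hW : IsTSLag (stdPlus F (k + 1)) W := nh_tslag_map (stdPlus F (k + 1)) (stdMinus F k (emb a₀) (emb b₀)) e he hU'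
  have hX : IsTSLag (stdPlus F (k + 1)) X := nh_tslag_map (stdPlus F (k + 1)) (stdMinus F k (emb a₀) (emb b₀)) e he hU''
  set U := sigSub σ W with hUdef
  have hU : IsTSLag (stdPlus F (k + 1)) U := tslag_sigSub (stdPlus F (k + 1)) σ hσQ hW
  have himg : Cfsg.imageSubmodule (T.coc σ) U = X := nh_image_coc T σ (lagMinus F k θ)
  -- dimensions
  have hWX : finrank F ↥(W ⊓ X) = k := by
    rw [hWdef, hXdef, nh_finrank_inf_map, nh_sigSub_lagMinus]
    exact nh_finrank_inf_lagMinus k θ (σ θ) hθσ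
  have hn : finrank F ↥W = k + 1 := by
    have h1 := A2.two_mul_finrank_tslag hQ hW
    rw [Module.finrank_fintype_fun_eq_card, Fintype.card_sum, Fintype.card_fin] at h1
    omega
  have hnU : finrank F ↥U = k + 1 := by rw [hUdef, finrank_sigSub, hn]
  have hnU₀ : finrank F ↥(lagPlus F (k + 1)) = k + 1 := by
    have h1 := A2.two_mul_finrank_tslag hQ hU₀
    rw [Module.finrank_fintype_fun_eq_card, Fintype.card_sum, Fintype.card_fin] at h1
    omega
  have hUU₀ : finrank F ↥(U ⊓ lagPlus F (k + 1)) = finrank F ↥(W ⊓ lagPlus F (k + 1)) := by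
    conv_lhs => rw [hUdef, ← nh_sigSub_lagPlus F (k + 1) σ, ← sigSub_inf, finrank_sigSub]
  have p1 := three_parity (stdPlus F (k + 1)) hQ hexc hW hX hU
  have p2 := three_parity (stdPlus F (k + 1)) hQ hexc hU₀ hW hU
  rw [hn, hWX] at p1
  rw [hnU₀, hUU₀, inf_comm W (lagPlus F (k + 1))] at p2
  rw [inf_comm U W] at p1
  intro hpres
  have hUmax : Cfsg.IsMaxTotallySingular (⇑(stdPlus F (k + 1))) U :=
    (A2.isMaxTS_iff_isTSLag (stdPlus F (k + 1)) hQ ⟨_, hU₀⟩ U).2 hU
  have h1 := hpres U hUmax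
  unfold Cfsg.SameParityClass at h1
  rw [himg, hnU, Nat.even_iff, inf_comm U X] at h1
  have hle : finrank F ↥(X ⊓ U) ≤ finrank F ↥U := Submodule.finrank_mono inf_le_right
  rw [hnU] at hle
  omega

end main

end Cfsg.Agent.Helper33.GF
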