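import Mathlib
import Cfsg.Agent.Lib.Helper14.GLIDefs

/-!
# GLI server (helper14, S5958): piece CYCB `exists_cyclic_basis`
-/

set_option autoImplicit false

namespace Cfsg.Agent.Helper33.GLI

open Module Polynomial Cfsg.Agent.Helper14.GLI

theorem exists_cyclic_basis {F V : Type*} [Field F] [AddCommGroup V] [Module F V]
    [FiniteDimensional F V] (x : V →ₗ[F] V) (r : ℕ) [Fact r.Prime] (z : F)
    (hz : ∀ w : F, w ^ r ≠ z) (hxr : x ^ r = z • 1) :
    ∃ (n₁ : ℕ) (e : Fin n₁ → V) (b : Basis (Fin n₁ × Fin r) F V),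
      ∀ (k : Fin n₁) (j : Fin r), b (k, j) = (x ^ (j : ℕ)) (e k) := by
  classical
  have hr : r.Prime := Fact.out
  have hirr : Irreducible (X ^ r - C z : F[X]) := X_pow_sub_C_irreducible_of_prime hr hz
  have : Fact (Irreducible (X ^ r - C z : F[X])) := ⟨hirr⟩
  have hf0 : (X ^ r - C z : F[X]) ≠ 0 := hirr.ne_zero
  have htors : Module.IsTorsionBySet F[X] (Module.AEval' x)
      (Ideal.span {(X ^ r - C z : F[X])}) := by
    rw [Module.isTorsionBySet_span_singleton_iff]
    intro m
    obtain ⟨v, rfl⟩ := (Module.AEval'.of x).surjective m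
    rw [← Module.AEval.of_aeval_smul]
    simp [hxr]
  let _ : Module (AdjoinRoot (X ^ r - C z : F[X])) (Module.AEval' x) := htors.module
  have : IsScalarTower F (AdjoinRoot (X ^ r - C z : F[X])) (Module.AEval' x) :=
    htors.isScalarTower
  have : Module.Finite (AdjoinRoot (X ^ r - C z : F[X])) (Module.AEval' x) :=
    Module.Finite.of_restrictScalars_finite F _ _
  let c := Module.finBasis (AdjoinRoot (X ^ r - C z : F[X])) (Module.AEval' x)
  let pb := AdjoinRoot.powerBasis hf0
  have hdim : pb.dim = r := by rw [AdjoinRoot.powerBasis_dim, natDegree_X_pow_sub_C]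
  let B0 := pb.basis.smulTower c
  let B1 := B0.map (Module.AEval'.of x).symm
  let B2 := B1.reindex ((Equiv.prodComm _ _).trans (Equiv.prodCongr (Equiv.refl _) (finCongr hdim)))
  refine ⟨_, fun k => (Module.AEval'.of x).symm (c k), B2, ?_⟩
  intro k j
  have key : ∀ (n : ℕ) (m : Module.AEval' x),
      (AdjoinRoot.root (X ^ r - C z : F[X]) ^ n) • m = (X ^ n : F[X]) • m := by
    intro n m
    have e1 : AdjoinRoot.root (X ^ r - C z : F[X]) ^ n =
        AdjoinRoot.mk (X ^ r - C z : F[X]) (X ^ n) := by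
      rw [map_pow, AdjoinRoot.mk_X]
    have e2 : (AdjoinRoot.mk (X ^ r - C z : F[X]) (X ^ n)) • m = (X ^ n : F[X]) • m :=
      Module.IsTorsionBySet.mk_smul htors _ _
    rw [e1, e2]
  have key2 : ∀ (n : ℕ) (m : Module.AEval' x),
      (Module.AEval'.of x).symm ((X ^ n : F[X]) • m) = (x ^ n) ((Module.AEval'.of x).symm m) := by
    intro n m
    obtain ⟨v, rfl⟩ := (Module.AEval'.of x).surjective m
    rw [Module.AEval'.X_pow_smul_of]
    simp
  simp only [B2, B1, B0, Basis.reindex_apply, Basis.map_apply, Basis.smulTower_apply]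
  have hj : (((Equiv.prodComm (Fin pb.dim) (Fin (finrank (AdjoinRoot (X ^ r - C z : F[X]))
      (AEval' x)))).trans ((Equiv.refl (Fin (finrank (AdjoinRoot (X ^ r - C z : F[X]))
      (AEval' x)))).prodCongr (finCongr hdim))).symm (k, j)) = ((finCongr hdim).symm j, k) := rfl
  rw [hj]
  simp only [PowerBasis.coe_basis, AdjoinRoot.powerBasis_gen, pb]
  rw [key, key2]
  rfl

end Cfsg.Agent.Helper33.GLI
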