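import Cfsg.Agent.Lib.Helper33.BG125
import Cfsg.Agent.Lib.Helper24.BG11.Def
import Cfsg.Agent.S1409

/-!
# Bender–Glauberman Section 11 under Hypothesis 11.1 only: Lemma 11.1, Corollary 11.2, Theorem 11.3
and the consequences of `N_G(A) ≰ M`

General "key" lemma (`key_sylow`, `key_dvd`): `p ∈ τ₂(M)`, `A ≤ M` elementary abelian of order `p²`,
`C_G(A) ≤ M`.  If a proper subgroup `H ≥ A` meets an `A`-invariant Sylow `q`-subgroup of `M_σ` and an
`A`-invariant Sylow `q`-subgroup of `(M_σ)^g`, then `g ∈ M`.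

Consequences: Lemma I (`BG125.lemmaI`), "Principle Q" (`principleQ`), Lemma 11.1(b) (`F3`), and under
`Exc M p A A0`: `exc_tau2`, `exc_lemmaI`, `exc_nilpotent` (11.3), `exc_two_points`, `exc_d`, `exc_f2`.
-/

set_option autoImplicit false
open Pointwise

namespace Cfsg.Agent.Helper33.BG11I

open Subgroup Cfsg
open Cfsg.Agent.Helper33
open Cfsg.Agent.Helper33.BG125
open Cfsg.Agent.Helper24.BG11 (Exc)
open Cfsg.Agent.Helper34.BG (isElementaryAbelian_isPGroup isElementaryAbelian_conj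
  isElementaryAbelian_mono isElementaryAbelian_sup isElementaryAbelian_zpowers
  commute_of_isElementaryAbelian isCoatom_conj ne_top_of_le_coatom normalizer_coatom
  solvable_of_ne_top not_normalizer_le_of_not_mem_sigma)
open Cfsg.Agent.Helper55.BGB (sigmaCore_le isPi_sigmaCore le_normalizer_sigmaCore
  le_sigmaCore_of_isPGroup)

variable {G : Type*} [Group G] [Finite G]

/-- an `IsSylIn` subgroup of `K` has order `sylCard q K` -/
theorem card_of_isSylIn {q : ℕ} [Fact q.Prime] {S K : Subgroup G} (h : IsSylIn q S K) :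
    Nat.card S = Cfsg.Agent.Helper52.sylCard q K := by
  obtain ⟨P₀⟩ : Nonempty (Sylow q K) := inferInstance
  rw [h.card_eq (isSylIn_of_sylow K P₀)]
  exact Cfsg.Agent.Helper52.card_sylow_map q K P₀

/-! ### The key lemma -/

/-- **Key lemma** (the argument of B–G Lemma 11.1): Sylow form. -/
theorem key_sylow (hG : Cfsg.IsMinSimpleOddOrder G) (M : Subgroup G) (hM : IsCoatom M)
    (p : ℕ) [hpp : Fact p.Prime] (hp : p ∈ Cfsg.tau2 M) (A : Subgroup G)
    (hA : A ≤ M ∧ Cfsg.IsElementaryAbelian p A ∧ Nat.card A = p ^ 2)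
    (hCA : Subgroup.centralizer (A : Set G) ≤ M) (g : G)
    (q : ℕ) [hqq : Fact q.Prime] (S₁ S₂ : Subgroup G)
    (hS₁K : S₁ ≤ Cfsg.sigmaCore M)
    (hS₁c : Nat.card S₁ = Cfsg.Agent.Helper52.sylCard q (Cfsg.sigmaCore M))
    (hAS₁ : A ≤ normalizer (S₁ : Set G))
    (hS₂K : S₂ ≤ MulAut.conj g • Cfsg.sigmaCore M)
    (hS₂c : Nat.card S₂ = Cfsg.Agent.Helper52.sylCard q (Cfsg.sigmaCore M))
    (hAS₂ : A ≤ normalizer (S₂ : Set G))
    (H : Subgroup G) (hH : H ≠ ⊤) (hAH : A ≤ H) (hH₁ : H ⊓ S₁ ≠ ⊥) (hH₂ : H ⊓ S₂ ≠ ⊥) :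
    g ∈ M := by
  set K : Subgroup G := Cfsg.sigmaCore M with hK
  obtain ⟨hHallM, hHallG, -⟩ := Cfsg.Agent.S1350.result hG M hM
  have hpσ : p ∉ Cfsg.sigma M := hp.2.1
  have hTrans := transitivity_A hG M hM p hp A hA
  obtain ⟨hAM, hAe, hAc⟩ := hA
  have hKM : K ≤ M := sigmaCore_le M
  have hq : q.Prime := hqq.out
  have hS₁ne : S₁ ≠ ⊥ := fun h => hH₁ (by rw [h]; exact inf_bot_eq _)
  have hS₂ne : S₂ ≠ ⊥ := fun h => hH₂ (by rw [h]; exact inf_bot_eq _)
  -- `q ∈ σ(M)`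
  have hqK : q ∣ Nat.card K := by
    have h1 : Nat.card S₁ ≠ 1 := fun h => hS₁ne (Subgroup.card_eq_one.mp h)
    have hS₁q : IsPGroup q S₁ := IsPGroup.of_card hS₁c
    obtain ⟨n, hn⟩ := IsPGroup.iff_card.mp hS₁q
    have hn0 : n ≠ 0 := by
      rintro rfl
      exact h1 (by rw [hn, pow_zero])
    have h2 : q ∣ Nat.card S₁ := by rw [hn]; exact dvd_pow_self q hn0
    exact h2.trans (Subgroup.card_dvd_of_le hS₁K)
  have hqσ : q ∈ Cfsg.sigma M := isPi_sigmaCore M q hq hqK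
  have hqp : q ≠ p := fun h => hpσ (h ▸ hqσ)
  have hqA : ¬ q ∣ Nat.card A := by
    rw [hAc]
    intro h
    exact hqp ((Nat.prime_dvd_prime_iff_eq hq hpp.out).mp (hq.dvd_of_dvd_pow h))
  -- both are Sylow `q`-subgroups of `G`
  have hqidx : ¬ q ∣ K.index := hHallG.2 q hq hqσ
  have hfac : (Nat.card K).factorization q = (Nat.card G).factorization q :=
    factorization_card_of_not_dvd_index hqidx
  have hS₁card : Nat.card S₁ = q ^ (Nat.card G).factorization q := by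
    rw [hS₁c, Cfsg.Agent.Helper52.sylCard, hfac]
  have hS₂card : Nat.card S₂ = q ^ (Nat.card G).factorization q := by
    rw [hS₂c, Cfsg.Agent.Helper52.sylCard, hfac]
  have hm₁ : S₁ ∈ Cfsg.maxInvSubgroups ⊤ A {q} := mem_maxInv_of_card_sylow hS₁card hAS₁
  have hm₂ : S₂ ∈ Cfsg.maxInvSubgroups ⊤ A {q} := mem_maxInv_of_card_sylow hS₂card hAS₂
  -- apply the transitivity theorem
  obtain ⟨k, hk, hkS⟩ :=
    Cfsg.Agent.S1392.result hG A hTrans q hq hqA S₁ S₂ hm₁ hm₂ H hH hAH hH₁ hH₂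
  have hkM : k ∈ M := by
    apply hCA
    unfold Cfsg.piCoreOf at hk
    obtain ⟨y, -, rfl⟩ := hk
    exact y.2
  rw [map_conj_eq_smul] at hkS
  -- `S₂ ≤ M`
  have hS₂M : S₂ ≤ M := by
    rw [hkS, ← conj_smul_eq_self_of_mem hkM]
    exact conj_smul_le_conj_smul (hS₁K.trans hKM)
  have hS₂syl : IsSylIn q S₂ M := isSylIn_of_card_sylow hS₂card hS₂M
  have hNS₂ : normalizer (S₂ : Set G) ≤ M := normalizer_le_of_mem_sigma hS₂syl hqσ
  -- `S₂^{g⁻¹} ≤ M`
  have hS₂g : S₂.map (MulAut.conj g⁻¹).toMonoidHom ≤ M := by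
    rw [map_conj_eq_smul]
    have : MulAut.conj g⁻¹ • S₂ ≤ MulAut.conj g⁻¹ • (MulAut.conj g • K) :=
      conj_smul_le_conj_smul hS₂K
    rw [conj_inv_smul_smul] at this
    exact this.trans hKM
  obtain ⟨m, hm, c, hc, hgmc⟩ :=
    (Cfsg.Agent.S1404.result hG M hM q hqσ S₂ (IsPGroup.of_card hS₂card) hS₂ne hS₂M).1 g⁻¹ hS₂g
  have hcM : c ∈ M := hNS₂ (Subgroup.centralizer_le_normalizer _ hc)
  have : g⁻¹ ∈ M := by rw [hgmc]; exact M.mul_mem hm hcM
  simpa using M.inv_mem this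

/-- a nontrivial `A`-invariant Sylow `q`-subgroup of `H ⊓ K` inside an `A`-invariant Sylow
`q`-subgroup of `K`, for `q ∣ |H ⊓ K|` -/
theorem exists_invariant_sylow_meeting (A K H : Subgroup G)
    (hAK : A ≤ normalizer (K : Set G)) (hAH : A ≤ normalizer (H : Set G))
    (hcop : (Nat.card A).Coprime (Nat.card K)) (hsolv : Group.IsSolvable A)
    (q : ℕ) [hqq : Fact q.Prime] (hqD : q ∣ Nat.card (H ⊓ K : Subgroup G)) :
    ∃ S : Subgroup G, S ≤ K ∧ Nat.card S = Cfsg.Agent.Helper52.sylCard q K ∧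
      A ≤ normalizer (S : Set G) ∧ H ⊓ S ≠ ⊥ := by
  have hq := hqq.out
  have hAD : A ≤ normalizer ((H ⊓ K : Subgroup G) : Set G) := le_normalizer_inf hAH hAK
  have hcopD : (Nat.card A).Coprime (Nat.card (H ⊓ K : Subgroup G)) :=
    Nat.Coprime.coprime_dvd_right (Subgroup.card_dvd_of_le inf_le_right) hcop
  obtain ⟨X, hXD, hXc, hAX⟩ :=
    Cfsg.Agent.Helper52.exists_invariant_sylow A (H ⊓ K) hAD hcopD (Or.inl hsolv) q
  have hXq : IsPGroup q X := IsPGroup.of_card hXc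
  have hXne : X ≠ ⊥ := by
    intro h
    have h1 : Nat.card X = 1 := by rw [h]; exact Subgroup.card_bot
    rw [hXc, Cfsg.Agent.Helper52.sylCard] at h1
    have h2 : (Nat.card (H ⊓ K : Subgroup G)).factorization q = 0 := by
      by_contra h0
      have : 1 < q ^ (Nat.card (H ⊓ K : Subgroup G)).factorization q :=
        Nat.one_lt_pow h0 hq.one_lt
      omega
    rcases (Nat.factorization_eq_zero_iff _ _).mp h2 with h3 | h3 | h3
    · exact h3 hq
    · exact h3 hqD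
    · exact Nat.card_pos.ne' h3
  obtain ⟨S, hSK, hSc, hXS, hAS⟩ :=
    Cfsg.Agent.Helper52.exists_invariant_sylow_ge A K hAK hcop (Or.inl hsolv) q X
      (hXD.trans inf_le_right) hXq hAX
  exact ⟨S, hSK, hSc, hAS, fun h => hXne (le_bot_iff.mp (h ▸ le_inf (hXD.trans inf_le_left) hXS))⟩

/-- **Key lemma**, divisibility form: `A ≤ M^g`, `H` proper over `A`, and a prime `q` dividing both
`|H ∩ M_σ|` and `|H ∩ (M_σ)^g|`: then `g ∈ M`. -/
theorem key_dvd (hG : Cfsg.IsMinSimpleOddOrder G) (M : Subgroup G) (hM : IsCoatom M)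
    (p : ℕ) [hpp : Fact p.Prime] (hp : p ∈ Cfsg.tau2 M) (A : Subgroup G)
    (hA : A ≤ M ∧ Cfsg.IsElementaryAbelian p A ∧ Nat.card A = p ^ 2)
    (hCA : Subgroup.centralizer (A : Set G) ≤ M) (g : G) (hAg : A ≤ MulAut.conj g • M)
    (H : Subgroup G) (hH : H ≠ ⊤) (hAH : A ≤ H) (q : ℕ) [hqq : Fact q.Prime]
    (h₁ : q ∣ Nat.card (H ⊓ Cfsg.sigmaCore M : Subgroup G))
    (h₂ : q ∣ Nat.card (H ⊓ MulAut.conj g • Cfsg.sigmaCore M : Subgroup G)) :
    g ∈ M := by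
  set K : Subgroup G := Cfsg.sigmaCore M with hK
  have hpσ : p ∉ Cfsg.sigma M := hp.2.1
  have hAM := hA.1
  have hAc := hA.2.2
  have hpK : ¬ p ∣ Nat.card K := fun h => hpσ (isPi_sigmaCore M p hpp.out h)
  have hcop : (Nat.card A).Coprime (Nat.card K) := by
    rw [hAc]; exact Nat.Coprime.pow_left 2 ((Nat.Prime.coprime_iff_not_dvd hpp.out).mpr hpK)
  have hAtop : A ≠ ⊤ := ne_top_of_le_coatom hM hAM
  have hAsolv : Group.IsSolvable A := solvable_of_ne_top hG hAtop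
  have hAK : A ≤ normalizer (K : Set G) := hAM.trans (le_normalizer_sigmaCore M)
  have hAHn : A ≤ normalizer (H : Set G) := hAH.trans le_normalizer
  have hAK₂ : A ≤ normalizer ((MulAut.conj g • K : Subgroup G) : Set G) := by
    rw [normalizer_conj_smul]
    exact hAg.trans (conj_smul_le_conj_smul (le_normalizer_sigmaCore M))
  have hcop₂ : (Nat.card A).Coprime (Nat.card (MulAut.conj g • K : Subgroup G)) := by
    rw [card_conj_smul]; exact hcop
  obtain ⟨S₁, hS₁K, hS₁c, hAS₁, hH₁⟩ :=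
    exists_invariant_sylow_meeting A K H hAK hAHn hcop hAsolv q h₁
  obtain ⟨S₂, hS₂K, hS₂c, hAS₂, hH₂⟩ :=
    exists_invariant_sylow_meeting A (MulAut.conj g • K) H hAK₂ hAHn hcop₂ hAsolv q h₂
  have hS₂c' : Nat.card S₂ = Cfsg.Agent.Helper52.sylCard q K := by
    rw [hS₂c, Cfsg.Agent.Helper52.sylCard, Cfsg.Agent.Helper52.sylCard, card_conj_smul]
  exact key_sylow hG M hM p hp A hA hCA g q S₁ S₂ hS₁K hS₁c hAS₁ hS₂K hS₂c' hAS₂ H hH hAH hH₁ hH₂

/-- **Principle Q**: a proper subgroup `H ≥ A` meeting `M_σ` nontrivially has `N_H(A) ≤ M`. -/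
theorem principleQ (hG : Cfsg.IsMinSimpleOddOrder G) (M : Subgroup G) (hM : IsCoatom M)
    (p : ℕ) [hpp : Fact p.Prime] (hp : p ∈ Cfsg.tau2 M) (A : Subgroup G)
    (hA : A ≤ M ∧ Cfsg.IsElementaryAbelian p A ∧ Nat.card A = p ^ 2)
    (hCA : Subgroup.centralizer (A : Set G) ≤ M)
    (H : Subgroup G) (hH : H ≠ ⊤) (hAH : A ≤ H) (hHK : H ⊓ Cfsg.sigmaCore M ≠ ⊥) :
    H ⊓ normalizer (A : Set G) ≤ M := by
  intro h hh
  obtain ⟨hhH, hhA⟩ := mem_inf.mp hh
  have hcard : Nat.card (H ⊓ Cfsg.sigmaCore M : Subgroup G) ≠ 1 :=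
    fun h1 => hHK (Subgroup.card_eq_one.mp h1)
  obtain ⟨q, hq, hqD⟩ := Nat.exists_prime_and_dvd hcard
  have : Fact q.Prime := ⟨hq⟩
  have hAg : A ≤ MulAut.conj h • M := by
    rw [← smul_eq_of_mem_normalizer hhA]
    exact conj_smul_le_conj_smul hA.1
  have h₂ : q ∣ Nat.card (H ⊓ MulAut.conj h • Cfsg.sigmaCore M : Subgroup G) := by
    have e : H ⊓ MulAut.conj h • Cfsg.sigmaCore M = MulAut.conj h • (H ⊓ Cfsg.sigmaCore M) := by
      rw [conj_smul_inf, conj_smul_eq_self_of_mem hhH]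
    rw [e, card_conj_smul]
    exact hqD
  exact key_dvd hG M hM p hp A hA hCA h hAg H hH hAH q hqD h₂

/-- **B–G Lemma 11.1(b)** (`F3`): for `g ∉ M`, `1 ≠ X ≤ A` and `A`-invariant Sylow `q`-subgroups
`S₁` of `M_σ`, `S₂` of `(M_σ)^g`: `C_{S₁}(X) = 1` or `C_{S₂}(X) = 1`. -/
theorem F3 (hG : Cfsg.IsMinSimpleOddOrder G) (M : Subgroup G) (hM : IsCoatom M)
    (p : ℕ) [hpp : Fact p.Prime] (hp : p ∈ Cfsg.tau2 M) (A : Subgroup G)
    (hA : A ≤ M ∧ Cfsg.IsElementaryAbelian p A ∧ Nat.card A = p ^ 2)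
    (hCA : Subgroup.centralizer (A : Set G) ≤ M) (g : G) (hg : g ∉ M)
    (q : ℕ) [hqq : Fact q.Prime] (S₁ S₂ : Subgroup G)
    (hS₁K : S₁ ≤ Cfsg.sigmaCore M)
    (hS₁c : Nat.card S₁ = Cfsg.Agent.Helper52.sylCard q (Cfsg.sigmaCore M))
    (hAS₁ : A ≤ normalizer (S₁ : Set G))
    (hS₂K : S₂ ≤ MulAut.conj g • Cfsg.sigmaCore M)
    (hS₂c : Nat.card S₂ = Cfsg.Agent.Helper52.sylCard q (Cfsg.sigmaCore M))
    (hAS₂ : A ≤ normalizer (S₂ : Set G))
    (X : Subgroup G) (hXA : X ≤ A) (hX : X ≠ ⊥) :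
    S₁ ⊓ centralizer (X : Set G) = ⊥ ∨ S₂ ⊓ centralizer (X : Set G) = ⊥ := by
  by_contra hcon
  push Not at hcon
  obtain ⟨h1, h2⟩ := hcon
  apply hg
  have hCX : centralizer (X : Set G) ≠ ⊤ := by
    obtain ⟨x, hx1⟩ := (Subgroup.ne_bot_iff_exists_ne_one).mp hX
    have hx1' : (x : G) ≠ 1 := fun h => hx1 (Subtype.ext h)
    have h3 := Cfsg.Agent.Helper34.BG.centralizer_singleton_ne_top hG hx1'
    intro h4
    apply h3
    rw [eq_top_iff, ← h4]
    exact Subgroup.centralizer_le (by simp)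
  have hAC : A ≤ centralizer (X : Set G) := by
    intro a ha
    rw [mem_centralizer_iff]
    intro x hx
    exact commute_of_isElementaryAbelian hA.2.1 (hXA hx) ha
  exact key_sylow hG M hM p hp A hA hCA g q S₁ S₂ hS₁K hS₁c hAS₁ hS₂K hS₂c hAS₂
    (centralizer (X : Set G)) hCX hAC (by rwa [inf_comm]) (by rwa [inf_comm])

/-! ### Under Hypothesis 11.1 -/

/-- `p ∈ τ₂(M)` under Hypothesis 11.1 (S1409). -/
theorem exc_tau2 (hG : Cfsg.IsMinSimpleOddOrder G) {M A A0 : Subgroup G} {p : ℕ}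
    (hE : Exc M p A A0) : p ∈ Cfsg.tau2 M := by
  have := hE.fact
  have h := (Cfsg.Agent.S1409.result hG M hE.coatom p hE.not_sigma A0 hE.card0 hE.norm0).1
  exact ⟨hE.prime, hE.not_sigma, h.1, h.2⟩

/-- **B–G Corollary 11.2(a)** (Lemma I) under Hypothesis 11.1. -/
theorem exc_lemmaI (hG : Cfsg.IsMinSimpleOddOrder G) {M A A0 : Subgroup G} {p : ℕ}
    (hE : Exc M p A A0) (g : G) (hg : g ∉ M) (hAg : A ≤ M.map (MulAut.conj g).toMonoidHom) :
    Cfsg.sigmaCore M ⊓ M.map (MulAut.conj g).toMonoidHom = ⊥ := by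
  have := hE.fact
  exact lemmaI hG M hE.coatom p (exc_tau2 hG hE) A hE.hA hE.cent_le g hg hAg

/-- **B–G Corollary 11.2(b)**: `C_{M_σ}(A0^g) = 1` for `g ∉ M` with `A ≤ M^g`. -/
theorem exc_cent_conj (hG : Cfsg.IsMinSimpleOddOrder G) {M A A0 : Subgroup G} {p : ℕ}
    (hE : Exc M p A A0) (g : G) (hg : g ∉ M) (hAg : A ≤ MulAut.conj g • M) :
    Cfsg.sigmaCore M ⊓ centralizer ((MulAut.conj g • A0 : Subgroup G) : Set G) = ⊥ := by
  have hI := exc_lemmaI hG hE g hg hAg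
  rw [map_conj_eq_smul] at hI
  rw [eq_bot_iff, ← hI]
  refine inf_le_inf_left _ ?_
  calc centralizer ((MulAut.conj g • A0 : Subgroup G) : Set G)
      ≤ normalizer ((MulAut.conj g • A0 : Subgroup G) : Set G) :=
        Subgroup.centralizer_le_normalizer _
    _ = MulAut.conj g • normalizer (A0 : Set G) := normalizer_conj_smul g A0
    _ ≤ MulAut.conj g • M := conj_smul_le_conj_smul hE.norm0

/-- a subgroup of order `p` in `M` acting without fixed points on `M_σ` forces `M_σ` nilpotent -/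
theorem nilpotent_of_fpf_point (M : Subgroup G) (p : ℕ) [hpp : Fact p.Prime] (B : Subgroup G)
    (hBM : B ≤ M) (hBc : Nat.card B = p)
    (hB : Cfsg.sigmaCore M ⊓ centralizer (B : Set G) = ⊥) :
    Group.IsNilpotent (Cfsg.sigmaCore M) := by
  have : IsCyclic B := isCyclic_of_prime_card hBc
  obtain ⟨⟨x, hxB⟩, hgen⟩ := IsCyclic.exists_generator (α := B)
  have hxM : x ∈ M := hBM hxB
  have hxp : x ^ p = 1 := by
    have h1 : (⟨x, hxB⟩ : B) ^ Nat.card B = 1 := pow_card_eq_one'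
    rw [hBc] at h1
    simpa using congrArg Subtype.val h1
  refine Cfsg.Agent.Helper20.BG13.nilpotent_of_free (Cfsg.sigmaCore M) x
    (le_normalizer_sigmaCore M hxM) p hpp.out hxp ?_
  intro y hyK hy1 hxy
  apply hy1
  have hyC : y ∈ centralizer (B : Set G) := by
    rw [mem_centralizer_iff]
    intro a ha
    obtain ⟨k, hk⟩ := mem_zpowers_iff.mp (hgen ⟨a, ha⟩)
    have hak : a = x ^ k := by
      have := congrArg Subtype.val hk
      simpa using this.symm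
    rw [hak]
    have hc : Commute x y := hxy
    exact (hc.zpow_left k).eq
  have : y ∈ Cfsg.sigmaCore M ⊓ centralizer (B : Set G) := mem_inf.mpr ⟨hyK, hyC⟩
  rw [hB] at this
  exact mem_bot.mp this

/-- **B–G Theorem 11.3** under Hypothesis 11.1: `M_σ` is nilpotent. -/
theorem exc_nilpotent (hG : Cfsg.IsMinSimpleOddOrder G) {M A A0 : Subgroup G} {p : ℕ}
    (hE : Exc M p A A0) : Group.IsNilpotent (Cfsg.sigmaCore M) := by
  have hpp := hE.fact
  have hpσ := hE.not_sigma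
  have hdvd : p ∣ Nat.card M := by
    have h1 : p ∣ Nat.card A := by rw [hE.card]; exact dvd_pow_self p (by norm_num)
    exact h1.trans (Subgroup.card_dvd_of_le hE.le)
  obtain ⟨T, hT, hAT⟩ :=
    exists_isSylIn_ge (p := p) (isElementaryAbelian_isPGroup hE.elem) hE.le
  have hNT : ¬ normalizer (T : Set G) ≤ M := not_normalizer_le_of_not_mem_sigma hT hdvd hpσ
  obtain ⟨g, hgN, hgM⟩ := SetLike.not_le_iff_exists.mp hNT
  have hgT : MulAut.conj g • T = T := smul_eq_of_mem_normalizer hgN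
  have hTM : T ≤ M := hT.le
  have hAg : A ≤ MulAut.conj g • M := by
    calc A ≤ T := hAT
      _ = MulAut.conj g • T := hgT.symm
      _ ≤ MulAut.conj g • M := conj_smul_le_conj_smul hTM
  have hB := exc_cent_conj hG hE g hgM hAg
  have hBM : MulAut.conj g • A0 ≤ M := by
    calc MulAut.conj g • A0 ≤ MulAut.conj g • T := conj_smul_le_conj_smul (hE.le0.trans hAT)
      _ = T := hgT
      _ ≤ M := hTM
  exact nilpotent_of_fpf_point M p (MulAut.conj g • A0) hBM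
    (by rw [card_conj_smul]; exact hE.card0) hB

/-- If `A = Ω₁(P)` for a subgroup `P ≥ A` whose normalizer is not in `M`, then `N_G(A) ≰ M`. -/
theorem not_normalizer_le_of_omega {M A P' : Subgroup G} {p : ℕ} (hAP : A ≤ P')
    (hΩ : ∀ x ∈ P', x ^ p = 1 ↔ x ∈ A) (hN : ¬ normalizer (P' : Set G) ≤ M) :
    ¬ normalizer (A : Set G) ≤ M := by
  intro h
  apply hN
  refine le_trans ?_ h
  intro n hn
  have hnP : MulAut.conj n • P' = P' := smul_eq_of_mem_normalizer hn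
  have hle : MulAut.conj n • A ≤ A := by
    rw [conj_smul_le_iff]
    intro a ha
    have h1 : n * a * n⁻¹ ∈ P' := by
      rw [← hnP]; exact conj_mem_conj_smul (hAP ha)
    apply (hΩ _ h1).mp
    have h2 : (n * a * n⁻¹) ^ p = n * a ^ p * n⁻¹ := conj_pow
    rw [h2, ((hΩ a (hAP ha)).mpr ha)]
    group
  rw [mem_normalizer_iff_smul_eq]
  exact Subgroup.eq_of_le_of_card_ge hle (by rw [card_conj_smul])

/-- the two fixed-point-free points `A0^n`, `A0^{n⁻¹}` of `A` for `n ∈ N_G(A) ∖ M` -/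
theorem exc_two_points (hG : Cfsg.IsMinSimpleOddOrder G) {M A A0 : Subgroup G} {p : ℕ}
    (hE : Exc M p A A0) (n : G) (hnA : n ∈ normalizer (A : Set G)) (hnM : n ∉ M) :
    MulAut.conj n • A0 ≤ A ∧ MulAut.conj n⁻¹ • A0 ≤ A ∧
      Nat.card (MulAut.conj n • A0 : Subgroup G) = p ∧
      Nat.card (MulAut.conj n⁻¹ • A0 : Subgroup G) = p ∧
      MulAut.conj n • A0 ≠ MulAut.conj n⁻¹ • A0 ∧
      Cfsg.sigmaCore M ⊓ centralizer ((MulAut.conj n • A0 : Subgroup G) : Set G) = ⊥ ∧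
      Cfsg.sigmaCore M ⊓ centralizer ((MulAut.conj n⁻¹ • A0 : Subgroup G) : Set G) = ⊥ := by
  have hnA' : n⁻¹ ∈ normalizer (A : Set G) := inv_mem hnA
  have hnM' : n⁻¹ ∉ M := fun h => hnM (by simpa using M.inv_mem h)
  have e1 : MulAut.conj n • A = A := smul_eq_of_mem_normalizer hnA
  have e2 : MulAut.conj n⁻¹ • A = A := smul_eq_of_mem_normalizer hnA'
  have hAg1 : A ≤ MulAut.conj n • M := by
    rw [← e1]; exact conj_smul_le_conj_smul hE.le
  have hAg2 : A ≤ MulAut.conj n⁻¹ • M := by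
    rw [← e2]; exact conj_smul_le_conj_smul hE.le
  refine ⟨?_, ?_, ?_, ?_, ?_, exc_cent_conj hG hE n hnM hAg1, exc_cent_conj hG hE n⁻¹ hnM' hAg2⟩
  · rw [← e1]; exact conj_smul_le_conj_smul hE.le0
  · rw [← e2]; exact conj_smul_le_conj_smul hE.le0
  · rw [card_conj_smul]; exact hE.card0
  · rw [card_conj_smul]; exact hE.card0
  · intro h
    apply hnM
    -- `n² ∈ N_G(A0) ≤ M`
    have h1 : MulAut.conj (n * n) • A0 = A0 := by
      rw [conj_mul_smul, h, conj_smul_inv_smul]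
    have h2 : n * n ∈ M := hE.norm0 (mem_normalizer_iff_smul_eq.mpr h1)
    -- `n` has odd order
    have hodd : Odd (orderOf n) := Odd.of_dvd_nat hG.1 (orderOf_dvd_natCard n)
    obtain ⟨k, hk⟩ := hodd
    have h3 : n = (n * n) ^ (k + 1) := by
      rw [← pow_two, ← pow_mul]
      have : 2 * (k + 1) = orderOf n + 1 := by omega
      rw [this, pow_succ, pow_orderOf_eq_one, one_mul]
    rw [h3]
    exact M.pow_mem h2 _

/-- clause (d) under Hypothesis 11.1, given `N_G(A) ≰ M` -/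
theorem exc_d (hG : Cfsg.IsMinSimpleOddOrder G) {M A A0 : Subgroup G} {p : ℕ}
    (hE : Exc M p A A0) (hb' : ¬ normalizer (A : Set G) ≤ M) :
    Cfsg.sigmaCore M ⊓ centralizer (A : Set G) = ⊥ := by
  obtain ⟨n, hnA, hnM⟩ := SetLike.not_le_iff_exists.mp hb'
  obtain ⟨h1, -, -, -, -, h6, -⟩ := exc_two_points hG hE n hnA hnM
  rw [eq_bot_iff, ← h6]
  exact inf_le_inf_left _ (Subgroup.centralizer_le (by exact_mod_cast h1))

/-- clause (f2) under Hypothesis 11.1, given `N_G(A) ≰ M`: two distinct points of `A` acting without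
fixed points on `M_σ` -/
theorem exc_f2 (hG : Cfsg.IsMinSimpleOddOrder G) {M A A0 : Subgroup G} {p : ℕ}
    (hE : Exc M p A A0) (hb' : ¬ normalizer (A : Set G) ≤ M) :
    ∃ A1 A2 : Subgroup G, A1 ≤ A ∧ A2 ≤ A ∧ Nat.card A1 = p ∧ Nat.card A2 = p ∧ A1 ≠ A2 ∧
      Cfsg.sigmaCore M ⊓ centralizer (A1 : Set G) = ⊥ ∧
      Cfsg.sigmaCore M ⊓ centralizer (A2 : Set G) = ⊥ := by
  obtain ⟨n, hnA, hnM⟩ := SetLike.not_le_iff_exists.mp hb'
  exact ⟨_, _, exc_two_points hG hE n hnA hnM⟩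

/-- Principle Q under Hypothesis 11.1 -/
theorem exc_principleQ (hG : Cfsg.IsMinSimpleOddOrder G) {M A A0 : Subgroup G} {p : ℕ}
    (hE : Exc M p A A0) (H : Subgroup G) (hH : H ≠ ⊤) (hAH : A ≤ H)
    (hHK : H ⊓ Cfsg.sigmaCore M ≠ ⊥) : H ⊓ normalizer (A : Set G) ≤ M := by
  have := hE.fact
  exact principleQ hG M hE.coatom p (exc_tau2 hG hE) A hE.hA hE.cent_le H hH hAH hHK

end Cfsg.Agent.Helper33.BG11I
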