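import Mathlib
import Cfsg.Agent.Lib.Helper17.S4017Defs
import Cfsg.Agent.Lib.Helper17.S4017FDefs
import Cfsg.Agent.Lib.Helper9.ConjFixed
import Cfsg.Agent.Lib.Helper4.CYCTools
import Cfsg.Agent.Lib.Helper17.SylowFixed

/-!
# S4017F (CT1) (helper17 server, S4017): in the boundary setting, an element of `N(Q)` commuting
with an involution of `Q` centralises `Q`
-/

set_option autoImplicit false

namespace Cfsg.Agent.Helper33.S4017F

open Subgroup Cfsg.Agent.Helper17.S4017

universe u

variable {G : Type u} [Group G] [Finite G] {p q : ℕ}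

theorem ct_centralizes {a : ℕ} {Q : Subgroup G} {x : G} (h : Setting a p Q x) {t : G} (ht : t ∈ Q)
    (ht1 : t ≠ 1) (g : G) (hg : g ∈ normalizer (Q : Set G)) (hgt : g * t = t * g) :
    g ∈ centralizer (Q : Set G) := by
  classical
  have hp := h.prime
  have : Fact p.Prime := ⟨hp⟩
  have : Fact (Nat.Prime 2) := ⟨Nat.prime_two⟩
  have ha := h.two_le
  have hsimple := h.simple
  -- `p ≥ 3`
  have hp3 : 3 ≤ p := by
    have h1 : 2 ^ 2 ≤ 2 ^ a := Nat.pow_le_pow_right (by norm_num) ha
    have := h.p_eq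
    omega
  -- `Q` is abelian
  have hQab : ∀ y ∈ Q, ∀ z ∈ Q, y * z = z * y := by
    intro y hy z hz
    have h1 := h.elem y hy
    have h2 := h.elem z hz
    have h3 := h.elem (y * z) (Q.mul_mem hy hz)
    have e : y * z = y * (y * z * (y * z)) * z := by rw [h3, mul_one]
    calc y * z = y * (y * z * (y * z)) * z := e
      _ = (y * y) * (z * y) * (z * z) := by group
      _ = z * y := by rw [h1, h2, one_mul, mul_one]
  -- `Q` is a Sylow 2-subgroup
  have hQpg : IsPGroup 2 Q := IsPGroup.of_card h.card_Q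
  have hQidx : ¬ 2 ∣ Q.index := by
    intro h2
    apply h.sylow
    have h1 := Q.card_mul_index
    rw [h.card_Q] at h1
    rw [← h1, pow_succ]
    exact Nat.mul_dvd_mul_left _ h2
  set SQ : Sylow 2 G := hQpg.toSylow hQidx with hSQ
  have hSQc : (SQ : Subgroup G) = Q := IsPGroup.toSylow_coe hQpg hQidx
  -- `N(Q)` is proper
  have hNtop : normalizer (Q : Set G) ≠ ⊤ := by
    intro htop
    have hQn : Q.Normal := normalizer_eq_top_iff.1 htop
    rcases hQn.eq_bot_or_eq_top with hb | hb
    · have := h.card_Q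
      rw [hb, Subgroup.card_bot] at this
      have h1 : 2 ^ 2 ≤ 2 ^ a := Nat.pow_le_pow_right (by norm_num) ha
      omega
    · obtain ⟨r, hr, hrG, hr2, -⟩ := h.third
      have hc := h.card_Q
      rw [hb, Subgroup.card_top] at hc
      rw [hc] at hrG
      exact hr2 ((Nat.prime_dvd_prime_iff_eq hr Nat.prime_two).1 (hr.dvd_of_dvd_pow hrG))
  have hQN : Q ≤ normalizer (Q : Set G) := le_normalizer
  have h2N : 2 ∣ Nat.card (normalizer (Q : Set G)) := by
    have h1 : Nat.card Q ∣ Nat.card (normalizer (Q : Set G)) := Subgroup.card_dvd_of_le hQN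
    rw [h.card_Q] at h1
    exact (dvd_pow_self 2 (by omega : a ≠ 0)).trans h1
  have hstarN := h.star _ hNtop h2N
  -- decompose `g`
  obtain ⟨u, v, hu, hv, hguv, ⟨k, huk⟩, hvcop⟩ := Cfsg.Agent.Helper4.CYC.h4_decomp 2 g
  have hzN : zpowers g ≤ normalizer (Q : Set G) := by
    rw [zpowers_le]; exact hg
  have huN : u ∈ normalizer (Q : Set G) := hzN hu
  have hvN : v ∈ normalizer (Q : Set G) := hzN hv
  -- `u ∈ Q`
  have huQ : u ∈ Q := by
    have hupg : IsPGroup 2 (zpowers u) := by
      have hd : orderOf u ∣ 2 ^ k := orderOf_dvd_of_pow_eq_one huk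
      obtain ⟨j, -, hj⟩ := (Nat.dvd_prime_pow Nat.prime_two).1 hd
      exact IsPGroup.of_card (n := j) (by rw [Nat.card_zpowers, hj])
    have := Cfsg.Agent.Helper17.mem_sylow_of_mem_normalizer SQ u hupg (by rw [hSQc]; exact huN)
    rwa [hSQc] at this
  -- `v` is a `p`-element
  have hvord : ∃ j, orderOf v = p ^ j := by
    refine ⟨_, Nat.eq_prime_pow_of_unique_prime_dvd (orderOf_pos v).ne' ?_⟩
    intro d hd hdv
    have hdN : d ∣ Nat.card (normalizer (Q : Set G)) := by
      have h1 : orderOf (⟨v, hvN⟩ : normalizer (Q : Set G)) ∣ Nat.card (normalizer (Q : Set G)) :=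
        orderOf_dvd_natCard _
      rw [Subgroup.orderOf_mk] at h1
      exact hdv.trans h1
    rcases hstarN d hd hdN with h2 | h2
    · exfalso
      rw [h2] at hdv
      have : Nat.Coprime 2 (orderOf v) := hvcop.symm
      exact Nat.not_coprime_of_dvd_of_dvd (by norm_num) (dvd_refl 2) hdv this
    · exact h2
  obtain ⟨j, hj⟩ := hvord
  have hvpow : v ^ (p ^ j) = 1 := by rw [← hj]; exact pow_orderOf_eq_one v
  -- `v` commutes with `t`
  have hvt : v * t = t * v := by
    obtain ⟨i, rfl⟩ := mem_zpowers_iff.1 hv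
    exact ((Commute.zpow_left (show Commute g t from hgt) i)).eq
  -- `v` normalises `Q`
  have hvQ : ∀ y ∈ Q, v * y * v⁻¹ ∈ Q := fun y hy => (mem_normalizer_iff.1 hvN y).1 hy
  have hmod := Cfsg.Agent.Helper9.card_modEq_card_inf_centralizer Q v hvQ p j hvpow
  -- `t` lies in the fixed points
  have htC : t ∈ Q ⊓ centralizer ({v} : Set G) := by
    refine ⟨ht, mem_centralizer_iff.2 ?_⟩
    intro y hy
    rw [Set.mem_singleton_iff.1 hy]
    exact hvt
  set C : Subgroup G := Q ⊓ centralizer ({v} : Set G) with hC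
  have hCle : C ≤ Q := inf_le_left
  have hCcard : Nat.card C = p + 1 := by
    have hQc : Nat.card Q = p + 1 := by rw [h.card_Q, h.p_eq]
    have hle : Nat.card C ≤ p + 1 := by
      rw [← hQc]; exact Subgroup.card_le_of_le hCle
    have hne1 : Nat.card C ≠ 1 := by
      intro h1
      have hb : C = ⊥ := Subgroup.card_eq_one.1 h1
      rw [hb] at htC
      exact ht1 (mem_bot.1 htC)
    have hpos : 0 < Nat.card C := Nat.card_pos
    rw [hQc] at hmod
    have hm : Nat.card C % p = 1 := by
      have := hmod.symm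
      unfold Nat.ModEq at this
      rw [this, Nat.add_mod_left, Nat.mod_eq_of_lt (by omega)]
    have hdm := Nat.div_add_mod (Nat.card C) p
    rw [hm] at hdm
    generalize Nat.card C / p = m at hdm
    rcases m with _ | _ | m
    · simp at hdm
      omega
    · omega
    · have h2 : p * 2 ≤ p * (m + 1 + 1) := Nat.mul_le_mul_left p (by omega)
      omega
  have hCQ : C = Q := by
    apply Subgroup.eq_of_le_of_card_ge hCle
    rw [hCcard, h.card_Q, h.p_eq]
  -- conclusion
  rw [mem_centralizer_iff]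
  intro s hs
  have hsC : s ∈ C := by rw [hCQ]; exact hs
  have hvs : v * s = s * v := by
    have := mem_centralizer_iff.1 hsC.2 v (Set.mem_singleton v)
    exact this
  have hus : u * s = s * u := hQab u huQ s hs
  rw [hguv]
  calc s * (u * v) = (s * u) * v := by group
    _ = (u * s) * v := by rw [hus]
    _ = u * (s * v) := by group
    _ = u * (v * s) := by rw [hvs]
    _ = u * v * s := by group

end Cfsg.Agent.Helper33.S4017F
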