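import Mathlib
import Cfsg.Agent.Lib.Helper17.S4017Defs
import Cfsg.Agent.Lib.Helper17.S4017FDefs

/-!
# S4017F (QUOT) (helper17 server, S4017): the hypotheses pass to the quotient by a normal `p`-subgroup
-/

set_option autoImplicit false

namespace Cfsg.Agent.Helper33.S4017F

open Subgroup Cfsg.Agent.Helper17.S4017

universe u

variable {G : Type u} [Group G] [Finite G] {p q : ℕ}

/-- the order of the preimage of a subgroup of the quotient -/
theorem quot_card_comap (N : Subgroup G) [N.Normal] (K' : Subgroup (G ⧸ N)) :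
    Nat.card (K'.comap (QuotientGroup.mk' N)) = Nat.card K' * Nat.card N := by
  have hsurj : Function.Surjective (QuotientGroup.mk' N) := QuotientGroup.mk'_surjective N
  have hidx : (K'.comap (QuotientGroup.mk' N)).index = K'.index :=
    Subgroup.index_comap_of_surjective K' hsurj
  have h1 := (K'.comap (QuotientGroup.mk' N)).card_mul_index
  have h2 := K'.card_mul_index
  have h3 : Nat.card G = Nat.card (G ⧸ N) * Nat.card N := by
    rw [mul_comm]; exact Subgroup.card_eq_card_quotient_mul_card_subgroup N ▸ (mul_comm _ _)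
  have hpos : 0 < K'.index := Nat.pos_of_ne_zero (Subgroup.index_ne_zero_of_finite)
  rw [hidx] at h1
  have : Nat.card (K'.comap (QuotientGroup.mk' N)) * K'.index =
      Nat.card K' * Nat.card N * K'.index := by
    rw [h1, h3, ← h2]; ring
  exact Nat.eq_of_mul_eq_mul_right hpos this

theorem hyp_quotient (h : Hyp p q G) (hstar : Star p q G) (N : Subgroup G) [N.Normal]
    (hN : IsPGroup p N) (hpN : p ∣ Nat.card (G ⧸ N)) : Hyp p q (G ⧸ N) := by
  have hp := h.hp
  have hq := h.hq
  have : Fact p.Prime := ⟨hp⟩
  obtain ⟨k, hk⟩ := hN.exists_card_eq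
  have hcard : Nat.card G = Nat.card (G ⧸ N) * p ^ k := by
    rw [← hk, mul_comm]
    exact Subgroup.card_eq_card_quotient_mul_card_subgroup N ▸ (mul_comm _ _)
  have hcop : Nat.Coprime q (p ^ k) :=
    Nat.Coprime.pow_right k ((Nat.coprime_primes hq hp).2 (Ne.symm h.hpq))
  have hqQ : q ∣ Nat.card (G ⧸ N) := by
    have := h.hqG
    rw [hcard] at this
    exact hcop.dvd_of_dvd_mul_right this
  have hfac : (Nat.card (G ⧸ N)).factorization q = (Nat.card G).factorization q := by
    rw [hcard, Nat.factorization_mul (Nat.card_pos.ne') (pow_ne_zero k hp.ne_zero),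
      Finsupp.add_apply, Nat.factorization_pow, Finsupp.smul_apply,
      Nat.factorization_eq_zero_of_not_dvd (fun hd => h.hpq ((Nat.prime_dvd_prime_iff_eq hq hp).1 hd).symm)]
    simp
  have hsurj : Function.Surjective (QuotientGroup.mk' N) := QuotientGroup.mk'_surjective N
  refine ⟨hp, hq, h.hpq, h.hp2, hpN, hqQ, ?_, ?_⟩
  · intro K' hK' hnq hqK'
    set H : Subgroup G := K'.comap (QuotientGroup.mk' N) with hH
    have hHcard : Nat.card H = Nat.card K' * Nat.card N := quot_card_comap N K'
    have hHtop : H ≠ ⊤ := by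
      intro htop
      apply hK'
      have := Subgroup.map_comap_eq_self_of_surjective hsurj K'
      rw [← this, ← hH, htop, ← MonoidHom.range_eq_map, MonoidHom.range_eq_top]
      exact hsurj
    have hqH : q ∣ Nat.card H := by rw [hHcard]; exact Dvd.dvd.mul_right hqK' _
    -- some prime other than `q` divides `|K'|`
    have hex : ∃ s : ℕ, s.Prime ∧ s ∣ Nat.card K' ∧ s ≠ q := by
      by_contra hcon
      push_neg at hcon
      apply hnq
      have := Nat.eq_prime_pow_of_unique_prime_dvd (n := Nat.card K') (p := q) (Nat.card_pos.ne')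
        (fun {d} hd hdd => hcon d hd hdd)
      exact IsPGroup.of_card this
    obtain ⟨s, hs, hsK, hsq⟩ := hex
    have hsH : s ∣ Nat.card H := by rw [hHcard]; exact Dvd.dvd.mul_right hsK _
    rcases hstar H hHtop hqH s hs hsH with h1 | h1
    · rw [← h1]; exact hsK
    · exact absurd h1 hsq
  · rw [hfac]
    rcases h.hlarge with h1 | ⟨h1, h2⟩
    · exact Or.inl h1
    · right
      refine ⟨h1, ?_⟩
      intro P' hP' g' hg' h' hh'
      set H : Subgroup G := P'.comap (QuotientGroup.mk' N) with hH
      have hHcard : Nat.card H = Nat.card P' * Nat.card N := quot_card_comap N P'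
      obtain ⟨j, hj⟩ := hP'.exists_card_eq
      have hHp : IsPGroup p H := IsPGroup.of_card (n := j + k) (by rw [hHcard, hj, hk, pow_add])
      obtain ⟨g, rfl⟩ := hsurj g'
      obtain ⟨x, rfl⟩ := hsurj h'
      have hgH : g ∈ H := hg'
      have hxH : x ∈ H := hh'
      have := h2 H hHp g hgH x hxH
      rw [← map_mul, ← map_mul, this]

end Cfsg.Agent.Helper33.S4017F
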