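import Cfsg.Agent.Lib.Helper64.S4017Defs

/-!
# S4017M (B1a) (helper64 server, S4017): in case `P₁ ≠ 1`, the `p`-elements of `C(t)` centralise `Q`
-/

set_option autoImplicit false

namespace Cfsg.Agent.Helper33.S4017M

open Cfsg.Agent.Helper64.S4017

variable {G : Type*} [Group G] [Finite G] {a p : ℕ} {Q : Subgroup G} {x : G}

/-- `p ≥ 3` in a setting -/
theorem b1_three_le (h : Setting a p Q x) : 3 ≤ p := by
  have h1 : 2 ^ 2 ≤ 2 ^ a := Nat.pow_le_pow_right (by norm_num) h.two_le
  have := h.p_eq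
  omega

/-- `Q` contains a nontrivial element -/
theorem b1_exists_ne_one (h : Setting a p Q x) : ∃ t ∈ Q, t ≠ 1 := by
  by_contra hcon
  push_neg at hcon
  have hb : Q = ⊥ := by
    rw [eq_bot_iff]
    intro t ht
    exact Subgroup.mem_bot.2 (hcon t ht)
  have := h.card_Q
  rw [hb, Subgroup.card_bot] at this
  have h1 : 2 ^ 2 ≤ 2 ^ a := Nat.pow_le_pow_right (by norm_num) h.two_le
  omega

/-- a `p`-element of order dividing two is trivial -/
theorem b1_eq_one_of_sq (h : Setting a p Q x) {z : G} (hz : IsPel p z) (hzz : z * z = 1) :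
    z = 1 := by
  obtain ⟨j, hj⟩ := hz
  have hd : orderOf z ∣ 2 := orderOf_dvd_of_pow_eq_one (by rw [pow_two]; exact hzz)
  rw [hj] at hd
  have hp3 := b1_three_le h
  rcases Nat.eq_zero_or_pos j with h0 | h0
  · rw [h0, pow_zero] at hj
    exact orderOf_eq_one_iff.1 hj
  · exfalso
    have h1 : p ∣ p ^ j := dvd_pow_self p (by omega)
    have h2 : p ∣ 2 := h1.trans hd
    have := Nat.le_of_dvd (by norm_num) h2
    omega

/-- centralisers of nontrivial elements are proper -/
theorem b1_centralizer_ne_top (h : Setting a p Q x) {c : G} (hc : c ≠ 1) :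
    Subgroup.centralizer {c} ≠ ⊤ := by
  intro htop
  have hsimple := h.simple
  have hcz : c ∈ Subgroup.center G := by
    rw [Subgroup.mem_center_iff]
    intro g
    have hg : g ∈ Subgroup.centralizer ({c} : Set G) := by rw [htop]; exact Subgroup.mem_top g
    exact ((Subgroup.mem_centralizer_iff.1 hg) c (Set.mem_singleton c)).symm
  have hcen : Subgroup.center G = ⊤ := by
    rcases (inferInstance : (Subgroup.center G).Normal).eq_bot_or_eq_top with hb | hb
    · exfalso
      rw [hb] at hcz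
      exact hc (Subgroup.mem_bot.1 hcz)
    · exact hb
  obtain ⟨t, ht, ht1⟩ := b1_exists_ne_one h
  have hn : (Subgroup.zpowers t).Normal := by
    constructor
    intro n hn g
    have hg : g ∈ Subgroup.center G := by rw [hcen]; exact Subgroup.mem_top g
    have := Subgroup.mem_center_iff.1 hg n
    have e : g * n * g⁻¹ = n := by rw [← this]; group
    rw [e]; exact hn
  rcases hn.eq_bot_or_eq_top with hb | hb
  · exact ht1 (Subgroup.zpowers_eq_bot.1 hb)
  · have hcard : Nat.card G = orderOf t := by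
      rw [← Nat.card_zpowers, hb, Subgroup.card_top]
    have ho : orderOf t ∣ 2 := orderOf_dvd_of_pow_eq_one (by rw [pow_two]; exact h.elem t ht)
    have hle : Nat.card Q ≤ Nat.card G := Subgroup.card_le_card_group Q
    rw [h.card_Q, hcard] at hle
    have h1 : 2 ^ 2 ≤ 2 ^ a := Nat.pow_le_pow_right (by norm_num) h.two_le
    have := Nat.le_of_dvd (by norm_num) ho
    omega

/-- for `c ∈ P₁ \ {1}`: `C(c) ≤ N(Q)` -/
theorem b1_core (h : Setting a p Q x) (T : Tools a p Q x) {c : G} (hc1 : c ≠ 1)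
    (hc : IsPel p c) (hcQ : ∀ s ∈ Q, c * s = s * c) {g : G} (hg : g * c = c * g) :
    ∀ s ∈ Q, g * s * g⁻¹ ∈ Q := by
  have hne := b1_centralizer_ne_top h hc1
  have hQle : Q ≤ Subgroup.centralizer ({c} : Set G) := by
    intro s hs
    rw [Subgroup.mem_centralizer_iff]
    intro y hy
    rw [Set.mem_singleton_iff.1 hy]
    exact hcQ s hs
  have hx : x ∈ Subgroup.centralizer ({c} : Set G) := by
    rw [Subgroup.mem_centralizer_iff]
    intro y hy
    rw [Set.mem_singleton_iff.1 hy]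
    exact T.m3 c hc hcQ
  have hgC : g ∈ Subgroup.centralizer ({c} : Set G) := by
    rw [Subgroup.mem_centralizer_iff]
    intro y hy
    rw [Set.mem_singleton_iff.1 hy]
    exact hg.symm
  exact T.lemmaH _ hne hQle hx g hgC

/-- (B1a) `c ∈ P₁ \ {1}`: `C(c)` is proper, contains `Q`, `x` (M3), so `C(c) ≤ N(Q)` (Lemma H);
`z, c ∈ Z_t` abelian, so `z ∈ C(c) ≤ N(Q)`, and (M2). -/
theorem comm_of_p1ne (h : Setting a p Q x) (T : Tools a p Q x) (hP1 : P1ne p Q) {t : G}
    (ht : t ∈ Q) (ht1 : t ≠ 1) {z : G} (hz : IsPel p z) (hzt : z * t = t * z) :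
    ∀ s ∈ Q, z * s = s * z := by
  obtain ⟨c, hc1, hc, hcQ⟩ := hP1
  obtain ⟨Z, hZ, hZab⟩ := T.ct t ht ht1
  have hcZ : c ∈ Z := (hZ c).2 ⟨hcQ t ht, hc⟩
  have hzZ : z ∈ Z := (hZ z).2 ⟨hzt, hz⟩
  have hzc : z * c = c * z := hZab z hzZ c hcZ
  have hzN := b1_core h T hc1 hc hcQ hzc
  exact T.m2 t ht ht1 z hzN hzt

end Cfsg.Agent.Helper33.S4017M
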