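import Cfsg.Agent.Lib.Helper64.S4017Defs
import Cfsg.Agent.Lib.Helper33.S4017B1a

/-!
# S4017M (B1b) (helper64 server, S4017): in case `P₁ ≠ 1`, `C(t)` has `Q` as its set of involutions
-/

set_option autoImplicit false

namespace Cfsg.Agent.Helper33.S4017M

open Cfsg.Agent.Helper64.S4017

variable {G : Type*} [Group G] [Finite G] {a p : ℕ} {Q : Subgroup G} {x : G}

/-- (B1b) -/
theorem twoClosed_of_p1ne (h : Setting a p Q x) (T : Tools a p Q x) (hP1 : P1ne p Q) {t : G}
    (ht : t ∈ Q) (ht1 : t ≠ 1) {u : G} (hu : IsInv u) (hut : u * t = t * u) : u ∈ Q := by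
  obtain ⟨z, s, hz, hzt, hs, rfl⟩ := T.ct1 t ht ht1 u hut
  have hzs : z * s = s * z := comm_of_p1ne h T hP1 ht ht1 hz hzt s hs
  have hss : s * s = 1 := h.elem s hs
  have hzz : z * z = 1 := by
    have h1 : z * s * (z * s) = 1 := hu.2
    calc z * z = z * z * (s * s) := by rw [hss, mul_one]
      _ = z * (z * s) * s := by group
      _ = z * (s * z) * s := by rw [hzs]
      _ = z * s * (z * s) := by group
      _ = 1 := h1
  have hz1 : z = 1 := b1_eq_one_of_sq h hz hzz
  rw [hz1, one_mul]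
  exact hs

end Cfsg.Agent.Helper33.S4017M
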