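import Cfsg.Agent.Lib.Helper64.S4017Defs
import Cfsg.Agent.Lib.Helper33.S4017B1a
import Cfsg.Agent.Lib.Helper33.S4017B1b

/-!
# S4017M (B1c), (B1d) (helper64 server, S4017): core versions, with (S1) `exists_setting` and
(P1C) `p1ne_of_p1ne` as explicit hypotheses
-/

set_option autoImplicit false

namespace Cfsg.Agent.Helper33.S4017M

open Cfsg.Agent.Helper64.S4017

variable {G : Type*} [Group G] [Finite G] {a p : ℕ} {Q : Subgroup G} {x : G}

/-- an element of square one is a `2`-element -/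
theorem b1_two_el {g : G} (hgg : g * g = 1) : ∃ j : ℕ, orderOf g = 2 ^ j := by
  have hd : orderOf g ∣ 2 := orderOf_dvd_of_pow_eq_one (by rw [pow_two]; exact hgg)
  rcases (Nat.dvd_prime Nat.prime_two).1 hd with h1 | h1
  · exact ⟨0, by rw [h1, pow_zero]⟩
  · exact ⟨1, by rw [h1, pow_one]⟩

/-- if `u` inverts `y` and `q` commutes with `y` then `u q u⁻¹` commutes with `y` -/
theorem b1_conj_comm {u y q : G} (huy : u * y * u⁻¹ = y⁻¹) (hq : y * q = q * y) :
    (u * q * u⁻¹) * y = y * (u * q * u⁻¹) := by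
  have e1 : (u * q * u⁻¹) * y⁻¹ = y⁻¹ * (u * q * u⁻¹) := by
    rw [← huy]
    calc u * q * u⁻¹ * (u * y * u⁻¹) = u * (q * y) * u⁻¹ := by group
      _ = u * (y * q) * u⁻¹ := by rw [hq]
      _ = u * y * u⁻¹ * (u * q * u⁻¹) := by group
  have hc : Commute (u * q * u⁻¹) y⁻¹ := e1
  exact (Commute.inv_right_iff.1 hc).eq

/-- a `p`-element of order dividing four is trivial -/
theorem b1_eq_one_of_pow_four (h : Setting a p Q x) {z : G} (hz : IsPel p z)
    (hzz : (z * z) * (z * z) = 1) : z = 1 := by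
  obtain ⟨j, hj⟩ := hz
  have hd : orderOf z ∣ 4 := orderOf_dvd_of_pow_eq_one (by
    rw [show (4 : ℕ) = 2 + 2 from rfl, pow_add, pow_two]; exact hzz)
  rw [hj] at hd
  have hp3 := b1_three_le h
  rcases Nat.eq_zero_or_pos j with h0 | h0
  · rw [h0, pow_zero] at hj
    exact orderOf_eq_one_iff.1 hj
  · exfalso
    have h1 : p ∣ p ^ j := dvd_pow_self p (by omega)
    have h2 : p ∣ 2 ^ 2 := h1.trans hd
    have h3 : p ∣ 2 := h.prime.dvd_of_dvd_pow h2
    have := Nat.le_of_dvd (by norm_num) h3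
    omega

/-- (B1c), core version -/
theorem B1_claim1_core
    (hall : ∀ (Q' : Subgroup G) (x' : G), Setting a p Q' x' → Tools a p Q' x')
    (hS1 : ∀ u : G, IsInv u → ∃ (Q' : Subgroup G) (x' : G), Setting a p Q' x' ∧ u ∈ Q')
    (hP1all : ∀ (Q' : Subgroup G) (x' : G), Setting a p Q' x' → P1ne p Q')
    {u y s : G} (hu : IsInv u) (hy : IsPel p y)
    (hy1 : y ≠ 1) (huy : u * y * u⁻¹ = y⁻¹) (hs : IsInv s) (hsy : s * y = y * s) : False := by
  obtain ⟨Q', x', h', hsQ'⟩ := hS1 s hs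
  have T' := hall Q' x' h'
  have hP1' := hP1all Q' x' h'
  have hyQ' : ∀ q ∈ Q', y * q = q * y := comm_of_p1ne h' T' hP1' hsQ' hs.1 hy hsy.symm
  have hcore : ∀ g : G, g * y = y * g → ∀ q ∈ Q', g * q * g⁻¹ ∈ Q' :=
    fun g hg => b1_core h' T' hy1 hy hyQ' hg
  have huN : ∀ q ∈ Q', u * q * u⁻¹ ∈ Q' := by
    intro q hq
    apply T'.n2 (u * q * u⁻¹) (hcore _ (b1_conj_comm huy (hyQ' q hq)))
    apply b1_two_el
    calc u * q * u⁻¹ * (u * q * u⁻¹) = u * (q * q) * u⁻¹ := by group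
      _ = 1 := by rw [h'.elem q hq]; group
  have huQ' : u ∈ Q' := T'.n2 u huN (b1_two_el hu.2)
  have hyu : y * u = u * y := hyQ' u huQ'
  have e : u * y * u⁻¹ = y := by rw [← hyu]; group
  rw [e] at huy
  have hyy : y * y = 1 := by
    calc y * y = y * y⁻¹ := by rw [← huy]
      _ = 1 := mul_inv_cancel y
  exact hy1 (b1_eq_one_of_sq h' hy hyy)

/-- (B1d), core version -/
theorem B1_inverts_core
    (hall : ∀ (Q' : Subgroup G) (x' : G), Setting a p Q' x' → Tools a p Q' x')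
    (hS1 : ∀ u : G, IsInv u → ∃ (Q' : Subgroup G) (x' : G), Setting a p Q' x' ∧ u ∈ Q')
    (hP1all : ∀ (Q' : Subgroup G) (x' : G), Setting a p Q' x' → P1ne p Q')
    (h : Setting a p Q x) {u y : G} (hu : IsInv u) (hy : IsPel p y) (hy1 : y ≠ 1)
    (huy : u * y * u⁻¹ = y⁻¹) (P : Sylow p G) (hP : (P : Subgroup G) = Subgroup.centralizer {y}) :
    ∀ z ∈ P, u * z * u⁻¹ = z⁻¹ := by
  intro z hz
  have hmemP : ∀ g : G, g ∈ (P : Subgroup G) ↔ y * g = g * y := by
    intro g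
    rw [hP, Subgroup.mem_centralizer_iff]
    constructor
    · intro hg; exact hg y (Set.mem_singleton y)
    · intro hg w hw; rw [Set.mem_singleton_iff.1 hw]; exact hg
  have hPab := h.abel P
  have hzy : y * z = z * y := (hmemP z).1 hz
  have huz : u * z * u⁻¹ ∈ (P : Subgroup G) := (hmemP _).2 (b1_conj_comm huy hzy).symm
  have hyP : y ∈ (P : Subgroup G) := (hmemP y).2 rfl
  have huu : u * u = 1 := hu.2
  have huinv : u⁻¹ = u := inv_eq_of_mul_eq_one_right huu
  set w : G := z * (u * z * u⁻¹) with hw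
  have hwP : w ∈ (P : Subgroup G) := (P : Subgroup G).mul_mem hz huz
  have huw : u * w = w * u := by
    have e1 : u * w * u⁻¹ = (u * z * u⁻¹) * (u * (u * z * u⁻¹) * u⁻¹) := by rw [hw]; group
    have e2 : u * (u * z * u⁻¹) * u⁻¹ = z := by
      calc u * (u * z * u⁻¹) * u⁻¹ = (u * u) * z * (u⁻¹ * u⁻¹) := by group
        _ = z := by rw [huinv, huu, one_mul, mul_one]
    rw [e2, hPab _ huz _ hz] at e1
    calc u * w = (u * w * u⁻¹) * u := by group
      _ = w * u := by rw [e1]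
  have hwpel : IsPel p w := by
    obtain ⟨k, hk⟩ := P.2 ⟨w, hwP⟩
    have hk' : w ^ (p ^ k) = 1 := by
      have := congrArg Subtype.val hk
      simpa using this
    have hd : orderOf w ∣ p ^ k := orderOf_dvd_of_pow_eq_one hk'
    obtain ⟨j, -, hj⟩ := (Nat.dvd_prime_pow h.prime).1 hd
    exact ⟨j, hj⟩
  by_cases hw1 : w = 1
  · exact eq_inv_of_mul_eq_one_right hw1
  · exfalso
    obtain ⟨Q', x', h', huQ'⟩ := hS1 u hu
    have T' := hall Q' x' h'
    have hP1' := hP1all Q' x' h'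
    have hwQ' : ∀ q ∈ Q', w * q = q * w := comm_of_p1ne h' T' hP1' huQ' hu.1 hwpel huw.symm
    have hyw : y * w = w * y := hPab _ hyP _ hwP
    have hyN := b1_core h' T' hw1 hwpel hwQ' hyw
    have h1 : y * u * y⁻¹ ∈ Q' := hyN u huQ'
    have h2 : y * y ∈ Q' := by
      have e : y * y = (y * u * y⁻¹) * u⁻¹ := by
        have : u * y⁻¹ * u⁻¹ = y := by
          have e0 : u * y⁻¹ * u⁻¹ = (u * y * u⁻¹)⁻¹ := by group
          rw [e0, huy, inv_inv]
        calc y * y = y * (u * y⁻¹ * u⁻¹) := by rw [this]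
          _ = (y * u * y⁻¹) * u⁻¹ := by group
      rw [e]
      exact Q'.mul_mem h1 (Q'.inv_mem huQ')
    exact hy1 (b1_eq_one_of_pow_four h' hy (h'.elem _ h2))

end Cfsg.Agent.Helper33.S4017M
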