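import Cfsg.Agent.Lib.Helper64.S4017Defs
import Cfsg.Agent.Lib.Helper33.S4017B1cCore
import Cfsg.Agent.Lib.Helper22.S4017S1
import Cfsg.Agent.Lib.Helper60.S4017P1C

/-!
# S4017M (B1c) `B1_claim1` (helper64 server, S4017), verbatim

Wrapper of `B1_claim1_core` with (S1) `exists_setting` (helper22) and (P1C) `p1ne_of_p1ne`
(helper60) plugged in.
-/

set_option autoImplicit false

namespace Cfsg.Agent.Helper33.S4017M

open Cfsg.Agent.Helper64.S4017

variable {G : Type*} [Group G] [Finite G] {a p : ℕ} {Q : Subgroup G} {x : G}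

/-- (B1c) Claim 1. WLOG `s ∈ Q`. `y ∈ P₁` (B1a), `C(y) ≤ N(Q)` (Lemma H). For `q ∈ Q`,
`u q u⁻¹` centralises `u y u⁻¹ = y⁻¹`, so is a `2`-element of `N(Q)`, so in `Q` (N2).
Thus `u ∈ N(Q)`, `u ∈ Q` (N2), `u` centralises `y`: `y² = 1`. -/
theorem B1_claim1 (hall : ∀ (Q' : Subgroup G) (x' : G), Setting a p Q' x' → Tools a p Q' x')
    (h : Setting a p Q x) (hP1 : P1ne p Q) {u y s : G} (hu : IsInv u) (hy : IsPel p y)
    (hy1 : y ≠ 1) (huy : u * y * u⁻¹ = y⁻¹) (hs : IsInv s) (hsy : s * y = y * s) : False :=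
  B1_claim1_core hall
    (fun _ hu' => Cfsg.Agent.Helper22.S4017M.exists_setting h hu')
    (fun _ _ h' => Cfsg.Agent.Helper60.S4017M.Setting.p1ne_of_p1ne h h' hP1)
    hu hy hy1 huy hs hsy

end Cfsg.Agent.Helper33.S4017M
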