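import Cfsg.Agent.Lib.Helper64.S4017Defs
import Cfsg.Agent.Lib.Helper33.S4017B1cCore
import Cfsg.Agent.Lib.Helper22.S4017S1
import Cfsg.Agent.Lib.Helper60.S4017P1C

/-!
# S4017M (B1d) `B1_inverts` (helper64 server, S4017), verbatim

Wrapper of `B1_inverts_core` with (S1) `exists_setting` (helper22) and (P1C) `p1ne_of_p1ne`
(helper60) plugged in.
-/

set_option autoImplicit false

namespace Cfsg.Agent.Helper33.S4017M

open Cfsg.Agent.Helper64.S4017

variable {G : Type*} [Group G] [Finite G] {a p : ℕ} {Q : Subgroup G} {x : G}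

/-- (B1d) Claim 3. `w = z * (u z u⁻¹) ∈ P` is centralised by `u`; if `w ≠ 1`, WLOG `u ∈ Q`,
`w ∈ P₁`, `C(w) ≤ N(Q)`, `y ∈ P ≤ C(w)`, `y⁻² = [u, y] ∈ Q`, so `y = 1`. -/
theorem B1_inverts (hall : ∀ (Q' : Subgroup G) (x' : G), Setting a p Q' x' → Tools a p Q' x')
    (h : Setting a p Q x) (hP1 : P1ne p Q) {u y : G} (hu : IsInv u) (hy : IsPel p y) (hy1 : y ≠ 1)
    (huy : u * y * u⁻¹ = y⁻¹) (P : Sylow p G) (hP : (P : Subgroup G) = Subgroup.centralizer {y}) :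
    ∀ z ∈ P, u * z * u⁻¹ = z⁻¹ :=
  B1_inverts_core hall
    (fun _ hu' => Cfsg.Agent.Helper22.S4017M.exists_setting h hu')
    (fun _ _ h' => Cfsg.Agent.Helper60.S4017M.Setting.p1ne_of_p1ne h h' hP1)
    h hu hy hy1 huy P hP

end Cfsg.Agent.Helper33.S4017M
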