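import Mathlib

/-!
# JPC (B) (helper35 server, S4150): no sharply 2-transitive-like group of order `ℓ (ℓ + 1)` with
`6 ∣ ℓ + 1` and a self-normalizing subgroup of order `ℓ`.
-/

set_option autoImplicit false

namespace Cfsg.Agent.Helper33.JPC

open Equiv Equiv.Perm MulAction Subgroup

universe u

/-- in a group `P` of prime order acting by conjugation, an element commuting with a nontrivial
element of `P` centralizes `P` -/
theorem jpcb_comm_all {K : Type u} [Group K] (P : Subgroup K) {ℓ : ℕ}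
    (hℓ : ℓ.Prime) (hP : Nat.card P = ℓ) {z c : K} (hz : z ∈ P) (hz1 : z ≠ 1)
    (hzc : z * c = c * z) : ∀ y ∈ P, y * c = c * y := by
  have : Fact ℓ.Prime := ⟨hℓ⟩
  have htop : zpowers (⟨z, hz⟩ : P) = ⊤ :=
    zpowers_eq_top_of_prime_card hP (fun h => hz1 (congrArg Subtype.val h))
  intro y hy
  have hmem : (⟨y, hy⟩ : P) ∈ zpowers (⟨z, hz⟩ : P) := by rw [htop]; exact mem_top _
  obtain ⟨k, hk⟩ := mem_zpowers_iff.1 hmem
  have hk' : z ^ k = y := by
    have := congrArg Subtype.val hk
    simpa using this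
  rw [← hk']
  exact ((Commute.zpow_left (show Commute z c from hzc) k)).eq

/-- the conjugation map `P → K`, `x ↦ x c x⁻¹`, is injective when `c ∉ P` centralizes no nontrivial
element of `P` -/
theorem jpcb_conj_inj {K : Type u} [Group K] (P : Subgroup K) {ℓ : ℕ}
    (hℓ : ℓ.Prime) (hP : Nat.card P = ℓ) (hN : normalizer (P : Set K) ≤ P) {c : K}
    (hc : c ∉ P) {x y : K} (hx : x ∈ P) (hy : y ∈ P) (h : x * c * x⁻¹ = y * c * y⁻¹) : x = y := by
  by_contra hne
  have hz : y⁻¹ * x ∈ P := P.mul_mem (P.inv_mem hy) hx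
  have hz1 : y⁻¹ * x ≠ 1 := by
    intro h1
    apply hne
    have : x = y * (y⁻¹ * x) := by group
    rw [this, h1, mul_one]
  have hzc : (y⁻¹ * x) * c = c * (y⁻¹ * x) := by
    have e1 : (y⁻¹ * x) * c = y⁻¹ * (x * c * x⁻¹) * x := by group
    rw [e1, h]
    group
  have hall := jpcb_comm_all P hℓ hP hz hz1 hzc
  apply hc
  apply hN
  rw [mem_normalizer_iff]
  intro w
  constructor
  · intro hw
    have : c * w * c⁻¹ = w := by
      have := hall w hw
      calc c * w * c⁻¹ = (w * c) * c⁻¹ := by rw [this]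
        _ = w := by group
    rw [this]; exact hw
  · intro hw
    have h2 := hall _ hw
    have : w = c * w * c⁻¹ := by
      have e : c * w = (c * w * c⁻¹) * c := by group
      have e2 : c * w = c * (c * w * c⁻¹) := e.trans h2
      exact mul_left_cancel e2
    rw [this]; exact hw

theorem no_sharp_frobenius {K : Type u} [Group K] [Finite K] (P : Subgroup K) {ℓ : ℕ}
    (hℓ : ℓ.Prime) (hP : Nat.card P = ℓ) (hN : normalizer (P : Set K) ≤ P)
    (hK : Nat.card K = ℓ * (ℓ + 1)) (h2 : 2 ∣ ℓ + 1) (h3 : 3 ∣ ℓ + 1) : False := by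
  classical
  have : Fact ℓ.Prime := ⟨hℓ⟩
  have hℓpos : 0 < ℓ := hℓ.pos
  -- `P` is a Sylow subgroup
  have hidx : P.index = ℓ + 1 := by
    have h1 := P.card_mul_index
    rw [hP, hK] at h1
    exact Nat.eq_of_mul_eq_mul_left hℓpos h1
  have hpg : IsPGroup ℓ P := IsPGroup.of_card (n := 1) (by rw [hP, pow_one])
  have hnd : ¬ ℓ ∣ P.index := by
    rw [hidx]
    intro h
    have : ℓ ∣ 1 := (Nat.dvd_add_right (dvd_refl ℓ)).1 h
    exact hℓ.one_lt.ne' (Nat.dvd_one.1 this)
  set S : Sylow ℓ K := hpg.toSylow hnd with hS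
  have hSP : (S : Subgroup K) = P := IsPGroup.toSylow_coe hpg hnd
  -- `P` is abelian
  have hcycP : IsCyclic P := isCyclic_of_prime_card hP
  have hcomm : ∀ a ∈ P, ∀ b ∈ P, a * b = b * a := by
    intro a ha b hb
    have h : (⟨a, ha⟩ : P) * ⟨b, hb⟩ = ⟨b, hb⟩ * ⟨a, ha⟩ :=
      (IsCyclic.commGroup (α := P)).mul_comm _ _
    exact congrArg Subtype.val h
  have hNC : normalizer ((S : Subgroup K) : Set K) ≤ centralizer ((S : Subgroup K) : Set K) := by
    rw [hSP]
    intro g hg
    have hgP := hN hg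
    rw [mem_centralizer_iff]
    intro h hh
    exact hcomm h hh g hgP
  have hcompl := MonoidHom.ker_transferSylow_isComplement' S hNC
  set F : Subgroup K := (MonoidHom.transferSylow S hNC).ker with hF
  have hFn : F.Normal := MonoidHom.normal_ker _
  have hcardF : Nat.card F = ℓ + 1 := by
    have h1 := hcompl.card_mul_card
    rw [hSP, hP, hK] at h1
    have : Nat.card F * ℓ = (ℓ + 1) * ℓ := by rw [h1]; ring
    exact Nat.eq_of_mul_eq_mul_right hℓpos this
  have hdisj : ∀ c ∈ F, c ∈ P → c = 1 := by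
    intro c hcF hcP
    have hd := hcompl.disjoint
    rw [hSP] at hd
    have : c ∈ F ⊓ P := ⟨hcF, hcP⟩
    rw [disjoint_iff.1 hd] at this
    exact mem_bot.1 this
  -- elements of order 2 and 3 in `F`
  have : Fact (Nat.Prime 2) := ⟨Nat.prime_two⟩
  have : Fact (Nat.Prime 3) := ⟨Nat.prime_three⟩
  obtain ⟨a, ha⟩ := exists_prime_orderOf_dvd_card' (G := F) 2 (by rw [hcardF]; exact h2)
  obtain ⟨b, hb⟩ := exists_prime_orderOf_dvd_card' (G := F) 3 (by rw [hcardF]; exact h3)
  have ha' : orderOf (a : K) = 2 := by rw [Subgroup.orderOf_coe]; exact ha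
  have hb' : orderOf (b : K) = 3 := by rw [Subgroup.orderOf_coe]; exact hb
  have ha1 : (a : K) ≠ 1 := by
    intro h
    rw [h, orderOf_one] at ha'
    omega
  have hb1 : (b : K) ≠ 1 := by
    intro h
    rw [h, orderOf_one] at hb'
    omega
  have haP : (a : K) ∉ P := fun h => ha1 (hdisj _ a.2 h)
  have hbP : (b : K) ∉ P := fun h => hb1 (hdisj _ b.2 h)
  have hord : ∀ (x c : K), orderOf (x * c * x⁻¹) = orderOf c := by
    intro x c
    exact orderOf_injective (MulAut.conj x).toMonoidHom (MulAut.conj x).injective c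
  -- the injection
  let ψ : Option (P ⊕ P) → F := fun o =>
    match o with
    | none => 1
    | some (Sum.inl x) => ⟨(x : K) * a * (x : K)⁻¹, hFn.conj_mem _ a.2 _⟩
    | some (Sum.inr x) => ⟨(x : K) * b * (x : K)⁻¹, hFn.conj_mem _ b.2 _⟩
  have hψ : Function.Injective ψ := by
    intro o1 o2 h
    have h' : ((ψ o1 : F) : K) = ((ψ o2 : F) : K) := congrArg Subtype.val h
    rcases o1 with _ | x | x <;> rcases o2 with _ | y | y
    · rfl
    · exfalso
      have h1 : (1 : K) = (y : K) * a * (y : K)⁻¹ := h'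
      apply ha1
      have : (a : K) = (y : K)⁻¹ * ((y : K) * a * (y : K)⁻¹) * (y : K) := by group
      rw [this, ← h1]; group
    · exfalso
      have h1 : (1 : K) = (y : K) * b * (y : K)⁻¹ := h'
      apply hb1
      have : (b : K) = (y : K)⁻¹ * ((y : K) * b * (y : K)⁻¹) * (y : K) := by group
      rw [this, ← h1]; group
    · exfalso
      have h1 : (x : K) * a * (x : K)⁻¹ = 1 := h'
      apply ha1
      have : (a : K) = (x : K)⁻¹ * ((x : K) * a * (x : K)⁻¹) * (x : K) := by group
      rw [this, h1]; group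
    · have h1 : (x : K) * a * (x : K)⁻¹ = (y : K) * a * (y : K)⁻¹ := h'
      have := jpcb_conj_inj P hℓ hP hN haP x.2 y.2 h1
      rw [Subtype.ext this]
    · exfalso
      have h1 : (x : K) * a * (x : K)⁻¹ = (y : K) * b * (y : K)⁻¹ := h'
      have := congrArg orderOf h1
      rw [hord, hord, ha', hb'] at this
      omega
    · exfalso
      have h1 : (x : K) * b * (x : K)⁻¹ = 1 := h'
      apply hb1
      have : (b : K) = (x : K)⁻¹ * ((x : K) * b * (x : K)⁻¹) * (x : K) := by group
      rw [this, h1]; group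
    · exfalso
      have h1 : (x : K) * b * (x : K)⁻¹ = (y : K) * a * (y : K)⁻¹ := h'
      have := congrArg orderOf h1
      rw [hord, hord, ha', hb'] at this
      omega
    · have h1 : (x : K) * b * (x : K)⁻¹ = (y : K) * b * (y : K)⁻¹ := h'
      have := jpcb_conj_inj P hℓ hP hN hbP x.2 y.2 h1
      rw [Subtype.ext this]
  have hle := Nat.card_le_card_of_injective ψ hψ
  rw [Finite.card_option, Nat.card_sum, hP, hcardF] at hle
  omega

end Cfsg.Agent.Helper33.JPC
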