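import Mathlib
import Cfsg.Agent.Lib.Helper7.M11UDefs

/-!
M11U piece (G3) for helper7's lemma server (S0420): `Adj R2 (r • Ri)` does not depend on `r ∈ R \ 1`.
-/

set_option autoImplicit false

namespace Cfsg.Agent.Helper33.M11U

open Subgroup Cfsg.Agent.Helper7.M11U
open scoped Pointwise

variable {G : Type*} [Group G] [Finite G] {t : G} {R R2 R3 : Sylow 3 G}

theorem g3_mem_smul_iff (g : G) (P : Sylow 3 G) (x : G) :
    x ∈ ((g • P : Sylow 3 G) : Subgroup G) ↔ g⁻¹ * x * g ∈ (P : Subgroup G) := by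
  rw [Sylow.coe_subgroup_smul, Subgroup.mem_pointwise_smul_iff_inv_smul_mem, MulAut.smul_def,
    MulAut.conj_inv_apply]

theorem g3_inverts_smul {u : G} {P : Sylow 3 G} (g : G) (h : Inverts u (P : Subgroup G)) :
    Inverts (g * u * g⁻¹) ((g • P : Sylow 3 G) : Subgroup G) := by
  intro x hx
  rw [g3_mem_smul_iff] at hx
  have h1 := h _ hx
  have e : g * u * g⁻¹ * x * (g * u * g⁻¹)⁻¹ = g * (u * (g⁻¹ * x * g) * u⁻¹) * g⁻¹ := by group
  rw [e, h1]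
  group

theorem g3_adj_smul {X Y : Sylow 3 G} (g : G) (h : Adj X Y) : Adj (g • X) (g • Y) := by
  obtain ⟨hne, u, hu, hX, hY⟩ := h
  refine ⟨fun h => hne (smul_left_cancel g h), g * u * g⁻¹, ?_, g3_inverts_smul g hX,
    g3_inverts_smul g hY⟩
  have := MulEquiv.orderOf_eq (MulAut.conj g) u
  rw [MulAut.conj_apply] at this
  rw [this, hu]

theorem g3_adj_smul_iff {X Y : Sylow 3 G} (g : G) : Adj (g • X) (g • Y) ↔ Adj X Y := by
  refine ⟨fun h => ?_, g3_adj_smul g⟩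
  have := g3_adj_smul g⁻¹ h
  rwa [inv_smul_smul, inv_smul_smul] at this

/-- `O = N(R) ⊓ N(R2)` is transitive on `R \ 1` -/
theorem g3_trans (L : Loc G) (Cf : Conf t R R2 R3) (r r' : G) (hr : r ∈ (R : Subgroup G))
    (hr1 : r ≠ 1) (hr' : r' ∈ (R : Subgroup G)) (hr'1 : r' ≠ 1) :
    ∃ o : G, o ∈ normalizer ((R : Subgroup G) : Set G) ∧ o ∈ normalizer ((R2 : Subgroup G) : Set G) ∧
      o * r * o⁻¹ = r' := by
  classical
  let O : Subgroup G := normalizer ((R : Subgroup G) : Set G) ⊓ normalizer ((R2 : Subgroup G) : Set G)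
  have hcO : Nat.card O = 8 := Cf.cO
  let f : ↥O → {x : ↥(R : Subgroup G) // x ≠ 1} := fun o =>
    ⟨⟨o.1 * r * o.1⁻¹, (mem_normalizer_iff.1 o.2.1 r).1 hr⟩, by
      intro h
      have h1 : o.1 * r * o.1⁻¹ = 1 := congrArg Subtype.val h
      apply hr1
      have : r = o.1⁻¹ * (o.1 * r * o.1⁻¹) * o.1 := by group
      rw [this, h1]; group⟩
  have hf : Function.Injective f := by
    intro a b hab
    have h1 : a.1 * r * a.1⁻¹ = b.1 * r * b.1⁻¹ := congrArg (fun z => (z.1 : G)) hab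
    have hmem : b.1⁻¹ * a.1 ∈ O := O.mul_mem (O.inv_mem b.2) a.2
    have h2 : (b.1⁻¹ * a.1) * r * (b.1⁻¹ * a.1)⁻¹ = r := by
      have e : (b.1⁻¹ * a.1) * r * (b.1⁻¹ * a.1)⁻¹ = b.1⁻¹ * (a.1 * r * a.1⁻¹) * b.1 := by group
      rw [e, h1]; group
    have h3 := Cf.Oreg _ hmem.1 hmem.2 r hr hr1 h2
    apply Subtype.ext
    have : a.1 = b.1 * (b.1⁻¹ * a.1) := by group
    rw [this, h3, mul_one]
  have hcard : Nat.card {x : ↥(R : Subgroup G) // x ≠ 1} = 8 := by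
    haveI : Fintype ↥(R : Subgroup G) := Fintype.ofFinite _
    rw [Nat.card_eq_fintype_card, Fintype.card_subtype_compl, Fintype.card_subtype_eq,
      ← Nat.card_eq_fintype_card, L.card3 R]
  have hbij := hf.bijective_of_nat_card_le (by rw [hcard, hcO])
  obtain ⟨o, ho⟩ := hbij.2 ⟨⟨r', hr'⟩, fun h => hr'1 (congrArg Subtype.val h)⟩
  refine ⟨o.1, o.2.1, o.2.2, ?_⟩
  exact congrArg (fun z => (z.1 : G)) ho

theorem g3_transport (L : Loc G) (Cf : Conf t R R2 R3) (Ri : Sylow 3 G)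
    (hRi : ∀ o : G, o ∈ normalizer ((R : Subgroup G) : Set G) →
      o ∈ normalizer ((R2 : Subgroup G) : Set G) → o • Ri = Ri)
    (r r' : G) (hr : r ∈ (R : Subgroup G)) (hr1 : r ≠ 1) (hr' : r' ∈ (R : Subgroup G))
    (hr'1 : r' ≠ 1) (h : Adj R2 (r • Ri)) : Adj R2 (r' • Ri) := by
  obtain ⟨o, ho1, ho2, ho3⟩ := g3_trans L Cf r r' hr hr1 hr' hr'1
  have h1 := g3_adj_smul o h
  have h2 : o • R2 = R2 := Sylow.smul_eq_iff_mem_normalizer.2 ho2
  have h3 : o • (r • Ri) = r' • Ri := by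
    rw [smul_smul]
    have e : o * r = r' * o := by rw [← ho3]; group
    rw [e, ← smul_smul, hRi o ho1 ho2]
  rwa [h2, h3] at h1

theorem all_or_none (B : Base G) (L : Loc G) (T : Tri t R R2 R3) (Cf : Conf t R R2 R3) :
    ((∀ r ∈ (R : Subgroup G), r ≠ 1 → Adj R2 (r • R2)) ∨ (∀ r ∈ (R : Subgroup G), r ≠ 1 → ¬ Adj R2 (r • R2))) ∧
    ((∀ r ∈ (R : Subgroup G), r ≠ 1 → Adj R2 (r • R3)) ∨ (∀ r ∈ (R : Subgroup G), r ≠ 1 → ¬ Adj R2 (r • R3))) := by
  have key : ∀ Ri : Sylow 3 G, (∀ o : G, o ∈ normalizer ((R : Subgroup G) : Set G) →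
      o ∈ normalizer ((R2 : Subgroup G) : Set G) → o • Ri = Ri) →
      ((∀ r ∈ (R : Subgroup G), r ≠ 1 → Adj R2 (r • Ri)) ∨
        (∀ r ∈ (R : Subgroup G), r ≠ 1 → ¬ Adj R2 (r • Ri))) := by
    intro Ri hRi
    by_cases hex : ∃ r ∈ (R : Subgroup G), r ≠ 1 ∧ Adj R2 (r • Ri)
    · obtain ⟨r, hr, hr1, hadj⟩ := hex
      left
      intro r' hr' hr'1
      exact g3_transport L Cf Ri hRi r r' hr hr1 hr' hr'1 hadj
    · right
      intro r hr hr1 hadj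
      exact hex ⟨r, hr, hr1, hadj⟩
  refine ⟨key R2 ?_, key R3 ?_⟩
  · intro o _ ho2
    exact Sylow.smul_eq_iff_mem_normalizer.2 ho2
  · intro o ho1 ho2
    exact Sylow.smul_eq_iff_mem_normalizer.2 (Cf.Ot o ho1 ho2).2

end Cfsg.Agent.Helper33.M11U
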