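import Mathlib
import Cfsg.Agent.Lib.Helper69.FpfNorm

/-!
Pure group theory for B-G Lemma 12.11(c) / Theorem 12.12: two commuting elements `b`, `z`
normalizing an abelian `p`-group `A`, with `b ^ r`, `z ^ r` centralizing `A`, cannot all of
`z`, `b * z ^ j` act fixed-point-freely on `A ≠ 1` (`r ≠ p`).
-/

set_option autoImplicit false

namespace Cfsg.Agent.Helper33.BG1211

open Subgroup

/-- abstract version inside a group `N` with a normal abelian `p`-subgroup `A`. -/
theorem eq_bot_of_fpf_pair_normal {N : Type*} [Group N] (A : Subgroup N) [hAn : A.Normal]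
    (hAc : ∀ a ∈ A, ∀ a' ∈ A, a * a' = a' * a) {p r : ℕ} [hp : Fact p.Prime] (hr : r.Prime)
    (hpr : p ≠ r) (hA : IsPGroup p A) (b z : N) (hbz : b * z = z * b)
    (hb : ∀ a ∈ A, b ^ r * a = a * b ^ r) (hz : ∀ a ∈ A, z ^ r * a = a * z ^ r)
    (hfz : ∀ a ∈ A, z * a * z⁻¹ = a → a = 1)
    (hfb : ∀ j < r, ∀ a ∈ A, (b * z ^ j) * a * (b * z ^ j)⁻¹ = a → a = 1) : A = ⊥ := by
  classical
  let _ : CommGroup A :=
    { (inferInstance : Group A) with
      mul_comm := fun x y => Subtype.ext (hAc x x.2 y y.2) }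
  set α : MulAut A := MulAut.conjNormal b with hα
  set β : MulAut A := MulAut.conjNormal z with hβ
  have hc : Commute α β := by
    show α * β = β * α
    rw [hα, hβ, ← map_mul, ← map_mul, hbz]
  have one_of : ∀ g : N, (∀ a ∈ A, g * a = a * g) → (MulAut.conjNormal g : MulAut A) = 1 := by
    intro g hg
    ext a
    rw [MulAut.conjNormal_apply, MulAut.one_apply, hg a a.2, mul_inv_cancel_right]
  have hαr : α ^ r = 1 := by
    rw [hα, ← map_pow]; exact one_of _ hb
  have hβr : β ^ r = 1 := by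
    rw [hβ, ← map_pow]; exact one_of _ hz
  have h1 : ∀ a : A, β a = a → a ∈ (⊥ : Subgroup A) := by
    intro a ha
    have h2 : z * (a : N) * z⁻¹ = a := by
      have h4 : (((MulAut.conjNormal z : MulAut A) a : A) : N) = a := congrArg Subtype.val ha
      rw [MulAut.conjNormal_apply] at h4
      exact h4
    have := hfz a a.2 h2
    exact Subgroup.mem_bot.mpr (Subtype.ext this)
  have h2 : ∀ j < r, ∀ a : A, (α * β ^ j) a = a → a ∈ (⊥ : Subgroup A) := by
    intro j hj a ha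
    have h3 : (b * z ^ j) * (a : N) * (b * z ^ j)⁻¹ = a := by
      have e : α * β ^ j = (MulAut.conjNormal (b * z ^ j) : MulAut A) := by
        rw [hα, hβ, map_mul, map_pow]
      rw [e] at ha
      have h4 : (((MulAut.conjNormal (b * z ^ j) : MulAut A) a : A) : N) = a := congrArg Subtype.val ha
      rw [MulAut.conjNormal_apply] at h4
      exact h4
    have := hfb j hj a a.2 h3
    exact Subgroup.mem_bot.mpr (Subtype.ext this)
  have h3 : ∀ a ∈ (⊥ : Subgroup A), α a = a := by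
    intro a ha
    rw [Subgroup.mem_bot.mp ha, map_one]
  have key : ∀ a : A, a ^ r = 1 := fun a =>
    Subgroup.mem_bot.mp (Cfsg.Agent.Helper69.Ito.pow_mem_of_fpf r hr α β hc hαr hβr ⊥ h1 h2 h3 a)
  rw [Subgroup.eq_bot_iff_forall]
  intro a ha
  obtain ⟨k, hk⟩ := hA ⟨a, ha⟩
  have h4 : orderOf (⟨a, ha⟩ : A) ∣ p ^ k := orderOf_dvd_of_pow_eq_one hk
  have h5 : orderOf (⟨a, ha⟩ : A) ∣ r := orderOf_dvd_of_pow_eq_one (key ⟨a, ha⟩)
  have hcop : Nat.Coprime (p ^ k) r :=
    Nat.Coprime.pow_left k ((Nat.coprime_primes hp.out hr).mpr hpr)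
  have h6 : orderOf (⟨a, ha⟩ : A) = 1 := Nat.eq_one_of_dvd_coprimes hcop h4 h5
  have := orderOf_eq_one_iff.mp h6
  exact congrArg (fun x : A => (x : N)) this

/-- the same for a subgroup `A` of `G` and `b z ∈ N_G(A)`. -/
theorem eq_bot_of_fpf_pair {G : Type*} [Group G] (A : Subgroup G)
    (hAc : ∀ a ∈ A, ∀ a' ∈ A, a * a' = a' * a) {p r : ℕ} [hp : Fact p.Prime] (hr : r.Prime)
    (hpr : p ≠ r) (hA : IsPGroup p A) (b z : G) (hbN : b ∈ normalizer (A : Set G))
    (hzN : z ∈ normalizer (A : Set G)) (hbz : b * z = z * b)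
    (hb : ∀ a ∈ A, b ^ r * a = a * b ^ r) (hz : ∀ a ∈ A, z ^ r * a = a * z ^ r)
    (hfz : ∀ a ∈ A, z * a * z⁻¹ = a → a = 1)
    (hfb : ∀ j < r, ∀ a ∈ A, (b * z ^ j) * a * (b * z ^ j)⁻¹ = a → a = 1) : A = ⊥ := by
  set N : Subgroup G := normalizer (A : Set G) with hN
  have hAN : A ≤ N := le_normalizer
  haveI : (A.subgroupOf N).Normal := normal_in_normalizer
  have hA' : IsPGroup p (A.subgroupOf N) := by
    intro x
    obtain ⟨k, hk⟩ := hA ⟨(x : G), x.2⟩
    refine ⟨k, ?_⟩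
    have h1 : ((x : N) : G) ^ p ^ k = 1 := congrArg Subtype.val hk
    exact Subtype.ext (Subtype.ext (by simpa using h1))
  have key := eq_bot_of_fpf_pair_normal (A.subgroupOf N)
    (fun a ha a' ha' => Subtype.ext (hAc a ha a' ha')) hr hpr hA' ⟨b, hbN⟩ ⟨z, hzN⟩
    (Subtype.ext hbz)
    (fun a ha => Subtype.ext (by simpa using hb a ha))
    (fun a ha => Subtype.ext (by simpa using hz a ha))
    (fun a ha h => Subtype.ext (hfz a ha (by simpa using congrArg Subtype.val h)))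
    (fun j hj a ha h => Subtype.ext (hfb j hj a ha (by simpa using congrArg Subtype.val h)))
  rw [Subgroup.subgroupOf_eq_bot] at key
  rw [eq_bot_iff]
  intro a ha
  exact Subgroup.mem_bot.mpr (Subgroup.mem_bot.mp (key.le_bot ⟨ha, hAN ha⟩))

end Cfsg.Agent.Helper33.BG1211
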