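import Mathlib
import Cfsg.Agent.S1350
import Cfsg.Agent.S1414
import Cfsg.Agent.S1416
import Cfsg.Agent.S1417
import Cfsg.Agent.S1418
import Cfsg.Agent.S1420
import Cfsg.Agent.Lib.Helper33.Syl
import Cfsg.Agent.Lib.Helper33.Conj
import Cfsg.Agent.Lib.Helper33.BG125
import Cfsg.Agent.Lib.Helper33.BG1211a
import Cfsg.Agent.Lib.Helper34.BG10a
import Cfsg.Agent.Lib.Helper34.BG10b
import Cfsg.Agent.Lib.Helper29.BG12
import Cfsg.Agent.Lib.Helper29.BG12s
import Cfsg.Agent.Lib.Helper29.BG127c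
import Cfsg.Agent.Lib.Helper29.BG127f
import Cfsg.Agent.Lib.Helper38.BG128b
import Cfsg.Agent.Lib.Helper55.BGHall
import Cfsg.Agent.Lib.Helper17.BG123
import Cfsg.Agent.Lib.Helper76.EqOrd1
import Cfsg.Agent.Lib.Helper78.BG126
import Cfsg.Agent.Lib.Helper96.BGU2

/-!
B-G Lemma 12.11(c) with the finish needed for Theorem 12.12 (S1421, clause (2)):
a cyclic Sylow `r`-subgroup `Q` of `M` (`r ∉ σ(M)`, `r`-rank one) normalizing `A = E_{p²}`,
`p ∈ τ₂(M)` with abelian Sylow `p`-subgroups in `G`, such that `Ω₁(Q)` centralizes `A`,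
normalizes some subgroup of order `p` of `A`.
-/

set_option autoImplicit false
set_option linter.style.haveILetI false
set_option linter.unusedVariables false
open Pointwise

namespace Cfsg.Agent.Helper33.BG1211

open Subgroup Cfsg
open Cfsg.Agent.Helper33 (IsSylIn)

variable {G : Type*} [Group G] [Finite G]

omit [Finite G] in
theorem comm_of_isCyclic {Q : Subgroup G} (hQc : IsCyclic Q) :
    ∀ a ∈ Q, ∀ b ∈ Q, a * b = b * a := by
  intro a ha b hb
  haveI := hQc
  have h : IsMulCommutative Q := IsCyclic.isMulCommutative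
  have := h.is_comm.comm ⟨a, ha⟩ ⟨b, hb⟩
  exact congrArg Subtype.val this

/-- the normalizer of a finite cyclic subgroup normalizes each of its subgroups. -/
theorem normalizer_le_normalizer_of_isCyclic {Q R : Subgroup G} (hQc : IsCyclic Q) (hRQ : R ≤ Q) :
    normalizer (Q : Set G) ≤ normalizer (R : Set G) := by
  intro g hg
  haveI := hQc
  rw [Cfsg.Agent.Helper33.mem_normalizer_iff_smul_eq]
  have h1 : MulAut.conj g • R ≤ Q := by
    rw [← Cfsg.Agent.Helper33.smul_eq_of_mem_normalizer hg]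
    exact Cfsg.Agent.Helper33.conj_smul_le_conj_smul hRQ
  exact Cfsg.Agent.Helper76.EqOrd.eq_of_card_eq_of_le_isCyclic Q _ _ h1 hRQ
    (Cfsg.Agent.Helper33.card_conj_smul g R)

theorem card_le_of_pRankLE {p k : ℕ} {M B : Subgroup G} (h : PRankLE p k M) (hBM : B ≤ M)
    (hB : IsElementaryAbelian p B) : Nat.card B ≤ p ^ k := by
  by_contra hc
  exact Cfsg.Agent.Helper29.BG12.not_pRankLE_of_elemAb hBM hB (not_le.mp hc) h

omit [Finite G] in
theorem pRankLE_of_forall {p k : ℕ} {L : Subgroup G}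
    (h : ∀ B : Subgroup G, B ≤ L → IsElementaryAbelian p B → Nat.card B ≤ p ^ k) :
    PRankLE p k L := by
  intro B hBc hBe
  have h1 : Nat.card (B.map L.subtype) = Nat.card B :=
    Subgroup.card_map_of_injective L.subtype_injective
  rw [← h1]
  apply h _ (Subgroup.map_subtype_le B)
  refine ⟨⟨⟨?_⟩⟩, ?_⟩
  · rintro ⟨a, x, hx, rfl⟩ ⟨b, y, hy, rfl⟩
    have := hBc.is_comm.comm ⟨x, hx⟩ ⟨y, hy⟩
    have h2 : x * y = y * x := congrArg Subtype.val this
    apply Subtype.ext
    show L.subtype x * L.subtype y = L.subtype y * L.subtype x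
    rw [← map_mul, ← map_mul, h2]
  · rintro a ⟨x, hx, rfl⟩
    rw [← map_pow, hBe x hx, map_one]

omit [Finite G] in
theorem not_isCyclic_of_elemAb {p : ℕ} [hp : Fact p.Prime] {A : Subgroup G}
    (hA : IsElementaryAbelian p A) (hc : Nat.card A = p ^ 2) : ¬ IsCyclic A := by
  intro h
  haveI := h
  haveI : Finite A := Nat.finite_of_card_ne_zero (by rw [hc]; exact pow_ne_zero _ hp.out.ne_zero)
  obtain ⟨g, hg⟩ := IsCyclic.exists_generator (α := A)
  have h1 : orderOf g = Nat.card A := orderOf_eq_card_of_forall_mem_zpowers hg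
  have h2 : g ^ p = 1 := Subtype.ext (by simpa using hA.2 g g.2)
  have h3 : orderOf g ∣ p := orderOf_dvd_of_pow_eq_one h2
  rw [h1, hc] at h3
  have := Nat.le_of_dvd hp.out.pos h3
  have h4 : p < p ^ 2 := by
    calc p = p ^ 1 := (pow_one p).symm
      _ < p ^ 2 := Nat.pow_lt_pow_right hp.out.one_lt (by norm_num)
  omega


/-- odd order: primes dividing `|G|` are odd. -/
theorem ne_two_of_dvd (hG : IsMinSimpleOddOrder G) {q : ℕ} (h : q ∣ Nat.card G) : q ≠ 2 := by
  rintro rfl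
  have hodd := hG.1
  rw [Nat.odd_iff] at hodd
  omega

/-- B-G 12.11(c) + finish, general form: `Q` a cyclic Sylow `r`-subgroup of `M` (`r ∉ σ(M)`,
`r`-rank one) normalizing but not centralizing `A = E_{p²}` (`p ∈ τ₂(M)`, abelian Sylow `p` in `G`),
with `Ω₁(Q) = R₁` centralizing `A`; if every element of `N_G(A)` commuting with `Q` and not
centralizing `A` acts fixed-point-freely on `A`, we get a contradiction. -/
theorem kill_gen (hG : IsMinSimpleOddOrder G) (M : Subgroup G) (hM : IsCoatom M)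
    (p : ℕ) [hp : Fact p.Prime] (hpτ : p ∈ tau2 M) (A : Subgroup G)
    (hA : A ≤ M ∧ IsElementaryAbelian p A ∧ Nat.card A = p ^ 2)
    (hS : ∃ S : Sylow p G, IsMulCommutative (S : Subgroup G))
    (r : ℕ) [hr : Fact r.Prime] (hrσ : r ∉ sigma M) (hr1 : PRankLE r 1 M)
    (Q : Subgroup G) (hQs : IsSylIn r Q M) (hQc : IsCyclic Q)
    (hQA : Q ≤ normalizer (A : Set G))
    (R₁ : Subgroup G) (hR₁Q : R₁ ≤ Q) (hR₁ : Nat.card R₁ = r)
    (hR₁A : R₁ ≤ centralizer (A : Set G))
    (hQnc : ¬ Q ≤ centralizer (A : Set G))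
    (hkey : ∀ w ∈ normalizer (A : Set G), (∀ g ∈ Q, w * g = g * w) →
      w ∉ centralizer (A : Set G) → ∀ a ∈ A, w * a * w⁻¹ = a → a = 1) : False := by
  classical
  have hAM := hA.1
  have hAe := hA.2.1
  have hAcard := hA.2.2
  have hAp : IsPGroup p A := Cfsg.Agent.Helper34.BG.isElementaryAbelian_isPGroup hAe
  have hAcomm : ∀ a ∈ A, ∀ a' ∈ A, a * a' = a' * a := fun a ha a' ha' =>
    Cfsg.Agent.Helper34.BG.commute_of_isElementaryAbelian hAe ha ha'
  have hQr : IsPGroup r Q := hQs.isPGroup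
  have hQM : Q ≤ M := hQs.le
  have hQcomm := comm_of_isCyclic hQc
  have hpr : p ≠ r := by
    rintro rfl
    exact hpτ.2.2.2 hr1
  have hpG : p ∣ Nat.card G := by
    have h1 : p ∣ Nat.card A := by rw [hAcard]; exact dvd_pow_self p (by norm_num)
    exact dvd_trans h1 (Subgroup.card_subgroup_dvd_card A)
  have hrR : r ∣ Nat.card Q := by rw [← hR₁]; exact Subgroup.card_dvd_of_le hR₁Q
  have hrG : r ∣ Nat.card G := dvd_trans hrR (Subgroup.card_subgroup_dvd_card Q)
  have hr2 : r ≠ 2 := ne_two_of_dvd hG hrG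
  have hrM : r ∣ Nat.card M := dvd_trans hrR (Subgroup.card_dvd_of_le hQM)
  have h16 := (Cfsg.Agent.S1416.result hG M hM p A hA).1
  -- an abelian Sylow p-subgroup S' of G containing A, inside M
  obtain ⟨S, hSc⟩ := hS
  obtain ⟨S', hAS'⟩ := hAp.exists_le_sylow
  obtain ⟨g₀, hg₀⟩ := MulAction.exists_smul_eq G S S'
  have hS'eq : (S' : Subgroup G) = MulAut.conj g₀ • (S : Subgroup G) := by
    rw [← hg₀]; rfl
  have hS'comm : ∀ u ∈ (S' : Subgroup G), ∀ v ∈ (S' : Subgroup G), u * v = v * u := by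
    intro u hu v hv
    rw [hS'eq, Cfsg.Agent.Helper33.mem_conj_smul] at hu hv
    have := hSc.is_comm.comm ⟨_, hu⟩ ⟨_, hv⟩
    have h1 : (g₀⁻¹ * u * g₀) * (g₀⁻¹ * v * g₀) = (g₀⁻¹ * v * g₀) * (g₀⁻¹ * u * g₀) :=
      congrArg Subtype.val this
    have h2 : g₀⁻¹ * (u * v) * g₀ = g₀⁻¹ * (v * u) * g₀ := by
      calc g₀⁻¹ * (u * v) * g₀ = (g₀⁻¹ * u * g₀) * (g₀⁻¹ * v * g₀) := by group
        _ = (g₀⁻¹ * v * g₀) * (g₀⁻¹ * u * g₀) := h1
        _ = g₀⁻¹ * (v * u) * g₀ := by group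
    exact mul_left_cancel (mul_right_cancel h2)
  have hS'M : (S' : Subgroup G) ≤ M := by
    intro u hu
    apply h16
    rw [Subgroup.mem_centralizer_iff]
    intro a ha
    exact hS'comm a (hAS' ha) u hu
  have hS'syl : IsSylIn p (S' : Subgroup G) ⊤ := Cfsg.Agent.Helper33.isSylIn_top S'
  -- every p-subgroup of G is abelian, every elementary abelian p-subgroup has order ≤ p²
  have hpab : ∀ B : Subgroup G, IsPGroup p B → ∀ u ∈ B, ∀ v ∈ B, u * v = v * u := by
    intro B hB u hu v hv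
    obtain ⟨x, _, hx⟩ := hS'syl.exists_conj_le hB le_top
    have h1 := hS'comm _ (hx (Cfsg.Agent.Helper33.conj_mem_conj_smul hu)) _
      (hx (Cfsg.Agent.Helper33.conj_mem_conj_smul hv))
    have h2 : x * (u * v) * x⁻¹ = x * (v * u) * x⁻¹ := by
      calc x * (u * v) * x⁻¹ = (x * u * x⁻¹) * (x * v * x⁻¹) := by group
        _ = (x * v * x⁻¹) * (x * u * x⁻¹) := h1
        _ = x * (v * u) * x⁻¹ := by group
    exact mul_left_cancel (mul_right_cancel h2)
  have hprank : ∀ B : Subgroup G, IsElementaryAbelian p B → Nat.card B ≤ p ^ 2 := by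
    intro B hB
    obtain ⟨x, _, hx⟩ := hS'syl.exists_conj_le
      (Cfsg.Agent.Helper34.BG.isElementaryAbelian_isPGroup hB) le_top
    rw [← Cfsg.Agent.Helper33.card_conj_smul x B]
    exact card_le_of_pRankLE hpτ.2.2.1 (hx.trans hS'M)
      (Cfsg.Agent.Helper34.BG.isElementaryAbelian_conj hB x)
  -- the maximal subgroup L
  have hNR : normalizer (R₁ : Set G) ≠ ⊤ :=
    Cfsg.Agent.Helper29.BG127.normalizer_ne_top_of_card hG (k := 1) one_ne_zero
      (by rw [hR₁, pow_one])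
  obtain ⟨L, hL, hNL⟩ := Cfsg.Agent.Helper29.BG12.exists_coatom_ge hNR
  have hLM : L ≠ M := by
    rintro rfl
    exact hrσ (Cfsg.Agent.Helper34.BG.mem_sigma_of_isSylIn hQs hrM
      ((normalizer_le_normalizer_of_isCyclic hQc hR₁Q).trans hNL))
  have hCR : centralizer (R₁ : Set G) ≤ L := fun x hx => hNL (Subgroup.centralizer_le_normalizer _ hx)
  have hAL : A ≤ L := by
    intro a ha
    apply hCR
    rw [Subgroup.mem_centralizer_iff]
    intro x hx
    exact ((Subgroup.mem_centralizer_iff.mp (hR₁A hx)) a ha).symm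
  have hQL : Q ≤ L := by
    intro g hg
    apply hCR
    rw [Subgroup.mem_centralizer_iff]
    intro x hx
    exact hQcomm x (hR₁Q hx) g hg
  have hrL : r ∣ Nat.card L := dvd_trans hrR (Subgroup.card_dvd_of_le hQL)
  have hpL : p ∣ Nat.card L := by
    have h1 : p ∣ Nat.card A := by rw [hAcard]; exact dvd_pow_self p (by norm_num)
    exact dvd_trans h1 (Subgroup.card_dvd_of_le hAL)
  have h50 := Cfsg.Agent.S1350.result hG L hL
  have hp2L : PRankLE p 2 L := pRankLE_of_forall (fun B _ hB => hprank B hB)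
  have hp1L : ¬ PRankLE p 1 L :=
    Cfsg.Agent.Helper29.BG12.not_pRankLE_of_elemAb hAL hAe (by
      rw [hAcard]; exact Nat.pow_lt_pow_right hp.out.one_lt (by norm_num))
  have hR₁ne : R₁ ≠ ⊥ := by
    intro h
    rw [h, Subgroup.card_bot] at hR₁
    exact hr.out.one_lt.ne hR₁
  -- r ∉ σ(L)
  have hrσL : r ∉ sigma L := by
    intro hrσL
    have hQσ : Q ≤ sigmaCore L :=
      Cfsg.Agent.Helper29.BG12.le_sigmaCore_of_mem_sigma' hG r Q hQr L hL hQL hrσL
    by_cases hpσ : p ∈ sigma L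
    · -- normal p-complement of L_σ
      have hAσ : A ≤ sigmaCore L :=
        Cfsg.Agent.Helper29.BG12.le_sigmaCore_of_mem_sigma' hG p A hAp L hL hAL hpσ
      have hpβ : p ∉ beta L := fun h => h.1.2 hp2L
      obtain ⟨P, N, hNn, hNP⟩ := ((Cfsg.Agent.S1414.result hG L hL).2.2.2.2 p hp.out hpL hpβ).2.1
      haveI := hNn
      have hidx : N.index = p ^ (Nat.card (sigmaCore L)).factorization p := by
        rw [← P.card_eq_multiplicity]
        exact hNP.symm.index_eq_card
      have hQN : ∀ g ∈ Q, ∀ hg : g ∈ sigmaCore L, (⟨g, hg⟩ : sigmaCore L) ∈ N := by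
        intro g hg hgσ
        apply Cfsg.Agent.Helper29.BG127.mem_of_normal_of_index_pow N hidx
        obtain ⟨k, hk⟩ := hQr ⟨g, hg⟩
        have h1 : g ^ r ^ k = 1 := congrArg Subtype.val hk
        have h2 : (⟨g, hgσ⟩ : sigmaCore L) ^ r ^ k = 1 := Subtype.ext (by simpa using h1)
        have h3 : orderOf (⟨g, hgσ⟩ : sigmaCore L) ∣ r ^ k := orderOf_dvd_of_pow_eq_one h2
        exact Nat.Coprime.coprime_dvd_left h3
          (Nat.Coprime.pow_left k ((Nat.coprime_primes hr.out hp.out).mpr (Ne.symm hpr)))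
      have hNcop : (Nat.card N).Coprime p := by
        have h1 := hNP.card_mul_card
        rw [P.card_eq_multiplicity] at h1
        have hpos : 0 < p ^ (Nat.card (sigmaCore L)).factorization p := pow_pos hp.out.pos _
        have h2 : Nat.card N = Nat.card (sigmaCore L) / p ^ (Nat.card (sigmaCore L)).factorization p :=
          (Nat.div_eq_of_eq_mul_left hpos h1.symm).symm
        rw [h2]
        exact (Nat.coprime_ordCompl hp.out Nat.card_pos.ne').symm
      apply hQnc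
      intro g hg
      rw [Subgroup.mem_centralizer_iff]
      intro a ha
      -- c = a g a⁻¹ g⁻¹ ∈ N ∩ A
      have hgσ := hQσ hg
      have haσ := hAσ ha
      have hgN := hQN g hg hgσ
      have hcN : (⟨a, haσ⟩ : sigmaCore L) * ⟨g, hgσ⟩ * (⟨a, haσ⟩ : sigmaCore L)⁻¹ * (⟨g, hgσ⟩ : sigmaCore L)⁻¹ ∈ N :=
        N.mul_mem (hNn.conj_mem _ hgN _) (N.inv_mem hgN)
      have hcA : a * g * a⁻¹ * g⁻¹ ∈ A := by
        have h1 : g * a⁻¹ * g⁻¹ ∈ A := (Subgroup.mem_normalizer_iff.mp (hQA hg) a⁻¹).mp (A.inv_mem ha)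
        have h2 : a * (g * a⁻¹ * g⁻¹) ∈ A := A.mul_mem ha h1
        have h3 : a * (g * a⁻¹ * g⁻¹) = a * g * a⁻¹ * g⁻¹ := by group
        rwa [h3] at h2
      set c : sigmaCore L := (⟨a, haσ⟩ : sigmaCore L) * ⟨g, hgσ⟩ * (⟨a, haσ⟩ : sigmaCore L)⁻¹ * (⟨g, hgσ⟩ : sigmaCore L)⁻¹ with hc
      have hcval : (c : G) = a * g * a⁻¹ * g⁻¹ := by rw [hc]; rfl
      have hc1 : c = 1 := by
        obtain ⟨k, hk⟩ := hAp ⟨_, hcA⟩
        have h1 : (a * g * a⁻¹ * g⁻¹) ^ p ^ k = 1 := congrArg Subtype.val hk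
        have h2 : c ^ p ^ k = 1 := Subtype.ext (by rw [Subgroup.coe_pow, hcval, h1]; rfl)
        have h3 : orderOf c ∣ p ^ k := orderOf_dvd_of_pow_eq_one h2
        have h4 : orderOf (⟨c, hcN⟩ : N) ∣ Nat.card N := orderOf_dvd_natCard _
        have h5 : orderOf (⟨c, hcN⟩ : N) = orderOf c := Subgroup.orderOf_mk c hcN
        rw [h5] at h4
        have h6 : orderOf c = 1 :=
          Nat.eq_one_of_dvd_coprimes (Nat.Coprime.pow_right k hNcop) h4 h3
        exact orderOf_eq_one_iff.mp h6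
      have hc2 : a * g * a⁻¹ * g⁻¹ = 1 := by rw [← hcval, hc1]; rfl
      have h7 : a * g = g * a := by
        have := hc2
        calc a * g = (a * g * a⁻¹ * g⁻¹) * (g * a) := by group
          _ = g * a := by rw [this, one_mul]
      exact h7
    · have hpτL : p ∈ tau2 L := ⟨hp.out, hpσ, hp2L, hp1L⟩
      have h17 := Cfsg.Agent.S1417.result hG L hL p hpτL A ⟨hAL, hAe, hAcard⟩
      have h5 := h17.2.2.2.2.1 M hM (Ne.symm hLM) hAM
      apply hR₁ne
      rw [eq_bot_iff, ← h5]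
      exact le_inf (hR₁Q.trans hQσ) (hR₁Q.trans hQM)
  -- a Sylow r-subgroup QL of L over Q; it is noncyclic, so r ∈ τ₂(L)
  obtain ⟨QL, hQLs, hQQL⟩ := Cfsg.Agent.Helper33.exists_isSylIn_ge hQr hQL
  have hQLr : IsPGroup r QL := hQLs.isPGroup
  have hQLL : QL ≤ L := hQLs.le
  have hQLnc : ¬ IsCyclic QL := by
    intro hc
    exact hrσL (Cfsg.Agent.Helper34.BG.mem_sigma_of_isSylIn hQLs hrL
      ((normalizer_le_normalizer_of_isCyclic hc (hR₁Q.trans hQQL)).trans hNL))
  have hr2L : PRankLE r 2 L := by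
    by_contra h
    exact hrσL (Cfsg.Agent.Helper29.BG12.mem_sigma_of_not_pRankLE_two hG hL h hrL)
  obtain ⟨E', hE'QL, hE', hE'c⟩ :=
    Cfsg.Agent.Helper96.BGU.exists_elemAb_of_not_isCyclic hr2 QL hQLr hQLnc
  obtain ⟨B, hBE', hB, hBc⟩ := Cfsg.Agent.Helper34.BG.exists_elemAb_card_eq hE' hE'c
  have hBQL : B ≤ QL := hBE'.trans hE'QL
  have hBL : B ≤ L := hBQL.trans hQLL
  have hBc2 : Nat.card B = r ^ 2 := hBc
  have hBr : IsPGroup r B := Cfsg.Agent.Helper34.BG.isElementaryAbelian_isPGroup hB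
  have hr1L : ¬ PRankLE r 1 L :=
    Cfsg.Agent.Helper29.BG12.not_pRankLE_of_elemAb hBL hB (by
      rw [hBc2]; exact Nat.pow_lt_pow_right hr.out.one_lt (by norm_num))
  have hrτL : r ∈ tau2 L := ⟨hr.out, hrσL, hr2L, hr1L⟩
  have h17r := Cfsg.Agent.S1417.result hG L hL r hrτL B ⟨hBL, hB, hBc2⟩
  obtain ⟨EL, hEL⟩ := Cfsg.Agent.Helper55.BGB.exists_compl_sigmaCore h50.1
  have hrlt : ¬ r ^ 2 ≤ r ^ 1 := by
    have := Nat.pow_lt_pow_right hr.out.one_lt (show 1 < 2 by norm_num)
    omega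
  by_cases hpσ : p ∈ sigma L
  · ---------------- case p ∈ σ(L) ----------------
    have h20 := Cfsg.Agent.S1420.result hG L hL EL hEL
    have hNAL : normalizer (A : Set G) ≤ L :=
      h20.2.2.1 p A hpσ hAp hAL (not_isCyclic_of_elemAb hAe hAcard)
    have hnil := h17r.1
    obtain ⟨PL, hPLσ, hPLc, hPLn⟩ :=
      Cfsg.Agent.Helper17.BG123.exists_normal_sylow_sigmaCore hG hL h50.2.1 hnil hpσ hpG
    have hPLp : IsPGroup p PL := IsPGroup.of_card hPLc
    have hAPL : A ≤ PL := by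
      have h1 : A ≤ normalizer (PL : Set G) := by rw [hPLn]; exact hAL
      have h2 : IsPGroup p (A ⊔ PL : Subgroup G) := IsPGroup.to_sup_of_normal_right' hAp hPLp h1
      have h3 := Cfsg.Agent.Helper33.BG125.eq_of_le_of_card_sylow hPLc h2 le_sup_right
      rw [← h3]
      exact le_sup_left
    have hPLcomm := hpab PL hPLp
    have hmcp := Cfsg.Agent.Helper33.BG125.mem_of_centralizer_pow hG M hM p hpτ A hA
    have hLNA : L ≤ normalizer (A : Set G) := by
      apply Cfsg.Agent.Helper78.BG126.le_normalizer_of_conj_mem'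
      intro g hg a ha
      have hgn : g ∈ normalizer (PL : Set G) := by rw [hPLn]; exact hg
      have h1 : g * a * g⁻¹ ∈ PL := (Subgroup.mem_normalizer_iff.mp hgn a).mp (hAPL ha)
      have h2 : g * a * g⁻¹ ∈ centralizer (A : Set G) := by
        rw [Subgroup.mem_centralizer_iff]
        intro x hx
        exact hPLcomm x (hAPL hx) _ h1
      have h3 : (g * a * g⁻¹) ^ p = 1 := by
        rw [conj_pow, hAe.2 a ha, mul_one, mul_inv_cancel]
      exact (hmcp _ h2).mp h3
    have hQLA : QL ≤ normalizer (A : Set G) := hQLL.trans hLNA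
    have hQLcomm : ∀ u ∈ QL, ∀ v ∈ QL, u * v = v * u :=
      Cfsg.Agent.Helper38.BG128.sylIn_comm h17r hQLs
    have hQLM : QL ⊓ M = Q :=
      hQs.eq_of_le (hQLr.to_le inf_le_left) inf_le_right (le_inf hQQL hQM)
    have hCQ : ∀ w ∈ QL, w ∈ centralizer (A : Set G) → w ∈ Q := by
      intro w hw hwc
      rw [← hQLM]
      exact ⟨hw, h16 hwc⟩
    -- key: elements of QL not centralizing A act fixed-point-freely on A
    have key : ∀ w ∈ QL, w ∉ centralizer (A : Set G) → ∀ a ∈ A, w * a * w⁻¹ = a → a = 1 :=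
      fun w hw hwc => hkey w (hQLA hw) (fun g hg => hQLcomm w hw g (hQQL hg)) hwc
    -- b ∈ B \ Q
    obtain ⟨b, hbB, hbQ⟩ : ∃ b ∈ B, b ∉ Q := by
      by_contra h
      push_neg at h
      have hBQ : B ≤ Q := h
      haveI := hQc
      have hBcyc : IsCyclic B := by
        have : IsCyclic (B.subgroupOf Q) := inferInstance
        exact isCyclic_of_surjective (Subgroup.subgroupOfEquivOfLe hBQ).toMonoidHom
          (Subgroup.subgroupOfEquivOfLe hBQ).surjective
      exact not_isCyclic_of_elemAb hB hBc2 hBcyc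
    have hbQL : b ∈ QL := hBQL hbB
    have hbr : b ^ r = 1 := hB.2 b hbB
    -- z ∈ Q, z ∉ C(A), z ^ r ∈ C(A)
    obtain ⟨x, hxQ, hxc⟩ := SetLike.not_le_iff_exists.mp hQnc
    obtain ⟨n, hn⟩ := hQr ⟨x, hxQ⟩
    have hn' : x ^ r ^ n = 1 := congrArg Subtype.val hn
    have hex : ∃ k, x ^ r ^ k ∈ centralizer (A : Set G) := ⟨n, by rw [hn']; exact Subgroup.one_mem _⟩
    have hk0 : Nat.find hex ≠ 0 := by
      intro h0
      have := Nat.find_spec hex
      rw [h0, pow_zero, pow_one] at this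
      exact hxc this
    obtain ⟨k, hk⟩ := Nat.exists_eq_succ_of_ne_zero hk0
    set z : G := x ^ r ^ k with hz
    have hzQ : z ∈ Q := Q.pow_mem hxQ _
    have hzc : z ∉ centralizer (A : Set G) := Nat.find_min hex (by rw [hk]; exact Nat.lt_succ_self k)
    have hzr : z ^ r ∈ centralizer (A : Set G) := by
      have := Nat.find_spec hex
      rw [hk, pow_succ, pow_mul] at this
      exact this
    have hAbot : A = ⊥ := by
      apply eq_bot_of_fpf_pair A hAcomm hr.out hpr hAp b z (hQLA hbQL) (hQA hzQ)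
        (hQLcomm b hbQL z (hQQL hzQ))
      · intro a ha; rw [hbr, one_mul, mul_one]
      · intro a ha
        exact (Subgroup.mem_centralizer_iff.mp hzr a ha).symm
      · exact key z (hQQL hzQ) hzc
      · intro j hj
        apply key (b * z ^ j) (QL.mul_mem hbQL (QL.pow_mem (hQQL hzQ) j))
        intro hc
        have h1 := hCQ _ (QL.mul_mem hbQL (QL.pow_mem (hQQL hzQ) j)) hc
        apply hbQ
        have h2 : b = (b * z ^ j) * (z ^ j)⁻¹ := by group
        rw [h2]
        exact Q.mul_mem h1 (Q.inv_mem (Q.pow_mem hzQ j))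
    rw [hAbot, Subgroup.card_bot] at hAcard
    have h2 : 1 < p ^ 2 := Nat.one_lt_pow (by norm_num) hp.out.one_lt
    omega
  · ---------------- case p ∈ τ₂(L) ----------------
    have hpτL : p ∈ tau2 L := ⟨hp.out, hpσ, hp2L, hp1L⟩
    have hpK : ¬ p ∣ Nat.card (sigmaCore L) :=
      Cfsg.Agent.Helper29.BG12.not_dvd_card_sigmaCore hG hL hp.out hpσ
    have hrK : ¬ r ∣ Nat.card (sigmaCore L) :=
      Cfsg.Agent.Helper29.BG12.not_dvd_card_sigmaCore hG hL hr.out hrσL
    obtain ⟨m, hm, hAm⟩ := Cfsg.Agent.Helper29.BG127.exists_conj_le_compl hEL hpK hAL hAp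
    obtain ⟨m', hm', hBm'⟩ := Cfsg.Agent.Helper29.BG127.exists_conj_le_compl hEL hrK hBL hBr
    have hAm' : MulAut.conj m • A ≤ EL := hAm
    have hBm'' : MulAut.conj m' • B ≤ EL := hBm'
    have h18p := Cfsg.Agent.S1418.result hG L hL EL hEL p hpτL (MulAut.conj m • A)
      ⟨hAm', Cfsg.Agent.Helper34.BG.isElementaryAbelian_conj hAe m,
        by rw [Cfsg.Agent.Helper33.card_conj_smul]; exact hAcard⟩
    have h18r := Cfsg.Agent.S1418.result hG L hL EL hEL r hrτL (MulAut.conj m' • B)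
      ⟨hBm'', Cfsg.Agent.Helper34.BG.isElementaryAbelian_conj hB m',
        by rw [Cfsg.Agent.Helper33.card_conj_smul]; exact hBc2⟩
    have hnA := h18p.1.1
    have hnB := h18r.1.1
    have hdisj : (MulAut.conj m • A) ⊓ (MulAut.conj m' • B) = ⊥ := by
      apply Subgroup.inf_eq_bot_of_coprime
      rw [Cfsg.Agent.Helper33.card_conj_smul, Cfsg.Agent.Helper33.card_conj_smul, hAcard, hBc2]
      exact Nat.Coprime.pow 2 2 ((Nat.coprime_primes hp.out hr.out).mpr hpr)
    have hcent : MulAut.conj m' • B ≤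
        centralizer ((MulAut.conj m • A : Subgroup G) : Set G) := by
      intro b hb
      rw [Subgroup.mem_centralizer_iff]
      intro a ha
      have h1 : a * b * a⁻¹ * b⁻¹ ∈ MulAut.conj m • A := by
        have hbn := hnA (hBm'' hb)
        have h2 : b * a⁻¹ * b⁻¹ ∈ MulAut.conj m • A :=
          (Subgroup.mem_normalizer_iff.mp hbn a⁻¹).mp (Subgroup.inv_mem _ ha)
        have h3 := Subgroup.mul_mem _ ha h2
        have h4 : a * (b * a⁻¹ * b⁻¹) = a * b * a⁻¹ * b⁻¹ := by group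
        rwa [h4] at h3
      have h2 : a * b * a⁻¹ * b⁻¹ ∈ MulAut.conj m' • B := by
        have han := hnB (hAm' ha)
        have h2 : a * b * a⁻¹ ∈ MulAut.conj m' • B :=
          (Subgroup.mem_normalizer_iff.mp han b).mp hb
        exact Subgroup.mul_mem _ h2 (Subgroup.inv_mem _ hb)
      have h3 : a * b * a⁻¹ * b⁻¹ ∈ (MulAut.conj m • A) ⊓ (MulAut.conj m' • B) := ⟨h1, h2⟩
      rw [hdisj, Subgroup.mem_bot] at h3
      calc a * b = (a * b * a⁻¹ * b⁻¹) * (b * a) := by group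
        _ = b * a := by rw [h3, one_mul]
    rw [Cfsg.Agent.Helper33.centralizer_conj_smul] at hcent
    have h3 : MulAut.conj m⁻¹ • MulAut.conj m' • B ≤ M := by
      have := Cfsg.Agent.Helper33.conj_smul_le_conj_smul (g := m⁻¹) hcent
      rw [Cfsg.Agent.Helper33.conj_inv_smul_smul] at this
      exact this.trans h16
    have h4 := card_le_of_pRankLE hr1 h3
      (Cfsg.Agent.Helper34.BG.isElementaryAbelian_conj
        (Cfsg.Agent.Helper34.BG.isElementaryAbelian_conj hB m') m⁻¹)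
    rw [Cfsg.Agent.Helper33.card_conj_smul, Cfsg.Agent.Helper33.card_conj_smul, hBc2] at h4
    exact hrlt h4

/-- the irreducible case: `Q` normalizes no subgroup of order `p` of `A`. -/
theorem irred_kill (hG : IsMinSimpleOddOrder G) (M : Subgroup G) (hM : IsCoatom M)
    (p : ℕ) [hp : Fact p.Prime] (hpτ : p ∈ tau2 M) (A : Subgroup G)
    (hA : A ≤ M ∧ IsElementaryAbelian p A ∧ Nat.card A = p ^ 2)
    (hS : ∃ S : Sylow p G, IsMulCommutative (S : Subgroup G))
    (r : ℕ) [hr : Fact r.Prime] (hrσ : r ∉ sigma M) (hr1 : PRankLE r 1 M)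
    (Q : Subgroup G) (hQs : IsSylIn r Q M) (hQc : IsCyclic Q)
    (hQA : Q ≤ normalizer (A : Set G))
    (R₁ : Subgroup G) (hR₁Q : R₁ ≤ Q) (hR₁ : Nat.card R₁ = r)
    (hR₁A : R₁ ≤ centralizer (A : Set G))
    (hirr : ∀ X : Subgroup G, X ≤ A → Nat.card X = p → ¬ Q ≤ normalizer (X : Set G)) : False := by
  classical
  have hAe := hA.2.1
  have hAcard := hA.2.2
  have hAp : IsPGroup p A := Cfsg.Agent.Helper34.BG.isElementaryAbelian_isPGroup hAe
  -- a line of A exists
  obtain ⟨X₀, hX₀A, hX₀c⟩ := Cfsg.Agent.Helper29.BG12.exists_card_eq_prime_le hAp (by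
    intro h
    rw [h, Subgroup.card_bot] at hAcard
    have := hp.out.one_lt
    have h2 : 1 < p ^ 2 := Nat.one_lt_pow (by norm_num) this
    omega)
  -- Q does not centralize A
  have hQnc : ¬ Q ≤ centralizer (A : Set G) := by
    intro h
    apply hirr X₀ hX₀A hX₀c
    intro g hg
    have hgc := h hg
    rw [Subgroup.mem_normalizer_iff]
    intro x
    have hx : ∀ y ∈ A, g * y * g⁻¹ = y := by
      intro y hy
      have := (Subgroup.mem_centralizer_iff.mp hgc) y hy
      rw [← this, mul_inv_cancel_right]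
    constructor
    · intro hxX
      have := hx x (hX₀A hxX)
      show g * x * g⁻¹ ∈ (X₀ : Set G)
      rw [this]; exact hxX
    · intro hxX
      have h1 : g * x * g⁻¹ ∈ A := hX₀A hxX
      have h2 : x ∈ A := by
        have := (Subgroup.mem_normalizer_iff.mp (hQA hg) x).mpr h1
        exact this
      have := hx x h2
      rw [this] at hxX
      exact hxX
  refine kill_gen hG M hM p hpτ A hA hS r hrσ hr1 Q hQs hQc hQA R₁ hR₁Q hR₁ hR₁A hQnc ?_
  intro w hwA hwQ hwc
  set F : Subgroup G := A ⊓ centralizer ({w} : Set G) with hF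
  have hFA : F ≤ A := inf_le_left
  have hmemF : ∀ a : G, a ∈ F ↔ a ∈ A ∧ w * a = a * w := by
    intro a
    rw [hF, Subgroup.mem_inf, Subgroup.mem_centralizer_iff]
    constructor
    · rintro ⟨h1, h2⟩; exact ⟨h1, h2 w rfl⟩
    · rintro ⟨h1, h2⟩; exact ⟨h1, fun x hx => by rw [Set.mem_singleton_iff.mp hx]; exact h2⟩
  have hQF : Q ≤ normalizer (F : Set G) := by
    apply Cfsg.Agent.Helper78.BG126.le_normalizer_of_conj_mem'
    intro g hg a ha
    obtain ⟨ha1, ha2⟩ := (hmemF a).mp ha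
    rw [hmemF]
    refine ⟨(Subgroup.mem_normalizer_iff.mp (hQA hg) a).mp ha1, ?_⟩
    have hwg : w * g = g * w := hwQ g hg
    have hwg' : w * g⁻¹ = g⁻¹ * w := by
      calc w * g⁻¹ = g⁻¹ * (g * w) * g⁻¹ := by group
        _ = g⁻¹ * (w * g) * g⁻¹ := by rw [hwg]
        _ = g⁻¹ * w := by group
    calc w * (g * a * g⁻¹) = (w * g) * a * g⁻¹ := by group
      _ = g * (w * a) * g⁻¹ := by rw [hwg]; group
      _ = g * (a * w) * g⁻¹ := by rw [ha2]
      _ = g * a * (w * g⁻¹) := by group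
      _ = g * a * (g⁻¹ * w) := by rw [hwg']
      _ = g * a * g⁻¹ * w := by group
  have hFcard : Nat.card F ∣ p ^ 2 := by
    rw [← hAcard]; exact Subgroup.card_dvd_of_le hFA
  obtain ⟨k, hk2, hk⟩ := (Nat.dvd_prime_pow hp.out).mp hFcard
  intro a ha hfix
  have haF : a ∈ F := by
    rw [hmemF]
    refine ⟨ha, ?_⟩
    calc w * a = (w * a * w⁻¹) * w := by group
      _ = a * w := by rw [hfix]
  have hk0 : k = 0 := by
    interval_cases k
    · rfl
    · exfalso
      exact hirr F hFA (by rw [hk, pow_one]) hQF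
    · exfalso
      have hFA' : F = A := Subgroup.eq_of_le_of_card_ge hFA (by rw [hk, hAcard])
      apply hwc
      rw [Subgroup.mem_centralizer_iff]
      intro x hx
      rw [← hFA'] at hx
      exact (((hmemF x).mp hx).2).symm
  rw [hk0, pow_zero] at hk
  have hFbot : F = ⊥ := Subgroup.card_eq_one.mp hk
  rw [hFbot] at haF
  exact Subgroup.mem_bot.mp haF

end Cfsg.Agent.Helper33.BG1211
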