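import Mathlib
import Cfsg.Agent.S1350
import Cfsg.Agent.S1417
import Cfsg.Agent.S1418
import Cfsg.Agent.Lib.Helper33.Syl
import Cfsg.Agent.Lib.Helper33.Conj
import Cfsg.Agent.Lib.Helper34.BG10a
import Cfsg.Agent.Lib.Helper34.BG10b
import Cfsg.Agent.Lib.Helper29.BG12
import Cfsg.Agent.Lib.Helper29.BG12s
import Cfsg.Agent.Lib.Helper38.BG128b

/-!
S1421 (B-G 12.12), piece (GL') of helper38's split: a line of `A_p` normalized by `N_G(P)`
(`P` a Sylow `p`-subgroup of `E`) is good.
-/

set_option autoImplicit false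
set_option linter.style.haveILetI false
set_option linter.unusedVariables false
open Pointwise

namespace Cfsg.Agent.Helper33.BG1211

open Subgroup Cfsg
open Cfsg.Agent.Helper33 (IsSylIn)

variable {G : Type*} [Group G] [Finite G]

/-- a Sylow `p`-subgroup of the complement `E` is a Sylow `p`-subgroup of `M` when `p ∉ σ(M)`. -/
theorem isSylIn_of_compl (hG : IsMinSimpleOddOrder G) {M : Subgroup G} (hM : IsCoatom M)
    {E : Subgroup G} (hE : IsComplIn E (sigmaCore M) M) {p : ℕ} [hp : Fact p.Prime]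
    (hpσ : p ∉ sigma M) {P : Subgroup G} (hP : IsSylIn p P E) : IsSylIn p P M := by
  refine ⟨hP.le.trans hE.1, hP.isPGroup, ?_⟩
  have h1 : P.relIndex E * E.relIndex M = P.relIndex M :=
    Subgroup.relIndex_mul_relIndex P E M hP.le hE.1
  have h2 : Nat.card M = Nat.card E * Nat.card (sigmaCore M) :=
    Cfsg.Agent.Helper38.BG128.card_eq_of_isComplIn' hE
  have h3 : Nat.card E * E.relIndex M = Nat.card M := by
    rw [← Cfsg.Agent.Helper29.BG12.card_subgroupOf_of_le hE.1]
    exact Subgroup.card_mul_index (E.subgroupOf M)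
  have h4 : E.relIndex M = Nat.card (sigmaCore M) := by
    rw [h2] at h3
    exact Nat.eq_of_mul_eq_mul_left Nat.card_pos h3
  rw [← h1, h4]
  intro hdvd
  rcases (Nat.Prime.dvd_mul hp.out).mp hdvd with h | h
  · exact hP.not_dvd h
  · exact Cfsg.Agent.Helper29.BG12.not_dvd_card_sigmaCore hG hM hp.out hpσ h

/-- (GL') a line of `A` normalized by `N_G(P)` is good. -/
theorem good_of_normalizer_le (hG : IsMinSimpleOddOrder G) (M : Subgroup G) (hM : IsCoatom M)
    (E : Subgroup G) (hE : IsComplIn E (sigmaCore M) M)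
    (p : ℕ) [Fact p.Prime] (hp : p ∈ tau2 M) (P : Subgroup G) (hP : IsSylIn p P E)
    (A : Subgroup G) (hA : A ≤ E ∧ IsElementaryAbelian p A ∧ Nat.card A = p ^ 2)
    (L : Subgroup G) (hLA : L ≤ A) (hL : Nat.card L = p)
    (hN : normalizer (P : Set G) ≤ normalizer (L : Set G)) :
    sigmaCore M ⊓ centralizer (L : Set G) = ⊥ := by
  by_contra hne
  have h18 := Cfsg.Agent.S1418.result hG M hM E hE p hp A hA
  have hAM : A ≤ M := hA.1.trans hE.1
  have h17 := Cfsg.Agent.S1417.result hG M hM p hp A ⟨hAM, hA.2.1, hA.2.2⟩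
  obtain ⟨hCM, huniq⟩ := h18.2.2 L hLA hL hne
  have hU : InUniqueMaximal (centralizer (L : Set G)) :=
    ⟨M, ⟨hM, hCM⟩, fun L' hL' => huniq L' hL'.1 hL'.2⟩
  have hNC : normalizer ((centralizer (L : Set G) : Subgroup G) : Set G) ≤ M :=
    Cfsg.Agent.Helper34.BG.normalizer_le_of_uniq hG hU hM hCM
  have hNL : normalizer (L : Set G) ≤ M := by
    refine le_trans ?_ hNC
    intro g hg
    rw [Subgroup.mem_normalizer_iff]
    intro x
    have key : ∀ g ∈ normalizer (L : Set G), ∀ x ∈ centralizer (L : Set G),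
        g * x * g⁻¹ ∈ centralizer (L : Set G) := by
      intro g hg x hx
      rw [Subgroup.mem_centralizer_iff]
      intro l hl
      have hl' : g⁻¹ * l * g ∈ L := by
        have := (Subgroup.mem_normalizer_iff.mp (Subgroup.inv_mem _ hg) l).mp hl
        simpa using this
      have h1 := (Subgroup.mem_centralizer_iff.mp hx) _ hl'
      calc l * (g * x * g⁻¹) = g * ((g⁻¹ * l * g) * x) * g⁻¹ := by group
        _ = g * (x * (g⁻¹ * l * g)) * g⁻¹ := by rw [h1]
        _ = g * x * g⁻¹ * l := by group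
    constructor
    · intro hx; exact key g hg x hx
    · intro hx
      have := key g⁻¹ (Subgroup.inv_mem _ hg) _ hx
      have h2 : g⁻¹ * (g * x * g⁻¹) * g⁻¹⁻¹ = x := by group
      rwa [h2] at this
  have hPM : IsSylIn p P M := isSylIn_of_compl hG hM hE hp.2.1 hP
  have hAP : A ≤ P := by
    obtain ⟨x, hx, hxA⟩ := hP.exists_conj_le
      (Cfsg.Agent.Helper34.BG.isElementaryAbelian_isPGroup hA.2.1) hA.1
    rw [Cfsg.Agent.Helper33.smul_eq_of_mem_normalizer (h18.1.1 hx)] at hxA
    exact hxA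
  have h17b := (h17.2.1 hPM.toSylow).2
  rw [Cfsg.Agent.Helper38.BG128.sylIn_map_eq hPM] at h17b
  exact (h17b hAP).2 (hN.trans hNL)

end Cfsg.Agent.Helper33.BG1211
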