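import Mathlib
import Cfsg.Agent.Lib.Helper33.BG1211
import Cfsg.Agent.Lib.Helper33.BG1211b

/-!
S1421 (B-G 12.12), piece (c) PART II in helper94's signature (#3144): a Sylow `r`-subgroup `Q` of `E`
(`r ∈ τ₁(M) ∪ τ₃(M)`) normalizing no line of `A_p`, all of whose elements of order `r` centralize `A_p`,
cannot exist when the Sylow `p`-subgroup `P` of `E` is a Sylow `p`-subgroup of `G`.
-/

set_option autoImplicit false
set_option linter.style.haveILetI false
set_option linter.unusedVariables false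
open Pointwise

namespace Cfsg.Agent.Helper33.BG1211

open Subgroup Cfsg
open Cfsg.Agent.Helper33 (IsSylIn)

variable {G : Type*} [Group G] [Finite G]

theorem irreducible_sylow_false (hG : IsMinSimpleOddOrder G) (M : Subgroup G) (hM : IsCoatom M)
    (E : Subgroup G) (hE : IsComplIn E (sigmaCore M) M)
    (p : ℕ) [hp' : Fact p.Prime] (hp : p ∈ tau2 M) (P : Subgroup G) (hP : IsSylIn p P E)
    (hPG : ¬ p ∣ P.index)
    (A : Subgroup G) (hA : A ≤ E ∧ IsElementaryAbelian p A ∧ Nat.card A = p ^ 2)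
    (r : ℕ) [hr' : Fact r.Prime] (hr : r ∈ tau1 M ∪ tau3 M) (Q : Subgroup G) (hQ : IsSylIn r Q E)
    (hirr : ∀ L : Subgroup G, L ≤ A → Nat.card L = p → ¬ Q ≤ normalizer (L : Set G))
    (hΩ : ∀ y ∈ Q, y ^ r = 1 → y ∈ centralizer (A : Set G)) : False := by
  classical
  have hrσ : r ∉ sigma M := by
    rcases hr with h | h
    · exact h.2.1
    · exact h.2.1
  have hr1 : PRankLE r 1 M := by
    rcases hr with h | h
    · exact h.2.2.2.2
    · exact h.2.2.2
  have hAM : A ≤ M := hA.1.trans hE.1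
  have hA' : A ≤ M ∧ IsElementaryAbelian p A ∧ Nat.card A = p ^ 2 := ⟨hAM, hA.2.1, hA.2.2⟩
  have hAp : IsPGroup p A := Cfsg.Agent.Helper34.BG.isElementaryAbelian_isPGroup hA.2.1
  have h18 := Cfsg.Agent.S1418.result hG M hM E hE p hp A hA
  have h17 := Cfsg.Agent.S1417.result hG M hM p hp A hA'
  have hPM : IsSylIn p P M := isSylIn_of_compl hG hM hE hp.2.1 hP
  have hPc := Cfsg.Agent.Helper38.BG128.sylIn_comm h17 hPM
  have hS : ∃ S : Sylow p G, IsMulCommutative (S : Subgroup G) :=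
    ⟨IsPGroup.toSylow hP.isPGroup hPG, ⟨⟨fun a b => Subtype.ext (hPc a a.2 b b.2)⟩⟩⟩
  have hQM : IsSylIn r Q M := isSylIn_of_compl hG hM hE hrσ hQ
  have hQA : Q ≤ normalizer (A : Set G) := hQ.le.trans h18.1.1
  -- a line of A exists, so Q ≠ ⊥
  obtain ⟨X₀, hX₀A, hX₀c⟩ := Cfsg.Agent.Helper29.BG12.exists_card_eq_prime_le hAp (by
    intro h
    have hc := hA.2.2
    rw [h, Subgroup.card_bot] at hc
    have h2 : 1 < p ^ 2 := Nat.one_lt_pow (by norm_num) hp'.out.one_lt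
    omega)
  have hQne : Q ≠ ⊥ := by
    intro h
    apply hirr X₀ hX₀A hX₀c
    rw [h]
    exact bot_le
  obtain ⟨R₁, hR₁Q, hR₁⟩ := Cfsg.Agent.Helper29.BG12.exists_card_eq_prime_le hQ.isPGroup hQne
  have hrG : r ∣ Nat.card G := by
    rw [← hR₁]; exact Subgroup.card_subgroup_dvd_card R₁
  have hr2 : r ≠ 2 := ne_two_of_dvd hG hrG
  have hQc : IsCyclic Q := by
    by_contra hnc
    obtain ⟨E', hE'Q, hE', hE'c⟩ :=
      Cfsg.Agent.Helper96.BGU.exists_elemAb_of_not_isCyclic hr2 Q hQ.isPGroup hnc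
    exact Cfsg.Agent.Helper29.BG12.not_pRankLE_of_elemAb (hE'Q.trans hQM.le) hE' hE'c hr1
  have hR₁A : R₁ ≤ centralizer (A : Set G) := by
    intro y hy
    apply hΩ y (hR₁Q hy)
    have h1 : (⟨y, hy⟩ : R₁) ^ Nat.card R₁ = 1 := pow_card_eq_one'
    rw [hR₁] at h1
    exact congrArg Subtype.val h1
  exact irred_kill hG M hM p hp A hA' hS r hrσ hr1 Q hQM hQc hQA R₁ hR₁Q hR₁ hR₁A hirr

end Cfsg.Agent.Helper33.BG1211
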