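import Mathlib
import Cfsg.Agent.S1446
import Cfsg.Agent.Lib.Helper33.BG1211
import Cfsg.Agent.Lib.Helper33.BG1211b
import Cfsg.Agent.Lib.Helper33.BG1211c
import Cfsg.Agent.Lib.Helper29.BG1212a
import Cfsg.Agent.Lib.Helper38.BG1213a

/-!
S1421 (B-G 12.12), piece (c): `exists_invariant_line` — in Case AB, under the regularity hypothesis,
`E` normalizes a subgroup of order `p` of `A_p`.
-/

set_option autoImplicit false
set_option linter.style.haveILetI false
set_option linter.unusedVariables false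
open Pointwise
open scoped commutatorElement

namespace Cfsg.Agent.Helper33.BG1211

open Subgroup Cfsg
open Cfsg.Agent.Helper33 (IsSylIn)
open Cfsg.Agent.Helper38.BG1213 (Hreg)

variable {G : Type*} [Group G] [Finite G]

omit [Finite G] in
/-- a subgroup centralizing `A` normalizes every subgroup of `A`. -/
theorem le_normalizer_of_le_centralizer {Q A X : Subgroup G} (hQ : Q ≤ centralizer (A : Set G))
    (hXA : X ≤ A) : Q ≤ normalizer (X : Set G) := by
  intro g hg
  have hgc := hQ hg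
  rw [Subgroup.mem_normalizer_iff]
  intro x
  have hx : ∀ y ∈ A, g * y * g⁻¹ = y := by
    intro y hy
    have := (Subgroup.mem_centralizer_iff.mp hgc) y hy
    rw [← this, mul_inv_cancel_right]
  constructor
  · intro hxX
    rw [hx x (hXA hxX)]; exact hxX
  · intro hxX
    have h1 : g * x * g⁻¹ ∈ A := hXA hxX
    have h2 : x ∈ A := by
      have h3 : g⁻¹ * (g * x * g⁻¹) * g = x := by group
      have h4 : g⁻¹ * (g * x * g⁻¹) * g⁻¹⁻¹ = g * x * g⁻¹ := by
        have := hx (g * x * g⁻¹) h1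
        have h5 : ∀ y ∈ A, g⁻¹ * y * g⁻¹⁻¹ = y := by
          intro y hy
          have := (Subgroup.mem_centralizer_iff.mp (Subgroup.inv_mem _ hgc)) y hy
          rw [← this, mul_inv_cancel_right]
        exact h5 _ h1
      rw [inv_inv] at h4
      rw [← h3, h4]; exact h1
    have := hx x h2
    rw [this] at hxX
    exact hxX

/-- an element commuting with `Q` and not centralizing `A` acts fixed-point-freely on `A` when `Q`
normalizes no line of `A`. -/
theorem fix_eq_one_of_irred {p : ℕ} [hp : Fact p.Prime] {A Q : Subgroup G}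
    (hAcard : Nat.card A = p ^ 2) (hQA : Q ≤ normalizer (A : Set G))
    (hirr : ∀ X : Subgroup G, X ≤ A → Nat.card X = p → ¬ Q ≤ normalizer (X : Set G))
    (w : G) (hwQ : ∀ g ∈ Q, w * g = g * w) (hwc : w ∉ centralizer (A : Set G)) :
    ∀ a ∈ A, w * a * w⁻¹ = a → a = 1 := by
  set F : Subgroup G := A ⊓ centralizer ({w} : Set G) with hF
  have hFA : F ≤ A := inf_le_left
  have hmemF : ∀ a : G, a ∈ F ↔ a ∈ A ∧ w * a = a * w := by
    intro a
    rw [hF, Subgroup.mem_inf, Subgroup.mem_centralizer_iff]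
    constructor
    · rintro ⟨h1, h2⟩; exact ⟨h1, h2 w rfl⟩
    · rintro ⟨h1, h2⟩; exact ⟨h1, fun x hx => by rw [Set.mem_singleton_iff.mp hx]; exact h2⟩
  have hQF : Q ≤ normalizer (F : Set G) := by
    apply Cfsg.Agent.Helper78.BG126.le_normalizer_of_conj_mem'
    intro g hg a ha
    obtain ⟨ha1, ha2⟩ := (hmemF a).mp ha
    rw [hmemF]
    refine ⟨(Subgroup.mem_normalizer_iff.mp (hQA hg) a).mp ha1, ?_⟩
    have hwg : w * g = g * w := hwQ g hg
    have hwg' : w * g⁻¹ = g⁻¹ * w := by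
      calc w * g⁻¹ = g⁻¹ * (g * w) * g⁻¹ := by group
        _ = g⁻¹ * (w * g) * g⁻¹ := by rw [hwg]
        _ = g⁻¹ * w := by group
    calc w * (g * a * g⁻¹) = (w * g) * a * g⁻¹ := by group
      _ = g * (w * a) * g⁻¹ := by rw [hwg]; group
      _ = g * (a * w) * g⁻¹ := by rw [ha2]
      _ = g * a * (w * g⁻¹) := by group
      _ = g * a * (g⁻¹ * w) := by rw [hwg']
      _ = g * a * g⁻¹ * w := by group
  have hFcard : Nat.card F ∣ p ^ 2 := by
    rw [← hAcard]; exact Subgroup.card_dvd_of_le hFA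
  obtain ⟨k, hk2, hk⟩ := (Nat.dvd_prime_pow hp.out).mp hFcard
  intro a ha hfix
  have haF : a ∈ F := by
    rw [hmemF]
    refine ⟨ha, ?_⟩
    calc w * a = (w * a * w⁻¹) * w := by group
      _ = a * w := by rw [hfix]
  have hk0 : k = 0 := by
    interval_cases k
    · rfl
    · exfalso
      exact hirr F hFA (by rw [hk, pow_one]) hQF
    · exfalso
      have hFA' : F = A := Subgroup.eq_of_le_of_card_ge hFA (by rw [hk, hAcard])
      apply hwc
      rw [Subgroup.mem_centralizer_iff]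
      intro x hx
      rw [← hFA'] at hx
      exact (((hmemF x).mp hx).2).symm
  rw [hk0, pow_zero] at hk
  have hFbot : F = ⊥ := Subgroup.card_eq_one.mp hk
  rw [hFbot] at haF
  exact Subgroup.mem_bot.mp haF

/-- Step 1: a subgroup `Q ≤ E` normalizing a line `X₁` of `A` that is not `E`-invariant acts on `A`
by a power map, hence normalizes every subgroup of `A` (`E/C_E(A)` abelian). -/
theorem normalizes_all_of_line {p : ℕ} [hp : Fact p.Prime] {E A Q X₁ : Subgroup G}
    (hAe : IsElementaryAbelian p A) (hAcard : Nat.card A = p ^ 2)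
    (hEA : E ≤ normalizer (A : Set G)) (hcomm : ⁅E, E⁆ ≤ centralizer (A : Set G))
    (hQE : Q ≤ E) (hX₁A : X₁ ≤ A) (hX₁ : Nat.card X₁ = p)
    (hQX₁ : Q ≤ normalizer (X₁ : Set G)) (hEX₁ : ¬ E ≤ normalizer (X₁ : Set G))
    (Y : Subgroup G) (hYA : Y ≤ A) : Q ≤ normalizer (Y : Set G) := by
  classical
  have hAcomm : ∀ a ∈ A, ∀ a' ∈ A, a * a' = a' * a := fun a ha a' ha' =>
    Cfsg.Agent.Helper34.BG.commute_of_isElementaryAbelian hAe ha ha'
  obtain ⟨e, heE, heX⟩ := SetLike.not_le_iff_exists.mp hEX₁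
  set X₂ : Subgroup G := MulAut.conj e • X₁ with hX₂
  have hX₂ne : X₂ ≠ X₁ := fun h => heX (Cfsg.Agent.Helper33.mem_normalizer_iff_smul_eq.mpr h)
  have hX₂A : X₂ ≤ A := by
    rw [hX₂, ← Cfsg.Agent.Helper33.smul_eq_of_mem_normalizer (hEA heE)]
    exact Cfsg.Agent.Helper33.conj_smul_le_conj_smul hX₁A
  have hX₂c : Nat.card X₂ = p := by rw [hX₂, Cfsg.Agent.Helper33.card_conj_smul, hX₁]
  -- A = X₁ ⊔ X₂
  have hsup : X₁ ⊔ X₂ = A := by
    have hle : X₁ ⊔ X₂ ≤ A := sup_le hX₁A hX₂A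
    have hdvd : Nat.card (X₁ ⊔ X₂ : Subgroup G) ∣ p ^ 2 := by
      rw [← hAcard]; exact Subgroup.card_dvd_of_le hle
    obtain ⟨k, hk2, hk⟩ := (Nat.dvd_prime_pow hp.out).mp hdvd
    have h1 : Nat.card X₁ ∣ Nat.card (X₁ ⊔ X₂ : Subgroup G) := Subgroup.card_dvd_of_le le_sup_left
    have hk1 : k ≠ 0 := by
      rintro rfl
      rw [hk, pow_zero, hX₁] at h1
      exact hp.out.one_lt.ne' (Nat.dvd_one.mp h1)
    have hk' : k ≠ 1 := by
      rintro rfl
      rw [pow_one] at hk
      have e1 : X₁ = X₁ ⊔ X₂ := Subgroup.eq_of_le_of_card_ge le_sup_left (by rw [hk, hX₁])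
      have e2 : X₂ = X₁ ⊔ X₂ := Subgroup.eq_of_le_of_card_ge le_sup_right (by rw [hk, hX₂c])
      exact hX₂ne (e2.trans e1.symm)
    have hk2' : k = 2 := by omega
    rw [hk2'] at hk
    exact Subgroup.eq_of_le_of_card_ge hle (by rw [hk, hAcard])
  apply Cfsg.Agent.Helper78.BG126.le_normalizer_of_conj_mem'
  intro g hg y hy
  have hgE := hQE hg
  -- g acts on X₁ by a power
  haveI : Fact (Nat.card X₁).Prime := by rw [hX₁]; exact hp
  have hX₁cyc : IsCyclic X₁ := isCyclic_of_prime_card (p := Nat.card X₁) rfl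
  obtain ⟨x₁, hx₁⟩ := IsCyclic.exists_generator (α := X₁)
  have hgx₁ : g * (x₁ : G) * g⁻¹ ∈ X₁ := (Subgroup.mem_normalizer_iff.mp (hQX₁ hg) x₁).mp x₁.2
  obtain ⟨a, ha⟩ := Subgroup.mem_zpowers_iff.mp (hx₁ ⟨_, hgx₁⟩)
  have ha' : g * (x₁ : G) * g⁻¹ = (x₁ : G) ^ a := by
    have := congrArg Subtype.val ha
    simpa using this.symm
  have hpowX₁ : ∀ x ∈ X₁, g * x * g⁻¹ = x ^ a := by
    intro x hx
    obtain ⟨k, hk⟩ := Subgroup.mem_zpowers_iff.mp (hx₁ ⟨x, hx⟩)
    have hk' : x = (x₁ : G) ^ k := by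
      have := congrArg Subtype.val hk
      simpa using this.symm
    rw [hk']
    have h1 : g * (x₁ : G) ^ k * g⁻¹ = (g * (x₁ : G) * g⁻¹) ^ k := by
      rw [conj_zpow]
    rw [h1, ha', ← zpow_mul, ← zpow_mul, mul_comm]
  have hpowX₂ : ∀ x' ∈ X₂, g * x' * g⁻¹ = x' ^ a := by
    intro x' hx'
    rw [hX₂, Cfsg.Agent.Helper33.mem_conj_smul] at hx'
    set x : G := e⁻¹ * x' * e with hx
    have hx'eq : x' = e * x * e⁻¹ := by rw [hx]; group
    have hxA : x ∈ A := hX₁A hx'
    set c : G := g⁻¹ * e⁻¹ * g * e with hc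
    have hcC : c ∈ centralizer (A : Set G) := by
      apply hcomm
      have : c = ⁅g⁻¹, e⁻¹⁆ := by rw [hc, commutatorElement_def]; group
      rw [this]
      exact Subgroup.commutator_mem_commutator (E.inv_mem hgE) (E.inv_mem heE)
    have hcx : c * x * c⁻¹ = x := by
      have := (Subgroup.mem_centralizer_iff.mp hcC) x hxA
      rw [← this, mul_inv_cancel_right]
    have h1 : g * (e * x * e⁻¹) * g⁻¹ = e * (g * (c * x * c⁻¹) * g⁻¹) * e⁻¹ := by
      rw [hc]; group
    rw [hx'eq, h1, hcx, hpowX₁ x hx', conj_zpow]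
  have hyA := hYA hy
  rw [← hsup] at hyA
  obtain ⟨u, hu, v, hv, huv⟩ := Cfsg.Agent.Helper29.BG127.mem_sup_of_comm'
    (fun a ha b hb => hAcomm a (hX₁A ha) b (hX₂A hb)) hyA
  have h2 : g * y * g⁻¹ = y ^ a := by
    rw [huv]
    have h3 : g * (u * v) * g⁻¹ = (g * u * g⁻¹) * (g * v * g⁻¹) := by group
    rw [h3, hpowX₁ u hu, hpowX₂ v hv]
    have hcomm' : Commute u v := hAcomm u (hX₁A hu) v (hX₂A hv)
    exact (hcomm'.mul_zpow a).symm
  rw [h2]
  exact Y.zpow_mem hy a

/-- Step 2 (= helper38's `exists_sylow_no_line`, same signature): if `E` normalizes no line of `A`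
then some Sylow subgroup of `E` normalizes no line of `A`. -/
theorem exists_sylow_no_line {p : ℕ} [Fact p.Prime] {A E : Subgroup G}
    (hA : IsElementaryAbelian p A) (hAc : Nat.card A = p ^ 2)
    (hEA : E ≤ normalizer (A : Set G)) (hcomm : ⁅E, E⁆ ≤ centralizer (A : Set G))
    (hodd : Odd (Nat.card E))
    (hno : ∀ L : Subgroup G, L ≤ A → Nat.card L = p → ¬ E ≤ normalizer (L : Set G)) :
    ∃ (r : ℕ) (Q : Subgroup G), r.Prime ∧ IsSylIn r Q E ∧
      ∀ L : Subgroup G, L ≤ A → Nat.card L = p → ¬ Q ≤ normalizer (L : Set G) := by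
  by_contra hcon
  push_neg at hcon
  have hAne : A ≠ ⊥ := by
    intro h
    have h1 : Nat.card A = 1 := by rw [h]; exact Subgroup.card_bot
    rw [hAc] at h1
    have := Nat.one_lt_pow (n := 2) (by norm_num) (Fact.out : p.Prime).one_lt
    omega
  obtain ⟨X₀, hX₀A, hX₀⟩ := Cfsg.Agent.Helper29.BG12.exists_card_eq_prime_le
    (Cfsg.Agent.Helper34.BG.isElementaryAbelian_isPGroup hA) hAne
  apply hno X₀ hX₀A hX₀
  have h1 : (E ⊓ normalizer (X₀ : Set G)).relIndex E = 1 := by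
    by_contra h1
    obtain ⟨t, ht, htd⟩ := Nat.exists_prime_and_dvd h1
    haveI := Fact.mk ht
    obtain ⟨Q, hQ⟩ := Cfsg.Agent.Helper33.exists_isSylIn (p := t) E
    obtain ⟨L, hLA, hL, hQL⟩ := hcon t Q ht hQ
    have hQX₀ : Q ≤ normalizer (X₀ : Set G) :=
      normalizes_all_of_line hA hAc hEA hcomm hQ.le hLA hL hQL (hno L hLA hL) X₀ hX₀A
    have hQH : Q ≤ E ⊓ normalizer (X₀ : Set G) := le_inf hQ.le hQX₀
    have h2 := Subgroup.relIndex_mul_relIndex Q (E ⊓ normalizer (X₀ : Set G)) E hQH inf_le_left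
    apply hQ.not_dvd
    rw [← h2]
    exact Dvd.dvd.mul_left htd _
  exact (Subgroup.relIndex_eq_one.mp h1).trans inf_le_right

/-- Step (iii): elements of order `r` of a Sylow `r`-subgroup `Q` of `E` (`r ∈ τ₁ ∪ τ₃`) normalizing no
line of `A` centralize `A`: otherwise `⟨y⟩` acts fixed-point-freely on `A`, and `A⟨y⟩` on `M_σ` gives
`|M_σ| = |C_{M_σ}(y)| ^ r = 1` by S1446 and the regularity hypothesis. -/
theorem omega_le_centralizer (hG : IsMinSimpleOddOrder G) (M : Subgroup G) (hM : IsCoatom M)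
    (E : Subgroup G) (hE : IsComplIn E (sigmaCore M) M) (hreg : Hreg M E) (hK : sigmaCore M ≠ ⊥)
    (p : ℕ) [hp' : Fact p.Prime] (hp : p ∈ tau2 M)
    (A : Subgroup G) (hA : A ≤ E ∧ IsElementaryAbelian p A ∧ Nat.card A = p ^ 2)
    (r : ℕ) [hr' : Fact r.Prime] (hr : r ∈ tau1 M ∪ tau3 M) (Q : Subgroup G) (hQ : IsSylIn r Q E)
    (hirr : ∀ L : Subgroup G, L ≤ A → Nat.card L = p → ¬ Q ≤ normalizer (L : Set G)) :
    ∀ y ∈ Q, y ^ r = 1 → y ∈ centralizer (A : Set G) := by
  classical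
  intro y hyQ hyr
  by_contra hyc
  have hy1 : y ≠ 1 := by rintro rfl; exact hyc (Subgroup.one_mem _)
  have hrσ : r ∉ sigma M := by
    rcases hr with h | h
    · exact h.2.1
    · exact h.2.1
  have hr1 : PRankLE r 1 M := by
    rcases hr with h | h
    · exact h.2.2.2.2
    · exact h.2.2.2
  have hpr : p ≠ r := by
    rintro rfl
    exact hp.2.2.2 hr1
  have hAM : A ≤ M := hA.1.trans hE.1
  have hA' : A ≤ M ∧ IsElementaryAbelian p A ∧ Nat.card A = p ^ 2 := ⟨hAM, hA.2.1, hA.2.2⟩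
  have hAp : IsPGroup p A := Cfsg.Agent.Helper34.BG.isElementaryAbelian_isPGroup hA.2.1
  have h18 := Cfsg.Agent.S1418.result hG M hM E hE p hp A hA
  have h17 := Cfsg.Agent.S1417.result hG M hM p hp A hA'
  have hQM : IsSylIn r Q M := isSylIn_of_compl hG hM hE hrσ hQ
  have hQA : Q ≤ normalizer (A : Set G) := hQ.le.trans h18.1.1
  have hoy : orderOf y = r := orderOf_eq_prime hyr hy1
  have hrG : r ∣ Nat.card G := by rw [← hoy]; exact orderOf_dvd_natCard y
  have hr2 : r ≠ 2 := ne_two_of_dvd hG hrG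
  have hQc : IsCyclic Q := by
    by_contra hnc
    obtain ⟨E', hE'Q, hE', hE'c⟩ :=
      Cfsg.Agent.Helper96.BGU.exists_elemAb_of_not_isCyclic hr2 Q hQ.isPGroup hnc
    exact Cfsg.Agent.Helper29.BG12.not_pRankLE_of_elemAb (hE'Q.trans hQM.le) hE' hE'c hr1
  have hfix := fix_eq_one_of_irred hA.2.2 hQA hirr y
    (fun g hg => comm_of_isCyclic hQc y hyQ g hg) hyc
  -- the data for S1446
  set R : Subgroup G := Subgroup.zpowers y with hR
  have hRcard : Nat.card R = r := by rw [hR, Nat.card_zpowers, hoy]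
  have hRE : R ≤ E := by
    rw [hR, Subgroup.zpowers_le]; exact hQ.le hyQ
  have hAne : A ≠ ⊥ := by
    intro h
    have h1 : Nat.card A = 1 := by rw [h]; exact Subgroup.card_bot
    rw [hA.2.2] at h1
    have := Nat.one_lt_pow (n := 2) (by norm_num) hp'.out.one_lt
    omega
  have hRne : R ≠ ⊥ := by
    intro h
    have h1 : Nat.card R = 1 := by rw [h]; exact Subgroup.card_bot
    rw [hRcard] at h1
    exact hr'.out.one_lt.ne' h1
  have hAR : A ⊓ R = ⊥ := by
    apply Subgroup.inf_eq_bot_of_coprime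
    rw [hA.2.2, hRcard]
    exact Nat.Coprime.pow_left 2 ((Nat.coprime_primes hp'.out hr'.out).mpr hpr)
  have hRA : R ≤ normalizer (A : Set G) := by
    rw [hR, Subgroup.zpowers_le]; exact hQA hyQ
  -- every non-identity element of R generates R
  have hgen : ∀ x ∈ R, x ≠ 1 → y ∈ Subgroup.zpowers x := by
    intro x hx hx1
    have hle : Subgroup.zpowers x ≤ R := by rw [Subgroup.zpowers_le]; exact hx
    have hd : Nat.card (Subgroup.zpowers x) ∣ r := by
      rw [← hRcard]; exact Subgroup.card_dvd_of_le hle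
    have hc : Nat.card (Subgroup.zpowers x) = r := by
      rcases (Nat.dvd_prime hr'.out).mp hd with h | h
      · exfalso
        rw [Nat.card_zpowers] at h
        exact hx1 (orderOf_eq_one_iff.mp h)
      · exact h
    have heq : Subgroup.zpowers x = R :=
      Subgroup.eq_of_le_of_card_ge hle (by rw [hc, hRcard])
    rw [heq, hR]
    exact Subgroup.mem_zpowers y
  have hfrob : ∀ x ∈ R, x ≠ 1 → A ⊓ centralizer ({x} : Set G) = ⊥ := by
    intro x hx hx1
    rw [eq_bot_iff]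
    intro a ha
    rw [Subgroup.mem_inf] at ha
    rw [Subgroup.mem_bot]
    apply hfix a ha.1
    obtain ⟨k, hk⟩ := Subgroup.mem_zpowers_iff.mp (hgen x hx hx1)
    have hxa : x * a = a * x := by
      have := (Subgroup.mem_centralizer_iff.mp ha.2) x rfl
      exact this
    have hya : y * a = a * y := by
      rw [← hk]
      exact ((Commute.zpow_left (show Commute x a from hxa) k)).eq
    rw [hya, mul_inv_cancel_right]
  have hARE : A ⊔ R ≤ E := sup_le hA.1 hRE
  have hsolv : Group.IsSolvable ↥(A ⊔ R) :=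
    hG.2.2.2 _ (Cfsg.Agent.Helper34.BG.ne_top_of_le_coatom hM (hARE.trans hE.1))
  have hodd : Odd (Nat.card ↥(A ⊔ R)) :=
    Odd.of_dvd_nat hG.1 (Subgroup.card_subgroup_dvd_card _)
  have hsM : sigmaCore M ≤ M := Cfsg.Agent.Helper55.BGB.sigmaCore_le M
  have hMnorm : M ≤ normalizer (sigmaCore M : Set G) :=
    Cfsg.Agent.Helper29.BG12.le_normalizer_sigmaCore M
  have h50 := (Cfsg.Agent.S1350.result hG M hM).1
  have hcop : (Nat.card ↥(A ⊔ R)).Coprime (Nat.card (sigmaCore M)) := by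
    apply Nat.coprime_of_dvd
    intro k hk hk1 hk2
    have hkE : k ∣ Nat.card E := dvd_trans hk1 (Subgroup.card_dvd_of_le hARE)
    exact Cfsg.Agent.Helper29.BG1212.not_mem_sigma_of_dvd_card hG hM hE hk hkE (h50.2.1 k hk hk2)
  have hregx : ∀ x ∈ R, x ≠ 1 → sigmaCore M ⊓ centralizer ({x} : Set G) = ⊥ := by
    intro x hx hx1
    apply hreg x (hRE hx) hx1
    intro t ht htd
    have h1 : orderOf x ∣ r := by
      rw [← hRcard]
      have := orderOf_dvd_natCard (⟨x, hx⟩ : R)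
      rwa [Subgroup.orderOf_mk] at this
    have h2 : t ∣ r := dvd_trans htd h1
    have h3 : t = r := (Nat.prime_dvd_prime_iff_eq ht hr'.out).mp h2
    rw [h3]; exact hr
  have hCR : sigmaCore M ⊓ centralizer (R : Set G) = ⊥ := by
    rw [eq_bot_iff, ← hregx y (Subgroup.mem_zpowers y) hy1]
    apply inf_le_inf_left
    apply Subgroup.centralizer_le
    rw [Set.singleton_subset_iff]
    exact Subgroup.mem_zpowers y
  have hprS : ∀ x ∈ R, x ≠ 1 → sigmaCore M ⊓ centralizer ({x} : Set G) =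
      sigmaCore M ⊓ centralizer (R : Set G) := by
    intro x hx hx1
    rw [hregx x hx hx1, hCR]
  have key := Cfsg.Agent.S1446.result A R (sigmaCore M) hAne hRne hAR hRA hfrob hsolv hodd hK h17.1
    (hAM.trans hMnorm) ((hRE.trans hE.1).trans hMnorm) hcop h17.2.2.2.1 hprS
  have hcard := key.2.1
  rw [hCR, Subgroup.card_bot, one_pow] at hcard
  exact hK (Subgroup.card_eq_one.mp hcard)

/-- **Piece (c) of S1421** (B-G 12.12, Case AB): under the regularity hypothesis, `E` normalizes a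
subgroup of order `p` of `A`. -/
theorem exists_invariant_line (hG : IsMinSimpleOddOrder G) (M : Subgroup G) (hM : IsCoatom M)
    (E : Subgroup G) (hE : IsComplIn E (sigmaCore M) M) (hreg : Hreg M E) (hK : sigmaCore M ≠ ⊥)
    (p : ℕ) [hp' : Fact p.Prime] (hp : p ∈ tau2 M) (P : Subgroup G) (hP : IsSylIn p P E)
    (hPG : ¬ p ∣ P.index)
    (A : Subgroup G) (hA : A ≤ E ∧ IsElementaryAbelian p A ∧ Nat.card A = p ^ 2)
    (hcomm : ⁅E, E⁆ ≤ centralizer (A : Set G))
    (hT : ∀ r : ℕ, r ∈ tau2 M → ∀ Q : Subgroup G, IsSylIn r Q E → Q ≤ centralizer (A : Set G)) :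
    ∃ X : Subgroup G, X ≤ A ∧ Nat.card X = p ∧ E ≤ normalizer (X : Set G) := by
  classical
  by_contra hno
  push_neg at hno
  have h18 := Cfsg.Agent.S1418.result hG M hM E hE p hp A hA
  have hEA : E ≤ normalizer (A : Set G) := h18.1.1
  have hodd : Odd (Nat.card E) := Odd.of_dvd_nat hG.1 (Subgroup.card_subgroup_dvd_card _)
  obtain ⟨r, Q, hr, hQ, hirr⟩ := exists_sylow_no_line hA.2.1 hA.2.2 hEA hcomm hodd
    (fun L hLA hL h => hno L hLA hL h)
  haveI : Fact r.Prime := ⟨hr⟩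
  -- a line exists, so `Q ≠ ⊥` and `r ∣ |E|`
  have hAp : IsPGroup p A := Cfsg.Agent.Helper34.BG.isElementaryAbelian_isPGroup hA.2.1
  obtain ⟨X₀, hX₀A, hX₀c⟩ := Cfsg.Agent.Helper29.BG12.exists_card_eq_prime_le hAp (by
    intro h
    have hc := hA.2.2
    rw [h, Subgroup.card_bot] at hc
    have h2 : 1 < p ^ 2 := Nat.one_lt_pow (by norm_num) hp'.out.one_lt
    omega)
  have hQne : Q ≠ ⊥ := by
    intro h
    apply hirr X₀ hX₀A hX₀c
    rw [h]
    exact bot_le
  obtain ⟨R₁, hR₁Q, hR₁⟩ := Cfsg.Agent.Helper29.BG12.exists_card_eq_prime_le hQ.isPGroup hQne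
  have hrE : r ∣ Nat.card E := by
    rw [← hR₁]; exact Subgroup.card_dvd_of_le (hR₁Q.trans hQ.le)
  have hrτ : r ∈ tau1 M ∪ tau3 M := by
    rcases Cfsg.Agent.Helper29.BG1212.tau_cases hG hM hE hr hrE with h | h | h
    · exact Or.inl h
    · exfalso
      exact hirr X₀ hX₀A hX₀c (le_normalizer_of_le_centralizer (hT r h Q hQ) hX₀A)
    · exact Or.inr h
  have hΩ := omega_le_centralizer hG M hM E hE hreg hK p hp A hA r hrτ Q hQ hirr
  exact irreducible_sylow_false hG M hM E hE p hp P hP hPG A hA r hrτ Q hQ hirr hΩ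

end Cfsg.Agent.Helper33.BG1211
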