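import Mathlib
import Cfsg.Agent.S1405
import Cfsg.Agent.S1411
import Cfsg.Agent.Lib.Helper33.BG1211d
import Cfsg.Agent.Lib.Helper38.BG1213c

/-!
S1421 (B-G 12.12), piece (c), final glue: the hypothesis `hline` of
`Cfsg.Agent.Helper38.BG1213.exists_cyclic_AB_of_line` / `exists_good_cyclic`, in Case AB
(all `τ₂(M)`-Sylow subgroups of `G` abelian) under the regularity hypothesis with `M_σ ≠ 1`.
-/

set_option autoImplicit false
set_option linter.style.haveILetI false
set_option linter.unusedVariables false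
open Pointwise
open scoped commutatorElement

namespace Cfsg.Agent.Helper33.BG1211

open Subgroup Cfsg
open Cfsg.Agent.Helper33 (IsSylIn)
open Cfsg.Agent.Helper38.BG1213 (Hreg H11 H18)
open Cfsg.Agent.Helper38.BG128 (H17)

variable {G : Type*} [Group G] [Finite G]

/-- **`hline`**: in Case AB, under the regularity hypothesis and `M_σ ≠ 1`, the complement `E`
normalizes a subgroup of order `p` of every `A ≤ E` elementary abelian of order `p²`. -/
theorem hline_AB (hG : IsMinSimpleOddOrder G) {M E : Subgroup G} (hM : IsCoatom M)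
    (hE : IsComplIn E (sigmaCore M) M) (hreg : Hreg M E) (hK : sigmaCore M ≠ ⊥)
    (habAll : ∀ r : ℕ, r ∈ tau2 M → ∀ S : Sylow r G, IsMulCommutative (S : Subgroup G))
    {p : ℕ} [Fact p.Prime] (hp : p ∈ tau2 M) :
    ∀ A : Subgroup G, A ≤ E → IsElementaryAbelian p A → Nat.card A = p ^ 2 →
      ∃ X : Subgroup G, X ≤ A ∧ Nat.card X = p ∧ E ≤ normalizer (X : Set G) := by
  classical
  intro A hAE hA hAc
  have hσ := (Cfsg.Agent.S1350.result hG M hM).1
  have hα := (Cfsg.Agent.S1405.result hG M hM).1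
  have hασ := (Cfsg.Agent.S1405.result hG M hM).2.2.1
  have h11 : H11 G := fun q _ P V hV => Cfsg.Agent.S1411.result hG q P V hV
  have h17 : H17 M := fun q _ hq B hB => Cfsg.Agent.S1417.result hG M hM q hq B hB
  have h18 : H18 M E := fun q _ hq B hB => Cfsg.Agent.S1418.result hG M hM E hE q hq B hB
  have h20 := (Cfsg.Agent.S1420.result hG M hM E hE).2.1
  obtain ⟨hEA, hcomm, hcent, hT⟩ := Cfsg.Agent.Helper38.BG1213.caseII_line_hyps hG hM hE hσ hα hασ
    h11 h17 h18 h20 habAll hp hAE hA hAc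
  have hAp : IsPGroup p A := Cfsg.Agent.Helper34.BG.isElementaryAbelian_isPGroup hA
  obtain ⟨P, hP, hAP⟩ := Cfsg.Agent.Helper33.exists_isSylIn_ge (p := p) hAp hAE
  obtain ⟨-, hPG, -, -, -, -⟩ := Cfsg.Agent.Helper38.BG1213.caseII_structure hG hM hE hσ hα hασ
    h11 h17 h18 h20 hp (habAll p hp) hP hAP hA hAc
  exact exists_invariant_line hG M hM E hE hreg hK p hp P hP hPG A ⟨hAE, hA, hAc⟩ hcomm hT

end Cfsg.Agent.Helper33.BG1211
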