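import Mathlib
import Cfsg.Agent.Lib.Helper31.SCHDefs
import Cfsg.Agent.Lib.Helper63.PLen

/-!
# SCH (G2c) `chain_of_quot` (helper31 server, S4394)
-/

set_option autoImplicit false

namespace Cfsg.Agent.Helper33.SCH
open Cfsg Cfsg.Agent.Helper31.SCH

section G
variable {G : Type*} [Group G] [Finite G] {p : ℕ} [Fact p.Prime]

/-- (G2c) [S-M] unfold `PL p 1 ⊥ ⊤` in `G ⧸ Y` (`Cfsg.Agent.Helper63.PL_of_PLengthLE`, then `cases`):
`⊥ ≤ B̄ ≤ C̄ ≤ ⊤`; `L = B̄.comap mk'`, `M = C̄.comap mk'`. -/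
theorem chain_of_quot (Y : Subgroup G) [Y.Normal] (hq : PLengthLE p 1 (G ⧸ Y)) :
    ∃ L M : Subgroup G, L.Normal ∧ M.Normal ∧ Y ≤ L ∧ L ≤ M ∧ (Y.relIndex L).Coprime p ∧
      (∃ m : ℕ, L.relIndex M = p ^ m) ∧ M.index.Coprime p := by
  have hPL := Cfsg.Agent.Helper63.PL_of_PLengthLE (p := p) (G := G ⧸ Y) hq
  have key : ∀ (k : ℕ) (A D : Subgroup (G ⧸ Y)), Cfsg.Agent.Helper63.PL p k A D → k = 1 → A = ⊥ →
      D = ⊤ → ∃ B C : Subgroup (G ⧸ Y), B.Normal ∧ C.Normal ∧ B ≤ C ∧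
        ((⊥ : Subgroup (G ⧸ Y)).relIndex B).Coprime p ∧ (∃ m : ℕ, B.relIndex C = p ^ m) ∧
        C.index.Coprime p := by
    intro k A D h
    cases h with
    | base A B hAB hA hB hc => intro hk; omega
    | step k A B C D h0 hBC hCD hCn hDn hm hc =>
      intro hk hA hD
      have hk0 : k = 0 := by omega
      subst hk0
      subst hA
      subst hD
      cases h0 with
      | base A B hAB hA hB hc0 =>
        refine ⟨B, C, hB, hCn, hBC, hc0, hm, ?_⟩
        rwa [Subgroup.relIndex_top_right] at hc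
  obtain ⟨B, C, hBn, hCn, hBC, hc0, ⟨m, hm⟩, hci⟩ := key 1 ⊥ ⊤ hPL rfl rfl rfl
  have hsurj : Function.Surjective (QuotientGroup.mk' Y) := QuotientGroup.mk'_surjective Y
  refine ⟨B.comap (QuotientGroup.mk' Y), C.comap (QuotientGroup.mk' Y), hBn.comap _, hCn.comap _,
    ?_, Subgroup.comap_mono hBC, ?_, ⟨m, ?_⟩, ?_⟩
  · intro y hy
    show QuotientGroup.mk' Y y ∈ B
    have : QuotientGroup.mk' Y y = 1 := (QuotientGroup.eq_one_iff y).2 hy
    rw [this]; exact B.one_mem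
  · have : Y.relIndex (B.comap (QuotientGroup.mk' Y)) = (⊥ : Subgroup (G ⧸ Y)).relIndex B := by
      calc Y.relIndex (B.comap (QuotientGroup.mk' Y))
          = (QuotientGroup.mk' Y).ker.relIndex (B.comap (QuotientGroup.mk' Y)) := by
            rw [QuotientGroup.ker_mk']
        _ = ((⊥ : Subgroup (G ⧸ Y)).comap (QuotientGroup.mk' Y)).relIndex
              (B.comap (QuotientGroup.mk' Y)) := by rw [MonoidHom.comap_bot]
        _ = (⊥ : Subgroup (G ⧸ Y)).relIndex ((B.comap (QuotientGroup.mk' Y)).map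
              (QuotientGroup.mk' Y)) := Subgroup.relIndex_comap _ _ _
        _ = (⊥ : Subgroup (G ⧸ Y)).relIndex B := by
            rw [Subgroup.map_comap_eq_self_of_surjective hsurj]
    rw [this]; exact hc0
  · rw [Subgroup.relIndex_comap, Subgroup.map_comap_eq_self_of_surjective hsurj]
    exact hm
  · rw [Subgroup.index_comap_of_surjective _ hsurj]
    exact hci

end G

end Cfsg.Agent.Helper33.SCH
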