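import Mathlib
import Cfsg.Agent.Lib.Helper31.SCHDefs

/-!
# SCH (Y) `exists_phi` (helper31 server, S4394)
-/

set_option autoImplicit false

namespace Cfsg.Agent.Helper33.SCH
open Cfsg Cfsg.Agent.Helper31.SCH

section G
variable {G : Type*} [Group G] [Finite G] {p : ℕ} [Fact p.Prime]

/-- (Y) [S-M] `Y = closure ({cmt x y | x y ∈ N} ∪ {x ^ p | x ∈ N})`; the generating set is invariant under
conjugation, so `Y` is normal. (`p` is any natural number here.) -/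
theorem exists_phi (p : ℕ) (N : Subgroup G) [N.Normal] :
    ∃ Y : Subgroup G, Y.Normal ∧ Y ≤ N ∧ (∀ x ∈ N, ∀ y ∈ N, cmt x y ∈ Y) ∧ (∀ x ∈ N, x ^ p ∈ Y) ∧
      ∀ T : Subgroup G, (∀ x ∈ N, ∀ y ∈ N, cmt x y ∈ T) → (∀ x ∈ N, x ^ p ∈ T) → Y ≤ T := by
  have hN : N.Normal := inferInstance
  let S : Set G := {z | (∃ x ∈ N, ∃ y ∈ N, z = cmt x y) ∨ ∃ x ∈ N, z = x ^ p}
  have hSN : S ⊆ N := by
    rintro z (⟨x, hx, y, hy, rfl⟩ | ⟨x, hx, rfl⟩)
    · exact N.mul_mem (N.mul_mem (N.mul_mem hx hy) (N.inv_mem hx)) (N.inv_mem hy)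
    · exact N.pow_mem hx p
  have hconj : ∀ g : G, ∀ z ∈ S, g * z * g⁻¹ ∈ S := by
    rintro g z (⟨x, hx, y, hy, rfl⟩ | ⟨x, hx, rfl⟩)
    · left
      refine ⟨g * x * g⁻¹, hN.conj_mem x hx g, g * y * g⁻¹, hN.conj_mem y hy g, ?_⟩
      unfold cmt; group
    · right
      exact ⟨g * x * g⁻¹, hN.conj_mem x hx g, (conj_pow (a := g) (b := x) (i := p)).symm⟩
  refine ⟨Subgroup.closure S, ?_, (Subgroup.closure_le N).2 hSN, ?_, ?_, ?_⟩
  · constructor
    intro n hn g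
    have hmap : (Subgroup.closure S).map (MulAut.conj g).toMonoidHom ≤ Subgroup.closure S := by
      rw [MonoidHom.map_closure, Subgroup.closure_le]
      rintro _ ⟨z, hz, rfl⟩
      apply Subgroup.subset_closure
      have := hconj g z hz
      simpa [MulAut.conj_apply] using this
    have : (MulAut.conj g).toMonoidHom n ∈ Subgroup.closure S := hmap ⟨n, hn, rfl⟩
    simpa [MulAut.conj_apply] using this
  · intro x hx y hy
    exact Subgroup.subset_closure (Or.inl ⟨x, hx, y, hy, rfl⟩)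
  · intro x hx
    exact Subgroup.subset_closure (Or.inr ⟨x, hx, rfl⟩)
  · intro T h1 h2
    rw [Subgroup.closure_le]
    rintro z (⟨x, hx, y, hy, rfl⟩ | ⟨x, hx, rfl⟩)
    · exact h1 x hx y hy
    · exact h2 x hx

end G

end Cfsg.Agent.Helper33.SCH
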