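import Mathlib
import Cfsg.Agent.Lib.Helper32.C3Defs

/-!
# C3 server (helper32, S4415): piece QW `q_weights`
-/

set_option autoImplicit false

namespace Cfsg.Agent.Helper33.C3

open Cfsg.Agent.Helper32.C3

universe u v

/-- the group-theoretic part: `Q = {1, q₁, q₂, q₃}` with `b` permuting cyclically -/
theorem h33_four_elems {G : Type u} [Group G] (Q : Subgroup G) (b : G) (hb3 : b ^ 3 = 1)
    (hQ : Four Q b) : ∃ q₁ q₂ q₃ : G, (q₁ ∈ Q ∧ q₂ ∈ Q ∧ q₃ ∈ Q) ∧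
      (∀ q ∈ Q, q = 1 ∨ q = q₁ ∨ q = q₂ ∨ q = q₃) ∧
      (q₁ ≠ 1 ∧ q₂ ≠ 1 ∧ q₃ ≠ 1 ∧ q₁ ≠ q₂ ∧ q₂ ≠ q₃ ∧ q₁ ≠ q₃) ∧
      (q₁ * q₁ = 1 ∧ q₂ * q₂ = 1 ∧ q₃ * q₃ = 1) ∧
      (q₁ * q₂ = q₃ ∧ q₂ * q₁ = q₃ ∧ q₂ * q₃ = q₁ ∧ q₃ * q₂ = q₁ ∧ q₁ * q₃ = q₂ ∧
        q₃ * q₁ = q₂) ∧
      (b * q₁ * b⁻¹ = q₂ ∧ b * q₂ * b⁻¹ = q₃ ∧ b * q₃ * b⁻¹ = q₁) := by
  classical
  obtain ⟨hcard, hsq, hnorm, q₁, hq₁, hq₁b⟩ := hQ
  have hfin : Finite Q := Nat.finite_of_card_ne_zero (by rw [hcard]; norm_num)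
  have : Fintype Q := Fintype.ofFinite Q
  have hm2 : b * q₁ * b⁻¹ ∈ Q := hnorm _ hq₁
  have hm3 : b * (b * q₁ * b⁻¹) * b⁻¹ ∈ Q := hnorm _ hm2
  have hc3 : b * (b * (b * q₁ * b⁻¹) * b⁻¹) * b⁻¹ = q₁ := by
    have : b * (b * (b * q₁ * b⁻¹) * b⁻¹) * b⁻¹ = b ^ 3 * q₁ * (b ^ 3)⁻¹ := by
      simp only [pow_succ, pow_zero, one_mul, mul_inv_rev, mul_assoc]
    rw [this, hb3]; simp
  have cinj : ∀ x y : G, b * x * b⁻¹ = b * y * b⁻¹ → x = y := fun x y hxy =>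
    mul_left_cancel (mul_right_cancel hxy)
  obtain ⟨q₂, hq₂⟩ : ∃ q₂, q₂ = b * q₁ * b⁻¹ := ⟨_, rfl⟩
  rw [← hq₂] at hm2 hm3 hc3 hq₁b
  obtain ⟨q₃, hq₃⟩ : ∃ q₃, q₃ = b * q₂ * b⁻¹ := ⟨_, rfl⟩
  rw [← hq₃] at hm3 hc3
  have n1 : q₁ ≠ 1 := by
    intro h1; apply hq₁b; rw [hq₂, h1]; simp
  have n12 : q₁ ≠ q₂ := fun h => hq₁b h.symm
  have n2 : q₂ ≠ 1 := by
    intro h2; apply n1; apply cinj; rw [← hq₂, h2]; simp
  have n23 : q₂ ≠ q₃ := by
    intro h23; apply n12; apply cinj; rw [← hq₂, ← hq₃]; exact h23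
  have n3 : q₃ ≠ 1 := by
    intro h3; apply n2; apply cinj; rw [← hq₃, h3]; simp
  have n13 : q₁ ≠ q₃ := by
    intro h13; apply n12; rw [hq₂]; rw [← h13] at hc3; exact hc3.symm
  have hall : ∀ q ∈ Q, q = 1 ∨ q = q₁ ∨ q = q₂ ∨ q = q₃ := by
    intro q hq
    let s : Finset Q := {⟨1, Q.one_mem⟩, ⟨q₁, hq₁⟩, ⟨q₂, hm2⟩, ⟨q₃, hm3⟩}
    have hs : s.card = 4 := by
      simp only [s]
      rw [Finset.card_insert_of_notMem, Finset.card_insert_of_notMem,
        Finset.card_insert_of_notMem, Finset.card_singleton]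
      · simp [Subtype.ext_iff, n23]
      · simp [Subtype.ext_iff, n12, n13]
      · simp [Subtype.ext_iff, n1.symm, n2.symm, n3.symm]
    have hsu : s = Finset.univ := Finset.eq_univ_of_card s (by
      rw [hs, ← Nat.card_eq_fintype_card, hcard])
    have hm : (⟨q, hq⟩ : Q) ∈ s := by rw [hsu]; exact Finset.mem_univ _
    simpa [s, Subtype.ext_iff] using hm
  have third : ∀ x y z : G, x ∈ Q → y ∈ Q → x * x = 1 → y * y = 1 → x ≠ 1 → y ≠ 1 → x ≠ y →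
      (∀ q ∈ Q, q = 1 ∨ q = x ∨ q = y ∨ q = z) → x * y = z := by
    intro x y z hx hy hxx hyy hx1 hy1 hxy hal
    rcases hal (x * y) (Q.mul_mem hx hy) with h | h | h | h
    · exfalso; apply hxy
      have : x * y = x * x := by rw [h, hxx]
      exact (mul_left_cancel this).symm
    · exfalso; apply hy1
      have : x * y = x * 1 := by rw [h, mul_one]
      exact mul_left_cancel this
    · exfalso; apply hx1
      have : x * y = 1 * y := by rw [h, one_mul]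
      exact mul_right_cancel this
    · exact h
  have s1 := hsq q₁ hq₁
  have s2 := hsq q₂ hm2
  have s3 := hsq q₃ hm3
  refine ⟨q₁, q₂, q₃, ⟨hq₁, hm2, hm3⟩, hall, ⟨n1, n2, n3, n12, n23, n13⟩, ⟨s1, s2, s3⟩,
    ⟨?_, ?_, ?_, ?_, ?_, ?_⟩, ⟨hq₂.symm, hq₃.symm, hc3⟩⟩
  · exact third q₁ q₂ q₃ hq₁ hm2 s1 s2 n1 n2 n12 hall
  · exact third q₂ q₁ q₃ hm2 hq₁ s2 s1 n2 n1 n12.symm (fun q hq => by
      rcases hall q hq with h | h | h | h <;> simp [h])
  · exact third q₂ q₃ q₁ hm2 hm3 s2 s3 n2 n3 n23 (fun q hq => by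
      rcases hall q hq with h | h | h | h <;> simp [h])
  · exact third q₃ q₂ q₁ hm3 hm2 s3 s2 n3 n2 n23.symm (fun q hq => by
      rcases hall q hq with h | h | h | h <;> simp [h])
  · exact third q₁ q₃ q₂ hq₁ hm3 s1 s3 n1 n3 n13 (fun q hq => by
      rcases hall q hq with h | h | h | h <;> simp [h])
  · exact third q₃ q₁ q₂ hm3 hq₁ s3 s1 n3 n1 n13.symm (fun q hq => by
      rcases hall q hq with h | h | h | h <;> simp [h])

/-- the three sign computations for a projection `1 + A - B - C` of a four-group -/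
theorem h33_eig {V : Type v} [AddCommGroup V] [Module (ZMod 3) V] (A B C : V →ₗ[ZMod 3] V)
    (hAA : ∀ x, A (A x) = x) (hBB : ∀ x, B (B x) = x) (hCC : ∀ x, C (C x) = x)
    (hAB : ∀ x, A (B x) = C x) (hBA : ∀ x, B (A x) = C x) (hAC : ∀ x, A (C x) = B x)
    (hCA : ∀ x, C (A x) = B x) (hBC : ∀ x, B (C x) = A x) (hCB : ∀ x, C (B x) = A x) (x : V) :
    A (x + A x - B x - C x) = x + A x - B x - C x ∧
    B (x + A x - B x - C x) = -(x + A x - B x - C x) ∧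
    C (x + A x - B x - C x) = -(x + A x - B x - C x) := by
  refine ⟨?_, ?_, ?_⟩ <;>
    simp only [map_add, map_sub, hAA, hBB, hCC, hAB, hBA, hAC, hCA, hBC, hCB] <;> abel

theorem q_weights {G : Type u} [Group G] [Finite G] {V : Type v} [AddCommGroup V]
    [Module (ZMod 3) V] [Finite V] (ρ : Representation (ZMod 3) G V) (R Q : Subgroup G) (b : G)
    (h : Cfg ρ R Q b) :
    ∃ (q₁ q₂ q₃ : G) (v₁ v₂ v₃ : V), QWeights ρ Q b q₁ q₂ q₃ v₁ v₂ v₃ := by
  obtain ⟨q₁, q₂, q₃, hmem, hall, hne, hsq, hmul, hconj⟩ := h33_four_elems Q b h.b3 h.four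
  obtain ⟨m12, m21, m23, m32, m13, m31⟩ := hmul
  obtain ⟨s1, s2, s3⟩ := hsq
  obtain ⟨c1, c2, c3⟩ := hconj
  have hA : ∀ (g k : G) (x : V), ρ g (ρ k x) = ρ (g * k) x := fun g k x => by
    rw [map_mul]; rfl
  have h1 : ∀ x : V, ρ 1 x = x := fun x => by rw [map_one]; rfl
  have h3 : ∀ x : V, x + x + x = 0 := fun x => by
    have : x + x + x = (3 : ZMod 3) • x := by module
    rw [this, show (3 : ZMod 3) = 0 from by decide, zero_smul]
  have z2 : ∀ t : ZMod 3, t + t = 0 → t = 0 := by decide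
  have cb1 : q₂ * b = b * q₁ := by rw [← c1]; group
  have cb2 : q₃ * b = b * q₂ := by rw [← c2]; group
  have cb3 : q₁ * b = b * q₃ := by rw [← c3]; group
  have hbbb : b * b * b = 1 := by rw [← h.b3]; simp [pow_succ]
  have hb3v : ∀ x : V, ρ b (ρ b (ρ b x)) = x := fun x => by
    rw [hA, hA, hbbb, h1]
  have r11 : ∀ x, ρ q₁ (ρ q₁ x) = x := fun x => by rw [hA, s1, h1]
  have r22 : ∀ x, ρ q₂ (ρ q₂ x) = x := fun x => by rw [hA, s2, h1]
  have r33 : ∀ x, ρ q₃ (ρ q₃ x) = x := fun x => by rw [hA, s3, h1]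
  have r12 : ∀ x, ρ q₁ (ρ q₂ x) = ρ q₃ x := fun x => by rw [hA, m12]
  have r21 : ∀ x, ρ q₂ (ρ q₁ x) = ρ q₃ x := fun x => by rw [hA, m21]
  have r23 : ∀ x, ρ q₂ (ρ q₃ x) = ρ q₁ x := fun x => by rw [hA, m23]
  have r32 : ∀ x, ρ q₃ (ρ q₂ x) = ρ q₁ x := fun x => by rw [hA, m32]
  have r13 : ∀ x, ρ q₁ (ρ q₃ x) = ρ q₂ x := fun x => by rw [hA, m13]
  have r31 : ∀ x, ρ q₃ (ρ q₁ x) = ρ q₂ x := fun x => by rw [hA, m31]
  have rb1 : ∀ x, ρ q₂ (ρ b x) = ρ b (ρ q₁ x) := fun x => by rw [hA, hA, cb1]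
  have rb2 : ∀ x, ρ q₃ (ρ b x) = ρ b (ρ q₂ x) := fun x => by rw [hA, hA, cb2]
  have rb3 : ∀ x, ρ q₁ (ρ b x) = ρ b (ρ q₃ x) := fun x => by rw [hA, hA, cb3]
  have E1 := fun x => h33_eig (ρ q₁) (ρ q₂) (ρ q₃) r11 r22 r33 r12 r21 r13 r31 r23 r32 x
  have E2 := fun x => h33_eig (ρ q₂) (ρ q₁) (ρ q₃) r22 r11 r33 r21 r12 r23 r32 r13 r31 x
  have E3 := fun x => h33_eig (ρ q₃) (ρ q₁) (ρ q₂) r33 r11 r22 r31 r13 r32 r23 r12 r21 x
  -- Step 1 : a nonzero vector of weight (+,-,-)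
  obtain ⟨x0, hx0⟩ : ∃ x : V, x + ρ q₁ x - ρ q₂ x - ρ q₃ x ≠ 0 := by
    by_contra hcon
    simp only [not_exists, not_not] at hcon
    have hz2 : ∀ y : V, y + ρ q₂ y - ρ q₃ y - ρ q₁ y = 0 := by
      intro y
      have := congrArg (ρ b) (hcon (ρ b (ρ b y)))
      simp only [map_add, map_sub, map_zero, ← rb1, ← rb2, ← rb3, hb3v] at this
      exact this
    have key : ∀ x : V, ρ q₃ x = x := by
      intro x
      linear_combination (norm := module) hcon x + hz2 x + h3 (ρ q₃ x) - h3 x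
    have : ρ q₃ = ρ 1 := by
      ext x; rw [h1]; exact key x
    exact hne.2.2.1 (h.faith this)
  obtain ⟨v₁, hv₁, a11, a21, a31⟩ : ∃ v₁ : V, v₁ ≠ 0 ∧ ρ q₁ v₁ = v₁ ∧ ρ q₂ v₁ = -v₁ ∧
      ρ q₃ v₁ = -v₁ := ⟨_, hx0, E1 x0⟩
  obtain ⟨v₂, hv₂⟩ : ∃ v₂ : V, v₂ = ρ b v₁ := ⟨_, rfl⟩
  obtain ⟨v₃, hv₃⟩ : ∃ v₃ : V, v₃ = ρ b v₂ := ⟨_, rfl⟩
  have bv3 : ρ b v₃ = v₁ := by rw [hv₃, hv₂, hb3v]
  have a22 : ρ q₂ v₂ = v₂ := by rw [hv₂, rb1, a11]
  have a32 : ρ q₃ v₂ = -v₂ := by rw [hv₂, rb2, a21, map_neg]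
  have a12 : ρ q₁ v₂ = -v₂ := by rw [hv₂, rb3, a31, map_neg]
  have a23 : ρ q₂ v₃ = -v₃ := by rw [hv₃, rb1, a12, map_neg]
  have a33 : ρ q₃ v₃ = v₃ := by rw [hv₃, rb2, a22]
  have a13 : ρ q₁ v₃ = -v₃ := by rw [hv₃, rb3, a32, map_neg]
  have hv₂0 : v₂ ≠ 0 := by
    intro h0; apply hv₁; rw [← bv3, hv₃, h0, map_zero, map_zero]
  have hv₃0 : v₃ ≠ 0 := by
    intro h0; apply hv₁; rw [← bv3, h0, map_zero]
  -- Step 3 : independence
  have htriple : ∀ a c d : ZMod 3, a • v₁ + c • v₂ + d • v₃ = 0 → a = 0 ∧ c = 0 ∧ d = 0 := by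
    intro a c d H
    have H1 := congrArg (ρ q₁) H
    have H2 := congrArg (ρ q₂) H
    have H3 := congrArg (ρ q₃) H
    simp only [map_add, map_smul, map_zero, a11, a12, a13] at H1
    simp only [map_add, map_smul, map_zero, a21, a22, a23] at H2
    simp only [map_add, map_smul, map_zero, a31, a32, a33] at H3
    refine ⟨?_, ?_, ?_⟩
    · have : (a + a) • v₁ = 0 := by linear_combination (norm := module) H + H1
      rcases smul_eq_zero.1 this with h | h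
      · exact z2 a h
      · exact absurd h hv₁
    · have : (c + c) • v₂ = 0 := by linear_combination (norm := module) H + H2
      rcases smul_eq_zero.1 this with h | h
      · exact z2 c h
      · exact absurd h hv₂0
    · have : (d + d) • v₃ = 0 := by linear_combination (norm := module) H + H3
      rcases smul_eq_zero.1 this with h | h
      · exact z2 d h
      · exact absurd h hv₃0
  have hli : LinearIndependent (ZMod 3) ![v₁, v₂, v₃] := by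
    rw [Fintype.linearIndependent_iff]
    intro g hg
    rw [Fin.sum_univ_three] at hg
    simp only [Matrix.cons_val_zero, Matrix.cons_val_one, Matrix.cons_val_two,
      Matrix.head_cons, Matrix.tail_cons] at hg
    obtain ⟨g0, g1, g2⟩ := htriple _ _ _ hg
    intro i
    fin_cases i
    · exact g0
    · exact g1
    · exact g2
  -- Step 4 : the range of `b - 1`
  have hli2 : LinearIndependent (ZMod 3) ![v₂ - v₁, v₃ - v₂] := by
    rw [LinearIndependent.pair_iff]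
    intro s t hst
    obtain ⟨k1, k2, k3⟩ := htriple (-s) (s - t) t (by linear_combination (norm := module) hst)
    exact ⟨neg_eq_zero.1 k1, k3⟩
  have hspan : Submodule.span (ZMod 3) (Set.range ![v₂ - v₁, v₃ - v₂]) =
      LinearMap.range (dl ρ b) := by
    apply Submodule.eq_of_le_of_finrank_eq
    · rw [Submodule.span_le]
      rintro _ ⟨i, rfl⟩
      fin_cases i
      · exact ⟨v₁, by rw [dl_apply, hv₂]; rfl⟩
      · exact ⟨v₂, by rw [dl_apply, hv₃]; rfl⟩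
    · rw [finrank_span_eq_card hli2, h.cubic.1]; simp
  have hrange : ∀ y : V, ∃ α β : ZMod 3, ρ b y - y = α • (v₂ - v₁) + β • (v₃ - v₂) := by
    intro y
    have hy : dl ρ b y ∈ Submodule.span (ZMod 3) (Set.range ![v₂ - v₁, v₃ - v₂]) := by
      rw [hspan]; exact ⟨y, rfl⟩
    rw [Submodule.mem_span_range_iff_exists_fun] at hy
    obtain ⟨c, hc⟩ := hy
    refine ⟨c 0, c 1, ?_⟩
    rw [← dl_apply, ← hc, Fin.sum_univ_two]; rfl
  -- Step 5 : the weight spaces are lines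
  have sp1 : ∀ x : V, ρ q₁ x = x → ρ q₂ x = -x → ρ q₃ x = -x → ∃ c : ZMod 3, x = c • v₁ := by
    intro x e1 e2 e3
    obtain ⟨α, β, hαβ⟩ := hrange x
    have H1 := congrArg (ρ q₁) hαβ
    simp only [map_add, map_sub, map_smul, rb3, e3, e1, map_neg, a11, a12, a13] at H1
    exact ⟨α, by linear_combination (norm := module) hαβ + H1 + h3 x - α • h3 v₁⟩
  have sp2 : ∀ x : V, ρ q₂ x = x → ρ q₁ x = -x → ρ q₃ x = -x → ∃ c : ZMod 3, x = c • v₂ := by
    intro x e2 e1 e3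
    obtain ⟨α, β, hαβ⟩ := hrange x
    have H2 := congrArg (ρ q₂) hαβ
    simp only [map_add, map_sub, map_smul, rb1, e1, e2, map_neg, a21, a22, a23] at H2
    exact ⟨β - α, by linear_combination (norm := module) hαβ + H2 + h3 x + (α - β) • h3 v₂⟩
  have sp3 : ∀ x : V, ρ q₃ x = x → ρ q₁ x = -x → ρ q₂ x = -x → ∃ c : ZMod 3, x = c • v₃ := by
    intro x e3 e1 e2
    obtain ⟨α, β, hαβ⟩ := hrange x
    have H3 := congrArg (ρ q₃) hαβ
    simp only [map_add, map_sub, map_smul, rb2, e2, e3, map_neg, a31, a32, a33] at H3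
    exact ⟨-β, by linear_combination (norm := module) hαβ + H3 + h3 x + β • h3 v₃⟩
  -- Step 6 : decomposition
  have hdec : ∀ x : V, ∃ f : V, (∀ q ∈ Q, ρ q f = f) ∧ ∃ c₁ c₂ c₃ : ZMod 3,
      x = f + c₁ • v₁ + c₂ • v₂ + c₃ • v₃ := by
    intro x
    obtain ⟨c₁, hc₁⟩ := sp1 _ (E1 x).1 (E1 x).2.1 (E1 x).2.2
    obtain ⟨c₂, hc₂⟩ := sp2 _ (E2 x).1 (E2 x).2.1 (E2 x).2.2
    obtain ⟨c₃, hc₃⟩ := sp3 _ (E3 x).1 (E3 x).2.1 (E3 x).2.2
    refine ⟨x + ρ q₁ x + ρ q₂ x + ρ q₃ x, ?_, c₁, c₂, c₃, ?_⟩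
    · intro q hq
      rcases hall q hq with hq' | hq' | hq' | hq' <;> rw [hq']
      · rw [h1]
      · simp only [map_add, r11, r12, r13]; abel
      · simp only [map_add, r21, r22, r23]; abel
      · simp only [map_add, r31, r32, r33]; abel
    · rw [← hc₁, ← hc₂, ← hc₃]
      linear_combination (norm := module) -h3 x
  -- Step 7 : `b` is trivial on the fixed points of `Q`
  have hfixb : ∀ x ∈ fixS ρ Q, ρ b x = x := by
    intro x hx
    have f1 := hx q₁ hmem.1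
    have f3 := hx q₃ hmem.2.2
    obtain ⟨α, β, hαβ⟩ := hrange x
    have H1 := congrArg (ρ q₁) hαβ
    simp only [map_add, map_sub, map_smul, rb3, f3, f1, a11, a12, a13] at H1
    obtain ⟨-, hc, hd⟩ := htriple 0 (α + α - β - β) (β + β)
      (by linear_combination (norm := module) H1 - hαβ)
    have hβ : β = 0 := z2 β hd
    have hα : α = 0 := z2 α (by rw [hβ] at hc; simpa using hc)
    rw [hα, hβ] at hαβ
    simpa [sub_eq_zero] using hαβ
  -- Step 8 : `[V, Q]`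
  have hcom : comS ρ Q = Submodule.span (ZMod 3) {v₁, v₂, v₃} := by
    apply le_antisymm
    · apply Submodule.span_le.2
      rintro w ⟨g, hg, x, rfl⟩
      obtain ⟨f, hf, c₁, c₂, c₃, hx⟩ := hdec x
      rw [SetLike.mem_coe, Submodule.mem_span_triple]
      rcases hall g hg with hg' | hg' | hg' | hg'
      · exact ⟨0, 0, 0, by rw [hg', h1]; simp⟩
      · refine ⟨0, c₂, c₃, ?_⟩
        rw [hg', hx]
        simp only [map_add, map_smul, hf q₁ hmem.1, a11, a12, a13]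
        linear_combination (norm := module) c₂ • h3 v₂ + c₃ • h3 v₃
      · refine ⟨c₁, 0, c₃, ?_⟩
        rw [hg', hx]
        simp only [map_add, map_smul, hf q₂ hmem.2.1, a21, a22, a23]
        linear_combination (norm := module) c₁ • h3 v₁ + c₃ • h3 v₃
      · refine ⟨c₁, c₂, 0, ?_⟩
        rw [hg', hx]
        simp only [map_add, map_smul, hf q₃ hmem.2.2, a31, a32, a33]
        linear_combination (norm := module) c₁ • h3 v₁ + c₂ • h3 v₂
    · apply Submodule.span_le.2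
      intro w hw
      simp only [Set.mem_insert_iff, Set.mem_singleton_iff] at hw
      rcases hw with hw | hw | hw <;> rw [hw, SetLike.mem_coe]
      · have hh := sub_mem_comS ρ Q hmem.2.1 v₁
        rwa [a21, show -v₁ - v₁ = v₁ from by
          linear_combination (norm := module) -h3 v₁] at hh
      · have hh := sub_mem_comS ρ Q hmem.1 v₂
        rwa [a12, show -v₂ - v₂ = v₂ from by
          linear_combination (norm := module) -h3 v₂] at hh
      · have hh := sub_mem_comS ρ Q hmem.1 v₃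
        rwa [a13, show -v₃ - v₃ = v₃ from by
          linear_combination (norm := module) -h3 v₃] at hh
  -- Step 9 : the decomposition `V = C_V(Q) ⊕ [V, Q]`
  have hinf : fixS ρ Q ⊓ comS ρ Q = ⊥ := by
    rw [eq_bot_iff]
    rintro w ⟨hw1, hw2⟩
    rw [hcom, SetLike.mem_coe, Submodule.mem_span_triple] at hw2
    obtain ⟨a, c, d, rfl⟩ := hw2
    have f1 := hw1 q₁ hmem.1
    have f2 := hw1 q₂ hmem.2.1
    simp only [map_add, map_smul, a11, a12, a13] at f1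
    simp only [map_add, map_smul, a21, a22, a23] at f2
    obtain ⟨-, hc, hd⟩ := htriple 0 (c + c) (d + d)
      (by linear_combination (norm := module) -f1)
    obtain ⟨ha, -, -⟩ := htriple (a + a) 0 (d + d)
      (by linear_combination (norm := module) -f2)
    rw [z2 a ha, z2 c hc, z2 d hd]
    simp
  have hsup : fixS ρ Q ⊔ comS ρ Q = ⊤ := by
    rw [eq_top_iff]
    intro x _
    obtain ⟨f, hf, c₁, c₂, c₃, hx⟩ := hdec x
    refine Submodule.mem_sup.2 ⟨f, hf, c₁ • v₁ + c₂ • v₂ + c₃ • v₃, ?_, ?_⟩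
    · rw [hcom, Submodule.mem_span_triple]
      exact ⟨c₁, c₂, c₃, rfl⟩
    · rw [hx]; abel
  exact ⟨q₁, q₂, q₃, v₁, v₂, v₃,
    { mem := hmem
      all := hall
      ne := hne
      sq := ⟨s1, s2, s3⟩
      mul := ⟨m12, m21, m23, m32, m13, m31⟩
      conj := ⟨c1, c2, c3⟩
      li := hli
      bv := ⟨hv₂.symm, hv₃.symm, bv3⟩
      act₁ := ⟨a11, a12, a13⟩
      act₂ := ⟨a21, a22, a23⟩
      act₃ := ⟨a31, a32, a33⟩
      com := hcom
      fixb := hfixb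
      dec := ⟨hinf, hsup⟩ }⟩

end Cfsg.Agent.Helper33.C3
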