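import Mathlib
import Cfsg.Agent.Lib.Helper32.N5Defs

/-!
N5 piece (K) for helper32's lemma server (S1904): involutions of a normal abelian subgroup
containing a four-group `V` lie in `V`, given (P1).
-/

set_option autoImplicit false

namespace Cfsg.Agent.Helper33.N5

open Cfsg Cfsg.Agent.Helper32.N5
open scoped commutatorElement

universe u

variable {X : Type u} [Group X] [Finite X]

theorem invol_mem_of_normal_abelian
    (hP1 : ∀ E : Subgroup X, E.Normal → Cfsg.IsElementaryAbelian 2 E → Nat.card E ≤ 4)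
    (V : Subgroup X) (hVe : ∀ v ∈ V, v ^ 2 = 1) (hV4 : Nat.card V = 4)
    (N : Subgroup X) (hN : N.Normal) (hNab : Ab N) (hVN : V ≤ N) (x : X) (hx : x ∈ N) (hx2 : x ^ 2 = 1) :
    x ∈ V := by
  let Ω : Subgroup X :=
    { carrier := {y | y ∈ N ∧ y ^ 2 = 1}
      mul_mem' := by
        rintro a b ⟨ha, ha2⟩ ⟨hb, hb2⟩
        refine ⟨N.mul_mem ha hb, ?_⟩
        have hc : Commute a b := hNab a ha b hb
        rw [hc.mul_pow, ha2, hb2, one_mul]
      one_mem' := ⟨N.one_mem, one_pow 2⟩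
      inv_mem' := by
        rintro a ⟨ha, ha2⟩
        exact ⟨N.inv_mem ha, by rw [inv_pow, ha2, inv_one]⟩ }
  have hmem : ∀ y : X, y ∈ Ω ↔ y ∈ N ∧ y ^ 2 = 1 := fun y => Iff.rfl
  have hΩn : Ω.Normal := by
    refine ⟨fun n hn g => ?_⟩
    obtain ⟨hnN, hn2⟩ := (hmem n).1 hn
    refine (hmem _).2 ⟨hN.conj_mem n hnN g, ?_⟩
    rw [conj_pow, hn2, mul_one, mul_inv_cancel]
  have hΩe : Cfsg.IsElementaryAbelian 2 Ω := by
    refine ⟨⟨⟨fun a b => Subtype.ext ?_⟩⟩, fun a ha => ((hmem a).1 ha).2⟩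
    exact hNab a ((hmem a).1 a.2).1 b ((hmem b).1 b.2).1
  have hVΩ : V ≤ Ω := fun v hv => (hmem v).2 ⟨hVN hv, hVe v hv⟩
  have hcard : Nat.card Ω ≤ 4 := hP1 Ω hΩn hΩe
  have hEq : V = Ω := Subgroup.eq_of_le_of_card_ge hVΩ (by rw [hV4]; exact hcard)
  rw [hEq]
  exact (hmem x).2 ⟨hx, hx2⟩

end Cfsg.Agent.Helper33.N5
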