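import Mathlib
import Cfsg.Agent.Lib.Helper32.N5Defs
import Cfsg.Agent.Lib.Helper47.Frat
import Cfsg.Agent.Lib.Helper51.RuSylFrat

/-!
N5 piece (SPF) for helper32's lemma server (S1904): from `SpData Z` and `X' = Z` back to
`Cfsg.IsSpecial 2 X`.
-/

set_option autoImplicit false

namespace Cfsg.Agent.Helper33.N5

open Cfsg Cfsg.Agent.Helper32.N5
open scoped commutatorElement

universe u

variable {X : Type u} [Group X] [Finite X]

theorem isSpecial_of_spData (hX : IsPGroup 2 X) (Z : Subgroup X) (hd : SpData Z)
    (hcomm : commutator X = Z) : Cfsg.IsSpecial 2 X := by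
  have hfr : frattini X = Z := by
    apply le_antisymm
    · haveI : Z.Normal := by rw [hd.eqc]; infer_instance
      haveI : Fact (Nat.Prime 2) := ⟨Nat.prime_two⟩
      have h := Cfsg.Agent.Helper47.frattini_le_ker_of_elementary (p := 2) (QuotientGroup.mk' Z)
        (fun x y => by
          have hc : ⁅x, y⁆ ∈ Z := hd.comm x y
          have h1 : (QuotientGroup.mk' Z) ⁅x, y⁆ = 1 := by
            rw [QuotientGroup.mk'_apply, QuotientGroup.eq_one_iff]; exact hc
          rw [map_commutatorElement, commutatorElement_eq_one_iff_mul_comm] at h1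
          exact h1)
        (fun x => by
          rw [← map_pow, QuotientGroup.mk'_apply, QuotientGroup.eq_one_iff]
          exact hd.sq x)
      rwa [QuotientGroup.ker_mk'] at h
    · rw [← hcomm, commutator_def, Subgroup.commutator_le]
      intro a _ b _
      rw [commutatorElement_def]
      exact Cfsg.Agent.Helper51.RuSyl.comm_mem_frattini hX a b
  refine ⟨hX, ?_, ?_⟩
  · rw [hfr, hd.eqc]
  · rw [hcomm, hd.eqc]

end Cfsg.Agent.Helper33.N5
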