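import Cfsg.Agent.Lib.Helper33.BG11I

/-!
# `lemmaI_gen` (I') and `p1` (P1) in the shapes requested by helper17 (#2684)
-/

set_option autoImplicit false
open Pointwise

namespace Cfsg.Agent.Helper33.BG125

open Subgroup Cfsg
open Cfsg.Agent.Helper33

variable {G : Type*} [Group G] [Finite G]

/-- (I'): `A ≤ M^g`, `H` proper over `A`, `q` divides `|M_σ ∩ H|` and `|(M_σ)^g ∩ H|` ⟹ `g ∈ M`. -/
theorem lemmaI_gen (hG : Cfsg.IsMinSimpleOddOrder G) (M : Subgroup G) (hM : IsCoatom M)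
    (p : ℕ) [Fact p.Prime] (hp : p ∈ Cfsg.tau2 M) (A : Subgroup G)
    (hA : A ≤ M ∧ Cfsg.IsElementaryAbelian p A ∧ Nat.card A = p ^ 2)
    (hCA : Subgroup.centralizer (A : Set G) ≤ M) (g : G) (hAg : A ≤ MulAut.conj g • M)
    (H : Subgroup G) (hH : H ≠ ⊤) (hAH : A ≤ H) (q : ℕ) (hq : q.Prime)
    (h1 : q ∣ Nat.card (Cfsg.sigmaCore M ⊓ H : Subgroup G))
    (h2 : q ∣ Nat.card ((MulAut.conj g • Cfsg.sigmaCore M) ⊓ H : Subgroup G)) : g ∈ M := by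
  have : Fact q.Prime := ⟨hq⟩
  rw [inf_comm] at h1 h2
  exact Cfsg.Agent.Helper33.BG11I.key_dvd hG M hM p hp A hA hCA g hAg H hH hAH q h1 h2

/-- (P1): `H` proper over `A` with `M_σ ∩ H ≠ 1`; if `h ∈ H` and `A^h ≤ M` then `h ∈ M`. -/
theorem p1 (hG : Cfsg.IsMinSimpleOddOrder G) (M : Subgroup G) (hM : IsCoatom M)
    (p : ℕ) [Fact p.Prime] (hp : p ∈ Cfsg.tau2 M) (A : Subgroup G)
    (hA : A ≤ M ∧ Cfsg.IsElementaryAbelian p A ∧ Nat.card A = p ^ 2)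
    (hCA : Subgroup.centralizer (A : Set G) ≤ M)
    (H : Subgroup G) (hH : H ≠ ⊤) (hAH : A ≤ H) (hne : Cfsg.sigmaCore M ⊓ H ≠ ⊥)
    (h : G) (hh : h ∈ H) (hhA : MulAut.conj h • A ≤ M) : h ∈ M := by
  have hcard : Nat.card (Cfsg.sigmaCore M ⊓ H : Subgroup G) ≠ 1 :=
    fun h1 => hne (Subgroup.card_eq_one.mp h1)
  obtain ⟨q, hq, hqD⟩ := Nat.exists_prime_and_dvd hcard
  have hAg : A ≤ MulAut.conj h⁻¹ • M := by
    have := conj_smul_le_conj_smul (g := h⁻¹) hhA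
    rwa [conj_inv_smul_smul] at this
  have h2 : q ∣ Nat.card ((MulAut.conj h⁻¹ • Cfsg.sigmaCore M) ⊓ H : Subgroup G) := by
    have e : (MulAut.conj h⁻¹ • Cfsg.sigmaCore M) ⊓ H =
        MulAut.conj h⁻¹ • (Cfsg.sigmaCore M ⊓ H) := by
      rw [conj_smul_inf, conj_smul_eq_self_of_mem (H.inv_mem hh)]
    rw [e, card_conj_smul]
    exact hqD
  have := lemmaI_gen hG M hM p hp A hA hCA h⁻¹ hAg H hH hAH q hq hqD h2
  simpa using M.inv_mem this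

end Cfsg.Agent.Helper33.BG125
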