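import Cfsg.Agent.Lib.Helper1.CD3.Defs
import Cfsg.Agent.Lib.Helper74.LinChar
import Mathlib

/-!
# CD3B (Q1) `exists_extension` (helper1 server, S4460)

A linear character `ν` of the normal subgroup `W` extends to its inertia group when `G = W N` with
`W ∩ N ≤ W'`.
-/

set_option autoImplicit false

namespace Cfsg.Agent.Helper33.CD3B

open Cfsg Cfsg.Agent.Helper81 Cfsg.Agent.Helper1.CD3

universe u

/-- a hom from a subgroup to a commutative group kills the elements lying in `⁅W, W⁆` -/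
theorem h33_hom_commutator {G : Type u} [Group G] (W : Subgroup G) (φ : W →* ℂˣ) (x : W)
    (hx : (x : G) ∈ ⁅W, W⁆) : φ x = 1 := by
  rw [← Subgroup.map_subtype_commutator] at hx
  obtain ⟨y, hy, hyx⟩ := Subgroup.mem_map.1 hx
  have hxy : y = x := Subtype.ext hyx
  rw [← hxy]
  exact MonoidHom.mem_ker.1 (Abelianization.commutator_subset_ker φ hy)

/-- a hom from a subgroup to a commutative group is invariant under inner conjugation -/
theorem h33_hom_conj {G : Type u} [Group G] (W : Subgroup G) (φ : W →* ℂˣ) (g n : W)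
    (h : g.1 * n.1 * g.1⁻¹ ∈ W) : φ ⟨g.1 * n.1 * g.1⁻¹, h⟩ = φ n := by
  have e : (⟨g.1 * n.1 * g.1⁻¹, h⟩ : W) = g * n * g⁻¹ := Subtype.ext rfl
  rw [e, map_mul, map_mul, map_inv, mul_comm (φ g), mul_assoc, mul_inv_cancel, mul_one]

/-- (Q1) [HARD] a linear character `ν` of `W` extends to its inertia group when `G = W N` with `W ∩ N ≤ W'`.
Proof: `T := stab W hW ν ⊇ W` (class function).  Dedekind: `T = W (T ⊓ N)`.  Define `μ(w h) := ν w` for `w ∈ W`,
`h ∈ T ⊓ N`: well defined since `W ⊓ N ≤ ⁅W,W⁆ ≤ ker ν` (`ν` is a hom to `ℂˣ`: `Helper74.toHom`), multiplicative since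
`h ∈ T` fixes `ν`: `ν(h w h⁻¹) = ν w`.  So `μ` is a hom `T →* ℂˣ`, an irreducible (linear) character (`Helper74.ofHom`). -/
theorem exists_extension {G : Type u} [Group G] [Finite G] (W : Subgroup G) (hW : W.Normal) (N : Subgroup G)
    (hsup : W ⊔ N = ⊤) (hint : W ⊓ N ≤ ⁅W, W⁆) (ν : W → ℂ) (hν : IsIrrCharacter W ν) (h1 : ν 1 = 1) :
    ∃ (hle : W ≤ stab W hW ν) (μ : stab W hW ν → ℂ), IsIrrCharacter (stab W hW ν) μ ∧ μ 1 = 1 ∧
      ∀ w : W, μ ⟨(w : G), hle w.2⟩ = ν w := by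
  classical
  haveI := hW
  -- the hom
  let φ : W →* ℂˣ := Cfsg.Agent.Helper74.Lin.toHom ⟨ν, hν⟩ h1
  have hφ : ∀ w : W, ((φ w : ℂˣ) : ℂ) = ν w := fun w => rfl
  have hνφ : ∀ w w' : W, φ w = φ w' → ν w = ν w' := by
    intro w w' h
    rw [← hφ w, ← hφ w', h]
  have hφν : ∀ w w' : W, ν w = ν w' → φ w = φ w' := by
    intro w w' h
    apply Units.ext
    rw [hφ w, hφ w', h]
  -- W ≤ T
  have hle : W ≤ stab W hW ν := by
    intro g hg
    rw [mem_stab]
    funext n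
    rw [conjFun_apply]
    exact hνφ _ _ (h33_hom_conj W φ ⟨g, hg⟩ n _)
  refine ⟨hle, ?_⟩
  -- membership in T in terms of φ
  have hT : ∀ t : G, t ∈ stab W hW ν → ∀ n : W, ∀ h : t * n.1 * t⁻¹ ∈ W,
      φ ⟨t * n.1 * t⁻¹, h⟩ = φ n := by
    intro t ht n h
    apply hφν
    have := congrFun ((mem_stab W hW ν t).1 ht) n
    rw [conjFun_apply] at this
    exact this
  -- decomposition
  have hdec : ∀ t : G, ∃ w ∈ W, ∃ h ∈ N, w * h = t := by
    intro t
    have ht : t ∈ W ⊔ N := by rw [hsup]; trivial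
    exact Subgroup.mem_sup_of_normal_left.1 ht
  -- key: independence of the decomposition
  have hkey : ∀ (w w' : W) (h h' : G), h ∈ N → h' ∈ N → w.1 * h = w'.1 * h' → φ w = φ w' := by
    intro w w' h h' hh hh' e
    have e1 : (w'⁻¹ * w : W).1 = h' * h⁻¹ := by
      have : (w'⁻¹ * w : W).1 = w'.1⁻¹ * w.1 := rfl
      rw [this]
      calc w'.1⁻¹ * w.1 = w'.1⁻¹ * (w.1 * h) * h⁻¹ := by group
        _ = w'.1⁻¹ * (w'.1 * h') * h⁻¹ := by rw [e]
        _ = h' * h⁻¹ := by group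
    have hmem : (w'⁻¹ * w : W).1 ∈ ⁅W, W⁆ := by
      apply hint
      refine ⟨(w'⁻¹ * w : W).2, ?_⟩
      rw [e1]
      exact N.mul_mem hh' (N.inv_mem hh)
    have h2 := h33_hom_commutator W φ (w'⁻¹ * w) hmem
    rw [map_mul, map_inv, inv_mul_eq_one] at h2
    exact h2.symm
  -- the function
  let wOf : G → G := fun t => Classical.choose (hdec t)
  have hwOf : ∀ t, wOf t ∈ W := fun t => (Classical.choose_spec (hdec t)).1
  let hOf : G → G := fun t => Classical.choose (Classical.choose_spec (hdec t)).2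
  have hhOf : ∀ t, hOf t ∈ N := fun t => (Classical.choose_spec (Classical.choose_spec (hdec t)).2).1
  have hwh : ∀ t, wOf t * hOf t = t :=
    fun t => (Classical.choose_spec (Classical.choose_spec (hdec t)).2).2
  let f : stab W hW ν → ℂˣ := fun t => φ ⟨wOf t.1, hwOf t.1⟩
  have hf : ∀ (t : stab W hW ν) (w : W) (h : G), h ∈ N → w.1 * h = t.1 → f t = φ w := by
    intro t w h hh e
    exact hkey ⟨wOf t.1, hwOf t.1⟩ w (hOf t.1) h (hhOf t.1) hh ((hwh t.1).trans e.symm)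
  have hmul : ∀ a b : stab W hW ν, f (a * b) = f a * f b := by
    intro a b
    -- a = w1 h1, b = w2 h2
    set w1 : W := ⟨wOf a.1, hwOf a.1⟩ with hw1
    set w2 : W := ⟨wOf b.1, hwOf b.1⟩ with hw2
    have ha : w1.1 * hOf a.1 = a.1 := hwh a.1
    have hb : w2.1 * hOf b.1 = b.1 := hwh b.1
    -- hOf a ∈ T
    have hh1T : hOf a.1 ∈ stab W hW ν := by
      have : hOf a.1 = w1.1⁻¹ * a.1 := eq_inv_mul_of_mul_eq ha
      rw [this]
      exact (stab W hW ν).mul_mem ((stab W hW ν).inv_mem (hle w1.2)) a.2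
    have hconjW : hOf a.1 * w2.1 * (hOf a.1)⁻¹ ∈ W := hW.conj_mem w2.1 w2.2 (hOf a.1)
    have hdecomp : (w1 * ⟨hOf a.1 * w2.1 * (hOf a.1)⁻¹, hconjW⟩ : W).1 * (hOf a.1 * hOf b.1)
        = (a * b : stab W hW ν).1 := by
      show w1.1 * (hOf a.1 * w2.1 * (hOf a.1)⁻¹) * (hOf a.1 * hOf b.1) = a.1 * b.1
      calc w1.1 * (hOf a.1 * w2.1 * (hOf a.1)⁻¹) * (hOf a.1 * hOf b.1)
          = (w1.1 * hOf a.1) * (w2.1 * hOf b.1) := by group
        _ = a.1 * b.1 := by rw [ha, hb]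
    rw [hf (a * b) _ _ (N.mul_mem (hhOf a.1) (hhOf b.1)) hdecomp, map_mul, hT _ hh1T w2 hconjW]
  let ψ : stab W hW ν →* ℂˣ := MonoidHom.mk' f hmul
  refine ⟨((Cfsg.Agent.Helper74.Lin.ofHom ψ : IrrCharacter (stab W hW ν)) : stab W hW ν → ℂ),
    (Cfsg.Agent.Helper74.Lin.ofHom ψ).2, Cfsg.Agent.Helper74.Lin.ofHom_one_eq ψ, ?_⟩
  intro w
  rw [Cfsg.Agent.Helper74.Lin.ofHom_apply]
  show ((f ⟨(w : G), hle w.2⟩ : ℂˣ) : ℂ) = ν w
  rw [hf ⟨(w : G), hle w.2⟩ w 1 N.one_mem (mul_one _)]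
  exact hφ w

end Cfsg.Agent.Helper33.CD3B
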