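import Mathlib
import Cfsg.Agent.Lib.Helper7.CWDefs

/-!
# CW (N4a) `count_D` (helper7 server, S0406)

At most `1104 = 4 * (24 choose 2)` vectors `y` with all coordinates divisible by `4` and sum of
squares `32`.
-/

set_option autoImplicit false
open Matrix

namespace Cfsg.Agent.Helper33.CW
open Cfsg Cfsg.Agent.Helper7.CW

variable {Λ : AddSubgroup V}

/-- a nonzero multiple of `4` with square at most `32` is `±4` -/
theorem h33_pm_four {c : ℤ} (h4 : (4 : ℤ) ∣ c) (h0 : c ≠ 0) (hle : c ^ 2 ≤ 32) :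
    c = 4 ∨ c = -4 := by
  obtain ⟨d, rfl⟩ := h4
  have hd0 : d ≠ 0 := by rintro rfl; simp at h0
  have h1 : d ^ 2 ≤ 2 := by nlinarith
  have h2 : -1 ≤ d := by nlinarith
  have h3 : d ≤ 1 := by nlinarith
  have h4' : d = 1 ∨ d = -1 := by omega
  rcases h4' with rfl | rfl
  · left; norm_num
  · right; norm_num

/-- the parameter set: pairs `i < j` and two signs -/
def h33_T : Finset ((Fin 24 × Fin 24) × (Bool × Bool)) :=
  ((Finset.univ : Finset (Fin 24 × Fin 24)).filter (fun p => p.1 < p.2)) ×ˢ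
    (Finset.univ : Finset (Bool × Bool))

set_option maxRecDepth 100000 in
theorem h33_T_card : h33_T.card = 1104 := by
  unfold h33_T
  rw [Finset.card_product]
  have h1 : ((Finset.univ : Finset (Fin 24 × Fin 24)).filter (fun p => p.1 < p.2)).card = 276 := by
    decide
  rw [h1]; rfl

theorem h33_mem_T (q : (Fin 24 × Fin 24) × (Bool × Bool)) (h : q.1.1 < q.1.2) : q ∈ h33_T := by
  unfold h33_T
  rw [Finset.mem_product]
  exact ⟨Finset.mem_filter.2 ⟨Finset.mem_univ _, h⟩, Finset.mem_univ _⟩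

attribute [irreducible] h33_T

/-- the sign -/
def h33_sg (b : Bool) : ℤ := if b then 4 else -4

/-- the parametrisation -/
def h33_f (q : (Fin 24 × Fin 24) × (Bool × Bool)) : V :=
  Pi.single q.1.1 (h33_sg q.2.1) + Pi.single q.1.2 (h33_sg q.2.2)

theorem h33_exists_sg {c : ℤ} (h : c = 4 ∨ c = -4) : ∃ b : Bool, h33_sg b = c := by
  rcases h with rfl | rfl
  · exact ⟨true, rfl⟩
  · exact ⟨false, rfl⟩

/-- every vector of the set is in the image of the parametrisation -/
theorem h33_mem_image (y : V) (h4 : ∀ i, (4 : ℤ) ∣ y i) (h32 : ∑ i, y i ^ 2 = 32) :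
    ∃ q ∈ h33_T, h33_f q = y := by
  classical
  have hnn : ∀ k ∈ (Finset.univ : Finset (Fin 24)), 0 ≤ y k ^ 2 := fun k _ => sq_nonneg _
  -- first nonzero coordinate
  have h1 : ∃ i, y i ≠ 0 := by
    by_contra hcon
    push_neg at hcon
    have : ∑ i, y i ^ 2 = 0 := Finset.sum_eq_zero (fun i _ => by rw [hcon i]; norm_num)
    rw [this] at h32; norm_num at h32
  obtain ⟨i, hi0⟩ := h1
  have hile : y i ^ 2 ≤ 32 := by
    rw [← h32]; exact Finset.single_le_sum hnn (Finset.mem_univ i)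
  have hi := h33_pm_four (h4 i) hi0 hile
  have hi16 : y i ^ 2 = 16 := by rcases hi with h | h <;> rw [h] <;> norm_num
  have hs1 : ∑ k ∈ Finset.univ.erase i, y k ^ 2 = 16 := by
    have := Finset.add_sum_erase Finset.univ (fun k => y k ^ 2) (Finset.mem_univ i)
    linarith
  -- second nonzero coordinate
  have h2 : ∃ j ∈ Finset.univ.erase i, y j ≠ 0 := by
    by_contra hcon
    push_neg at hcon
    have : ∑ k ∈ Finset.univ.erase i, y k ^ 2 = 0 :=
      Finset.sum_eq_zero (fun k hk => by rw [hcon k hk]; norm_num)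
    rw [this] at hs1; norm_num at hs1
  obtain ⟨j, hjmem, hj0⟩ := h2
  have hji : j ≠ i := (Finset.mem_erase.1 hjmem).1
  have hjle : y j ^ 2 ≤ 32 := by
    rw [← h32]; exact Finset.single_le_sum hnn (Finset.mem_univ j)
  have hj := h33_pm_four (h4 j) hj0 hjle
  have hj16 : y j ^ 2 = 16 := by rcases hj with h | h <;> rw [h] <;> norm_num
  have hs2 : ∑ k ∈ (Finset.univ.erase i).erase j, y k ^ 2 = 0 := by
    have := Finset.add_sum_erase (Finset.univ.erase i) (fun k => y k ^ 2) hjmem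
    linarith
  have hrest : ∀ k, k ≠ i → k ≠ j → y k = 0 := by
    intro k hki hkj
    have hk : k ∈ (Finset.univ.erase i).erase j :=
      Finset.mem_erase.2 ⟨hkj, Finset.mem_erase.2 ⟨hki, Finset.mem_univ k⟩⟩
    have := (Finset.sum_eq_zero_iff_of_nonneg (fun k _ => sq_nonneg (y k))).1 hs2 k hk
    exact pow_eq_zero_iff (two_ne_zero) |>.1 this
  have hy : ∀ (i' j' : Fin 24), i' ≠ j' → (∀ k, k ≠ i' → k ≠ j' → y k = 0) →
      Pi.single i' (y i') + Pi.single j' (y j') = y := by
    intro i' j' hne hr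
    funext k
    rw [Pi.add_apply]
    by_cases hki : k = i'
    · subst hki
      rw [Pi.single_eq_same, Pi.single_eq_of_ne hne, add_zero]
    · by_cases hkj : k = j'
      · subst hkj
        rw [Pi.single_eq_same, Pi.single_eq_of_ne hki, zero_add]
      · rw [Pi.single_eq_of_ne hki, Pi.single_eq_of_ne hkj, hr k hki hkj, add_zero]
  obtain ⟨bi, hbi⟩ := h33_exists_sg hi
  obtain ⟨bj, hbj⟩ := h33_exists_sg hj
  rcases lt_or_gt_of_ne hji with hlt | hlt
  · -- j < i
    refine ⟨((j, i), (bj, bi)), ?_, ?_⟩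
    · exact h33_mem_T _ hlt
    · unfold h33_f
      simp only [hbi, hbj]
      exact hy j i hji (fun k hkj hki => hrest k hki hkj)
  · refine ⟨((i, j), (bi, bj)), ?_, ?_⟩
    · exact h33_mem_T _ hlt
    · unfold h33_f
      simp only [hbi, hbj]
      exact hy i j hji.symm hrest

/-- (N4a) [medium, pure counting] vectors `y = 4z` with `∑ z² = 2`: exactly two coordinates `±1`,
the others `0`: at most `4 * (24 choose 2) = 1104` of them (inject into pairs `i < j` and two signs). -/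
theorem count_D :
    {y : V | (∀ i, (4 : ℤ) ∣ y i) ∧ ∑ i, y i ^ 2 = 32}.ncard ≤ 1104 := by
  let TS : Set ((Fin 24 × Fin 24) × (Bool × Bool)) := ↑h33_T
  have hTfin : TS.Finite := h33_T.finite_toSet
  have hTcard : TS.ncard = 1104 := by
    rw [← h33_T_card]; exact Set.ncard_coe_finset h33_T
  have hsub : {y : V | (∀ i, (4 : ℤ) ∣ y i) ∧ ∑ i, y i ^ 2 = 32} ⊆ h33_f '' TS := by
    rintro y ⟨h4, h32⟩
    obtain ⟨q, hq, hqy⟩ := h33_mem_image y h4 h32
    exact ⟨q, Finset.mem_coe.2 hq, hqy⟩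
  have h1 : {y : V | (∀ i, (4 : ℤ) ∣ y i) ∧ ∑ i, y i ^ 2 = 32}.ncard ≤ (h33_f '' TS).ncard :=
    Set.ncard_le_ncard hsub (Set.Finite.image _ hTfin)
  have h2 : (h33_f '' TS).ncard ≤ TS.ncard := Set.ncard_image_le hTfin
  rw [hTcard] at h2
  exact h1.trans h2

end Cfsg.Agent.Helper33.CW
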