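import Mathlib
import Cfsg.Agent.S1974
import Cfsg.Agent.Lib.Helper33.SecFusionA

/-!
Group-level input for the fusion-system statement S5253: for an isomorphism-invariant `p`-group
functor `W` with `Z(Q) ≤ W(Q)` and the type-level quadratic hypothesis `HQ`, every `p`-th power of an
element of `Z(P)` that lies in `O_p(G)` and commutes with `N_G(W(P))` is central in `G`
(Glauberman's theorem on weakly closed elements, S1974, in type-level form).
-/

set_option autoImplicit false
universe u
open Pointwise Cfsg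

namespace Cfsg.Agent.Helper33.QuadCentral

open Cfsg.Agent.Helper33

variable {p : ℕ} [Fact p.Prime]

/-- the type-level quadratic hypothesis (exactly the hypothesis `hq` of S5253) -/
def HQ (p : ℕ) (W : ∀ (Q : Type u) [Group Q], Subgroup Q) : Prop :=
  ∀ (G : Type u) [Group G] [Finite G] (P : Sylow p G),
    ¬ (((W ↥(P : Subgroup G)).map (P : Subgroup G).subtype : Subgroup G)).Normal →
    ∃ g : G, g ∈ (P : Subgroup G) ∧ g ∉ Cfsg.pCore p G ∧
      ⁅⁅(Subgroup.center ↥(Cfsg.pCore p G)).map (Cfsg.pCore p G).subtype,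
        Subgroup.zpowers g⁆, Subgroup.zpowers g⁆ = ⊥

theorem center_map_subtype {X : Type*} [Group X] (Q : Subgroup X) :
    (Subgroup.center ↥Q).map Q.subtype = Q ⊓ Subgroup.centralizer (Q : Set X) := by
  ext x
  constructor
  · rintro ⟨y, hy, rfl⟩
    refine Subgroup.mem_inf.mpr ⟨y.2, ?_⟩
    rw [Subgroup.mem_centralizer_iff]
    intro z hz
    have := Subgroup.mem_center_iff.mp hy ⟨z, hz⟩
    exact congrArg Subtype.val this
  · intro hx
    obtain ⟨hxQ, hxC⟩ := Subgroup.mem_inf.mp hx
    refine ⟨⟨x, hxQ⟩, ?_, rfl⟩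
    refine Subgroup.mem_center_iff.mpr ?_
    intro z
    apply Subtype.ext
    exact Subgroup.mem_centralizer_iff.mp hxC z z.2

theorem commutator_map_subtype {X : Type*} [Group X] (H : Subgroup X) (A B : Subgroup ↥H) :
    (⁅A, B⁆).map H.subtype = ⁅A.map H.subtype, B.map H.subtype⁆ :=
  Subgroup.map_commutator A B H.subtype

/-- the subgroup form of the quadratic hypothesis, for the induced conjugacy functor -/
theorem hloc_of_hq {W : ∀ (Q : Type u) [Group Q], Subgroup Q} (hW : IsCharPFunctor.{u} p W)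
    (hq : HQ p W) (G : Type u) [Group G] [Finite G] :
    ∀ (H T : Subgroup G), T ≤ H → IsPGroup p ↥T → ¬ p ∣ T.relIndex H →
      ¬ H ≤ Subgroup.normalizer ((inducedFunctor W T : Subgroup G) : Set G) →
      ∃ g : G, g ∈ T ∧ g ∉ Cfsg.pCoreOf p H ∧
        ⁅⁅Cfsg.pCoreOf p H ⊓ Subgroup.centralizer ((Cfsg.pCoreOf p H : Subgroup G) : Set G),
          Subgroup.zpowers g⁆, Subgroup.zpowers g⁆ = ⊥ := by
  intro H T hTH hT hidx hnn
  have hsyl : IsSylIn p T H := ⟨hTH, hT, hidx⟩
  set P : Sylow p ↥H := hsyl.toSylow with hP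
  have hPcoe : (P : Subgroup ↥H) = T.subgroupOf H := rfl
  have hmapT : (T.subgroupOf H).map H.subtype = T := by
    rw [Subgroup.subgroupOf_map_subtype]
    exact inf_eq_left.mpr hTH
  -- the induced functor on `↥H` maps to the induced functor on `G`
  have hWmap : (inducedFunctor (G := ↥H) W (T.subgroupOf H)).map H.subtype = inducedFunctor W T := by
    haveI : Finite ↥(T.subgroupOf H) := inferInstance
    have h1 := indF_map hW H.subtype (T.subgroupOf H) (hT.comap_subtype)
      (fun x _ hx => H.subtype_injective (by simpa using hx))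
    rw [hmapT] at h1
    exact h1.symm
  have hnot : ¬ (((W ↥(P : Subgroup ↥H)).map (P : Subgroup ↥H).subtype : Subgroup ↥H)).Normal := by
    intro hn
    apply hnn
    intro h hh
    rw [← hWmap]
    have h2 : (⟨h, hh⟩ : ↥H) ∈ Subgroup.normalizer
        ((inducedFunctor (G := ↥H) W (T.subgroupOf H) : Subgroup ↥H) : Set ↥H) := by
      have : (inducedFunctor (G := ↥H) W (T.subgroupOf H)).Normal := hn
      rw [Subgroup.normalizer_eq_top_iff.mpr this]
      exact Subgroup.mem_top _
    exact map_mem_normalizer_map H.subtype h2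
  obtain ⟨g, hgP, hgQ, hquad⟩ := hq ↥H P hnot
  refine ⟨(g : G), ?_, ?_, ?_⟩
  · have : g ∈ T.subgroupOf H := hgP
    exact Subgroup.mem_subgroupOf.mp this
  · intro hmem
    apply hgQ
    obtain ⟨y, hy, hyg⟩ := hmem
    have : y = g := H.subtype_injective hyg
    rwa [← this]
  · have h1 := congrArg (fun K : Subgroup ↥H => K.map H.subtype) hquad
    simp only [Subgroup.map_bot] at h1
    rw [commutator_map_subtype, commutator_map_subtype, Subgroup.map_map,
      MonoidHom.map_zpowers] at h1
    have h2 : (Subgroup.center ↥(Cfsg.pCore p ↥H)).map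
        (H.subtype.comp (Cfsg.pCore p ↥H).subtype) =
        Cfsg.pCoreOf p H ⊓ Subgroup.centralizer ((Cfsg.pCoreOf p H : Subgroup G) : Set G) := by
      rw [← Subgroup.map_map, center_map_subtype, map_subtype_inf_centralizer]
      rfl
    rw [h2] at h1
    exact h1

/-- **Group-level form of S5253.** -/
theorem mem_center_of_hq {W : ∀ (Q : Type u) [Group Q], Subgroup Q}
    (hW1 : ∀ (Q : Type u) [Group Q] [Finite Q], IsPGroup p Q → Nontrivial Q → W Q ≠ ⊥)
    (hW2 : ∀ (Q R : Type u) [Group Q] [Group R] [Finite Q], IsPGroup p Q → ∀ φ : Q ≃* R,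
      (W Q).map φ.toMonoidHom = W R)
    (hWZ : ∀ (Q : Type u) [Group Q] [Finite Q], IsPGroup p Q → Subgroup.center Q ≤ W Q)
    (hq : HQ p W) (G : Type u) [Group G] [Finite G] (P : Sylow p G) (x : G)
    (hx : x ∈ Subgroup.closure ((fun z : G => z ^ p) ''
      (((P : Subgroup G) ⊓ Subgroup.centralizer ((P : Subgroup G) : Set G) : Subgroup G) : Set G)))
    (hxQ : x ∈ Cfsg.pCore p G)
    (hxN : ∀ n ∈ Subgroup.normalizer
      ((((W ↥(P : Subgroup G)).map (P : Subgroup G).subtype : Subgroup G)) : Set G), n * x = x * n) :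
    x ∈ Subgroup.center G := by
  have hW : IsCharPFunctor.{u} p W := ⟨hW1, hW2⟩
  have hconj : IsConjugacyFunctor p (inducedFunctor (G := G) W) := isConjugacyFunctor_indF hW G
  have hZ : ∀ Q : Subgroup G, IsPGroup p ↥Q →
      Q ⊓ Subgroup.centralizer ((Q : Subgroup G) : Set G) ≤ inducedFunctor W Q := by
    intro Q hQ
    rw [← center_map_subtype]
    exact Subgroup.map_mono (hWZ ↥Q hQ)
  have key := (Cfsg.Agent.S1974.result P (inducedFunctor (G := G) W) hconj hZ
    (hloc_of_hq hW hq G) _ rfl).1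
  rw [Subgroup.mem_center_iff]
  intro g
  have hxmem : x ∈ Subgroup.closure ((fun z : G => z ^ p) ''
      (((P : Subgroup G) ⊓ Subgroup.centralizer ((P : Subgroup G) : Set G) : Subgroup G) : Set G)) ⊓
      Subgroup.centralizer ((Subgroup.normalizer
        ((inducedFunctor (G := G) W (P : Subgroup G) : Subgroup G) : Set G) : Subgroup G) : Set G) := by
    refine Subgroup.mem_inf.mpr ⟨hx, ?_⟩
    rw [Subgroup.mem_centralizer_iff]
    intro n hn
    exact hxN n hn
  have hgx : g * x * g⁻¹ ∈ (P : Subgroup G) := by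
    haveI : (Cfsg.pCore p G).Normal := pCore_normal p
    exact pCore_le_sylow P ((pCore_normal p).conj_mem x hxQ g)
  have := key x hxmem g hgx
  calc g * x = g * x * g⁻¹ * g := by group
    _ = x * g := by rw [this]

end Cfsg.Agent.Helper33.QuadCentral
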