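import Mathlib
import Cfsg.Agent.Lib.Helper87.CenMain
import Cfsg.Agent.Lib.Helper33.CenPowA
import Cfsg.Agent.Lib.Helper33.CenPowB

set_option autoImplicit false
set_option linter.style.haveILetI false
set_option linter.unusedSectionVars false
set_option linter.unusedVariables false

/-! # Control of weak closure of `p`-th powers of central elements (S5253)

The induction of helper87's `CenMain.main` (credit: helper87), carried out for subgroups `Z₀`
consisting of `p`-th powers of elements of `Z(S)`; the constrained case uses Glauberman's theorem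
(`QuadCentral.mem_center_of_hq`, i.e. S1974). -/

namespace Cfsg.Agent.Helper33.CenPow

open Cfsg Cfsg.FusionSystem Cfsg.Agent.Helper87 Cfsg.Agent.Helper85
  Cfsg.Agent.Helper87.GlaubFunctor Cfsg.Agent.Helper87.FactorPre Cfsg.Agent.Helper87.GlaubNormal
  Cfsg.Agent.Helper87.CenFunctor Cfsg.Agent.Helper87.CenStep Cfsg.Agent.Helper87.CenLocal
  Cfsg.Agent.Helper87.CenMain

universe u

/-- every element of `Z₀` is a `p`-th power of an element of `Z(S)` -/
def Pow {Ω : Type*} [Group Ω] (p : ℕ) (S Z₀ : Subgroup Ω) : Prop :=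
  ∀ z ∈ Z₀, ∃ y ∈ S ⊓ Subgroup.centralizer (S : Set Ω), y ^ p = z

theorem pow_normalizerIn {Ω : Type u} [Group Ω] {p : ℕ} {S Z₀ X : Subgroup Ω} (h : Pow p S Z₀)
    (hX : X ≤ S) : Pow p (normalizerIn S X) Z₀ := by
  intro z hz
  obtain ⟨y, hy, hyz⟩ := h z hz
  refine ⟨y, ⟨center_le_normalizerIn' hX hy, ?_⟩, hyz⟩
  exact Subgroup.centralizer_le (by exact_mod_cast (inf_le_left : normalizerIn S X ≤ S)) hy.2

theorem pow_factor {Ω : Type u} [Group Ω] {p : ℕ} {S Z₀ : Subgroup Ω} {Ω' : Type u} [Group Ω']
    {θ : S →* Ω'} (hrange : θ.range = ⊤) (h : Pow p S Z₀) :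
    Pow p (⊤ : Subgroup Ω') (imageAlong θ Z₀) := by
  intro z' hz'
  obtain ⟨z, hzS, hz, rfl⟩ := mem_img.1 hz'
  obtain ⟨y, hy, hyz⟩ := h z hz
  refine ⟨θ ⟨y, hy.1⟩, ⟨Subgroup.mem_top _, ?_⟩, ?_⟩
  · show θ ⟨y, hy.1⟩ ∈ Subgroup.centralizer (((⊤ : Subgroup Ω') : Subgroup Ω') : Set Ω')
    rw [Subgroup.mem_centralizer_iff]
    intro t _
    have ht : t ∈ θ.range := by rw [hrange]; exact Subgroup.mem_top _
    obtain ⟨t₀, rfl⟩ := ht
    rw [← map_mul, ← map_mul]
    congr 1
    apply Subtype.ext
    exact Subgroup.mem_centralizer_iff.1 hy.2 t₀ t₀.2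
  · rw [au_mem θ hzS, ← map_pow]
    congr 1
    apply Subtype.ext
    exact hyz

/-- **Control of weak closure of `p`-th powers of central elements** (copy of helper87's
`CenMain.main` with the extra invariant `Pow`). -/
theorem main' {p : ℕ} [Fact p.Prime] {W : ∀ (Q : Type u) [Group Q], Subgroup Q}
    (hW : IsPos p W)
    (hWZ : ∀ (Q : Type u) [Group Q] [Finite Q], IsPGroup p Q → Subgroup.center Q ≤ W Q)
    (hq : Cfsg.Agent.Helper33.QuadCentral.HQ p W) :
    ∀ n : ℕ, ∀ (Ω : Type u) [Group Ω] (S : Subgroup Ω) [Finite S] (F : FusionSystem S),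
      nu F = n → IsPGroup p S → F.IsSaturated p → ∀ Z₀ : Subgroup Ω, NC W F Z₀ → Pow p S Z₀ →
      F.IsCentral Z₀ := by
  intro n
  induction n using Nat.strong_induction_on with
  | _ n ih =>
    intro Ω _ S _ F hn hS hF Z₀ hNC hPow
    have hQ : F.IsNormal F.core := isNormal_core F
    have hQs : F.StronglyClosed F.core := stronglyClosed_of_isNormal hQ
    have hQS : F.core ≤ S := hQ.1
    haveI : Finite F.core := finite_of_le hQS
    have hZc : Z₀ ≤ S ⊓ Subgroup.centralizer (S : Set Ω) := hNC.le_center hW hS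
    have hZS : Z₀ ≤ S := hNC.1
    -- normalizer systems of smaller measure
    have key : ∀ X : Subgroup Ω, F.IsFullyNormalized X → Nat.card F.core < Nat.card X →
        ∀ NX : FusionSystem (normalizerIn S X), F.IsNormalizerSystem X NX →
          ∀ Z₁ : Subgroup Ω, NC W NX Z₁ → Pow p (normalizerIn S X) Z₁ → NX.IsCentral Z₁ := by
      intro X hXfn hlt NX hNX Z₁ hZ₁ hPow₁
      haveI : Finite ↥(normalizerIn S X) := finite_of_le (inf_le_left : normalizerIn S X ≤ S)
      have hsat := Cfsg.Agent.Helper84.normalizerSystem_saturated F hS hF hXfn NX hNX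
      apply ih (nu NX) _ Ω (normalizerIn S X) NX rfl
        (hS.to_le (inf_le_left : normalizerIn S X ≤ S)) hsat Z₁ hZ₁ hPow₁
      rw [← hn]
      by_cases h : Nat.card (normalizerIn S X) < Nat.card S
      · exact nu_lt_of_card_lt F NX h
      · have hc : Nat.card (normalizerIn S X) = Nat.card S :=
          le_antisymm (card_normalizerIn_le X) (not_lt.1 h)
        apply nu_lt_of_core F NX hc
        have hXn : NX.IsNormal X := normalizerSystem_isNormal hXfn.1 hNX
        have hle : X ≤ NX.core := le_core hXn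
        haveI : Finite NX.core := finite_of_le (Cfsg.Agent.Helper87.ModelSolv.core_le NX)
        exact lt_of_lt_of_le hlt (Subgroup.card_le_of_le hle)
    by_cases hQbot : F.core = ⊥
    · -- trivial core: local control
      apply local_to_global' hW hS hF hNC
      intro X hXfn hXne NX hNX hZ₁
      apply key X hXfn _ NX hNX Z₀ hZ₁ (pow_normalizerIn hPow hXfn.1)
      haveI : Finite X := finite_of_le hXfn.1
      rw [hQbot, Subgroup.card_bot]
      exact (Subgroup.one_lt_card_iff_ne_bot X).2 hXne
    · have hwc : ∀ X₂, F.IsConj F.core X₂ → X₂ = F.core :=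
        fun X₂ hc => eq_of_isConj_of_isNormal hQ hc
      obtain ⟨hQfn, hNS⟩ := fn_of_weaklyClosed hQS hwc
      by_cases hcen : centralizerIn S F.core ≤ F.core
      · -- centric core: the constrained case
        have hQc : F.IsCentric F.core := ⟨hQS, fun Q₂ hc => by rw [hwc Q₂ hc]; exact hcen⟩
        exact isCentral_of_constrained' hW hWZ hq hS hF hQ hQc hNC hPow
      · -- the remaining case
        have hSn : S ≤ Subgroup.normalizer ((F.core : Subgroup Ω) : Set Ω) :=
          stronglyClosed_le_normalizer hQs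
        haveI : (F.core.subgroupOf S).Normal := Subgroup.normal_subgroupOf_of_le_normalizer hSn
        obtain ⟨E, hE⟩ := Cfsg.Agent.S5132.result p hS F F.core hQs
        have hrange : (QuotientGroup.mk' (F.core.subgroupOf S)).range = ⊤ := hE.2.2.1
        have hker : kerOf (QuotientGroup.mk' (F.core.subgroupOf S)) = F.core :=
          kerOf_eq_of_factor hE
        haveI : Finite ↥(⊤ : Subgroup (↥S ⧸ F.core.subgroupOf S)) :=
          Cfsg.Agent.Helper85.factor_finite hE
        have hS' : IsPGroup p ↥(⊤ : Subgroup (↥S ⧸ F.core.subgroupOf S)) := factor_isPGroup hS hE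
        have hEsat := factor_saturated hS hF hQs hE
        have hpretop : preimageAlong (QuotientGroup.mk' (F.core.subgroupOf S)) ⊤ = S := by
          ext x
          rw [mem_pre]
          exact ⟨fun h => h.1, fun h => ⟨h, Subgroup.mem_top _⟩⟩
        have hcardS' : Nat.card ↥(⊤ : Subgroup (↥S ⧸ F.core.subgroupOf S)) < Nat.card S := by
          have h1 := card_pre hrange (A' := (⊤ : Subgroup (↥S ⧸ F.core.subgroupOf S))) le_rfl
          rw [hpretop, hker] at h1
          have h2 : 1 < Nat.card F.core := (Subgroup.one_lt_card_iff_ne_bot F.core).2 hQbot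
          have h3 : 0 < Nat.card ↥(⊤ : Subgroup (↥S ⧸ F.core.subgroupOf S)) := Nat.card_pos
          rw [h1]
          nlinarith
        -- the preimage `V` of `W(S/Q)`
        have hVS : preimageAlong (QuotientGroup.mk' (F.core.subgroupOf S)) (WW W ⊤) ≤ S :=
          preimageAlong_le _ _
        have hQV : F.core ≤ preimageAlong (QuotientGroup.mk' (F.core.subgroupOf S)) (WW W ⊤) := by
          have := kerOf_le_pre (QuotientGroup.mk' (F.core.subgroupOf S)) (WW W ⊤)
          rwa [hker] at this
        have hNV : normalizerIn S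
            (preimageAlong (QuotientGroup.mk' (F.core.subgroupOf S)) (WW W ⊤)) = S := by
          have h1 := pre_normalizerIn hrange hVS (hker.symm ▸ hQV)
          rw [img_pre hrange (WW_le W ⊤), pos_normalizerIn_top hW hS', hpretop] at h1
          exact h1.symm
        have hVfn : F.IsFullyNormalized
            (preimageAlong (QuotientGroup.mk' (F.core.subgroupOf S)) (WW W ⊤)) :=
          fn_of_normalizerIn_eq hVS hNV
        obtain ⟨FV, hFV⟩ := Cfsg.Agent.S5096.result F _ hVS
        have hQneS : ¬ S ≤ F.core := fun h => hcen (inf_le_left.trans h)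
        have htopne : (⊤ : Subgroup (↥S ⧸ F.core.subgroupOf S)) ≠ ⊥ := by
          intro h
          apply hQneS
          intro s hs
          have h1 : (QuotientGroup.mk' (F.core.subgroupOf S)) ⟨s, hs⟩ ∈
              (⊤ : Subgroup (↥S ⧸ F.core.subgroupOf S)) := Subgroup.mem_top _
          rw [h, Subgroup.mem_bot] at h1
          exact (hE.2.1 ⟨s, hs⟩).1 h1
        have hWne : WW W (⊤ : Subgroup (↥S ⧸ F.core.subgroupOf S)) ≠ ⊥ :=
          pos_ne_bot hW hS' htopne
        have hVnle : ¬ preimageAlong (QuotientGroup.mk' (F.core.subgroupOf S)) (WW W ⊤) ≤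
            F.core := by
          intro hle
          apply hWne
          rw [eq_bot_iff]
          intro y hy
          obtain ⟨v, hvS, rfl⟩ := exists_au_eq hrange (Subgroup.mem_top y)
          have hv : v ∈ preimageAlong (QuotientGroup.mk' (F.core.subgroupOf S)) (WW W ⊤) :=
            mem_pre.2 ⟨hvS, hy⟩
          have hvQ : v ∈ kerOf (QuotientGroup.mk' (F.core.subgroupOf S)) := by
            rw [hker]; exact hle hv
          rw [Subgroup.mem_bot]
          exact (mem_kerOf.1 hvQ).2
        obtain ⟨v, hv, hvQ⟩ := SetLike.not_le_iff_exists.1 hVnle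
        have hcardV : Nat.card F.core <
            Nat.card (preimageAlong (QuotientGroup.mk' (F.core.subgroupOf S)) (WW W ⊤)) :=
          card_lt_of_not_mem hQV hVS hv hvQ
        have hcenV : FV.IsCentral Z₀ :=
          key _ hVfn hcardV FV hFV Z₀ (nc_of_top hNC hVS hNV hFV) (pow_normalizerIn hPow hVS)
        -- the factor system
        have hncE : NC W E (imageAlong (QuotientGroup.mk' (F.core.subgroupOf S)) Z₀) :=
          nc_factor hS hF hQs hE hFV hNV hcenV
        have hcenE : E.IsCentral (imageAlong (QuotientGroup.mk' (F.core.subgroupOf S)) Z₀) :=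
          ih (nu E) (by rw [← hn]; exact nu_lt_of_card_lt F E hcardS') _ ⊤ E rfl hS' hEsat _ hncE
            (pow_factor hrange hPow)
        -- the subgroup `Q C_S(Q)`
        have hR₀wc := weaklyClosed_sup_centralizer hQs
        have hR₀S : F.core ⊔ centralizerIn S F.core ≤ S := sup_le hQS inf_le_left
        obtain ⟨hR₀fn, hNR₀⟩ := fn_of_weaklyClosed hR₀S hR₀wc
        obtain ⟨F₀, hF₀⟩ := Cfsg.Agent.S5096.result F _ hR₀S
        obtain ⟨c, hc, hcQ⟩ := SetLike.not_le_iff_exists.1 hcen
        have hcardR₀ : Nat.card F.core < Nat.card ↥(F.core ⊔ centralizerIn S F.core) :=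
          card_lt_of_not_mem le_sup_left hR₀S
            ((le_sup_right : centralizerIn S F.core ≤ F.core ⊔ centralizerIn S F.core) hc) hcQ
        have hcen₀ : F₀.IsCentral Z₀ :=
          key _ hR₀fn hcardR₀ F₀ hF₀ Z₀ (nc_of_top hNC hR₀S hNR₀ hF₀) (pow_normalizerIn hPow hR₀S)
        -- Alperin's theorem
        rw [isCentral_iff_cen]
        refine ⟨hZS, ?_⟩
        apply alperin_strong hS hF (Cen F Z₀) (alperinClosed_cen F Z₀)
        intro R hRfn hRc hRr IHA α hα
        have hR : R ≤ S := hRfn.1
        have hm : Mor F R (extAut α) := (mem_autGroup_iff hR).1 hα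
        have hiso : Iso F R R (extAut α) := iso_of_mor_extAut hm
        have hQR : F.core ≤ R := le_of_isNormal_centric_radical hS hQ hRc hRr
        have hZR : Z₀ ≤ R := fun z hz =>
          hRc.2 R (isConj_refl hR) ⟨(hZc hz).1, Subgroup.centralizer_le hR (hZc hz).2⟩
        by_cases hii : normalizerIn S R ⊓ centralizerIn S F.core ≤ R
        · have hCR : centralizerIn S F.core ≤ R :=
            le_of_normalizerIn_inf_le hS hR inf_le_left (le_normalizer_centralizerIn' hSn) hii
          have hR₀R : F.core ⊔ centralizerIn S F.core ≤ R := sup_le hQR hCR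
          have hmor₀ : Mor F₀ R (extAut α) :=
            mor_normalizerSystem_of_weaklyClosed hR₀wc hNR₀ hF₀ hR₀R hm
          obtain ⟨g, hg, e, hgZ⟩ := (isCentral_iff_cen.1 hcen₀).2 _ _ hmor₀
          exact ⟨g, ((mor_normalizerSystem_iff hF₀).1 hg).1, e, hgZ⟩
        · obtain ⟨t, ⟨htN, htC⟩, htR⟩ := SetLike.not_le_iff_exists.1 hii
          have hmod : ∀ α' ∈ F.autGroup R, ∀ (z : Ω) (hz : z ∈ Z₀),
              z⁻¹ * (((α' ⟨z, hZR hz⟩ : R)) : Ω) ∈ F.core := by
            intro α' hα' z hz
            have hm' : Mor F R (extAut α') := (mem_autGroup_iff hR).1 hα'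
            have hiso' : Iso F R R (extAut α') := iso_of_mor_extAut hm'
            have := mod_of_central_factor hS hF hQs hE hZS hcenE hiso' hZR z hz
            rwa [extAut_mem α' (hZR hz)] at this
          apply cen_of_fix hm hZR
          intro z hz
          rw [extAut_mem α (hZR hz)]
          exact aut_fix hS hF hQs hRfn hZc hZR hmod IHA htN.1 htC.2 htN.2 htR α hα z hz

end Cfsg.Agent.Helper33.CenPow
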