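import Mathlib
import Cfsg.Prelude.Def_LocalEven
import Cfsg.Agent.Lib.Helper33.KInfB

/-!
# Clifford theory along subnormal chains, for subgroup lattices

`W` is an abelian subgroup of the finite group `Γ` normalized by `Δ`.  We say that `W` is a sum of
minimal `Δ`-invariant subgroups (`SumMin Δ W`); this passes to normal subgroups of `Δ`
(Clifford) and yields invariant complements.
-/

set_option autoImplicit false

namespace Cfsg.Agent.Helper33.Cliff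

open Subgroup Cfsg
open scoped commutatorElement

variable {Γ : Type*} [Group Γ]

theorem le_normalizer_of_conj_mem {Δ M : Subgroup Γ}
    (h : ∀ d ∈ Δ, ∀ x ∈ M, d * x * d⁻¹ ∈ M) : Δ ≤ normalizer (M : Set Γ) := by
  intro d hd
  rw [mem_normalizer_iff]
  intro x
  constructor
  · exact h d hd x
  · intro hx
    have := h d⁻¹ (Δ.inv_mem hd) _ hx
    simpa [mul_assoc] using this

theorem conj_mem_of_le_normalizer {Δ M : Subgroup Γ} (h : Δ ≤ normalizer (M : Set Γ))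
    {d x : Γ} (hd : d ∈ Δ) (hx : x ∈ M) : d * x * d⁻¹ ∈ M :=
  (mem_normalizer_iff.mp (h hd) x).mp hx

/-- the conjugate `δ M δ⁻¹` -/
def cj (δ : Γ) (M : Subgroup Γ) : Subgroup Γ := M.map (MulAut.conj δ).toMonoidHom

theorem mem_cj {δ x : Γ} {M : Subgroup Γ} : x ∈ cj δ M ↔ δ⁻¹ * x * δ ∈ M := by
  unfold cj
  constructor
  · rintro ⟨m, hm, rfl⟩
    have : δ⁻¹ * ((MulAut.conj δ).toMonoidHom m) * δ = m := by
      show δ⁻¹ * (δ * m * δ⁻¹) * δ = m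
      group
    rwa [this]
  · intro h
    refine ⟨δ⁻¹ * x * δ, h, ?_⟩
    show δ * (δ⁻¹ * x * δ) * δ⁻¹ = x
    group

theorem conj_mem_cj {δ m : Γ} {M : Subgroup Γ} (hm : m ∈ M) : δ * m * δ⁻¹ ∈ cj δ M := by
  rw [mem_cj]
  have : δ⁻¹ * (δ * m * δ⁻¹) * δ = m := by group
  rwa [this]

theorem cj_one (M : Subgroup Γ) : cj 1 M = M := by
  ext x; rw [mem_cj]; simp

theorem cj_cj (a b : Γ) (M : Subgroup Γ) : cj a (cj b M) = cj (a * b) M := by
  ext x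
  rw [mem_cj, mem_cj, mem_cj]
  have : b⁻¹ * (a⁻¹ * x * a) * b = (a * b)⁻¹ * x * (a * b) := by group
  rw [this]

theorem cj_mono (δ : Γ) {M N : Subgroup Γ} (h : M ≤ N) : cj δ M ≤ cj δ N := Subgroup.map_mono h

theorem cj_eq_bot_iff {δ : Γ} {M : Subgroup Γ} : cj δ M = ⊥ ↔ M = ⊥ := by
  unfold cj
  exact Subgroup.map_eq_bot_iff_of_injective _ (MulAut.conj δ).injective

theorem cj_le_of_mem_normalizer {δ : Γ} {M W : Subgroup Γ} (hδ : δ ∈ normalizer (W : Set Γ))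
    (h : M ≤ W) : cj δ M ≤ W := by
  intro x hx
  rw [mem_cj] at hx
  have h1 := (mem_normalizer_iff.mp hδ _).mp (h hx)
  have : δ * (δ⁻¹ * x * δ) * δ⁻¹ = x := by group
  rwa [this] at h1

theorem cj_eq_of_mem_normalizer {δ : Γ} {W : Subgroup Γ} (hδ : δ ∈ normalizer (W : Set Γ)) :
    cj δ W = W := by
  apply le_antisymm (cj_le_of_mem_normalizer hδ le_rfl)
  intro x hx
  rw [mem_cj]
  have := (mem_normalizer_iff.mp (Subgroup.inv_mem _ hδ) x).mp hx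
  simpa using this

theorem le_normalizer_cj {Δ M : Subgroup Γ} {δ : Γ} (hδ : δ ∈ normalizer (Δ : Set Γ))
    (h : Δ ≤ normalizer (M : Set Γ)) : Δ ≤ normalizer ((cj δ M : Subgroup Γ) : Set Γ) := by
  apply le_normalizer_of_conj_mem
  intro d hd x hx
  rw [mem_cj] at hx ⊢
  have hd' : δ⁻¹ * d * δ ∈ Δ := by
    have := (mem_normalizer_iff.mp (Subgroup.inv_mem _ hδ) d).mp hd
    simpa using this
  have := conj_mem_of_le_normalizer h hd' hx
  have e : δ⁻¹ * (d * x * d⁻¹) * δ = δ⁻¹ * d * δ * (δ⁻¹ * x * δ) * (δ⁻¹ * d * δ)⁻¹ := by group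
  rw [e]; exact this

/-- `M` is a minimal nontrivial `Δ`-invariant subgroup of `W` -/
def IsMinInv (Δ W M : Subgroup Γ) : Prop :=
  M ≤ W ∧ M ≠ ⊥ ∧ Δ ≤ normalizer (M : Set Γ) ∧
    ∀ M' : Subgroup Γ, M' ≤ M → Δ ≤ normalizer (M' : Set Γ) → M' = ⊥ ∨ M' = M

/-- `W` is generated by its minimal `Δ`-invariant subgroups -/
def SumMin (Δ W : Subgroup Γ) : Prop := W ≤ sSup {M | IsMinInv Δ W M}

theorem exists_minInv [Finite Γ] (Δ W W₁ : Subgroup Γ) (h1 : W₁ ≤ W) (h2 : W₁ ≠ ⊥)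
    (h3 : Δ ≤ normalizer (W₁ : Set Γ)) : ∃ M, M ≤ W₁ ∧ IsMinInv Δ W M := by
  obtain ⟨M, ⟨hM1, hM2, hM3⟩, hmin⟩ := wellFounded_lt.has_min
    {M : Subgroup Γ | M ≤ W₁ ∧ M ≠ ⊥ ∧ Δ ≤ normalizer (M : Set Γ)} ⟨W₁, le_rfl, h2, h3⟩
  refine ⟨M, hM1, hM1.trans h1, hM2, hM3, fun M' hM' hn => ?_⟩
  by_cases h0 : M' = ⊥
  · exact Or.inl h0
  · right
    by_contra hne
    exact hmin M' ⟨hM'.trans hM1, h0, hn⟩ (lt_of_le_of_ne hM' hne)

theorem isMinInv_cj {Δ W M : Subgroup Γ} {δ : Γ} (hδΔ : δ ∈ normalizer (Δ : Set Γ))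
    (hδW : δ ∈ normalizer (W : Set Γ)) (h : IsMinInv Δ W M) : IsMinInv Δ W (cj δ M) := by
  obtain ⟨h1, h2, h3, h4⟩ := h
  refine ⟨cj_le_of_mem_normalizer hδW h1, fun h0 => h2 (cj_eq_bot_iff.mp h0),
    le_normalizer_cj hδΔ h3, fun M' hM' hn => ?_⟩
  have hinv : δ⁻¹ ∈ normalizer (Δ : Set Γ) := Subgroup.inv_mem _ hδΔ
  have e1 : cj δ (cj δ⁻¹ M') = M' := by rw [cj_cj, mul_inv_cancel, cj_one]
  have h5 : cj δ⁻¹ M' ≤ M := by
    have := cj_mono δ⁻¹ hM'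
    rwa [cj_cj, inv_mul_cancel, cj_one] at this
  rcases h4 _ h5 (le_normalizer_cj hinv hn) with h6 | h6
  · left; exact cj_eq_bot_iff.mp h6
  · right; rw [← e1, h6]

/-- **Clifford**: sums of minimal invariant subgroups pass to normal subgroups of the acting group -/
theorem clifford_step [Finite Γ] {Δ' Δ'' W : Subgroup Γ} (hΔ : Δ'' ≤ Δ')
    (hn : Δ' ≤ normalizer (Δ'' : Set Γ)) (hW : Δ' ≤ normalizer (W : Set Γ))
    (h : SumMin Δ' W) : SumMin Δ'' W := by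
  refine h.trans (sSup_le ?_)
  rintro M ⟨hMW, hM0, hMn, hMmin⟩
  obtain ⟨M₀, hM₀M, hM₀⟩ := exists_minInv Δ'' W M hMW hM0 (hΔ.trans hMn)
  have hJ : (⨆ δ : Δ', cj (δ : Γ) M₀) = M := by
    have hJle : (⨆ δ : Δ', cj (δ : Γ) M₀) ≤ M :=
      iSup_le fun δ => cj_le_of_mem_normalizer (hMn δ.2) hM₀M
    have hJn : Δ' ≤ normalizer ((⨆ δ : Δ', cj (δ : Γ) M₀ : Subgroup Γ) : Set Γ) := by
      apply le_normalizer_of_conj_mem
      intro d hd x hx
      have h1 : d * x * d⁻¹ ∈ cj d (⨆ δ : Δ', cj (δ : Γ) M₀) := conj_mem_cj hx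
      have h2 : cj d (⨆ δ : Δ', cj (δ : Γ) M₀) ≤ ⨆ δ : Δ', cj (δ : Γ) M₀ := by
        unfold cj
        rw [Subgroup.map_iSup]
        apply iSup_le
        intro δ
        have := le_iSup (fun δ : Δ' => cj (δ : Γ) M₀) (⟨d, hd⟩ * δ)
        have e : cj ((⟨d, hd⟩ * δ : Δ') : Γ) M₀ = cj d (cj (δ : Γ) M₀) := by
          rw [cj_cj]; rfl
        rw [e] at this
        exact this
      exact h2 h1
    rcases hMmin _ hJle hJn with h0 | h0
    · exfalso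
      apply hM₀.2.1
      rw [eq_bot_iff, ← h0]
      have := le_iSup (fun δ : Δ' => cj (δ : Γ) M₀) 1
      simpa [cj_one] using this
    · exact h0
  rw [← hJ]
  apply iSup_le
  intro δ
  apply le_sSup
  exact isMinInv_cj (hn δ.2) (hW δ.2) hM₀

/-- invariant complements -/
theorem exists_compl [Finite Γ] {Δ W : Subgroup Γ} (hab : ∀ x ∈ W, ∀ y ∈ W, x * y = y * x)
    (h : SumMin Δ W) (W₁ : Subgroup Γ) (hW₁ : W₁ ≤ W) (hn₁ : Δ ≤ normalizer (W₁ : Set Γ)) :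
    ∃ W₂ : Subgroup Γ, W₂ ≤ W ∧ Δ ≤ normalizer (W₂ : Set Γ) ∧ W₁ ⊓ W₂ = ⊥ ∧ W₁ ⊔ W₂ = W := by
  obtain ⟨W₂, ⟨hW₂, hn₂, hdisj⟩, hmax⟩ := wellFounded_gt.has_min
    {V : Subgroup Γ | V ≤ W ∧ Δ ≤ normalizer (V : Set Γ) ∧ W₁ ⊓ V = ⊥}
    ⟨⊥, bot_le, le_normalizer_of_conj_mem (fun d _ x hx => by rw [Subgroup.mem_bot] at hx ⊢; rw [hx]; group), inf_bot_eq _⟩
  refine ⟨W₂, hW₂, hn₂, hdisj, le_antisymm (sup_le hW₁ hW₂) ?_⟩
  refine h.trans (sSup_le ?_)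
  rintro M ⟨hMW, hM0, hMn, hMmin⟩
  by_contra hM
  have hsupn : Δ ≤ normalizer ((W₁ ⊔ W₂ : Subgroup Γ) : Set Γ) := by
    apply le_normalizer_of_conj_mem
    intro d hd x hx
    have : (W₁ ⊔ W₂).map (MulAut.conj d).toMonoidHom ≤ W₁ ⊔ W₂ := by
      rw [Subgroup.map_sup]
      apply sup_le_sup
      · exact cj_le_of_mem_normalizer (hn₁ hd) le_rfl
      · exact cj_le_of_mem_normalizer (hn₂ hd) le_rfl
    exact this ⟨x, hx, rfl⟩
  have hinfn : Δ ≤ normalizer ((M ⊓ (W₁ ⊔ W₂) : Subgroup Γ) : Set Γ) := by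
    apply le_normalizer_of_conj_mem
    intro d hd x hx
    exact ⟨conj_mem_of_le_normalizer hMn hd hx.1, conj_mem_of_le_normalizer hsupn hd hx.2⟩
  have h0 : M ⊓ (W₁ ⊔ W₂) = ⊥ := by
    rcases hMmin _ inf_le_left hinfn with h1 | h1
    · exact h1
    · exact absurd (inf_eq_left.mp h1) hM
  -- the bigger subgroup
  have hcomm : W₂ ≤ normalizer (M : Set Γ) := by
    apply le_normalizer_of_conj_mem
    intro d hd x hx
    have := hab d (hW₂ hd) x (hMW hx)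
    rw [this, mul_assoc, mul_inv_cancel, mul_one]
    exact hx
  have hmem : ∀ x ∈ W₂ ⊔ M, ∃ w ∈ W₂, ∃ m ∈ M, x = w * m := by
    intro x hx
    have : (x : Γ) ∈ ((W₂ ⊔ M : Subgroup Γ) : Set Γ) := hx
    rw [Subgroup.coe_mul_of_left_le_normalizer_right W₂ M hcomm] at this
    obtain ⟨w, hw, m, hm, rfl⟩ := this
    exact ⟨w, hw, m, hm, rfl⟩
  have hdisj' : W₁ ⊓ (W₂ ⊔ M) = ⊥ := by
    rw [eq_bot_iff]
    rintro x ⟨hx1, hx2⟩
    obtain ⟨w, hw, m, hm, rfl⟩ := hmem x hx2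
    have hm' : m ∈ M ⊓ (W₁ ⊔ W₂) := by
      refine ⟨hm, ?_⟩
      have : m = w⁻¹ * (w * m) := by group
      rw [this]
      exact Subgroup.mul_mem _ (Subgroup.inv_mem _ (Subgroup.mem_sup_right hw))
        (Subgroup.mem_sup_left hx1)
    rw [h0, Subgroup.mem_bot] at hm'
    rw [hm', mul_one] at hx1 ⊢
    have : w ∈ W₁ ⊓ W₂ := ⟨hx1, hw⟩
    rw [hdisj] at this
    exact this
  have hn' : Δ ≤ normalizer ((W₂ ⊔ M : Subgroup Γ) : Set Γ) := by
    apply le_normalizer_of_conj_mem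
    intro d hd x hx
    have : (W₂ ⊔ M).map (MulAut.conj d).toMonoidHom ≤ W₂ ⊔ M := by
      rw [Subgroup.map_sup]
      apply sup_le_sup
      · exact cj_le_of_mem_normalizer (hn₂ hd) le_rfl
      · exact cj_le_of_mem_normalizer (hMn hd) le_rfl
    exact this ⟨x, hx, rfl⟩
  have hlt : W₂ < W₂ ⊔ M := by
    refine lt_of_le_of_ne le_sup_left ?_
    intro heq
    apply hM
    have : M ≤ W₂ := by rw [heq]; exact le_sup_right
    exact this.trans le_sup_right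
  exact hmax (W₂ ⊔ M) ⟨sup_le hW₂ hMW, hn', hdisj'⟩ hlt

theorem sumMin_top_of_minimal_normal {W : Subgroup Γ} [hWn : W.Normal] (hW0 : W ≠ ⊥)
    (hmin : ∀ N : Subgroup Γ, N.Normal → N ≤ W → N = ⊥ ∨ N = W) : SumMin ⊤ W := by
  apply le_sSup
  refine ⟨le_rfl, hW0, ?_, fun M' hM' hn => ?_⟩
  · rw [normalizer_eq_top]
  · apply hmin M' _ hM'
    exact normalizer_eq_top_iff.mp (top_le_iff.mp hn)


/-! ### Normalizers grow between `C` and `P` when `P / C` is a `p`-group -/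

theorem exists_normalizer_gt [Finite Γ] {p : ℕ} [Fact p.Prime] {C Δ P : Subgroup Γ}
    (hCΔ : C ≤ Δ) (hΔP : Δ < P) (hCn : P ≤ normalizer (C : Set Γ))
    (hq : ∀ x ∈ P, ∃ k : ℕ, x ^ (p ^ k) ∈ C) :
    ∃ x ∈ P, x ∉ Δ ∧ x ∈ normalizer (Δ : Set Γ) := by
  have hCP : C ≤ P := hCΔ.trans hΔP.le
  haveI hnorm : (C.subgroupOf P).Normal := (normal_subgroupOf_iff_le_normalizer hCP).mpr hCn
  have hpg : IsPGroup p (↥P ⧸ C.subgroupOf P) := by
    intro y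
    obtain ⟨x, rfl⟩ := QuotientGroup.mk_surjective y
    obtain ⟨k, hk⟩ := hq x.1 x.2
    refine ⟨k, ?_⟩
    rw [← QuotientGroup.mk_pow, QuotientGroup.eq_one_iff, mem_subgroupOf]
    simpa using hk
  haveI : Group.IsNilpotent (↥P ⧸ C.subgroupOf P) := hpg.isNilpotent
  have hNC := normalizerCondition_of_isNilpotent (G := ↥P ⧸ C.subgroupOf P)
  -- lifting membership
  have hlift : ∀ z : ↥P, (QuotientGroup.mk z : ↥P ⧸ C.subgroupOf P) ∈
      (Δ.subgroupOf P).map (QuotientGroup.mk' (C.subgroupOf P)) → (z : Γ) ∈ Δ := by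
    rintro z ⟨d, hd, hdz⟩
    have h1 : d⁻¹ * z ∈ C.subgroupOf P := by
      rw [← QuotientGroup.eq]; exact hdz
    have h2 : ((d⁻¹ * z : ↥P) : Γ) ∈ Δ := hCΔ (mem_subgroupOf.mp h1)
    have h3 : (z : Γ) = (d : Γ) * ((d⁻¹ * z : ↥P) : Γ) := by
      simp
    rw [h3]
    exact Δ.mul_mem (mem_subgroupOf.mp hd) h2
  have hlt : (Δ.subgroupOf P).map (QuotientGroup.mk' (C.subgroupOf P)) < ⊤ := by
    rw [lt_top_iff_ne_top]
    intro htop
    obtain ⟨x, hxP, hxΔ⟩ := SetLike.exists_of_lt hΔP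
    apply hxΔ
    apply hlift ⟨x, hxP⟩
    rw [htop]; exact mem_top _
  obtain ⟨y, hyN, hyΔ⟩ := SetLike.exists_of_lt (hNC _ hlt)
  obtain ⟨x, rfl⟩ := QuotientGroup.mk_surjective y
  have hconj : ∀ z : ↥P, (QuotientGroup.mk z : ↥P ⧸ C.subgroupOf P) ∈
      normalizer (((Δ.subgroupOf P).map (QuotientGroup.mk' (C.subgroupOf P)) :
        Subgroup (↥P ⧸ C.subgroupOf P)) : Set (↥P ⧸ C.subgroupOf P)) →
      ∀ h ∈ Δ, (z : Γ) * h * (z : Γ)⁻¹ ∈ Δ := by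
    intro z hz h hh
    have hhP : h ∈ P := hΔP.le hh
    have h1 : (QuotientGroup.mk (⟨h, hhP⟩ : ↥P) : ↥P ⧸ C.subgroupOf P) ∈
        (Δ.subgroupOf P).map (QuotientGroup.mk' (C.subgroupOf P)) :=
      ⟨⟨h, hhP⟩, mem_subgroupOf.mpr hh, rfl⟩
    have h2 := (mem_normalizer_iff.mp hz _).mp h1
    have h3 := hlift (z * ⟨h, hhP⟩ * z⁻¹) (by simpa using h2)
    simpa using h3
  refine ⟨x.1, x.2, ?_, ?_⟩
  · intro hx
    apply hyΔ
    exact ⟨x, mem_subgroupOf.mpr hx, rfl⟩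
  · rw [mem_normalizer_iff]
    intro h
    constructor
    · exact hconj x hyN h
    · intro hh
      have hinv : (QuotientGroup.mk x⁻¹ : ↥P ⧸ C.subgroupOf P) ∈
          normalizer (((Δ.subgroupOf P).map (QuotientGroup.mk' (C.subgroupOf P)) :
            Subgroup (↥P ⧸ C.subgroupOf P)) : Set (↥P ⧸ C.subgroupOf P)) := by
        rw [QuotientGroup.mk_inv]; exact Subgroup.inv_mem _ hyN
      have := hconj x⁻¹ hinv _ hh
      simpa [mul_assoc] using this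

theorem sumMin_of_between [Finite Γ] {p : ℕ} [Fact p.Prime] {C P W : Subgroup Γ}
    (hCn : P ≤ normalizer (C : Set Γ)) (hq : ∀ x ∈ P, ∃ k : ℕ, x ^ (p ^ k) ∈ C)
    (hPW : P ≤ normalizer (W : Set Γ)) (hP : SumMin P W) :
    ∀ Δ : Subgroup Γ, C ≤ Δ → Δ ≤ P → SumMin Δ W := by
  intro Δ
  induction Δ using WellFoundedGT.induction with
  | ind Δ ih =>
    intro hCΔ hΔP
    by_cases hΔ : Δ = P
    · rw [hΔ]; exact hP
    · have hlt : Δ < P := lt_of_le_of_ne hΔP hΔ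
      obtain ⟨x, hxP, hxΔ, hxN⟩ := exists_normalizer_gt hCΔ hlt hCn hq
      have h1 : Δ < normalizer (Δ : Set Γ) ⊓ P := by
        refine lt_of_le_of_ne (le_inf le_normalizer hΔP) ?_
        intro heq
        apply hxΔ
        rw [heq]
        exact ⟨hxN, hxP⟩
      have h2 := ih _ h1 (hCΔ.trans h1.le) inf_le_right
      exact clifford_step h1.le inf_le_left (inf_le_right.trans hPW) h2

/-! ### Fixed points -/

/-- conjugation action of `R ≤ N(V)` on `V` -/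
def conjHom (R V : Subgroup Γ) (h : R ≤ normalizer (V : Set Γ)) : ↥R →* MulAut ↥V where
  toFun r :=
    { toFun := fun v => ⟨(r : Γ) * v * (r : Γ)⁻¹, conj_mem_of_le_normalizer h r.2 v.2⟩
      invFun := fun v => ⟨(r : Γ)⁻¹ * v * (r : Γ), by
        have := conj_mem_of_le_normalizer h (R.inv_mem r.2) v.2
        simpa using this⟩
      left_inv := fun v => by apply Subtype.ext; simp [mul_assoc]
      right_inv := fun v => by apply Subtype.ext; simp [mul_assoc]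
      map_mul' := fun v w => by apply Subtype.ext; simp [mul_assoc] }
  map_one' := by
    ext v; simp
  map_mul' := fun r s => by
    ext v; simp [mul_assoc]

theorem conjHom_apply (R V : Subgroup Γ) (h : R ≤ normalizer (V : Set Γ)) (r : ↥R) (v : ↥V) :
    ((conjHom R V h r v : ↥V) : Γ) = (r : Γ) * v * (r : Γ)⁻¹ := rfl

theorem exists_fixed_ne_one [Finite Γ] {p : ℕ} [hp : Fact p.Prime] {R V : Subgroup Γ}
    (hV0 : V ≠ ⊥) (hVp : IsPGroup p V) (hRV : R ≤ normalizer (V : Set Γ))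
    (hq : ∀ r ∈ R, ∃ k : ℕ, r ^ (p ^ k) ∈ centralizer (V : Set Γ)) :
    ∃ v ∈ V, v ≠ 1 ∧ ∀ r ∈ R, r * v * r⁻¹ = v := by
  set φ := conjHom R V hRV with hφ
  have hQp : IsPGroup p ↥φ.range := by
    rintro ⟨_, ⟨r, rfl⟩⟩
    obtain ⟨k, hk⟩ := hq r.1 r.2
    refine ⟨k, ?_⟩
    apply Subtype.ext
    show (φ r) ^ (p ^ k) = 1
    rw [← map_pow]
    ext v
    rw [conjHom_apply]
    have h1 := mem_centralizer_iff.mp hk v.1 v.2
    simp only [Subgroup.coe_pow, MulAut.one_apply]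
    rw [← h1, mul_assoc, mul_inv_cancel, mul_one]
  have hdvd : p ∣ Nat.card ↥V := by
    obtain ⟨k, hk⟩ := IsPGroup.iff_card.mp hVp
    have hk0 : k ≠ 0 := by
      rintro rfl
      rw [pow_zero] at hk
      exact hV0 (Subgroup.eq_bot_of_card_eq V hk)
    rw [hk]
    exact dvd_pow_self p hk0
  have h1 : (1 : ↥V) ∈ MulAction.fixedPoints ↥φ.range ↥V := by
    intro q
    show (q : MulAut ↥V) 1 = 1
    exact map_one _
  obtain ⟨u, hu, hu1⟩ := hQp.exists_fixed_point_of_prime_dvd_card_of_fixed_point ↥V hdvd h1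
  refine ⟨u, u.2, fun h => hu1 (Subtype.ext h.symm), fun r hr => ?_⟩
  have := hu ⟨φ ⟨r, hr⟩, ⟨⟨r, hr⟩, rfl⟩⟩
  have h2 : (φ ⟨r, hr⟩) u = u := this
  have h3 := congrArg Subtype.val h2
  rwa [conjHom_apply] at h3


/-! ### `p`-stability: quadratic action on a complemented invariant subgroup is trivial -/

theorem centralizes_of_pstable [Finite Γ] {p : ℕ} [Fact p.Prime] (hst : IsNormalizerPStable p Γ)
    {Δ D : Subgroup Γ} (hDp : IsPGroup p D) (hΔD : Δ ≤ normalizer (D : Set Γ))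
    (hcompl : ∀ W₁ : Subgroup Γ, W₁ ≤ D → Δ ≤ normalizer (W₁ : Set Γ) →
      ∃ W₂ : Subgroup Γ, W₂ ≤ D ∧ Δ ≤ normalizer (W₂ : Set Γ) ∧ W₁ ⊓ W₂ = ⊥ ∧ W₁ ⊔ W₂ = D)
    {b : Γ} (hb : b ∈ Δ) (hquad : ⁅⁅D, zpowers b⁆, zpowers b⁆ = ⊥) :
    b ∈ centralizer (D : Set Γ) := by
  have hbN : b ∈ normalizer (D : Set Γ) := hΔD hb
  have h0 := hst D hDp b hbN hquad
  haveI hCn : ((centralizer (D : Set Γ)).subgroupOf (normalizer (D : Set Γ))).Normal :=
    inferInstance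
  haveI hpn : (pCore p (↥(normalizer (D : Set Γ)) ⧸
      (centralizer (D : Set Γ)).subgroupOf (normalizer (D : Set Γ)))).Normal :=
    Cfsg.Agent.Helper33.pCore_normal p
  obtain ⟨O', hO'⟩ : ∃ O' : Subgroup ↥(normalizer (D : Set Γ)), O' =
      (pCore p (↥(normalizer (D : Set Γ)) ⧸
        (centralizer (D : Set Γ)).subgroupOf (normalizer (D : Set Γ)))).comap
        (QuotientGroup.mk' ((centralizer (D : Set Γ)).subgroupOf (normalizer (D : Set Γ)))) :=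
    ⟨_, rfl⟩
  haveI hO'n : O'.Normal := by rw [hO']; exact Subgroup.Normal.comap hpn _
  obtain ⟨R, hR⟩ : ∃ R : Subgroup Γ, R = O'.map (normalizer (D : Set Γ)).subtype ⊓ Δ := ⟨_, rfl⟩
  have hbR : b ∈ R := by
    rw [hR]
    refine ⟨⟨⟨b, hbN⟩, ?_, rfl⟩, hb⟩
    rw [hO']
    exact h0
  have hRΔ : R ≤ Δ := by rw [hR]; exact inf_le_right
  have hΔR : Δ ≤ normalizer (R : Set Γ) := by
    apply le_normalizer_of_conj_mem
    intro d hd x hx
    rw [hR] at hx ⊢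
    obtain ⟨⟨x', hx', rfl⟩, hxΔ⟩ := hx
    refine ⟨⟨⟨d, hΔD hd⟩ * x' * ⟨d, hΔD hd⟩⁻¹, hO'n.conj_mem x' hx' _, by simp⟩, ?_⟩
    exact Δ.mul_mem (Δ.mul_mem hd hxΔ) (Δ.inv_mem hd)
  have hRq : ∀ r ∈ R, ∃ k : ℕ, r ^ (p ^ k) ∈ centralizer (D : Set Γ) := by
    intro r hr
    rw [hR] at hr
    obtain ⟨⟨r', hr', rfl⟩, -⟩ := hr
    have hr'' : (QuotientGroup.mk' ((centralizer (D : Set Γ)).subgroupOf
        (normalizer (D : Set Γ))) r') ∈ pCore p (↥(normalizer (D : Set Γ)) ⧸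
        (centralizer (D : Set Γ)).subgroupOf (normalizer (D : Set Γ))) := by
      rw [hO'] at hr'; exact hr'
    obtain ⟨k, hk⟩ := (pCore_isPGroup33 (p := p)
      (G := ↥(normalizer (D : Set Γ)) ⧸
        (centralizer (D : Set Γ)).subgroupOf (normalizer (D : Set Γ)))) ⟨_, hr''⟩
    refine ⟨k, ?_⟩
    have h1 := congrArg Subtype.val hk
    simp only [Subgroup.coe_pow, Subgroup.coe_one, QuotientGroup.mk'_apply] at h1
    rw [← QuotientGroup.mk_pow, QuotientGroup.eq_one_iff, mem_subgroupOf] at h1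
    simpa using h1
  -- the fixed points of `R` on `D`
  have hW₁n : Δ ≤ normalizer ((D ⊓ centralizer (R : Set Γ) : Subgroup Γ) : Set Γ) := by
    apply le_normalizer_of_conj_mem
    intro d hd x hx
    refine ⟨conj_mem_of_le_normalizer hΔD hd hx.1, ?_⟩
    refine Subgroup.mem_centralizer_iff.mpr ?_
    intro r hr
    have hr' : d⁻¹ * r * d ∈ R := by
      have := conj_mem_of_le_normalizer hΔR (Δ.inv_mem hd) hr
      simpa using this
    have h1 := mem_centralizer_iff.mp hx.2 _ hr'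
    calc r * (d * x * d⁻¹) = d * ((d⁻¹ * r * d) * x) * d⁻¹ := by group
      _ = d * (x * (d⁻¹ * r * d)) * d⁻¹ := by rw [h1]
      _ = d * x * d⁻¹ * r := by group
  obtain ⟨W₂, hW₂D, hW₂n, hdisj, hsup⟩ := hcompl _ inf_le_left hW₁n
  by_cases hW₂ : W₂ = ⊥
  · rw [hW₂, sup_bot_eq] at hsup
    have hDR : D ≤ centralizer (R : Set Γ) := by
      rw [← hsup]; exact inf_le_right
    rw [mem_centralizer_iff]
    intro x hx
    exact (mem_centralizer_iff.mp (hDR hx) b hbR).symm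
  · exfalso
    obtain ⟨v, hvW, hv1, hvfix⟩ := exists_fixed_ne_one (p := p) hW₂ (hDp.to_le hW₂D)
      (hRΔ.trans hW₂n) (fun r hr => by
        obtain ⟨k, hk⟩ := hRq r hr
        exact ⟨k, centralizer_le (by exact_mod_cast hW₂D) hk⟩)
    have hv : v ∈ D ⊓ centralizer (R : Set Γ) := by
      refine ⟨hW₂D hvW, ?_⟩
      refine Subgroup.mem_centralizer_iff.mpr ?_
      intro r hr
      have := hvfix r hr
      calc r * v = (r * v * r⁻¹) * r := by group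
        _ = v * r := by rw [this]
    have : v ∈ D ⊓ centralizer (R : Set Γ) ⊓ W₂ := ⟨hv, hvW⟩
    rw [hdisj, mem_bot] at this
    exact hv1 this

/-- **Key lemma**: in a `p`-stable group, if `B` acts quadratically on a `C B`-invariant subgroup
`D` of the minimal normal abelian `p`-subgroup `W`, where `C ≤ P` are normal, `P / C` is a
`p`-group and `B ≤ P`, then `D` meets `[W, B, B]` trivially. -/
theorem quad_kill [Finite Γ] {p : ℕ} [Fact p.Prime] (hst : IsNormalizerPStable p Γ)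
    {W C P B D : Subgroup Γ} [hWn : W.Normal] (hW0 : W ≠ ⊥)
    (hWmin : ∀ N : Subgroup Γ, N.Normal → N ≤ W → N = ⊥ ∨ N = W)
    (hWab : ∀ x ∈ W, ∀ y ∈ W, x * y = y * x) (hWp : IsPGroup p W)
    [hCn : C.Normal] [hPn : P.Normal] (hCP : C ≤ P)
    (hq : ∀ x ∈ P, ∃ k : ℕ, x ^ (p ^ k) ∈ C)
    (hBP : B ≤ P) (hDW : D ≤ W) (hCD : C ≤ normalizer (D : Set Γ))
    (hBD : B ≤ normalizer (D : Set Γ)) (hquad : ⁅⁅D, B⁆, B⁆ = ⊥) :
    ⁅⁅W, B⁆, B⁆ ⊓ D = ⊥ := by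
  have hWtop : ∀ X : Subgroup Γ, X ≤ normalizer (W : Set Γ) := fun X => by
    rw [normalizer_eq_top]; exact le_top
  have hP : SumMin P W := clifford_step le_top (by rw [normalizer_eq_top]) (hWtop _)
    (sumMin_top_of_minimal_normal hW0 hWmin)
  have hΔP : C ⊔ B ≤ P := sup_le hCP hBP
  have hΔ : SumMin (C ⊔ B) W :=
    sumMin_of_between (p := p) (C := C) (by rw [normalizer_eq_top]; exact le_top) hq (hWtop _) hP
      _ le_sup_left hΔP
  have hΔD : C ⊔ B ≤ normalizer (D : Set Γ) := sup_le hCD hBD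
  -- complements inside `D`
  have hcompl : ∀ W₁ : Subgroup Γ, W₁ ≤ D → C ⊔ B ≤ normalizer (W₁ : Set Γ) →
      ∃ W₂ : Subgroup Γ, W₂ ≤ D ∧ C ⊔ B ≤ normalizer (W₂ : Set Γ) ∧ W₁ ⊓ W₂ = ⊥ ∧
        W₁ ⊔ W₂ = D := by
    intro W₁ hW₁D hW₁n
    obtain ⟨W₂, hW₂W, hW₂n, hdisj, hsup⟩ := exists_compl hWab hΔ W₁ (hW₁D.trans hDW) hW₁n
    refine ⟨W₂ ⊓ D, inf_le_right, ?_, ?_, ?_⟩
    · apply le_normalizer_of_conj_mem
      intro d hd x hx
      exact ⟨conj_mem_of_le_normalizer hW₂n hd hx.1, conj_mem_of_le_normalizer hΔD hd hx.2⟩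
    · rw [eq_bot_iff, ← hdisj]
      exact inf_le_inf_left _ inf_le_left
    · apply le_antisymm (sup_le hW₁D inf_le_right)
      intro x hx
      have hxW : x ∈ W₁ ⊔ W₂ := by rw [hsup]; exact hDW hx
      have hcomm : W₁ ≤ normalizer (W₂ : Set Γ) := by
        apply le_normalizer_of_conj_mem
        intro d hd y hy
        have := hWab d (hDW (hW₁D hd)) y (hW₂W hy)
        rw [this, mul_assoc, mul_inv_cancel, mul_one]
        exact hy
      have hx' : (x : Γ) ∈ ((W₁ ⊔ W₂ : Subgroup Γ) : Set Γ) := hxW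
      rw [Subgroup.coe_mul_of_left_le_normalizer_right W₁ W₂ hcomm] at hx'
      obtain ⟨w₁, hw₁, w₂, hw₂, rfl⟩ := hx'
      have hw₂D : w₂ ∈ D := by
        have : w₂ = w₁⁻¹ * (w₁ * w₂) := by group
        rw [this]
        exact D.mul_mem (D.inv_mem (hW₁D hw₁)) hx
      exact Subgroup.mul_mem _ (Subgroup.mem_sup_left hw₁) (Subgroup.mem_sup_right ⟨hw₂, hw₂D⟩)
  have hDp : IsPGroup p D := hWp.to_le hDW
  have hBcent : B ≤ centralizer (D : Set Γ) := by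
    intro b hb
    apply centralizes_of_pstable hst hDp hΔD hcompl (Subgroup.mem_sup_right hb)
    rw [eq_bot_iff, ← hquad]
    exact commutator_mono (commutator_mono le_rfl (zpowers_le.mpr hb)) (zpowers_le.mpr hb)
  -- the normal subgroup `N₁ = C_Δ(D)` of `Δ`
  obtain ⟨N₁, hN₁⟩ : ∃ N₁ : Subgroup Γ, N₁ = (C ⊔ B) ⊓ centralizer (D : Set Γ) := ⟨_, rfl⟩
  have hBN₁ : B ≤ N₁ := by rw [hN₁]; exact le_inf le_sup_right hBcent
  have hN₁Δ : N₁ ≤ C ⊔ B := by rw [hN₁]; exact inf_le_left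
  have hΔN₁ : C ⊔ B ≤ normalizer (N₁ : Set Γ) := by
    apply le_normalizer_of_conj_mem
    intro d hd x hx
    rw [hN₁] at hx ⊢
    refine ⟨Subgroup.mul_mem _ (Subgroup.mul_mem _ hd hx.1) (Subgroup.inv_mem _ hd), ?_⟩
    have hdN := hΔD hd
    refine Subgroup.mem_centralizer_iff.mpr ?_
    intro y hy
    have hy' : d⁻¹ * y * d ∈ D := by
      have := conj_mem_of_le_normalizer hΔD ((C ⊔ B).inv_mem hd) hy
      simpa using this
    have h1 := Subgroup.mem_centralizer_iff.mp hx.2 _ hy'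
    calc y * (d * x * d⁻¹) = d * ((d⁻¹ * y * d) * x) * d⁻¹ := by group
      _ = d * (x * (d⁻¹ * y * d)) * d⁻¹ := by rw [h1]
      _ = d * x * d⁻¹ * y := by group
  have hN₁S : SumMin N₁ W := clifford_step hN₁Δ hΔN₁ (hWtop _) hΔ
  have hN₁D : N₁ ≤ centralizer (D : Set Γ) := by rw [hN₁]; exact inf_le_right
  -- complement of the fixed points of `N₁`
  have hfixn : N₁ ≤ normalizer ((W ⊓ centralizer (N₁ : Set Γ) : Subgroup Γ) : Set Γ) := by
    apply le_normalizer_of_conj_mem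
    intro d hd x hx
    refine ⟨hWn.conj_mem x hx.1 d, ?_⟩
    have h1 := mem_centralizer_iff.mp hx.2 d hd
    have : d * x * d⁻¹ = x := by
      rw [h1, mul_assoc, mul_inv_cancel, mul_one]
    rw [this]; exact hx.2
  obtain ⟨W₂, hW₂W, hW₂n, hdisj, hsup⟩ := exists_compl hWab hN₁S _ inf_le_left hfixn
  have hcomm : W ⊓ centralizer (N₁ : Set Γ) ≤ normalizer (W₂ : Set Γ) := by
    apply le_normalizer_of_conj_mem
    intro d hd y hy
    have := hWab d hd.1 y (hW₂W hy)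
    rw [this, mul_assoc, mul_inv_cancel, mul_one]
    exact hy
  have hWN₁ : ⁅W, N₁⁆ ≤ W₂ := by
    rw [commutator_le]
    intro w hw n hn
    have hw' : (w : Γ) ∈ ((W ⊓ centralizer (N₁ : Set Γ) ⊔ W₂ : Subgroup Γ) : Set Γ) := by
      rw [hsup]; exact hw
    rw [Subgroup.coe_mul_of_left_le_normalizer_right _ W₂ hcomm] at hw'
    obtain ⟨w₁, hw₁, w₂, hw₂, rfl⟩ := hw'
    have h1 : n * w₁ = w₁ * n := mem_centralizer_iff.mp hw₁.2 n hn
    have h2 : n * w₂⁻¹ * n⁻¹ ∈ W₂ := conj_mem_of_le_normalizer hW₂n hn (W₂.inv_mem hw₂)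
    have h3 : n * w₂⁻¹ * n⁻¹ ∈ W := hW₂W h2
    have h4 : w₁ * (n * w₂⁻¹ * n⁻¹) = (n * w₂⁻¹ * n⁻¹) * w₁ := hWab _ hw₁.1 _ h3
    have e : ⁅w₁ * w₂, n⁆ = w₂ * (n * w₂⁻¹ * n⁻¹) := by
      rw [commutatorElement_def]
      calc w₁ * w₂ * n * (w₁ * w₂)⁻¹ * n⁻¹
          = w₁ * w₂ * (n * w₂⁻¹ * n⁻¹) * (n * w₁⁻¹) * n⁻¹ := by group
        _ = w₁ * w₂ * (n * w₂⁻¹ * n⁻¹) * (w₁⁻¹ * n) * n⁻¹ := by
            have : n * w₁⁻¹ = w₁⁻¹ * n := by
              calc n * w₁⁻¹ = w₁⁻¹ * (w₁ * n) * w₁⁻¹ := by group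
                _ = w₁⁻¹ * (n * w₁) * w₁⁻¹ := by rw [h1]
                _ = w₁⁻¹ * n := by group
            rw [this]
        _ = w₁ * (w₂ * (n * w₂⁻¹ * n⁻¹)) * w₁⁻¹ := by group
        _ = w₂ * (n * w₂⁻¹ * n⁻¹) := by
            have h5 : w₁ * (w₂ * (n * w₂⁻¹ * n⁻¹)) = (w₂ * (n * w₂⁻¹ * n⁻¹)) * w₁ :=
              hWab _ hw₁.1 _ (W.mul_mem (hW₂W hw₂) h3)
            rw [h5, mul_assoc, mul_inv_cancel, mul_one]
    rw [e]
    exact W₂.mul_mem hw₂ h2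
  have h6 : ⁅⁅W, B⁆, B⁆ ≤ W₂ := by
    have h7 : ⁅W, B⁆ ≤ W := commutator_le_left W B
    exact (commutator_mono h7 hBN₁).trans hWN₁
  have h8 : D ≤ W ⊓ centralizer (N₁ : Set Γ) := le_inf hDW (le_centralizer_iff.mp hN₁D)
  rw [eq_bot_iff, ← hdisj]
  exact le_inf (inf_le_right.trans h8) (inf_le_left.trans h6)

end Cfsg.Agent.Helper33.Cliff
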