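import Mathlib
import Cfsg.Agent.Lib.Helper33.EngelC

/-!
The structure of a minimal failure of control of transfer by a family of isomorphism-invariant
`p`-group functors (Glauberman).
-/

set_option autoImplicit false
universe u
open Pointwise Cfsg

namespace Cfsg.Agent.Helper33.Engel

open Cfsg.Agent.Helper33

section MF

variable {p : ℕ} [Fact p.Prime]

/-- `G` is a minimal failure of control of transfer for the family `𝓦`. -/
structure MinFail (p : ℕ) [Fact p.Prime] (𝓦 : Set (∀ (Q : Type u) [Group Q], Subgroup Q))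
    (G : Type u) [Group G] : Prop where
  charP : ∀ W ∈ 𝓦, IsCharPFunctor.{u} p W
  ne : 𝓦.Nonempty
  sub : ∀ K : Subgroup G, K ≠ ⊤ → FamilyControlsTransferIn p (indFam 𝓦 G) K
  quot : ∀ (N : Subgroup G) [N.Normal], N ≠ ⊥ →
    FamilyControlsTransferIn p (indFam 𝓦 (G ⧸ N)) ⊤
  fail : ¬ FamilyControlsTransferIn p (indFam 𝓦 G) ⊤

variable {𝓦 : Set (∀ (Q : Type u) [Group Q], Subgroup Q)} {G : Type u} [Group G] [Finite G]

theorem MinFail.not_le (h : MinFail p 𝓦 G) (S : Sylow p G) :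
    ¬ (S : Subgroup G) ⊓ ⁅(⊤ : Subgroup G), ⊤⁆ ≤ famD (indFam 𝓦 G) S :=
  fun hle => h.fail (fct_top_of_le S hle)

theorem MinFail.subT (h : MinFail p 𝓦 G) (S : Sylow p G) (K : Subgroup G) (hK : K ≠ ⊤)
    (hSK : (S : Subgroup G) ≤ K) : (S : Subgroup G) ⊓ ⁅K, K⁆ ≤ famD (indFam 𝓦 G) S := by
  have h𝔚 := isConjugacyFunctor_indFam h.charP G
  rw [familyControlsTransferIn_at h𝔚 (h.sub K hK) ((isSylIn_top S).of_le hSK le_top)]
  refine iSup₂_le fun F hF => ?_
  refine le_iSup₂_of_le F hF ?_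
  exact inf_le_inf_left _ (Subgroup.commutator_mono (inf_le_inf_right _ le_top)
    (inf_le_inf_right _ le_top))

/-- a normal Sylow subgroup gives control -/
theorem MinFail.not_sylow_le (h : MinFail p 𝓦 G) (S : Sylow p G) :
    ¬ (S : Subgroup G) ≤ pCore p G := by
  intro hSP
  apply h.not_le S
  obtain ⟨W, hW⟩ := h.ne
  have hPS : pCore p G ≤ (S : Subgroup G) := pCore_le_sylow S
  have hSeq : (S : Subgroup G) = pCore p G := le_antisymm hSP hPS
  haveI hPn : (pCore p G).Normal := pCore_normal p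
  have hNtop : Subgroup.normalizer ((inducedFunctor W (S : Subgroup G) : Subgroup G) : Set G) = ⊤ := by
    rw [eq_top_iff]
    have h1 := normalizer_le_normalizer_functor (isConjugacyFunctor_indF (h.charP W hW) G)
      S.isPGroup'
    refine le_trans ?_ h1
    rw [hSeq, Subgroup.normalizer_eq_top]
  refine le_iSup₂_of_le (inducedFunctor (G := G) W) ⟨W, hW, rfl⟩ ?_
  show _ ≤ (S : Subgroup G) ⊓ ⁅⊤ ⊓ Subgroup.normalizer
    ((inducedFunctor W (S : Subgroup G) : Subgroup G) : Set G), ⊤ ⊓ Subgroup.normalizer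
    ((inducedFunctor W (S : Subgroup G) : Subgroup G) : Set G)⁆
  rw [hNtop, top_inf_eq]

theorem MinFail.sylow_ne_top (h : MinFail p 𝓦 G) (S : Sylow p G) : (S : Subgroup G) ≠ ⊤ := by
  intro htop
  apply h.not_sylow_le S
  rw [htop]
  exact normal_pgroup_le_pCore inferInstance (by rw [← htop]; exact S.isPGroup')

theorem MinFail.constr (h : MinFail p 𝓦 G) : Constr p G := by
  have h𝓦 := h.charP
  have h𝔚 := isConjugacyFunctor_indFam h𝓦 G
  obtain ⟨S⟩ : Nonempty (Sylow p G) := inferInstance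
  set Q := pCore p G with hQdef
  have hQS : Q ≤ (S : Subgroup G) := pCore_le_sylow S
  haveI hQn : Q.Normal := pCore_normal p
  have hQ : Q ≠ ⊥ := by
    intro hQ
    apply h.fail
    apply familyControlsTransfer_global h𝔚 S
    intro T hTS hTne _
    apply h.sub
    intro htop
    have hTn : T.Normal := Subgroup.normalizer_eq_top_iff.mp htop
    have h1 : T ≤ Q := normal_pgroup_le_pCore hTn (S.isPGroup'.to_le hTS)
    rw [hQ] at h1
    exact hTne (le_bot_iff.mp h1)
  have hsub := h.subT S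
  set C := Subgroup.centralizer (Q : Set G) with hC
  set N := Q ⊔ C with hN
  haveI hNn : N.Normal := inferInstance
  set R := (S : Subgroup G) ⊓ N with hR
  have hRQ : R ≤ Q := by
    by_contra hRQ
    apply h.not_le S
    have hNR : Subgroup.normalizer (R : Set G) ≠ ⊤ := by
      intro htop
      have hRn : R.Normal := Subgroup.normalizer_eq_top_iff.mp htop
      exact hRQ (normal_pgroup_le_pCore hRn (S.isPGroup'.to_le inf_le_left))
    by_cases hSN : (S : Subgroup G) ⊔ N = ⊤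
    · have hSC : ∀ g : G, ∃ s ∈ (S : Subgroup G), ∃ c ∈ C, g = s * c := by
        intro g
        have h1 : g ∈ (S : Subgroup G) ⊔ C := by
          have h2 : (S : Subgroup G) ⊔ N = (S : Subgroup G) ⊔ C := by
            rw [hN, ← sup_assoc, sup_eq_left.mpr hQS]
          rw [← h2, hSN]; exact Subgroup.mem_top g
        exact mem_sup_normal_right h1
      have hSnotQ : ¬ (S : Subgroup G) ≤ Q := fun h' => hRQ (inf_le_left.trans h')
      have hq := h.quot Q hQ
      refine focal_le_of_quot_pgroup h𝓦 S Q hQS hSC hq _ ?_ ?_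
      · exact (le_inf (Subgroup.commutator_le_self _) le_rfl).trans
          (hsub _ (h.sylow_ne_top S) le_rfl)
      · intro W hW
        exact hsub _ (quotNormalizer_ne_top (h𝓦 W hW) S hSnotQ)
          (sylow_le_quotNormalizer (h𝓦 W hW) S Q)
    · exact focal_le_of_frattini S N _ (hsub _ hSN le_sup_left)
        (hsub _ hNR (sylow_le_normalizer_inf S N))
  have hpp : pPrimeCore p G = ⊥ := by
    by_contra hne
    haveI : (pPrimeCore p G).Normal := pPrimeCore_normal p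
    have h0 := h.quot (pPrimeCore p G) hne
    exact h.fail (fct_of_quot_pprime h𝓦 (pPrimeCore p G) (card_pPrimeCore_coprime' p) h0)
  have hcon : Constr p (G ⧸ pPrimeCore p G) :=
    constr_quot_pprime S (le_trans (inf_le_inf_left _ le_sup_right) hRQ)
  haveI : (pPrimeCore p G).Normal := pPrimeCore_normal p
  exact constr_of_equiv
    ((QuotientGroup.quotientMulEquivOfEq hpp).trans QuotientGroup.quotientBot).symm hcon

theorem MinFail.pCore_ne_bot (h : MinFail p 𝓦 G) (S : Sylow p G) : pCore p G ≠ ⊥ := by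
  intro h0
  apply h.not_sylow_le S
  intro s _
  apply h.constr
  rw [Subgroup.mem_centralizer_iff]
  intro y hy
  rw [SetLike.mem_coe, h0, Subgroup.mem_bot] at hy
  rw [hy]; simp

/-- lifting from `G / O_p(G)`: it suffices to control `O_p(G) ∩ G'` -/
theorem MinFail.not_pCore_le (h : MinFail p 𝓦 G) (S : Sylow p G) :
    ¬ pCore p G ⊓ ⁅(⊤ : Subgroup G), ⊤⁆ ≤ famD (indFam 𝓦 G) S := by
  intro hQD
  apply h.not_le S
  haveI hPn : (pCore p G).Normal := pCore_normal p
  have hq := h.quot (pCore p G) (h.pCore_ne_bot S)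
  refine focal_le_of_quot_pgroup' h.charP S (pCore p G) (pCore_le_sylow S) hq _ hQD ?_
  intro W hW
  exact h.subT S _ (quotNormalizer_ne_top (h.charP W hW) S (h.not_sylow_le S))
    (sylow_le_quotNormalizer (h.charP W hW) S (pCore p G))

/-- the commutator of an element of a proper overgroup of `S` with an element of `O_p(G)` -/
theorem MinFail.comm_mem (h : MinFail p 𝓦 G) (S : Sylow p G) (H : Subgroup G)
    (hSH : (S : Subgroup G) ≤ H) (hH : H ≠ ⊤) (x : G) (hx : x ∈ H) (z : G) (hz : z ∈ pCore p G) :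
    x * z * x⁻¹ * z⁻¹ ∈ famD (indFam 𝓦 G) S ⊓ pCore p G := by
  haveI hPn : (pCore p G).Normal := pCore_normal p
  have hPS : pCore p G ≤ (S : Subgroup G) := pCore_le_sylow S
  have h1 : x * z * x⁻¹ * z⁻¹ ∈ pCore p G :=
    (pCore p G).mul_mem (hPn.conj_mem z hz x) ((pCore p G).inv_mem hz)
  have h2 : x * z * x⁻¹ * z⁻¹ ∈ ⁅H, H⁆ := by
    have := Subgroup.commutator_mem_commutator hx (hSH (hPS hz))
    rwa [commutatorElement_def] at this
  exact Subgroup.mem_inf.mpr ⟨h.subT S H hH hSH (Subgroup.mem_inf.mpr ⟨hPS h1, h2⟩), h1⟩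

/-- every proper subgroup containing `S` normalizes `T ∩ O_p(G)` -/
theorem MinFail.le_M (h : MinFail p 𝓦 G) (S : Sylow p G) (H : Subgroup G)
    (hSH : (S : Subgroup G) ≤ H) (hH : H ≠ ⊤) :
    H ≤ Subgroup.normalizer ((famD (indFam 𝓦 G) S ⊓ pCore p G : Subgroup G) : Set G) := by
  intro x hx
  apply mem_normalizer_of_conj_smul_le
  rw [conj_smul_le_iff]
  intro z hz
  have h1 := h.comm_mem S H hSH hH x hx z (Subgroup.mem_inf.mp hz).2
  have e : x * z * x⁻¹ = (x * z * x⁻¹ * z⁻¹) * z := by group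
  rw [e]
  exact Subgroup.mul_mem _ h1 hz

theorem MinFail.M_ne_top (h : MinFail p 𝓦 G) (S : Sylow p G) :
    Subgroup.normalizer ((famD (indFam 𝓦 G) S ⊓ pCore p G : Subgroup G) : Set G) ≠ ⊤ := by
  intro htop
  set T := famD (indFam 𝓦 G) S with hT
  set P := pCore p G with hP
  set T₀ := T ⊓ P with hT₀
  haveI hPn : P.Normal := pCore_normal p
  haveI hT₀n : T₀.Normal := Subgroup.normalizer_eq_top_iff.mp htop
  have hPS : P ≤ (S : Subgroup G) := pCore_le_sylow S
  set π := QuotientGroup.mk' T₀ with hπ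
  have hsurj : Function.Surjective π := QuotientGroup.mk'_surjective T₀
  have hπ1 : ∀ z : G, π z = 1 ↔ z ∈ T₀ := fun z => QuotientGroup.eq_one_iff z
  set Pb := P.map π with hPb
  haveI hPbn : Pb.Normal := hPn.map π hsurj
  set Cs := (Subgroup.centralizer (Pb : Set (G ⧸ T₀))).comap π with hCs
  haveI hCsn : Cs.Normal := (inferInstance : (Subgroup.centralizer (Pb : Set (G ⧸ T₀))).Normal).comap π
  have hle : ∀ H : Subgroup G, (S : Subgroup G) ≤ H → H ≠ ⊤ → H ≤ Cs := by
    intro H hSH hH x hx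
    rw [hCs, Subgroup.mem_comap, Subgroup.mem_centralizer_iff]
    rintro _ ⟨z, hz, rfl⟩
    have h1 := (hπ1 _).mpr (h.comm_mem S H hSH hH x hx z hz)
    rw [map_mul, map_mul, map_mul, map_inv, map_inv] at h1
    calc π z * π x = (π x * π z * (π x)⁻¹ * (π z)⁻¹)⁻¹ * (π x * π z) := by group
      _ = π x * π z := by rw [h1, inv_one, one_mul]
  have hSCs : (S : Subgroup G) ≤ Cs := hle _ le_rfl (h.sylow_ne_top S)
  have hNS : Subgroup.normalizer ((S : Subgroup G) : Set G) ≠ ⊤ := by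
    intro h'
    have hSn : (S : Subgroup G).Normal := Subgroup.normalizer_eq_top_iff.mp h'
    exact h.not_sylow_le S (normal_pgroup_le_pCore hSn S.isPGroup')
  have hall : ∀ g : G, g ∈ Cs := by
    intro g
    obtain ⟨x, hx, n, hn, rfl⟩ := exists_frattini S Cs g
    rw [inf_eq_left.mpr hSCs] at hx
    exact Cs.mul_mem (hle _ Subgroup.le_normalizer hNS hx) hn
  -- transfer in the quotient
  have h1 := inf_commutator_le_of_factor (S.mapSurjective hsurj) Pb
    (by rw [Sylow.coe_mapSurjective]; exact Subgroup.map_mono hPS)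
    (by
      intro gb
      obtain ⟨g, rfl⟩ := hsurj gb
      exact ⟨1, Subgroup.one_mem _, π g, hall g, (one_mul _).symm⟩)
  rw [Sylow.coe_mapSurjective, ← Subgroup.map_commutator] at h1
  apply h.not_pCore_le S
  intro z hz
  have h2 : π z ∈ Pb ⊓ ⁅(⊤ : Subgroup (G ⧸ T₀)), ⊤⁆ := by
    refine Subgroup.mem_inf.mpr ⟨Subgroup.mem_map_of_mem π hz.1, ?_⟩
    have : π z ∈ Subgroup.map π ⁅(⊤ : Subgroup G), ⊤⁆ := Subgroup.mem_map_of_mem π hz.2
    rw [Subgroup.map_commutator] at this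
    exact Subgroup.commutator_mono le_top le_top this
  obtain ⟨w, hw, hwz⟩ := h1 h2
  have h3 : w⁻¹ * z ∈ T₀ := by
    rw [← hπ1, map_mul, map_inv, hwz, inv_mul_cancel]
  have hwT : w ∈ T := by
    have := h.subT S (S : Subgroup G) (h.sylow_ne_top S) le_rfl
    exact this (Subgroup.mem_inf.mpr ⟨Subgroup.commutator_le_self _ hw, hw⟩)
  have e : z = w * (w⁻¹ * z) := by group
  rw [e]
  exact T.mul_mem hwT (Subgroup.mem_inf.mp h3).1

/-- every element of `S` outside `O_p(G)` has a full Jordan block on some chief factor below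
`O_p(G)` -/
theorem MinFail.engel (h : MinFail p 𝓦 G) (S : Sylow p G) (u : G) (huS : u ∈ (S : Subgroup G))
    (huP : u ∉ pCore p G) :
    ∃ U V : Subgroup G, IsChiefFactor U V ∧ U ≤ pCore p G ∧
      ¬ iterCommutator U (Subgroup.zpowers u) (p - 1) ≤ V := by
  by_contra hno
  push Not at hno
  set T := famD (indFam 𝓦 G) S with hT
  set P := pCore p G with hP
  set M := Subgroup.normalizer ((T ⊓ P : Subgroup G) : Set G) with hMdef
  haveI hPn : P.Normal := pCore_normal p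
  have hPS : P ≤ (S : Subgroup G) := pCore_le_sylow S
  have hMtop : M ≠ ⊤ := h.M_ne_top S
  have hSM : (S : Subgroup G) ≤ M := h.le_M S _ le_rfl (h.sylow_ne_top S)
  have hM : ∀ H : Subgroup G, (S : Subgroup G) ≤ H → H ≠ ⊤ → H ≤ M := h.le_M S
  have hPM : P ≤ M := hPS.trans hSM
  have hM'T : (S : Subgroup G) ⊓ ⁅M, M⁆ ≤ T := h.subT S M hMtop hSM
  apply h.not_pCore_le S
  suffices hsuff : P ⊓ ⁅(⊤ : Subgroup G), ⊤⁆ ≤ ⁅M, M⁆ by
    intro z hz
    exact hM'T (Subgroup.mem_inf.mpr ⟨hPS hz.1, hsuff hz⟩)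
  by_contra hbad
  let 𝒳 : Set (Subgroup G) := {X | X.Normal ∧ X ≤ P ∧ ¬ X ⊓ ⁅(⊤ : Subgroup G), ⊤⁆ ≤ ⁅M, M⁆}
  have h𝒳 : 𝒳.Nonempty := ⟨P, hPn, le_rfl, hbad⟩
  obtain ⟨X, hX𝒳, hXmin⟩ := wellFounded_lt.has_min 𝒳 h𝒳
  obtain ⟨hXn, hXP, hXbad⟩ := hX𝒳
  have hXne : X ≠ ⊥ := by
    rintro rfl
    apply hXbad
    rw [bot_inf_eq]; exact bot_le
  let 𝒴 : Set (Subgroup G) := {Y | Y.Normal ∧ Y < X}
  have h𝒴 : 𝒴.Nonempty := ⟨⊥, inferInstance, bot_lt_iff_ne_bot.mpr hXne⟩
  obtain ⟨Y, hY𝒴, hYmax⟩ := wellFounded_gt.has_min 𝒴 h𝒴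
  obtain ⟨hYn, hYX⟩ := hY𝒴
  have hchief : ∀ N : Subgroup G, N.Normal → Y ≤ N → N ≤ X → N = Y ∨ N = X := by
    intro N hNn hYN hNX
    by_cases hNeq : N = X
    · right; exact hNeq
    · left
      have hNlt : N < X := lt_of_le_of_ne hNX hNeq
      by_contra hne
      exact hYmax N ⟨hNn, hNlt⟩ (lt_of_le_of_ne hYN (Ne.symm hne))
  have hYgood : Y ⊓ ⁅(⊤ : Subgroup G), ⊤⁆ ≤ ⁅M, M⁆ := by
    by_contra hYbad
    exact hXmin Y ⟨hYn, hYX.le.trans hXP, hYbad⟩ hYX
  have hcf : IsChiefFactor X Y := ⟨hYX, hXn, hYn, hchief⟩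
  have hEng := hno X Y hcf hXP
  haveI := hXn
  haveI := hYn
  obtain ⟨hc1, hc2⟩ := chief_props P X Y (S.isPGroup'.to_le hPS) hYX hXP hchief
  have hab : ∀ x ∈ X, ∀ y ∈ X, x * y * x⁻¹ * y⁻¹ ∈ Y := fun x hx y hy => hc1 x (hXP hx) y hy
  have hu' : iterCommutator X (Subgroup.zpowers u⁻¹) (p - 1) ≤ Y := by
    rw [Subgroup.zpowers_inv]; exact hEng
  have hcp := cp_mem_of_engel X Y hab hc2 u⁻¹ hu'
  exact hXbad (engel_core S M hSM hM X Y (hXP.trans hPM) hYgood u huS huP hcp)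

end MF

end Cfsg.Agent.Helper33.Engel
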