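import Mathlib
import Cfsg.Agent.Lib.Helper33.EngelD

/-!
Minimal failures of control of transfer, from control in all proper sections.
-/

set_option autoImplicit false
universe u
open Pointwise Cfsg

namespace Cfsg.Agent.Helper33.Engel

open Cfsg.Agent.Helper33

section ME

variable {p : ℕ} [Fact p.Prime]
variable {𝓦 : Set (∀ (Q : Type u) [Group Q], Subgroup Q)} {G : Type u} [Group G] [Finite G]

theorem minFail_of_sections (h𝓦 : ∀ W ∈ 𝓦, IsCharPFunctor.{u} p W) (hne : 𝓦.Nonempty)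
    (hsec : ∀ (K R : Subgroup G) [(R.subgroupOf K).Normal], (K = ⊤ → R ≠ ⊥) →
      FamilyControlsTransferIn p (indFam 𝓦 (↥K ⧸ R.subgroupOf K)) ⊤)
    (hfail : ¬ FamilyControlsTransferIn p (indFam 𝓦 G) ⊤) : MinFail p 𝓦 G := by
  have hsub : ∀ K : Subgroup G, K ≠ ⊤ → FamilyControlsTransferIn p (indFam 𝓦 G) K := by
    intro K hK
    have hbot : (⊥ : Subgroup G).subgroupOf K = ⊥ := Subgroup.bot_subgroupOf _
    haveI : ((⊥ : Subgroup G).subgroupOf K).Normal := by rw [hbot]; infer_instance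
    have h1 : FamilyControlsTransferIn p (indFam 𝓦 (↥K ⧸ (⊥ : Subgroup G).subgroupOf K)) ⊤ :=
      hsec K ⊥ (fun h => absurd h hK)
    have e : (↥K ⧸ (⊥ : Subgroup G).subgroupOf K) ≃* ↥K :=
      (QuotientGroup.quotientMulEquivOfEq hbot).trans QuotientGroup.quotientBot
    have h2 := fct_isoInv h𝓦 _ _ e h1
    have h3 := fct_range h𝓦 K.subtype K.subtype_injective h2
    rwa [Subgroup.range_subtype] at h3
  have hquot : ∀ (N : Subgroup G) [N.Normal], N ≠ ⊥ →
      FamilyControlsTransferIn p (indFam 𝓦 (G ⧸ N)) ⊤ := by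
    intro N hNn hN
    have h1 : FamilyControlsTransferIn p (indFam 𝓦 (↥(⊤ : Subgroup G) ⧸ N.subgroupOf ⊤)) ⊤ :=
      hsec ⊤ N (fun _ => hN)
    have e : (↥(⊤ : Subgroup G) ⧸ N.subgroupOf ⊤) ≃* G ⧸ N :=
      QuotientGroup.congr (N.subgroupOf ⊤) N Subgroup.topEquiv (by
        ext x
        constructor
        · rintro ⟨y, hy, rfl⟩
          exact hy
        · intro hx
          exact ⟨⟨x, Subgroup.mem_top x⟩, hx, rfl⟩)
    exact fct_isoInv h𝓦 _ _ e h1
  exact ⟨h𝓦, hne, hsub, hquot, hfail⟩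

/-- in a minimal failure no `W(S)` is normal -/
theorem MinFail.not_normal (h : MinFail p 𝓦 G) (S : Sylow p G)
    (W : ∀ (Q : Type u) [Group Q], Subgroup Q) (hW : W ∈ 𝓦) :
    ¬ (inducedFunctor (G := G) W (S : Subgroup G)).Normal := by
  intro hn
  apply h.not_le S
  have hNtop : Subgroup.normalizer ((inducedFunctor W (S : Subgroup G) : Subgroup G) : Set G) = ⊤ :=
    Subgroup.normalizer_eq_top_iff.mpr hn
  refine le_iSup₂_of_le (inducedFunctor (G := G) W) ⟨W, hW, rfl⟩ ?_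
  show _ ≤ (S : Subgroup G) ⊓ ⁅⊤ ⊓ Subgroup.normalizer
    ((inducedFunctor W (S : Subgroup G) : Subgroup G) : Set G), ⊤ ⊓ Subgroup.normalizer
    ((inducedFunctor W (S : Subgroup G) : Subgroup G) : Set G)⁆
  rw [hNtop, top_inf_eq]

end ME

end Cfsg.Agent.Helper33.Engel
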