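import Mathlib
import Cfsg.Agent.Lib.Helper52.FLDefs
import Cfsg.Agent.Lib.Helper52.Coprime
import Cfsg.Agent.Lib.Helper9.WielandtBasic
import Cfsg.Agent.Lib.Helper97.FXDefs

/-!
# FL (INT) `inter_facts` (helper52 server, S3822), plus shared auxiliaries of my FL pieces
-/

set_option autoImplicit false

namespace Cfsg.Agent.Helper33.FL

open Cfsg.Agent.Helper52.FL Cfsg.Agent.Helper97.FX

variable {G : Type*} [Group G] [Finite G]

omit [Finite G] in
/-- if `A` normalises `V` then every element of `A ⊔ V` is a product `α * v` -/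
theorem h33_mem_sup_of_le_normalizer {A V : Subgroup G}
    (hAV : A ≤ Subgroup.normalizer (V : Set G)) {y : G} (hy : y ∈ A ⊔ V) :
    ∃ α ∈ A, ∃ v ∈ V, y = α * v := by
  let S : Subgroup G :=
    { carrier := {y | ∃ α ∈ A, ∃ v ∈ V, y = α * v}
      one_mem' := ⟨1, A.one_mem, 1, V.one_mem, (mul_one 1).symm⟩
      mul_mem' := by
        rintro _ _ ⟨α, hα, v, hv, rfl⟩ ⟨α', hα', v', hv', rfl⟩
        refine ⟨α * α', A.mul_mem hα hα', (α'⁻¹ * v * α'⁻¹⁻¹) * v', V.mul_mem ?_ hv', by group⟩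
        exact (Subgroup.mem_normalizer_iff.1 (hAV (A.inv_mem hα')) v).1 hv
      inv_mem' := by
        rintro _ ⟨α, hα, v, hv, rfl⟩
        refine ⟨α⁻¹, A.inv_mem hα, α * v⁻¹ * α⁻¹, ?_, by group⟩
        exact (Subgroup.mem_normalizer_iff.1 (hAV hα) v⁻¹).1 (V.inv_mem hv) }
  have hle : A ⊔ V ≤ S := by
    apply sup_le
    · intro α hα; exact ⟨α, hα, 1, V.one_mem, (mul_one α).symm⟩
    · intro v hv; exact ⟨1, A.one_mem, v, hv, (one_mul v).symm⟩
  exact hle hy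

section CTX
variable {A Q V : Subgroup G} {r s : ℕ} [Fact r.Prime] [Fact s.Prime]

omit [Finite G] in
/-- `Q ∩ V = 1` -/
theorem h33_inf_QV (h : Ctx A Q V r s) : Q ⊓ V = ⊥ :=
  disjoint_iff.1 (IsPGroup.disjoint_of_ne r s h.hrs V Q h.hV h.hQ).symm

omit [Finite G] in
/-- `A` normalises `A ∩ V` -/
theorem h33_normalizes_inf (h : Ctx A Q V r s) :
    A ≤ Subgroup.normalizer ((A ⊓ V : Subgroup G) : Set G) := by
  intro a ha
  rw [Subgroup.mem_normalizer_iff]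
  intro g
  have h1 := Subgroup.mem_normalizer_iff.1 (Subgroup.le_normalizer ha) g
  have h2 := Subgroup.mem_normalizer_iff.1 (h.hAV ha) g
  rw [Subgroup.mem_inf, Subgroup.mem_inf, ← h1, ← h2]

/-- **(INT) [S-M]** -/
theorem inter_facts (h : Ctx A Q V r s) : Q ⊓ V = ⊥ ∧ ¬ V ≤ A ∧ A ⊓ V ≤ Dsub Q V := by
  have h1 : Q ⊓ V = ⊥ := h33_inf_QV h
  have h2 : ¬ V ≤ A := by
    intro hVA
    apply h.hnc
    intro v hv
    rw [Subgroup.mem_centralizer_iff]
    intro q hq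
    -- `v q v⁻¹ q⁻¹ ∈ Q ∩ V`
    have hvq : v * q * v⁻¹ ∈ Q := (Subgroup.mem_normalizer_iff.1 (h.hAQ (hVA hv)) q).1 hq
    have hqv : q * v⁻¹ * q⁻¹ ∈ V :=
      (Subgroup.mem_normalizer_iff.1 (h.hAV (h.hQA hq)) v⁻¹).1 (V.inv_mem hv)
    have hmem : v * q * v⁻¹ * q⁻¹ ∈ Q ⊓ V := by
      refine ⟨Q.mul_mem hvq (Q.inv_mem hq), ?_⟩
      have e : v * q * v⁻¹ * q⁻¹ = v * (q * v⁻¹ * q⁻¹) := by group
      rw [e]
      exact V.mul_mem hv hqv
    rw [h1, Subgroup.mem_bot] at hmem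
    -- so `v q = q v`
    calc q * v = (v * q * v⁻¹ * q⁻¹)⁻¹ * (v * q) := by group
      _ = v * q := by rw [hmem, inv_one, one_mul]
  refine ⟨h1, h2, ?_⟩
  have hne : A ⊓ V ≠ V := by
    intro e
    apply h2
    rw [← e]
    exact inf_le_left
  have hc := h.hmin (A ⊓ V) inf_le_right hne (h33_normalizes_inf h)
  intro g hg
  exact ⟨hg.2, hc hg⟩

end CTX

end Cfsg.Agent.Helper33.FL
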