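import Mathlib
import Cfsg.Agent.Lib.Helper52.FLDefs
import Cfsg.Agent.Lib.Helper52.Coprime
import Cfsg.Agent.Lib.Helper9.WielandtBasic
import Cfsg.Agent.Lib.Helper97.FXDefs
import Cfsg.Agent.Lib.Helper33.FLINT

/-!
# FL (NG), (NQ), (NTRIV) (helper52 server, S3822): core versions

with the pieces they use ((DCEN), (CQ), (COMM)) as explicit hypotheses
-/

set_option autoImplicit false

namespace Cfsg.Agent.Helper33.FL

open Cfsg.Agent.Helper52.FL Cfsg.Agent.Helper97.FX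
open scoped commutatorElement

variable {G : Type*} [Group G] [Finite G]

section CTX
variable {A Q V : Subgroup G} {r s : ℕ} [Fact r.Prime] [Fact s.Prime]

omit [Finite G] in
/-- conjugation by an element normalising `Q` preserves `C(Q)` -/
theorem h33_conj_mem_centralizer {Q : Subgroup G} {a g : G}
    (ha : a ∈ Subgroup.normalizer (Q : Set G)) (hg : g ∈ Subgroup.centralizer (Q : Set G)) :
    a * g * a⁻¹ ∈ Subgroup.centralizer (Q : Set G) := by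
  rw [Subgroup.mem_centralizer_iff] at hg ⊢
  intro q hq
  have hq' : a⁻¹ * q * a⁻¹⁻¹ ∈ Q :=
    (Subgroup.mem_normalizer_iff.1 ((Subgroup.normalizer (Q : Set G)).inv_mem ha) q).1 hq
  have e := hg _ hq'
  calc q * (a * g * a⁻¹) = a * ((a⁻¹ * q * a⁻¹⁻¹) * g) * a⁻¹ := by group
    _ = a * (g * (a⁻¹ * q * a⁻¹⁻¹)) * a⁻¹ := by rw [e]
    _ = a * g * a⁻¹ * q := by group

omit [Finite G] in
/-- `A` maps `D = C_V(Q)` into itself under conjugation -/
theorem h33_conj_mem_D (h : Ctx A Q V r s) {a d : G} (ha : a ∈ A) (hd : d ∈ Dsub Q V) :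
    a * d * a⁻¹ ∈ Dsub Q V :=
  ⟨(Subgroup.mem_normalizer_iff.1 (h.hAV ha) d).1 hd.1, h33_conj_mem_centralizer (h.hAQ ha) hd.2⟩

omit [Finite G] in
/-- `A` normalises `D = C_V(Q)` -/
theorem h33_A_le_normalizer_D (h : Ctx A Q V r s) :
    A ≤ Subgroup.normalizer ((Dsub Q V : Subgroup G) : Set G) := by
  intro a ha
  rw [Subgroup.mem_normalizer_iff]
  intro d
  constructor
  · exact fun hd => h33_conj_mem_D h ha hd
  · intro hd
    have := h33_conj_mem_D h (A.inv_mem ha) hd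
    have e : a⁻¹ * (a * d * a⁻¹) * a⁻¹⁻¹ = d := by group
    rwa [e] at this

omit [Finite G] in
/-- the elements of `Q ⊔ D` are the products `d * q` -/
theorem h33_mem_QD (h : Ctx A Q V r s) {m : G} (hm : m ∈ Q ⊔ Dsub Q V) :
    ∃ d ∈ Dsub Q V, ∃ q ∈ Q, m = d * q := by
  have hDQ : Dsub Q V ≤ Subgroup.normalizer (Q : Set G) := by
    intro d hd
    rw [Subgroup.mem_normalizer_iff]
    intro q
    have hc := Subgroup.mem_centralizer_iff.1 hd.2
    constructor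
    · intro hq
      have e : d * q * d⁻¹ = q := by rw [← hc q hq]; group
      rw [e]; exact hq
    · intro hq
      have e := hc _ hq
      have e2 : q = d * q * d⁻¹ := by
        calc q = d⁻¹ * ((d * q * d⁻¹) * d) := by group
          _ = d⁻¹ * (d * (d * q * d⁻¹)) := by rw [e]
          _ = d * q * d⁻¹ := by group
      rw [e2]; exact hq
  rw [sup_comm] at hm
  exact h33_mem_sup_of_le_normalizer hDQ hm

omit [Finite G] in
/-- `(Q ⊔ D) ∩ V = D` -/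
theorem h33_QD_inf_V (h : Ctx A Q V r s) {m : G} (hm : m ∈ Q ⊔ Dsub Q V) (hmV : m ∈ V) :
    m ∈ Dsub Q V := by
  obtain ⟨d, hd, q, hq, rfl⟩ := h33_mem_QD h hm
  have hqV : q ∈ V := by
    have e : q = d⁻¹ * (d * q) := by group
    rw [e]
    exact V.mul_mem (V.inv_mem hd.1) hmV
  have hq1 : q ∈ Q ⊓ V := ⟨hq, hqV⟩
  rw [h33_inf_QV h, Subgroup.mem_bot] at hq1
  rw [hq1, mul_one]
  exact hd

omit [Finite G] in
/-- `A` maps `Q ⊔ D` into itself under conjugation -/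
theorem h33_conj_mem_QD (h : Ctx A Q V r s) {a m : G} (ha : a ∈ A) (hm : m ∈ Q ⊔ Dsub Q V) :
    a * m * a⁻¹ ∈ Q ⊔ Dsub Q V := by
  obtain ⟨d, hd, q, hq, rfl⟩ := h33_mem_QD h hm
  have e : a * (d * q) * a⁻¹ = (a * q * a⁻¹) * ((a * q * a⁻¹)⁻¹ * (a * d * a⁻¹) * (a * q * a⁻¹)) := by
    group
  have hq' : a * q * a⁻¹ ∈ Q := (Subgroup.mem_normalizer_iff.1 (h.hAQ ha) q).1 hq
  have hd' : a * d * a⁻¹ ∈ Dsub Q V := h33_conj_mem_D h ha hd
  -- simpler: `a d q a⁻¹ = (a d a⁻¹) (a q a⁻¹)`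
  have e2 : a * (d * q) * a⁻¹ = (a * d * a⁻¹) * (a * q * a⁻¹) := by group
  rw [e2]
  exact (Q ⊔ Dsub Q V).mul_mem (Subgroup.mem_sup_right hd') (Subgroup.mem_sup_left hq')

/-- **(NG)**, core version: (DCEN) as a hypothesis -/
theorem h33_nongen_core (h : Ctx A Q V r s)
    (hDCEN : Dsub Q V ≤ Subgroup.centralizer (V : Set G))
    (K B : Subgroup G) (hKV : K ≤ V) (hKD : K ⊔ Dsub Q V = V)
    (hBK : B ≤ Subgroup.normalizer (K : Set G)) (hAB : A ≤ B ⊔ V) : K = V := by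
  -- `D` normalises `K`
  have hDK : Dsub Q V ≤ Subgroup.normalizer (K : Set G) := by
    intro d hd
    have hc := Subgroup.mem_centralizer_iff.1 (hDCEN hd)
    rw [Subgroup.mem_normalizer_iff]
    intro k
    constructor
    · intro hk
      have e : d * k * d⁻¹ = k := by rw [← hc k (hKV hk)]; group
      rw [e]; exact hk
    · intro hk
      have e := hc _ (hKV hk)
      have e2 : k = d * k * d⁻¹ := by
        calc k = d⁻¹ * ((d * k * d⁻¹) * d) := by group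
          _ = d⁻¹ * (d * (d * k * d⁻¹)) := by rw [e]
          _ = d * k * d⁻¹ := by group
      rw [e2]; exact hk
  have hVK : V ≤ Subgroup.normalizer (K : Set G) := by
    rw [← hKD]
    exact sup_le Subgroup.le_normalizer hDK
  have hAK : A ≤ Subgroup.normalizer (K : Set G) := hAB.trans (sup_le hBK hVK)
  by_contra hne
  have hKc := h.hmin K hKV hne hAK
  have hKD' : K ≤ Dsub Q V := fun k hk => ⟨hKV hk, hKc hk⟩
  apply h.hnc
  rw [← hKD]
  exact sup_le hKc (fun d hd => hd.2)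

/-- **(NQ)**, core version: (CQ) as a hypothesis -/
theorem h33_normalizer_le_core (h : Ctx A Q V r s)
    (hCQ : ∀ v ∈ V, (∀ q ∈ Q, v * q * v⁻¹ * q⁻¹ ∈ Dsub Q V) → v ∈ Dsub Q V) :
    ∀ y ∈ A ⊔ V, y ∈ Subgroup.normalizer ((Q ⊔ Dsub Q V : Subgroup G) : Set G) →
      y ∈ A ⊔ Dsub Q V := by
  intro y hy hyN
  obtain ⟨α, hα, v, hv, rfl⟩ := h33_mem_sup_of_le_normalizer h.hAV hy
  have hvD : v ∈ Dsub Q V := by
    apply hCQ v hv
    intro q hq
    -- `v q v⁻¹ = α⁻¹ (y q y⁻¹) α`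
    have h1 : (α * v) * q * (α * v)⁻¹ ∈ Q ⊔ Dsub Q V :=
      (Subgroup.mem_normalizer_iff.1 hyN q).1 (Subgroup.mem_sup_left hq)
    have h2 : α⁻¹ * ((α * v) * q * (α * v)⁻¹) * α⁻¹⁻¹ ∈ Q ⊔ Dsub Q V :=
      h33_conj_mem_QD h (A.inv_mem hα) h1
    have e : α⁻¹ * ((α * v) * q * (α * v)⁻¹) * α⁻¹⁻¹ = v * q * v⁻¹ := by group
    rw [e] at h2
    have h3 : v * q * v⁻¹ * q⁻¹ ∈ Q ⊔ Dsub Q V :=
      (Q ⊔ Dsub Q V).mul_mem h2 (Subgroup.mem_sup_left (Q.inv_mem hq))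
    have h4 : v * q * v⁻¹ * q⁻¹ ∈ V := by
      have e2 : v * q * v⁻¹ * q⁻¹ = v * (q * v⁻¹ * q⁻¹) := by group
      rw [e2]
      exact V.mul_mem hv
        ((Subgroup.mem_normalizer_iff.1 (h.hAV (h.hQA hq)) v⁻¹).1 (V.inv_mem hv))
    exact h33_QD_inf_V h h3 h4
  exact Subgroup.mul_mem_sup hα hvD

/-- **(NTRIV)**, core version: (COMM) as a hypothesis -/
theorem h33_exists_not_mem_core (h : Ctx A Q V r s) (hCOMM : ⁅V, Q⁆ = V)
    (P : Subgroup G) (a : G) (ha : a ∈ A)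
    (hgen : A = P ⊔ cj a P) : ∃ y ∈ P, ∃ v ∈ V, y * v * y⁻¹ * v⁻¹ ∉ Dsub Q V := by
  by_contra hcon
  push_neg at hcon
  -- the subgroup of the elements of `A` acting trivially on `V / D`
  let C : Subgroup G :=
    { carrier := {g | g ∈ A ∧ ∀ v ∈ V, g * v * g⁻¹ * v⁻¹ ∈ Dsub Q V}
      one_mem' := ⟨A.one_mem, fun v _ => by
        have e : (1 : G) * v * 1⁻¹ * v⁻¹ = 1 := by group
        rw [e]; exact (Dsub Q V).one_mem⟩
      mul_mem' := by
        rintro g g' ⟨hg, hgV⟩ ⟨hg', hgV'⟩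
        refine ⟨A.mul_mem hg hg', fun v hv => ?_⟩
        have hv' : g' * v * g'⁻¹ ∈ V := (Subgroup.mem_normalizer_iff.1 (h.hAV hg') v).1 hv
        have e : g * g' * v * (g * g')⁻¹ * v⁻¹
            = (g * (g' * v * g'⁻¹) * g⁻¹ * (g' * v * g'⁻¹)⁻¹) * (g' * v * g'⁻¹ * v⁻¹) := by group
        rw [e]
        exact (Dsub Q V).mul_mem (hgV _ hv') (hgV' v hv)
      inv_mem' := by
        rintro g ⟨hg, hgV⟩
        refine ⟨A.inv_mem hg, fun v hv => ?_⟩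
        have hv' : g⁻¹ * v * g⁻¹⁻¹ ∈ V :=
          (Subgroup.mem_normalizer_iff.1 (h.hAV (A.inv_mem hg)) v).1 hv
        have e : g⁻¹ * v * g⁻¹⁻¹ * v⁻¹
            = (g * (g⁻¹ * v * g⁻¹⁻¹) * g⁻¹ * (g⁻¹ * v * g⁻¹⁻¹)⁻¹)⁻¹ := by group
        rw [e]
        exact (Dsub Q V).inv_mem (hgV _ hv') }
  have hPA : P ≤ A := by rw [hgen]; exact le_sup_left
  have hPC : P ≤ C := fun y hy => ⟨hPA hy, fun v hv => hcon y hy v hv⟩
  have hcjC : cj a P ≤ C := by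
    intro y' hy'
    have hy : a⁻¹ * y' * a ∈ P := mem_cj.1 hy'
    refine ⟨by rw [hgen]; exact Subgroup.mem_sup_right hy', fun v hv => ?_⟩
    have hw : a⁻¹ * v * a⁻¹⁻¹ ∈ V :=
      (Subgroup.mem_normalizer_iff.1 (h.hAV (A.inv_mem ha)) v).1 hv
    have h1 := hcon _ hy _ hw
    have h2 := h33_conj_mem_D h ha h1
    have e : a * ((a⁻¹ * y' * a) * (a⁻¹ * v * a⁻¹⁻¹) * (a⁻¹ * y' * a)⁻¹ * (a⁻¹ * v * a⁻¹⁻¹)⁻¹) * a⁻¹
        = y' * v * y'⁻¹ * v⁻¹ := by group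
    rwa [e] at h2
  have hAC : A ≤ C := by
    rw [hgen]
    exact sup_le hPC hcjC
  have hcomm_le : ⁅V, Q⁆ ≤ Dsub Q V := by
    rw [Subgroup.commutator_le]
    intro v hv q hq
    have h1 := (hAC (h.hQA hq)).2 v hv
    have e : ⁅v, q⁆ = (q * v * q⁻¹ * v⁻¹)⁻¹ := by
      rw [commutatorElement_def]; group
    rw [e]
    exact (Dsub Q V).inv_mem h1
  have hVD : V ≤ Dsub Q V := by
    have := hcomm_le
    rwa [hCOMM] at this
  exact h.hnc (fun v hv => (hVD hv).2)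

end CTX

end Cfsg.Agent.Helper33.FL
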