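import Mathlib
import Cfsg.Agent.Lib.Helper52.FLDefs
import Cfsg.Agent.Lib.Helper52.Coprime
import Cfsg.Agent.Lib.Helper9.WielandtBasic
import Cfsg.Agent.Lib.Helper97.FXDefs
import Cfsg.Agent.Lib.Helper33.FLCore
import Cfsg.Agent.Lib.Helper71.FLDCEN

/-!
# FL (NG) `nongen` (helper52 server, S3822), verbatim
-/

set_option autoImplicit false

namespace Cfsg.Agent.Helper33.FL

open Cfsg.Agent.Helper52.FL Cfsg.Agent.Helper97.FX

variable {G : Type*} [Group G] [Finite G]

section CTX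
variable {A Q V : Subgroup G} {r s : ℕ} [Fact r.Prime] [Fact s.Prime]

/-- **(NG) [S-M]** uses (DCEN). -/
theorem nongen (h : Ctx A Q V r s) (K B : Subgroup G) (hKV : K ≤ V) (hKD : K ⊔ Dsub Q V = V)
    (hBK : B ≤ Subgroup.normalizer (K : Set G)) (hAB : A ≤ B ⊔ V) : K = V :=
  h33_nongen_core h (Cfsg.Agent.Helper71.FL.D_central h) K B hKV hKD hBK hAB

end CTX

end Cfsg.Agent.Helper33.FL
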