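import Mathlib
import Cfsg.Agent.Lib.Helper52.FLDefs
import Cfsg.Agent.Lib.Helper52.Coprime
import Cfsg.Agent.Lib.Helper9.WielandtBasic
import Cfsg.Agent.Lib.Helper97.FXDefs
import Cfsg.Agent.Lib.Helper33.FLCore
import Cfsg.Agent.Lib.Helper47.FLCOMM
import Cfsg.Agent.Lib.Helper47.FLDNOR
import Cfsg.Agent.Lib.Helper78.FLCQCore

/-!
# FL (NQ) `normalizer_le` (helper52 server, S3822), verbatim

(CQ) is taken from helper78's core `mem_D_of_comm_core` with helper47's (COMM) and (DNOR).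
-/

set_option autoImplicit false

namespace Cfsg.Agent.Helper33.FL

open Cfsg.Agent.Helper52.FL Cfsg.Agent.Helper97.FX

variable {G : Type*} [Group G] [Finite G]

section CTX
variable {A Q V : Subgroup G} {r s : ℕ} [Fact r.Prime] [Fact s.Prime]

/-- **(NQ) [M]** uses (CQ), (INT). -/
theorem normalizer_le (h : Ctx A Q V r s) :
    ∀ y ∈ A ⊔ V, y ∈ Subgroup.normalizer ((Q ⊔ Dsub Q V : Subgroup G) : Set G) → y ∈ A ⊔ Dsub Q V :=
  h33_normalizer_le_core h
    (Cfsg.Agent.Helper78.FL.mem_D_of_comm_core h (Cfsg.Agent.Helper47.FL.comm_eq h)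
      (Cfsg.Agent.Helper47.FL.D_normal h))

end CTX

end Cfsg.Agent.Helper33.FL
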