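import Mathlib
import Cfsg.Agent.Lib.Helper52.FLDefs
import Cfsg.Agent.Lib.Helper52.Coprime
import Cfsg.Agent.Lib.Helper9.WielandtBasic
import Cfsg.Agent.Lib.Helper97.FXDefs
import Cfsg.Agent.Lib.Helper33.FLCore
import Cfsg.Agent.Lib.Helper47.FLCOMM

/-!
# FL (NTRIV) `exists_not_mem` (helper52 server, S3822), verbatim
-/

set_option autoImplicit false

namespace Cfsg.Agent.Helper33.FL

open Cfsg.Agent.Helper52.FL Cfsg.Agent.Helper97.FX

variable {G : Type*} [Group G] [Finite G]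

section CTX
variable {A Q V : Subgroup G} {r s : ℕ} [Fact r.Prime] [Fact s.Prime]

/-- **(NTRIV) [M]** else `P` and `aPa⁻¹`, hence `A`, hence `Q`, centralise `V/D`: `⁅V,Q⁆ ≤ D`, against (COMM). Uses (DNOR). -/
theorem exists_not_mem (h : Ctx A Q V r s) (P : Subgroup G) (a : G) (ha : a ∈ A)
    (hgen : A = P ⊔ cj a P) : ∃ y ∈ P, ∃ v ∈ V, y * v * y⁻¹ * v⁻¹ ∉ Dsub Q V :=
  h33_exists_not_mem_core h (Cfsg.Agent.Helper47.FL.comm_eq h) P a ha hgen

end CTX

end Cfsg.Agent.Helper33.FL
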