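import Mathlib
import Cfsg.Agent.Lib.Helper97.FXDefs
import Cfsg.Agent.Lib.Helper97.FXDefs2
import Cfsg.Agent.Lib.Helper48.SympRep

/-!
# FX wave 2 (helper97 server, S3818): (SCHUR) `schur_scalar`
-/

set_option autoImplicit false

namespace Cfsg.Agent.Helper33.FX

open Cfsg.Agent.Helper97.FX Cfsg.Agent.Helper48.SympRep
open scoped TensorProduct

universe u

section RT
variable {K : Type*} [Field K] [IsAlgClosed K] {G : Type*} [Group G] [Finite G]
variable {V : Type u} [AddCommGroup V] [Module K V] [FiniteDimensional K V] [Nontrivial V]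

/-- **(SCHUR) [S-M] Mathlib only.** T has an eigenvalue c (Module.End.exists_eigenvalue); its eigenspace is invariant (T commutes with ρ g) and ≠ ⊥, so ⊤. -/
theorem schur_scalar (ρ : G →* Module.End K V) (hirr : Irr ρ) (T : Module.End K V)
    (hT : ∀ g, T * ρ g = ρ g * T) : ∃ c : K, T = c • 1 := by
  obtain ⟨c, hc⟩ := Module.End.exists_eigenvalue T
  refine ⟨c, ?_⟩
  have hinv : ∀ g, ∀ w ∈ Module.End.eigenspace T c, ρ g w ∈ Module.End.eigenspace T c := by
    intro g w hw
    rw [Module.End.mem_eigenspace_iff] at hw ⊢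
    have h1 : (T * ρ g) w = (ρ g * T) w := by rw [hT g]
    rw [Module.End.mul_apply, Module.End.mul_apply] at h1
    rw [h1, hw, map_smul]
  rcases hirr _ hinv with h | h
  · exact absurd h hc
  · ext v
    have hv : v ∈ Module.End.eigenspace T c := by rw [h]; trivial
    rw [Module.End.mem_eigenspace_iff] at hv
    rw [hv, LinearMap.smul_apply, Module.End.one_apply]

end RT

end Cfsg.Agent.Helper33.FX
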