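import Mathlib
import Cfsg.Agent.Lib.Helper5.PermEmbed
import Cfsg.Agent.Lib.Helper5.Order60

/-!
# JPC (M6b) (helper35 server, S4150): a subgroup of order 60 of `A₆` is isomorphic to `A₅`.
-/

set_option autoImplicit false

namespace Cfsg.Agent.Helper33.JPC

open Equiv Equiv.Perm MulAction Subgroup

universe u

/-- a subgroup `H` of index `n + 1` of a simple group `A` acts faithfully on the `n` cosets other
than `H` itself -/
theorem jpcm6b_faithful {A : Type u} [Group A] [Finite A] [IsSimpleGroup A] (H : Subgroup A)
    (hH : H ≠ ⊤) (n : ℕ) (hidx : H.index = n + 1) (hcard : 2 * Nat.card H = n.factorial) :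
    Nonempty (H ≃* alternatingGroup (Fin n)) := by
  classical
  let S : SubMulAction H (A ⧸ H) :=
    { carrier := {c | c ≠ QuotientGroup.mk (1 : A)}
      smul_mem' := by
        intro h c hc
        simp only [Set.mem_setOf_eq] at hc ⊢
        intro hh
        apply hc
        have h1 : (h : A) • (QuotientGroup.mk (1 : A) : A ⧸ H) = QuotientGroup.mk (1 : A) := by
          rw [MulAction.Quotient.smul_mk, smul_eq_mul, mul_one]
          exact QuotientGroup.eq.2 (by simpa using H.inv_mem h.2)
        have h2 : (h : A) • c = (h : A) • (QuotientGroup.mk (1 : A) : A ⧸ H) := by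
          rw [h1]; exact hh
        exact smul_left_cancel _ h2 }
  have hinj : Function.Injective (MulAction.toPermHom H S) := by
    rw [← MonoidHom.ker_eq_bot_iff, eq_bot_iff]
    intro h hh
    rw [MonoidHom.mem_ker] at hh
    have hfix : ∀ c : A ⧸ H, (h : A) • c = c := by
      intro c
      by_cases hc : c = QuotientGroup.mk (1 : A)
      · rw [hc, MulAction.Quotient.smul_mk, smul_eq_mul, mul_one]
        exact QuotientGroup.eq.2 (by simpa using H.inv_mem h.2)
      · have := congrArg (fun f : Equiv.Perm S => ((f ⟨c, hc⟩ : S) : A ⧸ H)) hh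
        have this' : h • c = c := by simpa using this
        exact this'
    have hA := Cfsg.Agent.Helper5.injective_toPermHom_quotient H hH
    have : MulAction.toPermHom A (A ⧸ H) (h : A) = MulAction.toPermHom A (A ⧸ H) 1 := by
      ext c
      simp only [MulAction.toPermHom_apply, MulAction.toPerm_apply, one_smul]
      exact hfix c
    have h1 : (h : A) = 1 := hA this
    exact Subgroup.mem_bot.2 (Subtype.ext h1)
  have hS : Nat.card S = n := by
    have h1 : Nat.card (A ⧸ H) = n + 1 := by rw [← Subgroup.index_eq_card, hidx]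
    have : Finite (A ⧸ H) := Nat.finite_of_card_ne_zero (by omega)
    have h2 : Nat.card S = Nat.card {c : A ⧸ H // c ≠ QuotientGroup.mk (1 : A)} := rfl
    rw [h2]
    have : Fintype (A ⧸ H) := Fintype.ofFinite _
    rw [Nat.card_eq_fintype_card, Fintype.card_subtype_compl, Fintype.card_subtype_eq,
      ← Nat.card_eq_fintype_card, h1]
    omega
  have : Finite S := Nat.finite_of_card_ne_zero (by
    rw [hS]
    intro h0
    rw [h0] at hcard
    simp at hcard)
  exact Cfsg.Agent.Helper5.equiv_alternating_of_injective _ hinj n hS hcard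

theorem equiv_alt_five_of_card_sixty {Ω : Type u} [Fintype Ω] [DecidableEq Ω]
    (hcard : Fintype.card Ω = 6) (H : Subgroup (Perm Ω)) (hH : H ≤ alternatingGroup Ω)
    (h60 : Nat.card H = 60) : Nonempty (H ≃* alternatingGroup (Fin 5)) := by
  have hΩ : Nat.card Ω = 6 := by rw [Nat.card_eq_fintype_card, hcard]
  have : Nontrivial Ω := by
    rw [← Fintype.one_lt_card_iff_nontrivial, hcard]; norm_num
  have hsimple : IsSimpleGroup (alternatingGroup Ω) :=
    alternatingGroup.isSimpleGroup (by rw [hΩ]; norm_num)
  have hA : Nat.card (alternatingGroup Ω) = 360 := by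
    have := two_mul_nat_card_alternatingGroup (α := Ω)
    rw [Nat.card_perm, hΩ] at this
    have h720 : (6 : ℕ).factorial = 720 := by decide
    omega
  set H' : Subgroup (alternatingGroup Ω) := H.subgroupOf (alternatingGroup Ω) with hH'
  have hcardH' : Nat.card H' = 60 := by
    rw [← h60]
    exact Nat.card_congr (Subgroup.subgroupOfEquivOfLe hH).toEquiv
  have hidx : H'.index = 5 + 1 := by
    have := H'.card_mul_index
    rw [hcardH', hA] at this
    omega
  have hne : H' ≠ ⊤ := by
    intro h
    rw [h, Subgroup.index_top] at hidx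
    omega
  obtain ⟨e⟩ := jpcm6b_faithful H' hne 5 hidx (by rw [hcardH']; decide)
  exact ⟨(Subgroup.subgroupOfEquivOfLe hH).symm.trans e⟩

end Cfsg.Agent.Helper33.JPC
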