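import Mathlib

/-!
# JPC (T13a1) (helper35 server, S4150): the pointwise fixer of the complement of the support of a
prime cycle `g` is `⟨g⟩` as soon as `⟨g⟩` is self-normalizing in it.
-/

set_option autoImplicit false

namespace Cfsg.Agent.Helper33.JPC

open Equiv Equiv.Perm MulAction Subgroup

universe u

theorem fixer_eq_zpowers {Ω : Type u} [Fintype Ω] [DecidableEq Ω] (G : Subgroup (Perm Ω))
    {ℓ : ℕ} (hℓ : ℓ.Prime) {g : Perm Ω} (hgc : g.IsCycle) (hgℓ : g.support.card = ℓ)
    (hg : g ∈ G)
    (hself : ∀ n ∈ G, (∀ t, t ∉ g.support → n t = t) → n * g * n⁻¹ ∈ zpowers g →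
      n ∈ zpowers g) :
    ∀ n ∈ G, (∀ t, t ∉ g.support → n t = t) → n ∈ zpowers g := by
  classical
  have : Fact ℓ.Prime := ⟨hℓ⟩
  let T : Subgroup (Perm Ω) :=
    { carrier := {n | n ∈ G ∧ ∀ t, t ∉ g.support → n t = t}
      mul_mem' := by
        rintro a b ⟨ha, ha'⟩ ⟨hb, hb'⟩
        exact ⟨G.mul_mem ha hb, fun t ht => by rw [Perm.mul_apply, hb' t ht, ha' t ht]⟩
      one_mem' := ⟨G.one_mem, fun t _ => rfl⟩
      inv_mem' := by
        rintro a ⟨ha, ha'⟩
        exact ⟨G.inv_mem ha, fun t ht => by rw [Perm.inv_eq_iff_eq]; exact (ha' t ht).symm⟩ }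
  have hgT : g ∈ T := ⟨hg, fun t ht => Perm.notMem_support.1 ht⟩
  suffices h : ∀ n ∈ T, n ∈ zpowers g from fun n hn hn' => h n ⟨hn, hn'⟩
  -- invariance of the support
  have hinv : ∀ n ∈ T, ∀ x ∈ g.support, n x ∈ g.support := by
    intro n hn x hx
    by_contra hnx
    have h1 := hn.2 (n x) hnx
    have h2 : n x = x := n.injective h1
    rw [h2] at hnx
    exact hnx hx
  -- faithful on the support
  have hfaith : ∀ n ∈ T, (∀ x ∈ g.support, n x = x) → n = 1 := by
    intro n hn h
    ext t
    by_cases ht : t ∈ g.support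
    · exact h t ht
    · exact hn.2 t ht
  have hog : orderOf g = ℓ := by rw [hgc.orderOf, hgℓ]
  let g' : T := ⟨g, hgT⟩
  have hog' : orderOf g' = ℓ := by
    rw [← hog]
    exact Subgroup.orderOf_mk g hgT
  let P : Subgroup T := zpowers g'
  have hP : Nat.card P = ℓ := by rw [Nat.card_zpowers, hog']
  -- `|T| ∣ ℓ!`
  have hdvd : Nat.card T ∣ ℓ.factorial := by
    let S : SubMulAction T Ω :=
      { carrier := (g.support : Set Ω)
        smul_mem' := fun n x hx => hinv n n.2 x hx }
    have hinj : Function.Injective (MulAction.toPermHom T S) := by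
      rw [← MonoidHom.ker_eq_bot_iff, eq_bot_iff]
      intro n hn
      rw [MonoidHom.mem_ker] at hn
      have : (n : Perm Ω) = 1 := hfaith n n.2 (fun x hx => by
        have := congrArg (fun f : Perm S => ((f ⟨x, hx⟩ : S) : Ω)) hn
        have this' : n • x = x := by simpa using this
        exact this')
      exact Subgroup.mem_bot.2 (Subtype.ext this)
    have h1 := Subgroup.card_dvd_of_injective _ hinj
    have hS : Nat.card S = ℓ := by
      have : Nat.card S = Nat.card {x // x ∈ g.support} := rfl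
      rw [this, Nat.card_eq_fintype_card, Fintype.card_coe, hgℓ]
    rwa [Nat.card_perm, hS] at h1
  have hpg : IsPGroup ℓ P := IsPGroup.of_card (n := 1) (by rw [hP, pow_one])
  have hnd : ¬ ℓ ∣ P.index := by
    intro h
    have h1 := P.card_mul_index
    rw [hP] at h1
    have h2 : ℓ * ℓ ∣ Nat.card T := by rw [← h1]; exact Nat.mul_dvd_mul_left ℓ h
    have h3 : ℓ * ℓ ∣ ℓ.factorial := h2.trans hdvd
    have h4 : ℓ.factorial = ℓ * (ℓ - 1).factorial := by
      obtain ⟨k, rfl⟩ : ∃ k, ℓ = k + 1 := ⟨ℓ - 1, by have := hℓ.pos; omega⟩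
      simp [Nat.factorial_succ]
    rw [h4] at h3
    have h5 : ℓ ∣ (ℓ - 1).factorial := Nat.dvd_of_mul_dvd_mul_left hℓ.pos h3
    have h6 := (hℓ.dvd_factorial).1 h5
    have := hℓ.pos
    omega
  set Sy : Sylow ℓ T := hpg.toSylow hnd with hSy
  have hSyP : (Sy : Subgroup T) = P := IsPGroup.toSylow_coe hpg hnd
  have hNC : normalizer ((Sy : Subgroup T) : Set T) ≤ centralizer ((Sy : Subgroup T) : Set T) := by
    rw [hSyP]
    intro n hn
    have h1 : n * g' * n⁻¹ ∈ P := (mem_normalizer_iff.1 hn g').1 (mem_zpowers g')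
    have h2 : (n : Perm Ω) * g * (n : Perm Ω)⁻¹ ∈ zpowers g := by
      obtain ⟨k, hk⟩ := mem_zpowers_iff.1 h1
      rw [mem_zpowers_iff]
      refine ⟨k, ?_⟩
      have := congrArg Subtype.val hk
      simpa [g'] using this
    have h3 := hself n n.2.1 n.2.2 h2
    have h4 : n ∈ P := by
      obtain ⟨k, hk⟩ := mem_zpowers_iff.1 h3
      rw [mem_zpowers_iff]
      exact ⟨k, Subtype.ext (by simpa [g'] using hk)⟩
    rw [mem_centralizer_iff]
    intro y hy
    obtain ⟨i, rfl⟩ := mem_zpowers_iff.1 hy
    obtain ⟨j, rfl⟩ := mem_zpowers_iff.1 h4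
    exact (Commute.zpow_zpow_self g' i j).eq
  have hcompl := MonoidHom.ker_transferSylow_isComplement' Sy hNC
  set F : Subgroup T := (MonoidHom.transferSylow Sy hNC).ker with hF
  have hcardF : Nat.card F * ℓ = Nat.card T := by
    have := hcompl.card_mul_card
    rwa [hSyP, hP] at this
  have hFidx : Nat.card F = P.index := by
    have h1 := P.card_mul_index
    rw [hP] at h1
    have : Nat.card F * ℓ = P.index * ℓ := by rw [hcardF, ← h1]; ring
    exact Nat.eq_of_mul_eq_mul_right hℓ.pos this
  have hcop : Nat.Coprime (Nat.card F) ℓ := by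
    rw [hFidx]
    exact Nat.Coprime.symm ((Nat.Prime.coprime_iff_not_dvd hℓ).2 hnd)
  have hstab : ∀ x ∈ g.support, MulAction.stabilizer T x = F := by
    intro x hx
    have horb : MulAction.orbit T x = (g.support : Set Ω) := by
      ext y
      constructor
      · rintro ⟨n, rfl⟩
        exact hinv n n.2 x hx
      · intro hy
        obtain ⟨i, hi⟩ := hgc.exists_zpow_eq (Perm.mem_support.1 hx) (Perm.mem_support.1 hy)
        refine ⟨g' ^ i, ?_⟩
        show ((g' ^ i : T) : Perm Ω) x = y
        rw [← hi]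
        simp [g']
    have hidx : (MulAction.stabilizer T x).index = ℓ := by
      rw [MulAction.index_stabilizer, horb, Set.ncard_coe_finset, hgℓ]
    have hcardst : Nat.card (MulAction.stabilizer T x) = Nat.card F := by
      have h1 := (MulAction.stabilizer T x).card_mul_index
      rw [hidx, ← hcardF] at h1
      exact Nat.eq_of_mul_eq_mul_right hℓ.pos h1
    have hle : MulAction.stabilizer T x ≤ F := by
      intro t ht
      rw [hF, MonoidHom.mem_ker]
      have h1 : (MonoidHom.transferSylow Sy hNC t) ^ (Nat.card (MulAction.stabilizer T x)) = 1 := by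
        rw [← map_pow]
        have : t ^ (Nat.card (MulAction.stabilizer T x)) = 1 := by
          have := pow_card_eq_one' (G := MulAction.stabilizer T x) (x := ⟨t, ht⟩)
          have := congrArg Subtype.val this
          simpa using this
        rw [this, map_one]
      have h2 : (MonoidHom.transferSylow Sy hNC t) ^ ℓ = 1 := by
        have := pow_card_eq_one' (G := (Sy : Subgroup T)) (x := MonoidHom.transferSylow Sy hNC t)
        have hc : Nat.card (Sy : Subgroup T) = ℓ := by rw [hSyP]; exact hP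
        rwa [hc] at this
      have h3 : orderOf (MonoidHom.transferSylow Sy hNC t) ∣ Nat.gcd (Nat.card F) ℓ :=
        Nat.dvd_gcd (hcardst ▸ orderOf_dvd_of_pow_eq_one h1) (orderOf_dvd_of_pow_eq_one h2)
      rw [hcop] at h3
      exact orderOf_eq_one_iff.1 (Nat.dvd_one.1 h3)
    exact Subgroup.eq_of_le_of_card_ge hle (by rw [hcardst])
  have hF1 : ∀ f ∈ F, f = 1 := by
    intro f hf
    apply Subtype.ext
    apply hfaith f f.2
    intro x hx
    have : f ∈ MulAction.stabilizer T x := by rw [hstab x hx]; exact hf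
    exact MulAction.mem_stabilizer_iff.1 this
  have hcardF1 : Nat.card F = 1 := by
    have : F = ⊥ := by
      rw [eq_bot_iff]
      intro f hf
      exact Subgroup.mem_bot.2 (hF1 f hf)
    rw [this]
    exact Subgroup.card_bot
  have hTℓ : Nat.card T = ℓ := by rw [← hcardF, hcardF1, one_mul]
  have hPtop : P = ⊤ := Subgroup.eq_top_of_card_eq P (by rw [hP, hTℓ])
  intro n hn
  have : (⟨n, hn⟩ : T) ∈ P := by rw [hPtop]; exact mem_top _
  obtain ⟨k, hk⟩ := mem_zpowers_iff.1 this
  rw [mem_zpowers_iff]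
  exact ⟨k, by simpa [g'] using congrArg Subtype.val hk⟩

end Cfsg.Agent.Helper33.JPC
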