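import Mathlib
import Cfsg.Prelude.Def_LocalEven
import Cfsg.Prelude.Def_ConjugacyFunctors
import Cfsg.Agent.Lib.Helper33.CliffSub
import Cfsg.Agent.Lib.Helper33.ChainStab
import Cfsg.Agent.Lib.Helper54.KInfQuartic
import Cfsg.Agent.Lib.Helper54.PxQ
import Cfsg.Agent.Lib.Helper46.QdConv1

/-!
# Glauberman's K-infinity subgroups in `p`-stable groups

If `C_G(O_p(G)) ≤ O_p(G)` and every quotient of `G` is `p`-stable (normalizer form), then
`K_∞(S)` and `K^∞(S)` are normal in `G`, for `S` a Sylow `p`-subgroup of `G`.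
-/

set_option autoImplicit false

namespace Cfsg.Agent.Helper33.KE

open Subgroup Cfsg Cfsg.Agent.Helper33.Cliff Cfsg.Agent.Helper54.KInf
open scoped commutatorElement

universe u

variable {G : Type u} [Group G]

/-! ### Claim 0: the centralizer of a critical subgroup -/

theorem centralizer_le_pCore_of_crit [Finite G] {p : ℕ} [hp : Fact p.Prime] {A : Subgroup G}
    [hAn : A.Normal] (hTC : pCore p G ⊓ centralizer (A : Set G) ≤ A)
    (hCT : centralizer (pCore p G : Set G) ≤ pCore p G) :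
    centralizer (A : Set G) ≤ pCore p G := by
  haveI hTn : (pCore p G).Normal := Cfsg.Agent.Helper33.pCore_normal p
  have hTp : IsPGroup p (pCore p G) := pCore_isPGroup33
  -- `p'`-elements of `C(A)` are trivial
  have key : ∀ y ∈ centralizer (A : Set G), ∀ m : ℕ, m.Coprime p → y ^ m = 1 → y = 1 := by
    intro y hy m hm hym
    obtain ⟨X, hX⟩ : ∃ X : Subgroup G, X = zpowers y := ⟨_, rfl⟩
    have hXA : ⁅A, X⁆ = ⊥ := by
      rw [commutator_comm, commutator_eq_bot_iff_le_centralizer, hX]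
      exact zpowers_le.mpr hy
    have h1 : ⁅⁅pCore p G, X⁆, A⁆ = ⊥ := by
      apply commutator_commutator_eq_bot_of_rotate
      · rw [commutator_comm X A, hXA, commutator_bot_left]
      · rw [eq_bot_iff, ← hXA]
        exact commutator_mono (commutator_le_left A _) le_rfl
    have h2 : ⁅pCore p G, X⁆ ≤ A := by
      refine le_trans (le_inf (commutator_le_left _ _) ?_) hTC
      rw [commutator_eq_bot_iff_le_centralizer] at h1
      exact h1
    have h3 : ⁅⁅pCore p G, X⁆, X⁆ = ⊥ := by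
      rw [eq_bot_iff, ← hXA]
      exact commutator_mono h2 le_rfl
    have hcop : (Nat.card X).Coprime (Nat.card (pCore p G)) := by
      obtain ⟨n, hn⟩ := IsPGroup.iff_card.mp hTp
      rw [hn, hX, Nat.card_zpowers]
      exact Nat.Coprime.pow_right n
        (Nat.Coprime.coprime_dvd_left (orderOf_dvd_of_pow_eq_one hym) hm)
    have h4 := Cfsg.Agent.Helper54.le_centralizer_of_coprime (pCore p G) X
      (by rw [normalizer_eq_top]; exact le_top) hcop h3
    have hyT : y ∈ pCore p G := hCT (h4 (by rw [hX]; exact mem_zpowers y))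
    obtain ⟨k, hk⟩ := hTp ⟨y, hyT⟩
    have hk' : y ^ (p ^ k) = 1 := by
      have := congrArg Subtype.val hk
      simpa using this
    have h5 : orderOf y ∣ Nat.gcd m (p ^ k) :=
      Nat.dvd_gcd (orderOf_dvd_of_pow_eq_one hym) (orderOf_dvd_of_pow_eq_one hk')
    rw [Nat.Coprime.pow_right k hm] at h5
    exact orderOf_eq_one_iff.mp (Nat.dvd_one.mp h5)
  have hCp : IsPGroup p (centralizer (A : Set G)) := by
    intro g
    obtain ⟨e, m, hm, hn⟩ := Nat.exists_eq_pow_mul_and_not_dvd (orderOf_pos (g : G)).ne' p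
      hp.out.ne_one
    refine ⟨e, ?_⟩
    apply Subtype.ext
    rw [Subgroup.coe_pow, Subgroup.coe_one]
    apply key _ (Subgroup.pow_mem _ g.2 _) m ((Nat.Prime.coprime_iff_not_dvd hp.out).mpr hm).symm
    rw [← pow_mul, ← hn, pow_orderOf_eq_one]
  exact le_sSup ⟨inferInstance, hCp⟩


/-! ### `p`-stability and chief factors -/

theorem map_mk_eq_bot_iff {Y : Subgroup G} [Y.Normal] (H : Subgroup G) :
    H.map (QuotientGroup.mk' Y) = ⊥ ↔ H ≤ Y := by
  rw [Subgroup.map_eq_bot_iff, QuotientGroup.ker_mk']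

theorem map_mk_zpowers {Y : Subgroup G} [Y.Normal] (g : G) :
    (zpowers g).map (QuotientGroup.mk' Y) = zpowers (QuotientGroup.mk' Y g) := by
  rw [MonoidHom.map_zpowers]

/-- quadratic action on a chief `p`-factor is trivial, if the quotient is `p`-stable -/
theorem pstable_chief [Finite G] {p : ℕ} [Fact p.Prime] {X Y : Subgroup G} [hYn : Y.Normal]
    (hXY : IsChiefFactor X Y) (hXp : IsPGroup p X) (hst : IsNormalizerPStable p (G ⧸ Y)) {g : G}
    (hq : ⁅⁅X, zpowers g⁆, zpowers g⁆ ≤ Y) : ⁅X, zpowers g⁆ ≤ Y := by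
  obtain ⟨hlt, hXn, -, hmax⟩ := hXY
  obtain ⟨π, hπ⟩ : ∃ π : G →* G ⧸ Y, π = QuotientGroup.mk' Y := ⟨_, rfl⟩
  have hπs : Function.Surjective π := by rw [hπ]; exact QuotientGroup.mk'_surjective Y
  have hker : π.ker = Y := by rw [hπ]; exact QuotientGroup.ker_mk' Y
  haveI hWn : (X.map π).Normal := hXn.map π hπs
  have hcomapW : (X.map π).comap π = X := by
    rw [Subgroup.comap_map_eq, hker, sup_eq_left.mpr hlt.le]
  have hcompl : ∀ W₁ : Subgroup (G ⧸ Y), W₁ ≤ X.map π → (⊤ : Subgroup (G ⧸ Y)) ≤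
      normalizer (W₁ : Set (G ⧸ Y)) → ∃ W₂ : Subgroup (G ⧸ Y), W₂ ≤ X.map π ∧
        (⊤ : Subgroup (G ⧸ Y)) ≤ normalizer (W₂ : Set (G ⧸ Y)) ∧ W₁ ⊓ W₂ = ⊥ ∧
        W₁ ⊔ W₂ = X.map π := by
    intro W₁ hW₁ hW₁n
    haveI : W₁.Normal := normalizer_eq_top_iff.mp (top_le_iff.mp hW₁n)
    have h1 : Y ≤ W₁.comap π := hker.ge.trans (Subgroup.ker_le_comap π W₁)
    have hYbot : Y.map π = ⊥ := (Subgroup.map_eq_bot_iff _).mpr hker.ge
    have h2 : W₁.comap π ≤ X := by
      rw [← hcomapW]; exact Subgroup.comap_mono hW₁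
    have h3 : (W₁.comap π).map π = W₁ := Subgroup.map_comap_eq_self_of_surjective hπs W₁
    rcases hmax (W₁.comap π) inferInstance h1 h2 with h | h
    · refine ⟨X.map π, le_rfl, ?_, ?_, ?_⟩
      · rw [normalizer_eq_top]
      · rw [← h3, h, hYbot, bot_inf_eq]
      · rw [← h3, h, hYbot, bot_sup_eq]
    · refine ⟨⊥, bot_le, ?_, inf_bot_eq _, ?_⟩
      · rw [normalizer_eq_top]
      · rw [sup_bot_eq, ← h3, h]
  have hquad : ⁅⁅X.map π, zpowers (π g)⁆, zpowers (π g)⁆ = ⊥ := by
    rw [← MonoidHom.map_zpowers, ← Subgroup.map_commutator, ← Subgroup.map_commutator,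
      Subgroup.map_eq_bot_iff, hker]
    exact hq
  have h4 := centralizes_of_pstable hst (hXp.map π) (by rw [normalizer_eq_top]) hcompl
    (Subgroup.mem_top (π g)) hquad
  have h5 : ⁅X.map π, zpowers (π g)⁆ = ⊥ := by
    rw [commutator_comm, commutator_eq_bot_iff_le_centralizer]
    exact zpowers_le.mpr h4
  rw [← MonoidHom.map_zpowers, ← Subgroup.map_commutator, Subgroup.map_eq_bot_iff, hker] at h5
  exact h5

/-! ### Claim 1: elements acting trivially on all chief factors below `A` -/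

/-- the elements acting trivially on every chief factor below `A` -/
def chiefStab (A : Subgroup G) : Subgroup G :=
  ⨅ (X : Subgroup G) (Y : Subgroup G) (_ : IsChiefFactor X Y) (_ : X ≤ A), cmod Y X

theorem mem_chiefStab {A : Subgroup G} {g : G} :
    g ∈ chiefStab A ↔ ∀ X Y : Subgroup G, IsChiefFactor X Y → X ≤ A → ∀ x ∈ X, ⁅g, x⁆ ∈ Y := by
  simp only [chiefStab, Subgroup.mem_iInf, mem_cmod]
  constructor
  · intro h X Y hXY hXA
    exact (h X Y hXY hXA).2
  · intro h X Y hXY hXA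
    haveI := hXY.2.2.1
    refine ⟨?_, h X Y hXY hXA⟩
    rw [normalizer_eq_top]; exact Subgroup.mem_top g

theorem chiefStab_normal (A : Subgroup G) : (chiefStab A).Normal := by
  refine ⟨fun g hg h => ?_⟩
  rw [mem_chiefStab] at hg ⊢
  intro X Y hXY hXA x hx
  haveI := hXY.2.1
  haveI hYn := hXY.2.2.1
  have h1 : h⁻¹ * x * h ∈ X := by
    have := (inferInstance : X.Normal).conj_mem x hx h⁻¹
    simpa using this
  have h2 := hg X Y hXY hXA _ h1
  have e : ⁅h * g * h⁻¹, x⁆ = h * ⁅g, h⁻¹ * x * h⁆ * h⁻¹ := by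
    simp only [commutatorElement_def]; group
  rw [e]
  exact hYn.conj_mem _ h2 h

theorem chiefStab_le_pCore [Finite G] {p : ℕ} [hp : Fact p.Prime] {A : Subgroup G}
    [hAn : A.Normal] (hAT : A ≤ pCore p G) (hCA : centralizer (A : Set G) ≤ pCore p G) :
    chiefStab A ≤ pCore p G := by
  have hTp : IsPGroup p (pCore p G) := pCore_isPGroup33
  obtain ⟨e, he⟩ := IsPGroup.iff_card.mp hTp
  have hexp : ∀ t ∈ pCore p G, t ^ (p ^ e) = 1 := by
    intro t ht
    have h3 : (⟨t, ht⟩ : pCore p G) ^ (Nat.card (pCore p G)) = 1 := pow_card_eq_one'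
    rw [he] at h3
    have h4 := congrArg Subtype.val h3
    simpa using h4
  have main : ∀ X : Subgroup G, X.Normal → X ≤ A → ∀ g ∈ chiefStab A,
      ∃ k : ℕ, g ^ (p ^ k) ∈ centralizer (X : Set G) := by
    intro X
    induction X using WellFoundedLT.induction with
    | ind X ih =>
      intro hXn hXA g hg
      by_cases hX : X = ⊥
      · refine ⟨0, ?_⟩
        rw [hX]
        refine Subgroup.mem_centralizer_iff.mpr ?_
        intro x hx
        rw [Subgroup.coe_bot, Set.mem_singleton_iff] at hx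
        rw [hx, one_mul, mul_one]
      · obtain ⟨Y, ⟨hYn, hYX⟩, hYmax⟩ := (wellFounded_gt (α := Subgroup G)).has_min
          {Y : Subgroup G | Y.Normal ∧ Y < X} ⟨⊥, inferInstance, bot_lt_iff_ne_bot.mpr hX⟩
        have hchief : IsChiefFactor X Y := by
          refine ⟨hYX, hXn, hYn, fun N hN hYN hNX => ?_⟩
          by_cases hNX' : N = X
          · exact Or.inr hNX'
          · left
            by_contra hne
            exact hYmax N ⟨hN, lt_of_le_of_ne hNX hNX'⟩ (lt_of_le_of_ne hYN (Ne.symm hne))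
        obtain ⟨k, hk⟩ := ih Y hYX hYn (hYX.le.trans hXA) g hg
        refine ⟨k + e, ?_⟩
        obtain ⟨z, hz⟩ : ∃ z : G, z = g ^ (p ^ k) := ⟨_, rfl⟩
        have hzs : z ∈ chiefStab A := by rw [hz]; exact Subgroup.pow_mem _ hg _
        have e1 : g ^ (p ^ (k + e)) = z ^ (p ^ e) := by
          rw [hz, ← pow_mul, pow_add]
        rw [e1]
        refine Subgroup.mem_centralizer_iff.mpr ?_
        intro x hx
        have hc : ⁅z, x⁆ ∈ Y := mem_chiefStab.mp hzs X Y hchief hXA x hx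
        have hcomm : Commute z ⁅z, x⁆ := by
          rw [← hz] at hk
          exact (Subgroup.mem_centralizer_iff.mp hk _ hc).symm
        have h1 := conj_pow_of_commute_commutator hcomm (p ^ e)
        rw [hexp _ (hAT (hXA (hYX.le hc))), one_mul] at h1
        calc x * z ^ (p ^ e) = (z ^ (p ^ e) * x * (z ^ (p ^ e))⁻¹) * z ^ (p ^ e) := by rw [h1]
          _ = z ^ (p ^ e) * x := by group
  haveI := chiefStab_normal A
  have hp' : IsPGroup p (chiefStab A) := by
    intro g
    obtain ⟨k, hk⟩ := main A hAn le_rfl g.1 g.2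
    obtain ⟨j, hj⟩ := hTp ⟨_, hCA hk⟩
    refine ⟨k + j, ?_⟩
    apply Subtype.ext
    have := congrArg Subtype.val hj
    simp only [Subgroup.coe_pow, Subgroup.coe_one] at this ⊢
    rw [pow_add, pow_mul]
    exact this
  exact le_sSup ⟨inferInstance, hp'⟩


/-! ### Biquadratic elements lie in `O_p(G)` -/

theorem mem_pCore_of_biquadratic [Finite G] {p : ℕ} [Fact p.Prime] {A : Subgroup G} [hAn : A.Normal]
    (hAT : A ≤ pCore p G) (hCA : centralizer (A : Set G) ≤ pCore p G)
    (hst : ∀ (N : Subgroup G) [N.Normal], IsNormalizerPStable p (G ⧸ N))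
    {g : G} (h1 : ⁅⁅A, zpowers g⁆, zpowers g⁆ ≤ zc A)
    (h2 : ⁅⁅zc A, zpowers g⁆, zpowers g⁆ = ⊥) : g ∈ pCore p G := by
  apply chiefStab_le_pCore hAT hCA
  rw [mem_chiefStab]
  intro X Y hXY hXA x hx
  haveI hXn := hXY.2.1
  haveI hYn := hXY.2.2.1
  have hquad : ⁅⁅X, zpowers g⁆, zpowers g⁆ ≤ Y := by
    haveI : (zc A).Normal := zc_normal A
    rcases Cfsg.Agent.Helper54.Crit.chief_dichotomy hXY (zc A) with h | h
    · have h4 : iterCommutator (X ⊓ zc A) (zpowers g) 2 ≤ Y := by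
        refine (Cfsg.Agent.Helper54.Crit.iterC_mono inf_le_right (zpowers g) 2).trans ?_
        show ⁅⁅zc A, zpowers g⁆, zpowers g⁆ ≤ Y
        rw [h2]; exact bot_le
      exact Cfsg.Agent.Helper54.Crit.iterC_le_of_le_sup h 2 h4
    · refine le_trans (le_inf ?_ ?_) h
      · exact (commutator_mono (commutator_le_left X _) le_rfl).trans (commutator_le_left X _)
      · exact (commutator_mono (commutator_mono hXA le_rfl) le_rfl).trans h1
  have h3 := pstable_chief hXY (pCore_isPGroup33.to_le (hXA.trans hAT)) (hst Y) hquad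
  have h4 : ⁅x, g⁆ ∈ Y := h3 (commutator_mem_commutator hx (mem_zpowers g))
  have e : ⁅g, x⁆ = ⁅x, g⁆⁻¹ := (commutatorElement_inv x g).symm
  rw [e]
  exact Y.inv_mem h4

/-! ### The radical of a `p`-stable group relative to a normal `p`-subgroup -/

theorem exists_pstable_radical [Finite G] {p : ℕ} [Fact p.Prime] (hst : IsNormalizerPStable p G)
    {D : Subgroup G} [hDn : D.Normal] (hDp : IsPGroup p D) :
    ∃ P : Subgroup G, P.Normal ∧ centralizer (D : Set G) ≤ P ∧
      (∀ r ∈ P, ∃ k : ℕ, r ^ (p ^ k) ∈ centralizer (D : Set G)) ∧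
      ∀ g : G, ⁅⁅D, zpowers g⁆, zpowers g⁆ = ⊥ → g ∈ P := by
  have hNtop : ∀ x : G, x ∈ normalizer (D : Set G) := fun x => by
    rw [normalizer_eq_top]; exact Subgroup.mem_top x
  haveI hCn : ((centralizer (D : Set G)).subgroupOf (normalizer (D : Set G))).Normal :=
    inferInstance
  haveI hpn : (pCore p (↥(normalizer (D : Set G)) ⧸
      (centralizer (D : Set G)).subgroupOf (normalizer (D : Set G)))).Normal :=
    Cfsg.Agent.Helper33.pCore_normal p
  obtain ⟨O', hO'⟩ : ∃ O' : Subgroup ↥(normalizer (D : Set G)), O' =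
      (pCore p (↥(normalizer (D : Set G)) ⧸
        (centralizer (D : Set G)).subgroupOf (normalizer (D : Set G)))).comap
        (QuotientGroup.mk' ((centralizer (D : Set G)).subgroupOf (normalizer (D : Set G)))) :=
    ⟨_, rfl⟩
  haveI hO'n : O'.Normal := by rw [hO']; exact Subgroup.Normal.comap hpn _
  refine ⟨O'.map (normalizer (D : Set G)).subtype, ?_, ?_, ?_, ?_⟩
  · refine ⟨fun y hy x => ?_⟩
    obtain ⟨y', hy', rfl⟩ := hy
    exact ⟨⟨x, hNtop x⟩ * y' * ⟨x, hNtop x⟩⁻¹, hO'n.conj_mem y' hy' _, by simp⟩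
  · intro c hc
    have h1 : (QuotientGroup.mk' ((centralizer (D : Set G)).subgroupOf (normalizer (D : Set G))))
        ⟨c, hNtop c⟩ = 1 := by
      rw [QuotientGroup.mk'_apply, QuotientGroup.eq_one_iff, mem_subgroupOf]
      exact hc
    have h2 : (⟨c, hNtop c⟩ : ↥(normalizer (D : Set G))) ∈ O' := by
      rw [hO']
      show (QuotientGroup.mk' ((centralizer (D : Set G)).subgroupOf (normalizer (D : Set G))))
        ⟨c, hNtop c⟩ ∈ pCore p (↥(normalizer (D : Set G)) ⧸
        (centralizer (D : Set G)).subgroupOf (normalizer (D : Set G)))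
      rw [h1]
      exact Subgroup.one_mem _
    exact ⟨⟨c, hNtop c⟩, h2, rfl⟩
  · intro r hr
    obtain ⟨r', hr', rfl⟩ := hr
    have hr'' : (QuotientGroup.mk' ((centralizer (D : Set G)).subgroupOf
        (normalizer (D : Set G))) r') ∈ pCore p (↥(normalizer (D : Set G)) ⧸
        (centralizer (D : Set G)).subgroupOf (normalizer (D : Set G))) := by
      rw [hO'] at hr'; exact hr'
    obtain ⟨k, hk⟩ := (pCore_isPGroup33 (p := p)
      (G := ↥(normalizer (D : Set G)) ⧸
        (centralizer (D : Set G)).subgroupOf (normalizer (D : Set G)))) ⟨_, hr''⟩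
    refine ⟨k, ?_⟩
    have h1 := congrArg Subtype.val hk
    simp only [Subgroup.coe_pow, Subgroup.coe_one, QuotientGroup.mk'_apply] at h1
    rw [← QuotientGroup.mk_pow, QuotientGroup.eq_one_iff, mem_subgroupOf] at h1
    simpa using h1
  · intro g hq
    refine ⟨⟨g, hNtop g⟩, ?_, rfl⟩
    rw [hO']
    exact hst D hDp g (hNtop g) hq


/-! ### The closure of the `C`-conjugates of a subgroup -/

/-- the subgroup generated by the `C`-conjugates of `E` -/
def conjClosure (C E : Subgroup G) : Subgroup G :=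
  closure {x | ∃ k ∈ C, ∃ e ∈ E, x = k * e * k⁻¹}

theorem le_conjClosure (C E : Subgroup G) : E ≤ conjClosure C E := by
  intro e he
  apply Subgroup.subset_closure
  exact ⟨1, C.one_mem, e, he, by simp⟩

theorem conjClosure_le {C E X : Subgroup G} [hXn : X.Normal] (hEX : E ≤ X) :
    conjClosure C E ≤ X := by
  unfold conjClosure
  rw [closure_le]
  rintro _ ⟨k, -, e, he, rfl⟩
  exact hXn.conj_mem e (hEX he) k

theorem conj_mem_conjClosure {C E : Subgroup G} {d : G}
    (hd : ∀ k ∈ C, ∀ e ∈ E, d * (k * e * k⁻¹) * d⁻¹ ∈ conjClosure C E) {x : G}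
    (hx : x ∈ conjClosure C E) : d * x * d⁻¹ ∈ conjClosure C E := by
  have h1 : (conjClosure C E).map (MulAut.conj d).toMonoidHom ≤ conjClosure C E := by
    unfold conjClosure
    rw [MonoidHom.map_closure, closure_le]
    rintro _ ⟨_, ⟨k, hk, e, he, rfl⟩, rfl⟩
    exact hd k hk e he
  exact h1 ⟨x, hx, rfl⟩

theorem self_le_normalizer_conjClosure (C E : Subgroup G) :
    C ≤ normalizer (conjClosure C E : Set G) := by
  apply le_normalizer_of_conj_mem
  intro d hd x hx
  apply conj_mem_conjClosure _ hx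
  intro k hk e he
  apply Subgroup.subset_closure
  exact ⟨d * k, C.mul_mem hd hk, e, he, by group⟩

theorem le_normalizer_conjClosure {C E Δ : Subgroup G} (hΔC : Δ ≤ normalizer (C : Set G))
    (hΔE : Δ ≤ normalizer (E : Set G)) : Δ ≤ normalizer (conjClosure C E : Set G) := by
  apply le_normalizer_of_conj_mem
  intro d hd x hx
  apply conj_mem_conjClosure _ hx
  intro k hk e he
  apply Subgroup.subset_closure
  exact ⟨d * k * d⁻¹, conj_mem_of_le_normalizer hΔC hd hk, d * e * d⁻¹,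
    conj_mem_of_le_normalizer hΔE hd he, by group⟩

/-! ### The main step: members of lower families act quadratically on chief factors -/

theorem chief_map_minimal {X Y : Subgroup G} [hYn : Y.Normal] (hXY : IsChiefFactor X Y)
    (N : Subgroup (G ⧸ Y)) (hN : N.Normal) (hNX : N ≤ X.map (QuotientGroup.mk' Y)) :
    N = ⊥ ∨ N = X.map (QuotientGroup.mk' Y) := by
  obtain ⟨hlt, hXn, -, hmax⟩ := hXY
  obtain ⟨π, hπ⟩ : ∃ π : G →* G ⧸ Y, π = QuotientGroup.mk' Y := ⟨_, rfl⟩
  rw [← hπ] at hNX ⊢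
  have hπs : Function.Surjective π := by rw [hπ]; exact QuotientGroup.mk'_surjective Y
  have hker : π.ker = Y := by rw [hπ]; exact QuotientGroup.ker_mk' Y
  have hcomapW : (X.map π).comap π = X := by
    rw [Subgroup.comap_map_eq, hker, sup_eq_left.mpr hlt.le]
  have h1 : Y ≤ N.comap π := hker.ge.trans (Subgroup.ker_le_comap π N)
  have hYbot : Y.map π = ⊥ := (Subgroup.map_eq_bot_iff _).mpr hker.ge
  have h2 : N.comap π ≤ X := by
    rw [← hcomapW]; exact Subgroup.comap_mono hNX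
  have h3 : (N.comap π).map π = N := Subgroup.map_comap_eq_self_of_surjective hπs N
  rcases hmax (N.comap π) inferInstance h1 h2 with h | h
  · left; rw [← h3, h, hYbot]
  · right; rw [← h3, h]

theorem chief_step [Finite G] {p : ℕ} [Fact p.Prime] {A : Subgroup G} [hAn : A.Normal]
    (hAT : A ≤ pCore p G) (hA2 : ⁅A, A⁆ ≤ centralizer (A : Set G))
    (hTA : ⁅pCore p G, A⁆ ≤ zc A)
    {Q B P : Subgroup G} [hPn : P.Normal] (hAQ : A ≤ Q)
    (hB2 : B ∈ classTwoSubgroups G) (hQB : Q ≤ normalizer (B : Set G))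
    (hcond : ∀ A' ∈ classTwoSubgroups G, A' ≤ Q → B ≤ normalizer (A' : Set G) →
      ⁅B, ⁅A', A'⁆⁆ = ⊥ → ⁅⁅B ⊓ centralizer (B : Set G), A'⁆, A'⁆ = ⊥ →
      ⁅B, A'⁆ ≤ B ⊓ centralizer (B : Set G))
    (hZBT : zc B ≤ pCore p G)
    (hCP : centralizer ((⁅A, A⁆ : Subgroup G) : Set G) ≤ P)
    (hPq : ∀ r ∈ P, ∃ k : ℕ, r ^ (p ^ k) ∈ centralizer ((⁅A, A⁆ : Subgroup G) : Set G))
    (hBP : B ≤ P) {X Y : Subgroup G} [hYn : Y.Normal] (hXY : IsChiefFactor X Y) (hXA : X ≤ A)
    (hst : IsNormalizerPStable p (G ⧸ Y)) : ⁅⁅X, B⁆, B⁆ ≤ Y := by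
  haveI hXn : X.Normal := hXY.2.1
  have hlt : Y < X := hXY.1
  haveI hTn : (pCore p G).Normal := Cfsg.Agent.Helper33.pCore_normal p
  have hTp : IsPGroup p (pCore p G) := pCore_isPGroup33
  obtain ⟨C, hC⟩ : ∃ C : Subgroup G, C = centralizer ((⁅A, A⁆ : Subgroup G) : Set G) := ⟨_, rfl⟩
  haveI hCn : C.Normal := by rw [hC]; infer_instance
  rw [← hC] at hCP hPq
  obtain ⟨E, hE⟩ : ∃ E : Subgroup G, E = ⁅⁅X, B⁆, B⁆ := ⟨_, rfl⟩
  rw [← hE]
  have hAB : ⁅A, B⁆ ≤ B := le_normalizer_iff_commutator_le_right.mp (hAQ.trans hQB)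
  have hZBc : ⁅B, zc B⁆ = ⊥ := by
    rw [commutator_eq_bot_iff_le_centralizer]
    exact le_centralizer_iff.mp inf_le_right
  have hEX : E ≤ X := by
    rw [hE]
    exact (commutator_mono (commutator_le_left X B) le_rfl).trans (commutator_le_left X B)
  have hEBB : E ≤ ⁅B, B⁆ := by
    rw [hE]
    exact commutator_mono ((commutator_mono hXA le_rfl).trans hAB) le_rfl
  -- `[Z₁, A]` centralizes `B`
  have hZ1 : ⁅⁅A ⊓ zc B, A⁆, B⁆ = ⊥ := by
    apply commutator_commutator_eq_bot_of_rotate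
    · rw [eq_bot_iff, ← hZBc]
      exact commutator_mono hAB inf_le_right
    · have : ⁅B, A ⊓ zc B⁆ = ⊥ := by
        rw [eq_bot_iff, ← hZBc]
        exact commutator_mono le_rfl inf_le_right
      rw [this, commutator_bot_left]
  have hZ1' : ⁅A ⊓ zc B, A⁆ ≤ centralizer (B : Set G) := by
    rw [commutator_eq_bot_iff_le_centralizer] at hZ1
    exact hZ1
  obtain ⟨M, hM⟩ : ∃ M : Subgroup G, M = ⁅A, A⁆ ⊓ centralizer (B : Set G) := ⟨_, rfl⟩
  have hMA : A ≤ centralizer (M : Set G) := by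
    rw [le_centralizer_iff, hM]
    exact inf_le_left.trans hA2
  obtain ⟨D, hD⟩ : ∃ D : Subgroup G, D = conjClosure C E := ⟨_, rfl⟩
  have hED : E ≤ D := by rw [hD]; exact le_conjClosure C E
  have hDX : D ≤ X := by rw [hD]; exact conjClosure_le hEX
  have hDA : D ≤ A := hDX.trans hXA
  have hCD : C ≤ normalizer (D : Set G) := by rw [hD]; exact self_le_normalizer_conjClosure C E
  have hBE : B ≤ normalizer (E : Set G) := by
    rw [hE]
    have hBX : B ≤ normalizer (X : Set G) := by rw [normalizer_eq_top]; exact le_top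
    exact Cfsg.Agent.Helper54.Crit.le_normalizer_commutator
      (Cfsg.Agent.Helper54.Crit.le_normalizer_commutator hBX le_normalizer) le_normalizer
  have hBD : B ≤ normalizer (D : Set G) := by
    rw [hD]
    apply le_normalizer_conjClosure _ hBE
    rw [normalizer_eq_top]; exact le_top
  have hDM : D ≤ cmod M A := by
    rw [hD]
    unfold conjClosure
    rw [closure_le]
    rintro _ ⟨k, hk, e, he, rfl⟩
    have hxA : k * e * k⁻¹ ∈ A := hAn.conj_mem e (hXA (hEX he)) k
    refine ⟨centralizer_le_normalizer _ (hMA hxA), fun q hq => ?_⟩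
    have hq' : k⁻¹ * q * k ∈ A := by
      have := hAn.conj_mem q hq k⁻¹
      simpa using this
    have heZ : e ∈ A ⊓ zc B :=
      ⟨hXA (hEX he), ⟨commutator_le_self B (hEBB he), by
        have h5 : ⁅B, B⁆ ≤ centralizer (B : Set G) := hB2
        exact h5 (hEBB he)⟩⟩
    have hm : ⁅e, k⁻¹ * q * k⁆ ∈ M := by
      rw [hM]
      exact ⟨commutator_mem_commutator heZ.1 hq', hZ1' (commutator_mem_commutator heZ hq')⟩
    have hkm : k * ⁅e, k⁻¹ * q * k⁆ * k⁻¹ = ⁅e, k⁻¹ * q * k⁆ := by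
      rw [hC] at hk
      have h6 : ⁅e, k⁻¹ * q * k⁆ ∈ ⁅A, A⁆ := by rw [hM] at hm; exact hm.1
      have := Subgroup.mem_centralizer_iff.mp hk _ h6
      rw [← this, mul_assoc, mul_inv_cancel, mul_one]
    have e1 : ⁅k * e * k⁻¹, q⁆ = k * ⁅e, k⁻¹ * q * k⁆ * k⁻¹ := by
      simp only [commutatorElement_def]; group
    rw [e1, hkm]
    exact hm
  have hDAM : ⁅D, A⁆ ≤ M := by
    rw [commutator_le]
    intro d hd a ha
    exact (hDM hd).2 a ha
  have hMB : M ≤ centralizer (B : Set G) := by rw [hM]; exact inf_le_right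
  -- the family test for `D`
  have hD2 : D ∈ classTwoSubgroups G := by
    show ⁅D, D⁆ ≤ centralizer (D : Set G)
    exact ((commutator_mono hDA hDA).trans hA2).trans (centralizer_le (by exact_mod_cast hDA))
  have hD5 : ⁅B, ⁅D, D⁆⁆ = ⊥ := by
    rw [commutator_eq_bot_iff_le_centralizer, le_centralizer_iff]
    exact ((commutator_mono le_rfl hDA).trans hDAM).trans hMB
  have hD6 : ⁅⁅B ⊓ centralizer (B : Set G), D⁆, D⁆ = ⊥ := by
    have h7 : ⁅B ⊓ centralizer (B : Set G), D⁆ ≤ zc A :=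
      (commutator_mono hZBT hDA).trans hTA
    rw [commutator_eq_bot_iff_le_centralizer]
    exact (h7.trans inf_le_right).trans (centralizer_le (by exact_mod_cast hDA))
  have hD7 : ⁅B, D⁆ ≤ B ⊓ centralizer (B : Set G) :=
    hcond D hD2 (hDA.trans hAQ) hBD hD5 hD6
  have hquadD : ⁅⁅D, B⁆, B⁆ = ⊥ := by
    rw [commutator_comm D B, eq_bot_iff, ← hZBc, commutator_comm B (zc B)]
    exact commutator_mono hD7 le_rfl
  -- pass to the quotient
  obtain ⟨π, hπ⟩ : ∃ π : G →* G ⧸ Y, π = QuotientGroup.mk' Y := ⟨_, rfl⟩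
  have hπs : Function.Surjective π := by rw [hπ]; exact QuotientGroup.mk'_surjective Y
  have hker : π.ker = Y := by rw [hπ]; exact QuotientGroup.ker_mk' Y
  haveI hWn : (X.map π).Normal := hXn.map π hπs
  haveI hC'n : (C.map π).Normal := hCn.map π hπs
  haveI hP'n : (P.map π).Normal := hPn.map π hπs
  have hW0 : X.map π ≠ ⊥ := by
    intro h0
    rw [Subgroup.map_eq_bot_iff, hker] at h0
    exact not_le_of_gt hlt h0
  have hWmin : ∀ N : Subgroup (G ⧸ Y), N.Normal → N ≤ X.map π → N = ⊥ ∨ N = X.map π := by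
    intro N hN hNX
    rw [hπ] at hNX ⊢
    exact chief_map_minimal hXY N hN hNX
  have hXXY : ⁅X, X⁆ ≤ Y :=
    (commutator_mono le_rfl (hXA.trans hAT)).trans
      (Cfsg.Agent.Helper54.Crit.chief_central hTp.isNilpotent hXY)
  have hWab : ∀ x ∈ X.map π, ∀ y ∈ X.map π, x * y = y * x := by
    rintro _ ⟨a, ha, rfl⟩ _ ⟨b, hb, rfl⟩
    have h8 : ⁅a, b⁆ ∈ π.ker := by
      rw [hker]; exact hXXY (commutator_mem_commutator ha hb)
    rw [MonoidHom.mem_ker, map_commutatorElement, commutatorElement_eq_one_iff_mul_comm] at h8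
    exact h8
  have hWp : IsPGroup p (X.map π) := (hTp.to_le (hXA.trans hAT)).map π
  have hq' : ∀ x ∈ P.map π, ∃ k : ℕ, x ^ (p ^ k) ∈ C.map π := by
    rintro _ ⟨r, hr, rfl⟩
    obtain ⟨k, hk⟩ := hPq r hr
    exact ⟨k, ⟨r ^ (p ^ k), hk, map_pow π r _⟩⟩
  have hkill := quad_kill hst hW0 hWmin hWab hWp (Subgroup.map_mono hCP) hq'
    (Subgroup.map_mono hBP) (Subgroup.map_mono hDX)
    ((Subgroup.map_mono hCD).trans (Subgroup.le_normalizer_map π))
    ((Subgroup.map_mono hBD).trans (Subgroup.le_normalizer_map π))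
    (by rw [← Subgroup.map_commutator, ← Subgroup.map_commutator, hquadD, Subgroup.map_bot])
  have hEmap : E.map π ≤ ⁅⁅X.map π, B.map π⁆, B.map π⁆ ⊓ D.map π := by
    refine le_inf ?_ (Subgroup.map_mono hED)
    rw [hE, Subgroup.map_commutator, Subgroup.map_commutator]
  rw [hkill, le_bot_iff, Subgroup.map_eq_bot_iff, hker] at hEmap
  exact hEmap


theorem lower_member_le_pCore [Finite G] {p : ℕ} [Fact p.Prime] {A : Subgroup G} [hAn : A.Normal]
    (hAT : A ≤ pCore p G) (hA2 : ⁅A, A⁆ ≤ centralizer (A : Set G))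
    (hTA : ⁅pCore p G, A⁆ ≤ zc A) (hCA : centralizer (A : Set G) ≤ pCore p G)
    (hst : ∀ (N : Subgroup G) [N.Normal], IsNormalizerPStable p (G ⧸ N))
    {Q B : Subgroup G} (hAQ : A ≤ Q) (hB : B ∈ kLowerStarFamily Q) : B ≤ pCore p G := by
  obtain ⟨-, h2, hAB, -⟩ := cubic_of_mem_lower hAQ hB
  obtain ⟨hB2, hQB, hcond⟩ := hB
  have hTp : IsPGroup p (pCore p G) := pCore_isPGroup33
  -- the centre of `B` lies in `O_p(G)`
  have hZBc : ⁅B, zc B⁆ = ⊥ := by
    rw [commutator_eq_bot_iff_le_centralizer]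
    exact le_centralizer_iff.mp inf_le_right
  have hZBT : zc B ≤ pCore p G := by
    intro g hg
    have hgZ : zpowers g ≤ zc B := zpowers_le.mpr hg
    have hq : ⁅⁅A, zpowers g⁆, zpowers g⁆ = ⊥ := by
      rw [eq_bot_iff, ← hZBc]
      exact commutator_mono ((commutator_mono le_rfl (hgZ.trans inf_le_left)).trans hAB) hgZ
    apply mem_pCore_of_biquadratic hAT hCA hst (g := g)
    · rw [hq]; exact bot_le
    · rw [eq_bot_iff, ← hq]
      exact commutator_mono (commutator_mono inf_le_left le_rfl) le_rfl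
  -- the radical `P`
  have hstG : IsNormalizerPStable p G :=
    Cfsg.Agent.Helper46.isNormalizerPStable_of_mulEquiv QuotientGroup.quotientBot (hst ⊥)
  have hD₀p : IsPGroup p (⁅A, A⁆ : Subgroup G) :=
    hTp.to_le ((commutator_le_left A A).trans hAT)
  obtain ⟨P, hPn, hCP, hPq, hPquad⟩ := exists_pstable_radical hstG hD₀p
  have hAAZ : ⁅A, A⁆ ≤ zc A := le_inf (commutator_le_left A A) hA2
  have hBP : B ≤ P := by
    intro b hb
    apply hPquad
    have hbB : zpowers b ≤ B := zpowers_le.mpr hb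
    rw [eq_bot_iff, ← h2]
    exact commutator_mono (commutator_mono hAAZ hbB) hbB
  -- `B` acts trivially on the chief factors below `A`
  refine le_trans ?_ (chiefStab_le_pCore hAT hCA)
  intro b hb
  rw [mem_chiefStab]
  intro X Y hXY hXA x hx
  haveI hYn : Y.Normal := hXY.2.2.1
  have hbB : zpowers b ≤ B := zpowers_le.mpr hb
  have h5 : ⁅⁅X, B⁆, B⁆ ≤ Y :=
    chief_step hAT hA2 hTA hAQ hB2 hQB hcond hZBT hCP hPq hBP hXY hXA (hst Y)
  have h6 : ⁅X, zpowers b⁆ ≤ Y :=
    pstable_chief hXY (hTp.to_le (hXA.trans hAT)) (hst Y)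
      ((commutator_mono (commutator_mono le_rfl hbB) hbB).trans h5)
  have h7 : ⁅x, b⁆ ∈ Y := h6 (commutator_mem_commutator hx (mem_zpowers b))
  have e : ⁅b, x⁆ = ⁅x, b⁆⁻¹ := (commutatorElement_inv x b).symm
  rw [e]
  exact Y.inv_mem h7

/-- **Glauberman**: if `C_G(O_p(G)) ≤ O_p(G)` and every quotient of `G` is `p`-stable, then the
K-infinity subgroups of a Sylow `p`-subgroup are normal in `G`. -/
theorem kInf_normal_of_pstable [Finite G] {p : ℕ} [Fact p.Prime]
    (hCT : centralizer (pCore p G : Set G) ≤ pCore p G)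
    (hst : ∀ (N : Subgroup G) [N.Normal], IsNormalizerPStable p (G ⧸ N)) (S : Sylow p G) :
    (inducedFunctor kInfLower (S : Subgroup G)).Normal ∧
      (inducedFunctor kInfUpper (S : Subgroup G)).Normal := by
  obtain ⟨A, hAn, hAT, hA2, hTA, hTC⟩ := exists_critical_in_pCore G p
  haveI := hAn
  have hCA : centralizer (A : Set G) ≤ pCore p G :=
    centralizer_le_pCore_of_crit (hTC.trans inf_le_left) hCT
  have hTS : pCore p G ≤ (S : Subgroup G) := Cfsg.Agent.Helper54.pCore_le_sylow S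
  haveI hTn : (pCore p G).Normal := Cfsg.Agent.Helper33.pCore_normal p
  have hAS : A ≤ (S : Subgroup G) := hAT.trans hTS
  have hk : ∀ n : ℕ, kSeqEven (S : Subgroup G) n ≤ (pCore p G).subgroupOf (S : Subgroup G) ∧
      kSeqOdd (S : Subgroup G) (n + 1) ≤ (pCore p G).subgroupOf (S : Subgroup G) := by
    apply kSeq_le_of hTS hAT hA2 hTA
    · intro g _ h1 h2
      exact mem_pCore_of_biquadratic hAT hCA hst h1 h2
    · intro Q B hAQ hB
      have hB' : B.map (S : Subgroup G).subtype ∈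
          kLowerStarFamily (Q.map (S : Subgroup G).subtype) :=
        (Cfsg.Agent.Helper33.map_mem_lower_iff (S : Subgroup G).subtype
          (S : Subgroup G).subtype_injective B Q).mpr hB
      have hAQ' : A ≤ Q.map (S : Subgroup G).subtype := by
        rw [← map_subgroupOf_eq hAS]
        exact Subgroup.map_mono hAQ
      have h1 := lower_member_le_pCore hAT hA2 hTA hCA hst hAQ' hB'
      intro b hb
      rw [mem_subgroupOf]
      exact h1 ⟨b, hb, rfl⟩
  have h1 := inducedFunctor_kInf_eq_of hTS hk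
  have h2 := inducedFunctor_kInf_normal (pCore p G)
  rw [h1.1, h1.2]
  exact h2

end Cfsg.Agent.Helper33.KE
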