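import Mathlib
import Cfsg.Prelude.Def_LocalEven
import Cfsg.Agent.Lib.Helper33.SecFusionF

/-!
Corollaries of Theorem 6.6 for a single functor.
-/

set_option autoImplicit false
universe u
open Pointwise Cfsg

namespace Cfsg.Agent.Helper33

section G1

variable {p : ℕ} [Fact p.Prime]

theorem isStepChain_prod_mem {G : Type*} [Group G] {Q : G → Prop} {S : Set G} (M : Subgroup G)
    (hQ : ∀ y, Q y → y ∈ M) {l : List G} : ∀ {A : Set G}, IsStepChain Q S A l → l.prod ∈ M := by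
  induction l with
  | nil => intro A _; simp
  | cons x tl ih =>
    intro A h
    rw [List.prod_cons]
    exact M.mul_mem (hQ x h.1) (ih h.2.2)

/-- a functor whose value at a Sylow subgroup is normal controls strong fusion, trivially -/
theorem fcsf_of_normal {G : Type*} [Group G] [Finite G] {𝔚 : Set (Subgroup G → Subgroup G)}
    (S : Sylow p G) {F : Subgroup G → Subgroup G} (hF : F ∈ 𝔚)
    (hn : (F (S : Subgroup G)).Normal) : FamilyControlsStrongFusionIn p 𝔚 ⊤ := by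
  apply fcsf_top_of_good S
  intro A x _ hAx
  apply Good.single _ hAx
  refine ⟨F, hF, Subgroup.mem_inf.mpr ⟨Subgroup.mem_top _, ?_⟩⟩
  rw [Subgroup.normalizer_eq_top]
  exact Subgroup.mem_top _

/-- single-functor control of strong fusion at every Sylow subgroup, from the family form -/
theorem controlsStrongFusion_of_fcsf {W : ∀ (Q : Type u) [Group Q], Subgroup Q}
    (hW : IsCharPFunctor.{u} p W) {H : Type u} [Group H] [Finite H]
    (h : FamilyControlsStrongFusionIn p (indFam {W} H) ⊤) (T : Sylow p H) :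
    ControlsStrongFusion p (inducedFunctor W (T : Subgroup H)) := by
  refine ⟨T, indF_le W _, fun A hA => ⟨hA, fun g hg => ?_⟩⟩
  have h𝔚 := isConjugacyFunctor_indFam (p := p) (𝓦 := {W})
    (fun W' hW' => by rw [Set.mem_singleton_iff.mp hW']; exact hW) H
  have hgood := good_of_fcsf_top h𝔚 h T A g⁻¹ hA (by
    rintro _ ⟨a, ha, rfl⟩
    rw [inv_inv]
    exact hg ⟨a, ha, rfl⟩)
  obtain ⟨l, hl, hla⟩ := hgood
  have hmem : l.prod ∈ Subgroup.normalizer ((inducedFunctor W (T : Subgroup H) : Subgroup H) : Set H) := by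
    apply isStepChain_prod_mem _ _ hl
    rintro y ⟨_, ⟨W', hW', rfl⟩, hy⟩
    rw [Set.mem_singleton_iff.mp hW'] at hy
    exact (Subgroup.mem_inf.mp hy).2
  refine ⟨l.prod⁻¹, inv_mem hmem, fun a ha => ?_⟩
  have := hla a ha
  rw [inv_inv] at this ⊢
  exact this.symm

end G1

section G2

variable {p : ℕ} [Fact p.Prime]

/-- splitting a conjugation by an element of `N₁ N₂` with intermediate image inside `S` -/
theorem split_two {G : Type*} [Group G] [Finite G] (S : Sylow p G) (N₁ N₂ : Subgroup G)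
    (hS₁ : (S : Subgroup G) ≤ N₁) (hS₂ : (S : Subgroup G) ≤ N₂) (A : Set G) {a b : G}
    (ha : a ∈ N₁) (hb : b ∈ N₂) (hA : A ⊆ (S : Subgroup G)) (hAx : rc (a * b) A ⊆ (S : Subgroup G)) :
    ∃ y₁ ∈ N₁, ∃ y₂ ∈ N₂, a * b = y₁ * y₂ ∧ rc y₁ A ⊆ (S : Subgroup G) := by
  have hclA : Subgroup.closure A ≤ (S : Subgroup G) := (Subgroup.closure_le _).mpr hA
  set P₁ := MulAut.conj a⁻¹ • Subgroup.closure A with hP₁
  have hP₁p : IsPGroup p P₁ := isPGroup_conj_smul (S.isPGroup'.to_le hclA)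
  have hrcP₁ : rc a A ⊆ P₁ := rc_subset_iff_closure_le.mpr le_rfl
  have hP₁N₁ : P₁ ≤ N₁ := by
    have h1 : P₁ ≤ MulAut.conj a⁻¹ • N₁ := conj_smul_le_conj_smul (hclA.trans hS₁)
    rwa [conj_smul_eq_self_of_mem (inv_mem ha)] at h1
  have hP₁N₂ : P₁ ≤ N₂ := by
    have h1 : MulAut.conj (a * b)⁻¹ • Subgroup.closure A ≤ (S : Subgroup G) :=
      rc_subset_iff_closure_le.mp hAx
    have h2 : MulAut.conj b • (MulAut.conj (a * b)⁻¹ • Subgroup.closure A) ≤
        MulAut.conj b • N₂ := conj_smul_le_conj_smul (h1.trans hS₂)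
    rw [← conj_mul_smul, conj_smul_eq_self_of_mem hb] at h2
    have e : b * (a * b)⁻¹ = a⁻¹ := by group
    rwa [e] at h2
  have hSE : IsSylIn p (S : Subgroup G) (N₁ ⊓ N₂) :=
    (isSylIn_top S).of_le (le_inf hS₁ hS₂) le_top
  obtain ⟨e, he, heP₁⟩ := hSE.exists_conj_le hP₁p (le_inf hP₁N₁ hP₁N₂)
  obtain ⟨he1, he2⟩ := Subgroup.mem_inf.mp he
  refine ⟨a * e⁻¹, mul_mem ha (inv_mem he1), e * b, mul_mem he2 hb, by group, ?_⟩
  rw [rc_mul]
  rintro _ ⟨c, hc, rfl⟩
  apply heP₁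
  have := conj_mem_conj_smul (g := e) (hrcP₁ hc)
  simpa using this

/-- a group factorized by two normalizers: the pair controls strong fusion -/
theorem fcsf_of_factorization {G : Type*} [Group G] [Finite G]
    {F₁ F₂ : Subgroup G → Subgroup G} (hF₁ : IsConjugacyFunctor p F₁)
    (hF₂ : IsConjugacyFunctor p F₂) (S : Sylow p G)
    (hfac : ∀ x : G, ∃ a ∈ Subgroup.normalizer ((F₁ (S : Subgroup G) : Subgroup G) : Set G),
      ∃ b ∈ Subgroup.normalizer ((F₂ (S : Subgroup G) : Subgroup G) : Set G), x = a * b) :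
    FamilyControlsStrongFusionIn p {F₁, F₂} ⊤ := by
  apply fcsf_top_of_good S
  intro A x hA hAx
  obtain ⟨a, ha, b, hb, rfl⟩ := hfac x
  have hS₁ : (S : Subgroup G) ≤ Subgroup.normalizer ((F₁ (S : Subgroup G) : Subgroup G) : Set G) :=
    Subgroup.le_normalizer.trans (normalizer_le_normalizer_functor hF₁ S.isPGroup')
  have hS₂ : (S : Subgroup G) ≤ Subgroup.normalizer ((F₂ (S : Subgroup G) : Subgroup G) : Set G) :=
    Subgroup.le_normalizer.trans (normalizer_le_normalizer_functor hF₂ S.isPGroup')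
  obtain ⟨y₁, hy₁, y₂, hy₂, hxy, hAy₁⟩ := split_two S _ _ hS₁ hS₂ A ha hb hA hAx
  rw [hxy] at hAx ⊢
  apply Good.trans
  · exact Good.single ⟨F₁, Set.mem_insert _ _, Subgroup.mem_inf.mpr ⟨Subgroup.mem_top _, hy₁⟩⟩ hAy₁
  · refine Good.single ⟨F₂, Set.mem_insert_of_mem _ rfl, Subgroup.mem_inf.mpr ⟨Subgroup.mem_top _, hy₂⟩⟩ ?_
    rw [← rc_mul]; exact hAx

end G2

end Cfsg.Agent.Helper33
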