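import Mathlib
import Cfsg.Agent.Lib.Helper33.KInfE
import Cfsg.Agent.Lib.Helper33.SecFusionG

/-!
# Control of strong fusion by `K_∞` when all sections are `p`-stable
-/

set_option autoImplicit false
universe u

namespace Cfsg.Agent.Helper33.KE

open Cfsg Cfsg.Agent.Helper33 Pointwise

theorem isoInvFin_pstable (p : ℕ) :
    IsoInvFin (fun (Q : Type u) [Group Q] => IsNormalizerPStable p Q) :=
  fun _ _ _ _ _ e h => Cfsg.Agent.Helper46.isNormalizerPStable_of_mulEquiv e h

/-- all sections `p`-stable: the lower and upper K-infinity subgroups control strong fusion -/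
theorem controls_kInf_of_sections_stable {G : Type u} [Group G] [Finite G] {p : ℕ}
    [Fact p.Prime]
    (hst : ∀ (K R : Subgroup G) [hR : (R.subgroupOf K).Normal],
      IsNormalizerPStable p (↥K ⧸ R.subgroupOf K)) (S : Sylow p G) :
    ControlsStrongFusion p (inducedFunctor kInfLower (S : Subgroup G)) ∧
      ControlsStrongFusion p (inducedFunctor kInfUpper (S : Subgroup G)) := by
  have hisoP := isoInvFin_pstable.{u} p
  have hsecP : SecHave (fun (Q : Type u) [Group Q] => IsNormalizerPStable p Q) G :=
    fun K R _ => hst K R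
  have hnormal : ∀ (K R : Subgroup G) [hR : (R.subgroupOf K).Normal],
      Constr p (↥K ⧸ R.subgroupOf K) → ∀ T : Sylow p (↥K ⧸ R.subgroupOf K),
      (inducedFunctor kInfLower (T : Subgroup (↥K ⧸ R.subgroupOf K))).Normal ∧
        (inducedFunctor kInfUpper (T : Subgroup (↥K ⧸ R.subgroupOf K))).Normal := by
    intro K R hR hcon T
    have hsec' := (hsecP.subgroup hisoP K).quotient hisoP (R.subgroupOf K)
    have hstq : ∀ (N : Subgroup (↥K ⧸ R.subgroupOf K)) [N.Normal],
        IsNormalizerPStable p ((↥K ⧸ R.subgroupOf K) ⧸ N) :=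
      fun N _ => (hsec'.quotient hisoP N).self hisoP
    exact kInf_normal_of_pstable hcon hstq T
  constructor
  · have hW := Cfsg.Agent.Helper33.isCharPFunctor_kInfLower.{u} (p := p)
    have hW' : ∀ W' ∈ ({kInfLower} : Set (∀ (Q : Type u) [Group Q], Subgroup Q)),
        IsCharPFunctor.{u} p W' :=
      fun W' h => by rw [Set.mem_singleton_iff.mp h]; exact hW
    have hsec : SecHave (LocHyp.{u} p {kInfLower}) G := by
      intro K R hR hcon
      obtain ⟨T⟩ : Nonempty (Sylow p (↥K ⧸ R.subgroupOf K)) := inferInstance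
      exact fcsf_of_normal T ⟨kInfLower, rfl, rfl⟩ (hnormal K R hcon T).1
    exact controlsStrongFusion_of_fcsf hW (secFusion hW' G hsec) S
  · have hW := Cfsg.Agent.Helper33.isCharPFunctor_kInfUpper.{u} (p := p)
    have hW' : ∀ W' ∈ ({kInfUpper} : Set (∀ (Q : Type u) [Group Q], Subgroup Q)),
        IsCharPFunctor.{u} p W' :=
      fun W' h => by rw [Set.mem_singleton_iff.mp h]; exact hW
    have hsec : SecHave (LocHyp.{u} p {kInfUpper}) G := by
      intro K R hR hcon
      obtain ⟨T⟩ : Nonempty (Sylow p (↥K ⧸ R.subgroupOf K)) := inferInstance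
      exact fcsf_of_normal T ⟨kInfUpper, rfl, rfl⟩ (hnormal K R hcon T).2
    exact controlsStrongFusion_of_fcsf hW (secFusion hW' G hsec) S

/-- the same in every section -/
theorem controls_kInf_sections_of_sections_stable {G : Type u} [Group G] [Finite G] {p : ℕ}
    [Fact p.Prime]
    (hst : ∀ (K R : Subgroup G) [hR : (R.subgroupOf K).Normal],
      IsNormalizerPStable p (↥K ⧸ R.subgroupOf K))
    (K R : Subgroup G) [hR : (R.subgroupOf K).Normal] (T : Sylow p (↥K ⧸ R.subgroupOf K)) :
    ControlsStrongFusion p (inducedFunctor kInfLower (T : Subgroup (↥K ⧸ R.subgroupOf K))) ∧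
      ControlsStrongFusion p (inducedFunctor kInfUpper (T : Subgroup (↥K ⧸ R.subgroupOf K))) := by
  have hisoP := isoInvFin_pstable.{u} p
  have hsecP : SecHave (fun (Q : Type u) [Group Q] => IsNormalizerPStable p Q) G :=
    fun K R _ => hst K R
  have hsec' := (hsecP.subgroup hisoP K).quotient hisoP (R.subgroupOf K)
  exact controls_kInf_of_sections_stable (fun K' R' _ => hsec' K' R') T

end Cfsg.Agent.Helper33.KE
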