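import Mathlib
import Cfsg.Agent.Lib.Helper33.KInfE

/-!
# Glauberman's K-infinity subgroups: the chief-factor form

If `C_G(A) ≤ O_p(G)` for a critical subgroup `A` of `O_p(G)` and no element `g` of the Sylow
`p`-subgroup `S` with `[A, g, g, g] ≤ Z(A)` and `[Z(A), g, g] = 1` acts quadratically and
nontrivially on a chief factor of `G` below `A`, then `K_∞(S)` and `K^∞(S)` are normal in `G`.
-/

set_option autoImplicit false

namespace Cfsg.Agent.Helper33.KG

open Subgroup Cfsg Cfsg.Agent.Helper33.Cliff Cfsg.Agent.Helper54.KInf Cfsg.Agent.Helper33.KE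
open scoped commutatorElement

universe u

variable {G : Type u} [Group G]

/-! ### Commutators in an abelian normal subgroup -/

theorem comm_sup_le_of_abelian {W D₁ D₂ B : Subgroup G} [hWn : W.Normal]
    (hWab : ∀ x ∈ W, ∀ y ∈ W, x * y = y * x) (h₁ : D₁ ≤ W) (h₂ : D₂ ≤ W) :
    ⁅D₁ ⊔ D₂, B⁆ ≤ ⁅D₁, B⁆ ⊔ ⁅D₂, B⁆ := by
  have hcomm : D₁ ≤ normalizer (D₂ : Set G) := by
    apply le_normalizer_of_conj_mem
    intro d hd y hy
    have := hWab d (h₁ hd) y (h₂ hy)
    rw [this, mul_assoc, mul_inv_cancel, mul_one]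
    exact hy
  rw [commutator_le]
  intro w hw b hb
  have hw' : (w : G) ∈ ((D₁ ⊔ D₂ : Subgroup G) : Set G) := hw
  rw [Subgroup.coe_mul_of_left_le_normalizer_right D₁ D₂ hcomm] at hw'
  obtain ⟨d₁, hd₁, d₂, hd₂, rfl⟩ := hw'
  have h3 : ⁅d₂, b⁆ ∈ W := by
    rw [commutatorElement_def]
    have : d₂ * b * d₂⁻¹ * b⁻¹ = d₂ * (b * d₂⁻¹ * b⁻¹) := by group
    rw [this]
    exact W.mul_mem (h₂ hd₂) (hWn.conj_mem _ (W.inv_mem (h₂ hd₂)) b)
  have e : ⁅d₁ * d₂, b⁆ = d₁ * ⁅d₂, b⁆ * d₁⁻¹ * ⁅d₁, b⁆ := by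
    simp only [commutatorElement_def]; group
  have e2 : d₁ * ⁅d₂, b⁆ * d₁⁻¹ = ⁅d₂, b⁆ := by
    rw [hWab d₁ (h₁ hd₁) _ h3, mul_assoc, mul_inv_cancel, mul_one]
  rw [e, e2]
  exact Subgroup.mul_mem _ (Subgroup.mem_sup_right (commutator_mem_commutator hd₂ hb))
    (Subgroup.mem_sup_left (commutator_mem_commutator hd₁ hb))

/-- **Key lemma** (no stability needed): `W` a minimal normal abelian subgroup, `C ≤ P` normal
with `P / C` a `p`-group, `B ≤ P`, `D ≤ W` normalized by `C` and `B`, containing `[W, B, B]`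
and with `[D, B, B] = 1`.  Then `[W, B, B] = 1`. -/
theorem quad_kill_free [Finite G] {p : ℕ} [Fact p.Prime]
    {W C P B D : Subgroup G} [hWn : W.Normal] (hW0 : W ≠ ⊥)
    (hWmin : ∀ N : Subgroup G, N.Normal → N ≤ W → N = ⊥ ∨ N = W)
    (hWab : ∀ x ∈ W, ∀ y ∈ W, x * y = y * x)
    [hCn : C.Normal] [hPn : P.Normal] (hCP : C ≤ P)
    (hq : ∀ x ∈ P, ∃ k : ℕ, x ^ (p ^ k) ∈ C)
    (hBP : B ≤ P) (hDW : D ≤ W) (hCD : C ≤ normalizer (D : Set G))
    (hBD : B ≤ normalizer (D : Set G)) (hquad : ⁅⁅D, B⁆, B⁆ = ⊥) (hE : ⁅⁅W, B⁆, B⁆ ≤ D) :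
    ⁅⁅W, B⁆, B⁆ = ⊥ := by
  have hWtop : ∀ X : Subgroup G, X ≤ normalizer (W : Set G) := fun X => by
    rw [normalizer_eq_top]; exact le_top
  have hP : SumMin P W := clifford_step le_top (by rw [normalizer_eq_top]) (hWtop _)
    (sumMin_top_of_minimal_normal hW0 hWmin)
  have hΔP : C ⊔ B ≤ P := sup_le hCP hBP
  have hΔ : SumMin (C ⊔ B) W :=
    sumMin_of_between (p := p) (C := C) (by rw [normalizer_eq_top]; exact le_top) hq (hWtop _) hP
      _ le_sup_left hΔP
  have hΔD : C ⊔ B ≤ normalizer (D : Set G) := sup_le hCD hBD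
  obtain ⟨W₂, hW₂W, hW₂n, hdisj, hsup⟩ := exists_compl hWab hΔ D hDW hΔD
  have hBW₂ : B ≤ normalizer (W₂ : Set G) := le_sup_right.trans hW₂n
  have hDB : ⁅D, B⁆ ≤ D := le_normalizer_iff_commutator_le_left.mp hBD
  have hW₂B : ⁅W₂, B⁆ ≤ W₂ := le_normalizer_iff_commutator_le_left.mp hBW₂
  have h1 : ⁅W, B⁆ ≤ ⁅D, B⁆ ⊔ ⁅W₂, B⁆ := by
    rw [← hsup]
    exact comm_sup_le_of_abelian hWab hDW hW₂W
  have h2 : ⁅⁅W, B⁆, B⁆ ≤ ⁅⁅D, B⁆, B⁆ ⊔ ⁅⁅W₂, B⁆, B⁆ :=
    (commutator_mono h1 le_rfl).trans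
      (comm_sup_le_of_abelian hWab (hDB.trans hDW) (hW₂B.trans hW₂W))
  rw [hquad, bot_sup_eq] at h2
  have h3 : ⁅⁅W, B⁆, B⁆ ≤ W₂ := h2.trans ((commutator_mono hW₂B le_rfl).trans hW₂B)
  rw [eq_bot_iff, ← hdisj]
  exact le_inf hE h3

/-! ### Powers of elements of `chiefStab` -/

theorem chiefStab_pow_mem_centralizer [Finite G] {p : ℕ} [hp : Fact p.Prime] {A : Subgroup G}
    [hAn : A.Normal] (hAT : A ≤ pCore p G) :
    ∀ g ∈ chiefStab A, ∃ k : ℕ, g ^ (p ^ k) ∈ centralizer (A : Set G) := by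
  have hTp : IsPGroup p (pCore p G) := pCore_isPGroup33
  obtain ⟨e, he⟩ := IsPGroup.iff_card.mp hTp
  have hexp : ∀ t ∈ pCore p G, t ^ (p ^ e) = 1 := by
    intro t ht
    have h3 : (⟨t, ht⟩ : pCore p G) ^ (Nat.card (pCore p G)) = 1 := pow_card_eq_one'
    rw [he] at h3
    have h4 := congrArg Subtype.val h3
    simpa using h4
  have main : ∀ X : Subgroup G, X.Normal → X ≤ A → ∀ g ∈ chiefStab A,
      ∃ k : ℕ, g ^ (p ^ k) ∈ centralizer (X : Set G) := by
    intro X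
    induction X using WellFoundedLT.induction with
    | ind X ih =>
      intro hXn hXA g hg
      by_cases hX : X = ⊥
      · refine ⟨0, ?_⟩
        rw [hX]
        refine Subgroup.mem_centralizer_iff.mpr ?_
        intro x hx
        rw [Subgroup.coe_bot, Set.mem_singleton_iff] at hx
        rw [hx, one_mul, mul_one]
      · obtain ⟨Y, ⟨hYn, hYX⟩, hYmax⟩ := (wellFounded_gt (α := Subgroup G)).has_min
          {Y : Subgroup G | Y.Normal ∧ Y < X} ⟨⊥, inferInstance, bot_lt_iff_ne_bot.mpr hX⟩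
        have hchief : IsChiefFactor X Y := by
          refine ⟨hYX, hXn, hYn, fun N hN hYN hNX => ?_⟩
          by_cases hNX' : N = X
          · exact Or.inr hNX'
          · left
            by_contra hne
            exact hYmax N ⟨hN, lt_of_le_of_ne hNX hNX'⟩ (lt_of_le_of_ne hYN (Ne.symm hne))
        obtain ⟨k, hk⟩ := ih Y hYX hYn (hYX.le.trans hXA) g hg
        refine ⟨k + e, ?_⟩
        obtain ⟨z, hz⟩ : ∃ z : G, z = g ^ (p ^ k) := ⟨_, rfl⟩
        have hzs : z ∈ chiefStab A := by rw [hz]; exact Subgroup.pow_mem _ hg _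
        have e1 : g ^ (p ^ (k + e)) = z ^ (p ^ e) := by
          rw [hz, ← pow_mul, pow_add]
        rw [e1]
        refine Subgroup.mem_centralizer_iff.mpr ?_
        intro x hx
        have hc : ⁅z, x⁆ ∈ Y := mem_chiefStab.mp hzs X Y hchief hXA x hx
        have hcomm : Commute z ⁅z, x⁆ := by
          rw [← hz] at hk
          exact (Subgroup.mem_centralizer_iff.mp hk _ hc).symm
        have h1 := conj_pow_of_commute_commutator hcomm (p ^ e)
        rw [hexp _ (hAT (hXA (hYX.le hc))), one_mul] at h1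
        calc x * z ^ (p ^ e) = (z ^ (p ^ e) * x * (z ^ (p ^ e))⁻¹) * z ^ (p ^ e) := by rw [h1]
          _ = z ^ (p ^ e) * x := by group
  exact main A hAn le_rfl

theorem centralizer_le_chiefStab (A : Subgroup G) : centralizer (A : Set G) ≤ chiefStab A := by
  intro c hc
  rw [mem_chiefStab]
  intro X Y _ hXA x hx
  have h1 := Subgroup.mem_centralizer_iff.mp hc x (hXA hx)
  have : ⁅c, x⁆ = 1 := by
    rw [commutatorElement_eq_one_iff_mul_comm]; exact h1.symm
  rw [this]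
  exact Y.one_mem

/-! ### The chief-factor hypothesis -/

/-- no element of `S` acting cubically on `A` mod `Z(A)` and quadratically on `Z(A)` acts
quadratically and nontrivially on a chief factor below `A` -/
def ChiefHyp (S A : Subgroup G) : Prop :=
  ∀ g ∈ S, ⁅⁅⁅A, zpowers g⁆, zpowers g⁆, zpowers g⁆ ≤ zc A →
    ⁅⁅zc A, zpowers g⁆, zpowers g⁆ = ⊥ →
    ∀ X Y : Subgroup G, IsChiefFactor X Y → X ≤ A → ⁅⁅X, zpowers g⁆, zpowers g⁆ ≤ Y →
      ⁅X, zpowers g⁆ ≤ Y

theorem mem_chiefStab_of_quadratic {S A : Subgroup G} (hq : ChiefHyp S A) {g : G} (hg : g ∈ S)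
    (ha : ⁅⁅⁅A, zpowers g⁆, zpowers g⁆, zpowers g⁆ ≤ zc A)
    (hb : ⁅⁅zc A, zpowers g⁆, zpowers g⁆ = ⊥) {A₁ : Subgroup G} (hA₁ : A₁ ≤ A)
    (hquad : ∀ X Y : Subgroup G, IsChiefFactor X Y → X ≤ A₁ →
      ⁅⁅X, zpowers g⁆, zpowers g⁆ ≤ Y) : g ∈ chiefStab A₁ := by
  rw [mem_chiefStab]
  intro X Y hXY hXA x hx
  have h3 := hq g hg ha hb X Y hXY (hXA.trans hA₁) (hquad X Y hXY hXA)
  have h4 : ⁅x, g⁆ ∈ Y := h3 (commutator_mem_commutator hx (mem_zpowers g))
  have e : ⁅g, x⁆ = ⁅x, g⁆⁻¹ := (commutatorElement_inv x g).symm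
  rw [e]
  exact Y.inv_mem h4

theorem mem_pCore_of_biquadratic_of [Finite G] {p : ℕ} [Fact p.Prime] {S A : Subgroup G}
    [hAn : A.Normal] (hAT : A ≤ pCore p G) (hCA : centralizer (A : Set G) ≤ pCore p G)
    (hq : ChiefHyp S A) {g : G} (hg : g ∈ S) (h1 : ⁅⁅A, zpowers g⁆, zpowers g⁆ ≤ zc A)
    (h2 : ⁅⁅zc A, zpowers g⁆, zpowers g⁆ = ⊥) : g ∈ pCore p G := by
  haveI hZn : (zc A).Normal := zc_normal A
  apply chiefStab_le_pCore hAT hCA
  apply mem_chiefStab_of_quadratic hq hg _ h2 le_rfl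
  · intro X Y hXY hXA
    haveI hXn := hXY.2.1
    haveI hYn := hXY.2.2.1
    rcases Cfsg.Agent.Helper54.Crit.chief_dichotomy hXY (zc A) with h | h
    · have h4 : iterCommutator (X ⊓ zc A) (zpowers g) 2 ≤ Y := by
        refine (Cfsg.Agent.Helper54.Crit.iterC_mono inf_le_right (zpowers g) 2).trans ?_
        show ⁅⁅zc A, zpowers g⁆, zpowers g⁆ ≤ Y
        rw [h2]; exact bot_le
      exact Cfsg.Agent.Helper54.Crit.iterC_le_of_le_sup h 2 h4
    · refine le_trans (le_inf ?_ ?_) h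
      · exact (commutator_mono (commutator_le_left X _) le_rfl).trans (commutator_le_left X _)
      · exact (commutator_mono (commutator_mono hXA le_rfl) le_rfl).trans h1
  · exact (commutator_mono h1 le_rfl).trans (commutator_le_left _ _)


/-! ### The main step -/

theorem chief_step_of [Finite G] {p : ℕ} [Fact p.Prime] {A : Subgroup G} [hAn : A.Normal]
    (hAT : A ≤ pCore p G) (hA2 : ⁅A, A⁆ ≤ centralizer (A : Set G))
    (hTA : ⁅pCore p G, A⁆ ≤ zc A)
    {Q B P : Subgroup G} [hPn : P.Normal] (hAQ : A ≤ Q)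
    (hB2 : B ∈ classTwoSubgroups G) (hQB : Q ≤ normalizer (B : Set G))
    (hcond : ∀ A' ∈ classTwoSubgroups G, A' ≤ Q → B ≤ normalizer (A' : Set G) →
      ⁅B, ⁅A', A'⁆⁆ = ⊥ → ⁅⁅B ⊓ centralizer (B : Set G), A'⁆, A'⁆ = ⊥ →
      ⁅B, A'⁆ ≤ B ⊓ centralizer (B : Set G))
    (hZBT : zc B ≤ pCore p G)
    (hCP : centralizer ((⁅A, A⁆ : Subgroup G) : Set G) ≤ P)
    (hPq : ∀ r ∈ P, ∃ k : ℕ, r ^ (p ^ k) ∈ centralizer ((⁅A, A⁆ : Subgroup G) : Set G))
    (hBP : B ≤ P) {X Y : Subgroup G} [hYn : Y.Normal] (hXY : IsChiefFactor X Y) (hXA : X ≤ A) :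
    ⁅⁅X, B⁆, B⁆ ≤ Y := by
  haveI hXn : X.Normal := hXY.2.1
  have hlt : Y < X := hXY.1
  haveI hTn : (pCore p G).Normal := Cfsg.Agent.Helper33.pCore_normal p
  have hTp : IsPGroup p (pCore p G) := pCore_isPGroup33
  obtain ⟨C, hC⟩ : ∃ C : Subgroup G, C = centralizer ((⁅A, A⁆ : Subgroup G) : Set G) := ⟨_, rfl⟩
  haveI hCn : C.Normal := by rw [hC]; infer_instance
  rw [← hC] at hCP hPq
  obtain ⟨E, hE⟩ : ∃ E : Subgroup G, E = ⁅⁅X, B⁆, B⁆ := ⟨_, rfl⟩
  rw [← hE]
  have hAB : ⁅A, B⁆ ≤ B := le_normalizer_iff_commutator_le_right.mp (hAQ.trans hQB)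
  have hZBc : ⁅B, zc B⁆ = ⊥ := by
    rw [commutator_eq_bot_iff_le_centralizer]
    exact le_centralizer_iff.mp inf_le_right
  have hEX : E ≤ X := by
    rw [hE]
    exact (commutator_mono (commutator_le_left X B) le_rfl).trans (commutator_le_left X B)
  have hEBB : E ≤ ⁅B, B⁆ := by
    rw [hE]
    exact commutator_mono ((commutator_mono hXA le_rfl).trans hAB) le_rfl
  have hZ1 : ⁅⁅A ⊓ zc B, A⁆, B⁆ = ⊥ := by
    apply commutator_commutator_eq_bot_of_rotate
    · rw [eq_bot_iff, ← hZBc]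
      exact commutator_mono hAB inf_le_right
    · have : ⁅B, A ⊓ zc B⁆ = ⊥ := by
        rw [eq_bot_iff, ← hZBc]
        exact commutator_mono le_rfl inf_le_right
      rw [this, commutator_bot_left]
  have hZ1' : ⁅A ⊓ zc B, A⁆ ≤ centralizer (B : Set G) := by
    rw [commutator_eq_bot_iff_le_centralizer] at hZ1
    exact hZ1
  obtain ⟨M, hM⟩ : ∃ M : Subgroup G, M = ⁅A, A⁆ ⊓ centralizer (B : Set G) := ⟨_, rfl⟩
  have hMA : A ≤ centralizer (M : Set G) := by
    rw [le_centralizer_iff, hM]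
    exact inf_le_left.trans hA2
  obtain ⟨D, hD⟩ : ∃ D : Subgroup G, D = conjClosure C E := ⟨_, rfl⟩
  have hED : E ≤ D := by rw [hD]; exact le_conjClosure C E
  have hDX : D ≤ X := by rw [hD]; exact conjClosure_le hEX
  have hDA : D ≤ A := hDX.trans hXA
  have hCD : C ≤ normalizer (D : Set G) := by rw [hD]; exact self_le_normalizer_conjClosure C E
  have hBE : B ≤ normalizer (E : Set G) := by
    rw [hE]
    have hBX : B ≤ normalizer (X : Set G) := by rw [normalizer_eq_top]; exact le_top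
    exact Cfsg.Agent.Helper54.Crit.le_normalizer_commutator
      (Cfsg.Agent.Helper54.Crit.le_normalizer_commutator hBX le_normalizer) le_normalizer
  have hBD : B ≤ normalizer (D : Set G) := by
    rw [hD]
    apply le_normalizer_conjClosure _ hBE
    rw [normalizer_eq_top]; exact le_top
  have hDM : D ≤ cmod M A := by
    rw [hD]
    unfold conjClosure
    rw [closure_le]
    rintro _ ⟨k, hk, e, he, rfl⟩
    have hxA : k * e * k⁻¹ ∈ A := hAn.conj_mem e (hXA (hEX he)) k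
    refine ⟨centralizer_le_normalizer _ (hMA hxA), fun q hq => ?_⟩
    have hq' : k⁻¹ * q * k ∈ A := by
      have := hAn.conj_mem q hq k⁻¹
      simpa using this
    have heZ : e ∈ A ⊓ zc B :=
      ⟨hXA (hEX he), ⟨commutator_le_self B (hEBB he), by
        have h5 : ⁅B, B⁆ ≤ centralizer (B : Set G) := hB2
        exact h5 (hEBB he)⟩⟩
    have hm : ⁅e, k⁻¹ * q * k⁆ ∈ M := by
      rw [hM]
      exact ⟨commutator_mem_commutator heZ.1 hq', hZ1' (commutator_mem_commutator heZ hq')⟩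
    have hkm : k * ⁅e, k⁻¹ * q * k⁆ * k⁻¹ = ⁅e, k⁻¹ * q * k⁆ := by
      rw [hC] at hk
      have h6 : ⁅e, k⁻¹ * q * k⁆ ∈ ⁅A, A⁆ := by rw [hM] at hm; exact hm.1
      have := Subgroup.mem_centralizer_iff.mp hk _ h6
      rw [← this, mul_assoc, mul_inv_cancel, mul_one]
    have e1 : ⁅k * e * k⁻¹, q⁆ = k * ⁅e, k⁻¹ * q * k⁆ * k⁻¹ := by
      simp only [commutatorElement_def]; group
    rw [e1, hkm]
    exact hm
  have hDAM : ⁅D, A⁆ ≤ M := by
    rw [commutator_le]
    intro d hd a ha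
    exact (hDM hd).2 a ha
  have hMB : M ≤ centralizer (B : Set G) := by rw [hM]; exact inf_le_right
  have hD2 : D ∈ classTwoSubgroups G := by
    show ⁅D, D⁆ ≤ centralizer (D : Set G)
    exact ((commutator_mono hDA hDA).trans hA2).trans (centralizer_le (by exact_mod_cast hDA))
  have hD5 : ⁅B, ⁅D, D⁆⁆ = ⊥ := by
    rw [commutator_eq_bot_iff_le_centralizer, le_centralizer_iff]
    exact ((commutator_mono le_rfl hDA).trans hDAM).trans hMB
  have hD6 : ⁅⁅B ⊓ centralizer (B : Set G), D⁆, D⁆ = ⊥ := by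
    have h7 : ⁅B ⊓ centralizer (B : Set G), D⁆ ≤ zc A :=
      (commutator_mono hZBT hDA).trans hTA
    rw [commutator_eq_bot_iff_le_centralizer]
    exact (h7.trans inf_le_right).trans (centralizer_le (by exact_mod_cast hDA))
  have hD7 : ⁅B, D⁆ ≤ B ⊓ centralizer (B : Set G) :=
    hcond D hD2 (hDA.trans hAQ) hBD hD5 hD6
  have hquadD : ⁅⁅D, B⁆, B⁆ = ⊥ := by
    rw [commutator_comm D B, eq_bot_iff, ← hZBc, commutator_comm B (zc B)]
    exact commutator_mono hD7 le_rfl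
  -- pass to the quotient
  obtain ⟨π, hπ⟩ : ∃ π : G →* G ⧸ Y, π = QuotientGroup.mk' Y := ⟨_, rfl⟩
  have hπs : Function.Surjective π := by rw [hπ]; exact QuotientGroup.mk'_surjective Y
  have hker : π.ker = Y := by rw [hπ]; exact QuotientGroup.ker_mk' Y
  haveI hWn : (X.map π).Normal := hXn.map π hπs
  haveI hC'n : (C.map π).Normal := hCn.map π hπs
  haveI hP'n : (P.map π).Normal := hPn.map π hπs
  have hW0 : X.map π ≠ ⊥ := by
    intro h0
    rw [Subgroup.map_eq_bot_iff, hker] at h0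
    exact not_le_of_gt hlt h0
  have hWmin : ∀ N : Subgroup (G ⧸ Y), N.Normal → N ≤ X.map π → N = ⊥ ∨ N = X.map π := by
    intro N hN hNX
    rw [hπ] at hNX ⊢
    exact chief_map_minimal hXY N hN hNX
  have hXXY : ⁅X, X⁆ ≤ Y :=
    (commutator_mono le_rfl (hXA.trans hAT)).trans
      (Cfsg.Agent.Helper54.Crit.chief_central hTp.isNilpotent hXY)
  have hWab : ∀ x ∈ X.map π, ∀ y ∈ X.map π, x * y = y * x := by
    rintro _ ⟨a, ha, rfl⟩ _ ⟨b, hb, rfl⟩
    have h8 : ⁅a, b⁆ ∈ π.ker := by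
      rw [hker]; exact hXXY (commutator_mem_commutator ha hb)
    rw [MonoidHom.mem_ker, map_commutatorElement, commutatorElement_eq_one_iff_mul_comm] at h8
    exact h8
  have hq' : ∀ x ∈ P.map π, ∃ k : ℕ, x ^ (p ^ k) ∈ C.map π := by
    rintro _ ⟨r, hr, rfl⟩
    obtain ⟨k, hk⟩ := hPq r hr
    exact ⟨k, ⟨r ^ (p ^ k), hk, map_pow π r _⟩⟩
  have hEmap : E.map π = ⁅⁅X.map π, B.map π⁆, B.map π⁆ := by
    rw [hE, Subgroup.map_commutator, Subgroup.map_commutator]
  have hkill := quad_kill_free (p := p) hW0 hWmin hWab (Subgroup.map_mono hCP) hq'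
    (Subgroup.map_mono hBP) (Subgroup.map_mono hDX)
    ((Subgroup.map_mono hCD).trans (Subgroup.le_normalizer_map π))
    ((Subgroup.map_mono hBD).trans (Subgroup.le_normalizer_map π))
    (by rw [← Subgroup.map_commutator, ← Subgroup.map_commutator, hquadD, Subgroup.map_bot])
    (by rw [← hEmap]; exact Subgroup.map_mono hED)
  rw [← hEmap, Subgroup.map_eq_bot_iff, hker] at hkill
  exact hkill

theorem lower_member_le_pCore_of [Finite G] {p : ℕ} [Fact p.Prime] {S A : Subgroup G}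
    [hAn : A.Normal]
    (hAT : A ≤ pCore p G) (hA2 : ⁅A, A⁆ ≤ centralizer (A : Set G))
    (hTA : ⁅pCore p G, A⁆ ≤ zc A) (hCA : centralizer (A : Set G) ≤ pCore p G)
    (hq : ChiefHyp S A)
    {Q B : Subgroup G} (hBS : B ≤ S) (hAQ : A ≤ Q) (hB : B ∈ kLowerStarFamily Q) :
    B ≤ pCore p G := by
  obtain ⟨h3, h2, hAB, -⟩ := cubic_of_mem_lower hAQ hB
  obtain ⟨hB2, hQB, hcond⟩ := hB
  haveI hZn : (zc A).Normal := zc_normal A
  have hTp : IsPGroup p (pCore p G) := pCore_isPGroup33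
  have hZBc : ⁅B, zc B⁆ = ⊥ := by
    rw [commutator_eq_bot_iff_le_centralizer]
    exact le_centralizer_iff.mp inf_le_right
  have hZBT : zc B ≤ pCore p G := by
    intro g hg
    have hgZ : zpowers g ≤ zc B := zpowers_le.mpr hg
    have hq' : ⁅⁅A, zpowers g⁆, zpowers g⁆ = ⊥ := by
      rw [eq_bot_iff, ← hZBc]
      exact commutator_mono ((commutator_mono le_rfl (hgZ.trans inf_le_left)).trans hAB) hgZ
    apply mem_pCore_of_biquadratic_of hAT hCA hq (hBS hg.1) (g := g)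
    · rw [hq']; exact bot_le
    · rw [eq_bot_iff, ← hq']
      exact commutator_mono (commutator_mono inf_le_left le_rfl) le_rfl
  -- admissibility of the elements of `B`
  have hadm : ∀ b ∈ B, ⁅⁅⁅A, zpowers b⁆, zpowers b⁆, zpowers b⁆ ≤ zc A ∧
      ⁅⁅zc A, zpowers b⁆, zpowers b⁆ = ⊥ := by
    intro b hb
    have hbB : zpowers b ≤ B := zpowers_le.mpr hb
    constructor
    · refine le_trans ?_ (bot_le : (⊥ : Subgroup G) ≤ _)
      rw [← h3]
      exact commutator_mono (commutator_mono (commutator_mono le_rfl hbB) hbB) hbB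
    · rw [eq_bot_iff, ← h2]
      exact commutator_mono (commutator_mono le_rfl hbB) hbB
  -- the radical `P`
  haveI hA'n : (⁅A, A⁆ : Subgroup G).Normal := inferInstance
  have hA'T : (⁅A, A⁆ : Subgroup G) ≤ pCore p G := (commutator_le_left A A).trans hAT
  have hAAZ : ⁅A, A⁆ ≤ zc A := le_inf (commutator_le_left A A) hA2
  haveI hPn : (chiefStab (⁅A, A⁆ : Subgroup G)).Normal := chiefStab_normal _
  have hBP : B ≤ chiefStab (⁅A, A⁆ : Subgroup G) := by
    intro b hb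
    have hbB : zpowers b ≤ B := zpowers_le.mpr hb
    apply mem_chiefStab_of_quadratic hq (hBS hb) (hadm b hb).1 (hadm b hb).2
      (commutator_le_left A A)
    intro X Y _ hXA
    refine le_trans ?_ (bot_le : (⊥ : Subgroup G) ≤ _)
    rw [← h2]
    exact commutator_mono (commutator_mono (hXA.trans hAAZ) hbB) hbB
  -- `B` acts trivially on the chief factors below `A`
  refine le_trans ?_ (chiefStab_le_pCore hAT hCA)
  intro b hb
  have hbB : zpowers b ≤ B := zpowers_le.mpr hb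
  apply mem_chiefStab_of_quadratic hq (hBS hb) (hadm b hb).1 (hadm b hb).2 le_rfl
  intro X Y hXY hXA
  haveI hYn : Y.Normal := hXY.2.2.1
  have h5 : ⁅⁅X, B⁆, B⁆ ≤ Y :=
    chief_step_of hAT hA2 hTA hAQ hB2 hQB hcond hZBT (centralizer_le_chiefStab _)
      (chiefStab_pow_mem_centralizer hA'T) hBP hXY hXA
  exact (commutator_mono (commutator_mono le_rfl hbB) hbB).trans h5

/-- **Glauberman**, chief-factor form. -/
theorem kInf_normal_of_chief [Finite G] {p : ℕ} [Fact p.Prime] (S : Sylow p G) {A : Subgroup G}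
    [hAn : A.Normal] (hAT : A ≤ pCore p G) (hA2 : ⁅A, A⁆ ≤ centralizer (A : Set G))
    (hTA : ⁅pCore p G, A⁆ ≤ zc A) (hCA : centralizer (A : Set G) ≤ pCore p G)
    (hq : ChiefHyp (S : Subgroup G) A) :
    (inducedFunctor kInfLower (S : Subgroup G)).Normal ∧
      (inducedFunctor kInfUpper (S : Subgroup G)).Normal := by
  have hTS : pCore p G ≤ (S : Subgroup G) := Cfsg.Agent.Helper54.pCore_le_sylow S
  haveI hTn : (pCore p G).Normal := Cfsg.Agent.Helper33.pCore_normal p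
  have hAS : A ≤ (S : Subgroup G) := hAT.trans hTS
  have hk : ∀ n : ℕ, kSeqEven (S : Subgroup G) n ≤ (pCore p G).subgroupOf (S : Subgroup G) ∧
      kSeqOdd (S : Subgroup G) (n + 1) ≤ (pCore p G).subgroupOf (S : Subgroup G) := by
    apply kSeq_le_of hTS hAT hA2 hTA
    · intro g hg h1 h2
      exact mem_pCore_of_biquadratic_of hAT hCA hq hg h1 h2
    · intro Q B hAQ hB
      have hB' : B.map (S : Subgroup G).subtype ∈
          kLowerStarFamily (Q.map (S : Subgroup G).subtype) :=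
        (Cfsg.Agent.Helper33.map_mem_lower_iff (S : Subgroup G).subtype
          (S : Subgroup G).subtype_injective B Q).mpr hB
      have hAQ' : A ≤ Q.map (S : Subgroup G).subtype := by
        rw [← map_subgroupOf_eq hAS]
        exact Subgroup.map_mono hAQ
      have h1 := lower_member_le_pCore_of hAT hA2 hTA hCA hq
        (Subgroup.map_subtype_le B) hAQ' hB'
      intro b hb
      rw [mem_subgroupOf]
      exact h1 ⟨b, hb, rfl⟩
  have h1 := inducedFunctor_kInf_eq_of hTS hk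
  have h2 := inducedFunctor_kInf_normal (pCore p G)
  rw [h1.1, h1.2]
  exact h2

/-- contrapositive: a quadratic, nontrivial action on a chief factor below `A` -/
theorem exists_chief_quadratic [Finite G] {p : ℕ} [Fact p.Prime] (S : Sylow p G)
    {A : Subgroup G} [hAn : A.Normal] (hAT : A ≤ pCore p G)
    (hA2 : ⁅A, A⁆ ≤ centralizer (A : Set G))
    (hTA : ⁅pCore p G, A⁆ ≤ zc A) (hCA : centralizer (A : Set G) ≤ pCore p G)
    (hK : ¬ (inducedFunctor kInfLower (S : Subgroup G)).Normal ∨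
      ¬ (inducedFunctor kInfUpper (S : Subgroup G)).Normal) :
    ∃ g : G, g ∈ (S : Subgroup G) ∧ g ∉ pCore p G ∧
      ⁅⁅⁅A, zpowers g⁆, zpowers g⁆, zpowers g⁆ ≤ zc A ∧
      ⁅⁅zc A, zpowers g⁆, zpowers g⁆ = ⊥ ∧
      ∃ X Y : Subgroup G, IsChiefFactor X Y ∧ X ≤ A ∧ ⁅⁅X, zpowers g⁆, zpowers g⁆ ≤ Y ∧
        ¬ ⁅X, zpowers g⁆ ≤ Y := by
  by_contra hno
  have hq : ChiefHyp (S : Subgroup G) A := by
    intro g hg ha hb X Y hXY hXA hquad
    by_contra hnt
    apply hno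
    refine ⟨g, hg, ?_, ha, hb, X, Y, hXY, hXA, hquad, hnt⟩
    intro hgT
    apply hnt
    haveI hTn : (pCore p G).Normal := Cfsg.Agent.Helper33.pCore_normal p
    exact (commutator_mono le_rfl (zpowers_le.mpr hgT)).trans
      (Cfsg.Agent.Helper54.Crit.chief_central
        (pCore_isPGroup33 (p := p) (G := G)).isNilpotent hXY)
  have := kInf_normal_of_chief S hAT hA2 hTA hCA hq
  rcases hK with h | h
  · exact h this.1
  · exact h this.2

end Cfsg.Agent.Helper33.KG
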