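import Mathlib
import Cfsg.Prelude.Def_LocalEven
import Cfsg.Prelude.Def_ConjugacyFunctors
import Cfsg.Agent.Lib.Helper33.KInfB
import Cfsg.Agent.Lib.Helper54.KInfCrit
import Cfsg.Agent.Lib.Helper46.QdConv4

/-!
# The K-infinity subgroups do not control strong fusion in `Qd(p)`
-/

set_option autoImplicit false

namespace Cfsg.Agent.Helper33.KQd

open Cfsg Cfsg.Agent.Helper46

section transport

universe u v

variable {X : Type u} {Y : Type v} [Group X] [Group Y]

/-- universe-heterogeneous form of `kInf_map_eq` -/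
theorem kInf_map_eq_het (f : X →* Y) (hf : Function.Injective f)
    (hQ : ∀ n : ℕ, kSeqEven Y n ≤ f.range ∧ kSeqOdd Y (n + 1) ≤ f.range) :
    (kInfLower X).map f = kInfLower Y ∧ (kInfUpper X).map f = kInfUpper Y := by
  constructor
  · unfold kInfLower
    rw [Subgroup.map_iSup]
    apply le_antisymm
    · apply iSup_le
      intro n
      exact (kSeqEven_interleave f hf hQ n).2.trans (le_iSup (kSeqEven Y) (n + 1))
    · apply iSup_le
      intro n
      exact (kSeqEven_interleave f hf hQ n).1.trans (le_iSup (fun n => (kSeqEven X n).map f) n)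
  · unfold kInfUpper
    rw [Subgroup.map_iInf f hf]
    apply le_antisymm
    · apply le_iInf
      intro n
      exact (iInf_le (fun n => (kSeqOdd X n).map f) n).trans (kSeq_interleave f hf hQ n).2
    · apply le_iInf
      intro n
      exact (iInf_le (kSeqOdd Y) (n + 1)).trans (kSeq_interleave f hf hQ n).1

theorem inducedFunctor_kInf_map (e : X ≃* Y) (P : Subgroup X) :
    inducedFunctor kInfLower (P.map e.toMonoidHom) =
        (inducedFunctor kInfLower P).map e.toMonoidHom ∧
      inducedFunctor kInfUpper (P.map e.toMonoidHom) =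
        (inducedFunctor kInfUpper P).map e.toMonoidHom := by
  obtain ⟨f, hf⟩ : ∃ f : ↥P ≃* ↥(P.map e.toMonoidHom),
      f = P.equivMapOfInjective e.toMonoidHom e.injective := ⟨_, rfl⟩
  have hr : ∀ n : ℕ, kSeqEven ↥(P.map e.toMonoidHom) n ≤ f.toMonoidHom.range ∧
      kSeqOdd ↥(P.map e.toMonoidHom) (n + 1) ≤ f.toMonoidHom.range := by
    intro n
    rw [MonoidHom.range_eq_top.mpr f.surjective]
    exact ⟨le_top, le_top⟩
  have key := kInf_map_eq_het f.toMonoidHom f.injective hr
  have hc : (P.map e.toMonoidHom).subtype.comp f.toMonoidHom = e.toMonoidHom.comp P.subtype := by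
    ext x
    rw [hf]
    rfl
  constructor
  · unfold inducedFunctor
    rw [← key.1, Subgroup.map_map, Subgroup.map_map, hc]
  · unfold inducedFunctor
    rw [← key.2, Subgroup.map_map, Subgroup.map_map, hc]

variable {p : ℕ} [Fact p.Prime]

theorem controls_kInfLower_of_mulEquiv [Finite X] (e : X ≃* Y)
    (h : ∀ T : Sylow p X, ControlsStrongFusion p (inducedFunctor kInfLower (T : Subgroup X))) :
    ∀ T : Sylow p Y, ControlsStrongFusion p (inducedFunctor kInfLower (T : Subgroup Y)) := by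
  intro T
  have hrange : (T : Subgroup Y) ≤ e.toMonoidHom.range := by
    intro y _
    exact ⟨e.symm y, by simp⟩
  have hinj : Function.Injective e.toMonoidHom := e.injective
  obtain ⟨T₀, hT₀⟩ : ∃ T₀ : Sylow p X, T₀ = T.comapOfInjective e.toMonoidHom hinj hrange :=
    ⟨_, rfl⟩
  have hmap : (T₀ : Subgroup X).map e.toMonoidHom = (T : Subgroup Y) := by
    rw [hT₀, Sylow.coe_comapOfInjective]
    exact Subgroup.map_comap_eq_self_of_surjective e.surjective _
  have h1 := controlsStrongFusion_map e _ (h T₀)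
  rw [← (inducedFunctor_kInf_map e _).1, hmap] at h1
  exact h1

end transport

section nocontrol

variable {F : Type*} [Field F] [Fintype F] {p : ℕ} [Fact p.Prime] [CharP F p]

/-- In `Qd(F)`, no nontrivial characteristic subgroup of the standard Sylow `p`-subgroup controls
strong fusion. -/
theorem not_controls_char_qdOver :
    ∃ T : Sylow p ↥(Cfsg.qdOver F), (T : Subgroup ↥(Cfsg.qdOver F)) ≠ ⊥ ∧
      ∀ T₀ : Subgroup ↥(T : Subgroup ↥(Cfsg.qdOver F)),
      T₀ ≠ ⊥ → T₀.Characteristic →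
      ¬ ControlsStrongFusion p (T₀.map (T : Subgroup ↥(Cfsg.qdOver F)).subtype) := by
  obtain ⟨T, hT⟩ := exists_sylow_coe_eq_qdS (F := F) (p := p)
  refine ⟨T, ?_, ?_⟩
  · rw [hT]; exact qdS_ne_bot
  rw [hT]
  intro T₀ hne hT₀c
  have hN := normalizer_char_qdS T₀ hne hT₀c
  rintro ⟨T', -, hctl⟩
  have hW : (qdπ F).ker ≤ (T' : Subgroup ↥(Cfsg.qdOver F)) := by
    rw [← pCore_qdOver (p := p)]
    exact pCore_le_sylow T'
  have ha : mkQd 1 ![(0 : F), 1] ∈ (qdπ F).ker := mem_qdKer_iff.mpr ⟨_, rfl⟩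
  obtain ⟨-, h⟩ := hctl {mkQd 1 ![(0 : F), 1]} (by
    intro x hx
    rw [Set.mem_singleton_iff] at hx
    rw [hx]
    exact hW ha)
  obtain ⟨n, hn, hna⟩ := h (mkQd (weylW F) 0) (by
    rintro _ ⟨x, hx, rfl⟩
    rw [Set.mem_singleton_iff] at hx
    rw [hx]
    apply hW
    exact (inferInstance : ((qdπ F).ker).Normal).conj_mem _ ha _)
  have hna' := hna _ (Set.mem_singleton _)
  rw [hN] at hn
  obtain ⟨B, t, rfl⟩ := exists_mkQd n
  have hB10 : (B : Matrix (Fin 2) (Fin 2) F) 1 0 = 0 := by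
    have : qdπ F (mkQd B t) ∈ borelB F := hn
    rwa [qdπ_mkQd] at this
  rw [conj_mkQd_one, conj_mkQd_one] at hna'
  obtain ⟨-, h2⟩ := mkQd_inj hna'
  have h3 := congrFun h2 1
  rw [smul_apply_one, smul_apply_one] at h3
  have hw : ((weylW F : Matrix.SpecialLinearGroup (Fin 2) F) : Matrix (Fin 2) (Fin 2) F) =
      !![0, -1; 1, 0] := rfl
  rw [hw] at h3
  simp at h3
  have hdet := sl2_det B
  rw [← h3, hB10] at hdet
  simp at hdet

theorem not_controls_kInfLower_qdOver :
    ∃ T : Sylow p ↥(Cfsg.qdOver F),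
      ¬ ControlsStrongFusion p (inducedFunctor kInfLower (T : Subgroup ↥(Cfsg.qdOver F))) := by
  obtain ⟨T, hT0, hT⟩ := not_controls_char_qdOver (F := F) (p := p)
  refine ⟨T, hT _ ?_ (Cfsg.Agent.Helper54.KInf.kInf_characteristic _).1⟩
  have hfin : Finite ↥(T : Subgroup ↥(Cfsg.qdOver F)) := inferInstance
  have hnt : Nontrivial ↥(T : Subgroup ↥(Cfsg.qdOver F)) :=
    (Subgroup.nontrivial_iff_ne_bot _).mpr hT0
  exact (Cfsg.Agent.Helper33.isCharPFunctor_kInfLower (p := p)).1 _ T.isPGroup' hnt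

end nocontrol

end Cfsg.Agent.Helper33.KQd
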