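import Mathlib
import Cfsg.Prelude.Def_ConjugacyFunctors
import Cfsg.Agent.Lib.Helper33.KInf
import Cfsg.Agent.Lib.Helper33.Conj

set_option autoImplicit false
open Cfsg Pointwise
open scoped commutatorElement

namespace Cfsg.Agent.Helper33

variable {P : Type*} [Group P]

/-- elements centralizing `Z` whose commutators with `K` lie in `Z` -/
def comStab (Z K : Subgroup P) : Subgroup P where
  carrier := {g | g ∈ Subgroup.centralizer (Z : Set P) ∧ ∀ k ∈ K, ⁅g, k⁆ ∈ Z}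
  one_mem' := ⟨one_mem _, fun k _ => by
    have : ⁅(1 : P), k⁆ = 1 := by rw [commutatorElement_def]; group
    rw [this]; exact one_mem _⟩
  mul_mem' := by
    rintro a b ⟨ha1, ha2⟩ ⟨hb1, hb2⟩
    refine ⟨mul_mem ha1 hb1, fun k hk => ?_⟩
    have e : ⁅a * b, k⁆ = a * ⁅b, k⁆ * a⁻¹ * ⁅a, k⁆ := by
      simp only [commutatorElement_def]; group
    have hc : a * ⁅b, k⁆ * a⁻¹ = ⁅b, k⁆ := by
      have := ha1 _ (hb2 k hk)
      rw [← this]; group
    rw [e, hc]
    exact mul_mem (hb2 k hk) (ha2 k hk)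
  inv_mem' := by
    rintro a ⟨ha1, ha2⟩
    refine ⟨inv_mem ha1, fun k hk => ?_⟩
    have e : ⁅a⁻¹, k⁆ = a⁻¹ * ⁅a, k⁆⁻¹ * a := by
      simp only [commutatorElement_def]; group
    have hc : a⁻¹ * ⁅a, k⁆⁻¹ * a = ⁅a, k⁆⁻¹ := by
      have := ha1 _ (inv_mem (ha2 k hk))
      rw [mul_assoc, this]; group
    rw [e, hc]
    exact inv_mem (ha2 k hk)

theorem mem_comStab {Z K : Subgroup P} {g : P} :
    g ∈ comStab Z K ↔ g ∈ Subgroup.centralizer (Z : Set P) ∧ ∀ k ∈ K, ⁅g, k⁆ ∈ Z := Iff.rfl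

theorem commutator_le_of_le_comStab {H Z K : Subgroup P} (h : H ≤ comStab Z K) : ⁅H, K⁆ ≤ Z := by
  rw [Subgroup.commutator_le]
  intro g hg k hk
  exact (h hg).2 k hk

theorem le_comStab {H Z K : Subgroup P} (h1 : H ≤ Subgroup.centralizer (Z : Set P))
    (h2 : ⁅H, K⁆ ≤ Z) : H ≤ comStab Z K := by
  intro g hg
  exact ⟨h1 hg, fun k hk => h2 (Subgroup.commutator_mem_commutator hg hk)⟩

section fin

variable [Finite P] {p : ℕ} [Fact p.Prime]

/-- In a finite `p`-group, a subgroup `D` normalized by `Γ ≥ D` has, beyond any `Z` not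
containing it, a subgroup central modulo `Z`. -/
theorem exists_central_mod (hP : IsPGroup p P) (D Z Γ : Subgroup P) (hDZ : ¬ D ≤ Z)
    (hDΓ : D ≤ Γ) (hΓD : Γ ≤ Subgroup.normalizer (D : Set P)) :
    ∃ X : Subgroup P, X ≤ D ∧ ¬ X ≤ Z ∧ ⁅X, Γ⁆ ≤ Z := by
  have hDn : (D.subgroupOf Γ).Normal := (Subgroup.normal_subgroupOf_iff_le_normalizer hDΓ).mpr hΓD
  have hnil : Group.IsNilpotent Γ := (hP.to_subgroup Γ).isNilpotent
  obtain ⟨N, hN⟩ := Group.IsNilpotent.nilpotent' (G := Γ)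
  have hex : ∃ n, ¬ (D.subgroupOf Γ ⊓ Subgroup.upperCentralSeries Γ n ≤ Z.subgroupOf Γ) := by
    refine ⟨N, fun hle => hDZ ?_⟩
    intro d hd
    have : (⟨d, hDΓ hd⟩ : Γ) ∈ D.subgroupOf Γ ⊓ Subgroup.upperCentralSeries Γ N := by
      rw [hN]
      exact Subgroup.mem_inf.mpr ⟨Subgroup.mem_subgroupOf.mpr hd, Subgroup.mem_top _⟩
    exact Subgroup.mem_subgroupOf.mp (hle this)
  classical
  have hmin : ∀ m, m < Nat.find hex →
      ¬ ¬ (D.subgroupOf Γ ⊓ Subgroup.upperCentralSeries Γ m ≤ Z.subgroupOf Γ) :=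
    fun m hm => Nat.find_min hex hm
  have hspec := Nat.find_spec hex
  set n₀ := Nat.find hex with hn₀
  cases hk : n₀ with
  | zero =>
    rw [hk] at hspec
    exact absurd (by rw [Subgroup.upperCentralSeries_zero, inf_bot_eq]; exact bot_le) hspec
  | succ k =>
    rw [hk] at hspec
    have hkle : D.subgroupOf Γ ⊓ Subgroup.upperCentralSeries Γ k ≤ Z.subgroupOf Γ := by
      by_contra hcon
      exact hmin k (by omega) hcon
    refine ⟨(D.subgroupOf Γ ⊓ Subgroup.upperCentralSeries Γ (k + 1)).map Γ.subtype, ?_, ?_, ?_⟩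
    · rintro _ ⟨x, hx, rfl⟩
      exact Subgroup.mem_subgroupOf.mp (Subgroup.mem_inf.mp hx).1
    · intro hle
      apply hspec
      intro x hx
      exact Subgroup.mem_subgroupOf.mpr (hle ⟨x, hx, rfl⟩)
    · rw [Subgroup.commutator_le]
      rintro _ ⟨x, hx, rfl⟩ γ hγ
      have h1 : ⁅x, (⟨γ, hγ⟩ : Γ)⁆ ∈ Subgroup.upperCentralSeries Γ k :=
        Subgroup.mem_upperCentralSeries_succ_iff.mp (Subgroup.mem_inf.mp hx).2 ⟨γ, hγ⟩
      have h2 : ⁅x, (⟨γ, hγ⟩ : Γ)⁆ ∈ D.subgroupOf Γ := by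
        have hxD := (Subgroup.mem_inf.mp hx).1
        rw [commutatorElement_def]
        have := hDn.conj_mem _ (inv_mem hxD) ⟨γ, hγ⟩
        have e : x * ⟨γ, hγ⟩ * x⁻¹ * (⟨γ, hγ⟩ : Γ)⁻¹ = x * (⟨γ, hγ⟩ * x⁻¹ * (⟨γ, hγ⟩ : Γ)⁻¹) := by
          group
        rw [e]
        exact mul_mem hxD this
      have h3 := hkle (Subgroup.mem_inf.mpr ⟨h2, h1⟩)
      have h4 := Subgroup.mem_subgroupOf.mp h3
      simpa [commutatorElement_def] using h4

end fin

theorem normalizer_le_normalizer_centralizer (B : Subgroup P) :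
    Subgroup.normalizer (B : Set P) ≤
      Subgroup.normalizer ((Subgroup.centralizer (B : Set P) : Subgroup P) : Set P) := by
  intro n hn
  rw [mem_normalizer_iff_smul_eq, ← centralizer_conj_smul, smul_eq_of_mem_normalizer hn]

theorem le_normalizer_of_commutator_le {B Q : Subgroup P} (h : ⁅B, Q⁆ ≤ B) :
    Q ≤ Subgroup.normalizer (B : Set P) := by
  intro q hq
  rw [Subgroup.mem_normalizer_iff]
  intro b
  constructor
  · intro hb
    have h1 : ⁅b⁻¹, q⁆ ∈ B := h (Subgroup.commutator_mem_commutator (inv_mem hb) hq)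
    have e : q * b * q⁻¹ = b * ⁅b⁻¹, q⁆ := by rw [commutatorElement_def]; group
    rw [e]; exact mul_mem hb h1
  · intro hb
    have h1 : ⁅q * b * q⁻¹, q⁻¹⁆ ∈ B := h (Subgroup.commutator_mem_commutator hb (inv_mem hq))
    have e : b = ⁅q * b * q⁻¹, q⁻¹⁆⁻¹ * (q * b * q⁻¹) := by rw [commutatorElement_def]; group
    rw [e]; exact mul_mem (inv_mem h1) hb

section fin2

variable [Finite P] {p : ℕ} [Fact p.Prime]

theorem exists_enlarge (hP : IsPGroup p P) (B : Subgroup P)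
    (hB : ¬ Subgroup.centralizer (B : Set P) ≤ B) :
    ∃ X : Subgroup P, X ≤ Subgroup.centralizer (B : Set P) ∧ ¬ X ≤ B ∧
      ⁅X, Subgroup.normalizer (B : Set P)⁆ ≤ B ⊓ Subgroup.centralizer (B : Set P) := by
  obtain ⟨X, h1, h2, h3⟩ := exists_central_mod hP (Subgroup.centralizer (B : Set P))
    (B ⊓ Subgroup.centralizer (B : Set P)) (Subgroup.normalizer (B : Set P))
    (fun h => hB (h.trans inf_le_left)) (Subgroup.centralizer_le_normalizer _)
    (normalizer_le_normalizer_centralizer B)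
  exact ⟨X, h1, fun h => h2 (le_inf h h1), h3⟩

end fin2

theorem enlarge_props {B X : Subgroup P} (hB2 : B ∈ classTwoSubgroups P)
    (hX1 : X ≤ Subgroup.centralizer (B : Set P))
    (hX3 : ⁅X, Subgroup.normalizer (B : Set P)⁆ ≤ B ⊓ Subgroup.centralizer (B : Set P)) :
    (B ⊓ Subgroup.centralizer (B : Set P) ≤
      (B ⊔ X) ⊓ Subgroup.centralizer ((B ⊔ X : Subgroup P) : Set P)) ∧
    (∀ K : Subgroup P, K ≤ Subgroup.normalizer (B : Set P) →
      ⁅B, K⁆ ≤ B ⊓ Subgroup.centralizer (B : Set P) →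
      ⁅B ⊔ X, K⁆ ≤ B ⊓ Subgroup.centralizer (B : Set P)) ∧
    B ⊔ X ∈ classTwoSubgroups P := by
  have hZB : B ≤ Subgroup.centralizer ((B ⊓ Subgroup.centralizer (B : Set P) : Subgroup P) : Set P) :=
    Subgroup.le_centralizer_iff.mp inf_le_right
  have hZX : X ≤ Subgroup.centralizer ((B ⊓ Subgroup.centralizer (B : Set P) : Subgroup P) : Set P) :=
    hX1.trans (Subgroup.centralizer_le (by
      intro z hz
      exact (Subgroup.mem_inf.mp hz).1))
  have hsupZ := sup_le hZB hZX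
  have ha : B ⊓ Subgroup.centralizer (B : Set P) ≤
      (B ⊔ X) ⊓ Subgroup.centralizer ((B ⊔ X : Subgroup P) : Set P) :=
    le_inf (inf_le_left.trans le_sup_left) (Subgroup.le_centralizer_iff.mp hsupZ)
  have hb : ∀ K : Subgroup P, K ≤ Subgroup.normalizer (B : Set P) →
      ⁅B, K⁆ ≤ B ⊓ Subgroup.centralizer (B : Set P) →
      ⁅B ⊔ X, K⁆ ≤ B ⊓ Subgroup.centralizer (B : Set P) := by
    intro K hK hBK
    apply commutator_le_of_le_comStab
    exact sup_le (le_comStab hZB hBK)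
      (le_comStab hZX ((Subgroup.commutator_mono le_rfl hK).trans hX3))
  refine ⟨ha, hb, ?_⟩
  have hBB : ⁅B, B⁆ ≤ B ⊓ Subgroup.centralizer (B : Set P) := by
    refine le_inf ?_ hB2
    rw [Subgroup.commutator_le]
    intro a ha b hb
    rw [commutatorElement_def]
    exact mul_mem (mul_mem (mul_mem ha hb) (inv_mem ha)) (inv_mem hb)
  have hKN : B ⊔ X ≤ Subgroup.normalizer (B : Set P) :=
    sup_le Subgroup.le_normalizer (hX1.trans (Subgroup.centralizer_le_normalizer _))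
  have h1 : ⁅B ⊔ X, B⁆ ≤ B ⊓ Subgroup.centralizer (B : Set P) :=
    hb B Subgroup.le_normalizer hBB
  rw [Subgroup.commutator_comm] at h1
  exact (hb (B ⊔ X) hKN h1).trans (ha.trans inf_le_right)

theorem enlarge_mem_upper {B X Q : Subgroup P} (hB : B ∈ kUpperStarFamily Q)
    (hX1 : X ≤ Subgroup.centralizer (B : Set P))
    (hX3 : ⁅X, Subgroup.normalizer (B : Set P)⁆ ≤ B ⊓ Subgroup.centralizer (B : Set P)) :
    B ⊔ X ∈ kUpperStarFamily Q := by
  obtain ⟨ha, hb, hc⟩ := enlarge_props hB.1 hX1 hX3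
  exact ⟨hc, (hb Q (le_normalizer_of_commutator_le (hB.2.trans inf_le_left)) hB.2).trans ha⟩

theorem enlarge_mem_lower [Finite P] {B X Q : Subgroup P} (hB : B ∈ kLowerStarFamily Q)
    (hX1 : X ≤ Subgroup.centralizer (B : Set P))
    (hX3 : ⁅X, Subgroup.normalizer (B : Set P)⁆ ≤ B ⊓ Subgroup.centralizer (B : Set P)) :
    B ⊔ X ∈ kLowerStarFamily Q := by
  obtain ⟨ha, hb, hc⟩ := enlarge_props hB.1 hX1 hX3
  refine ⟨hc, ?_, ?_⟩
  · intro q hq
    have hqB := hB.2.1 hq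
    rw [mem_normalizer_iff_smul_eq]
    apply Subgroup.eq_of_le_of_card_ge _ (by rw [card_conj_smul])
    rw [Subgroup.smul_sup, smul_eq_of_mem_normalizer hqB]
    refine sup_le le_sup_left ?_
    rw [conj_smul_le_iff]
    intro y hy
    have h1 : ⁅y, q⁆ ∈ B ⊓ Subgroup.centralizer (B : Set P) :=
      hX3 (Subgroup.commutator_mem_commutator hy hqB)
    have e : q * y * q⁻¹ = ⁅y, q⁆⁻¹ * y := by rw [commutatorElement_def]; group
    rw [e]
    exact mul_mem ((le_sup_left : B ≤ B ⊔ X) (inv_mem (Subgroup.mem_inf.mp h1).1))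
      ((le_sup_right : X ≤ B ⊔ X) hy)
  · intro A hA hAQ hN h1 h2
    have hBA : ⁅B, A⁆ ≤ B ⊓ Subgroup.centralizer (B : Set P) := by
      apply hB.2.2 A hA hAQ (le_sup_left.trans hN)
      · rw [eq_bot_iff, ← h1]
        exact Subgroup.commutator_mono le_sup_left le_rfl
      · rw [eq_bot_iff, ← h2]
        exact Subgroup.commutator_mono (Subgroup.commutator_mono ha le_rfl) le_rfl
    exact (hb A (hAQ.trans hB.2.1) hBA).trans ha

/-- A maximal member of one of the families building the K-sequence contains its centralizer. -/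
theorem centralizer_le_of_maximal [Finite P] {p : ℕ} [Fact p.Prime] (hP : IsPGroup p P)
    (B : Subgroup P) (𝒦 : Set (Subgroup P))
    (h𝒦 : 𝒦 = classTwoSubgroups P ∨ (∃ Q, 𝒦 = kLowerStarFamily Q) ∨ ∃ Q, 𝒦 = kUpperStarFamily Q)
    (hB : B ∈ 𝒦) (hmax : ∀ C ∈ 𝒦, B ≤ C → C = B) : Subgroup.centralizer (B : Set P) ≤ B := by
  by_contra hcon
  obtain ⟨X, hX1, hX2, hX3⟩ := exists_enlarge hP B hcon
  have hmem : B ⊔ X ∈ 𝒦 := by
    rcases h𝒦 with rfl | ⟨Q, rfl⟩ | ⟨Q, rfl⟩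
    · exact (enlarge_props hB hX1 hX3).2.2
    · exact enlarge_mem_lower hB hX1 hX3
    · exact enlarge_mem_upper hB hX1 hX3
  have := hmax _ hmem le_sup_left
  apply hX2
  rw [← this]
  exact le_sup_right

end Cfsg.Agent.Helper33
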