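import Mathlib

/-!
# N96 server (helper54, S0980, case n_5 = 96): piece P4 `M_card`
-/

set_option autoImplicit false

namespace Cfsg.Agent.Helper33.N96

open Cfsg MulAction

universe u

section Aux

variable {G : Type u} [Group G]

theorem h33_conj_mem_zpowers (g x : G) (h : g * x * g⁻¹ ∈ Subgroup.zpowers x) (y : G)
    (hy : y ∈ Subgroup.zpowers x) : g * y * g⁻¹ ∈ Subgroup.zpowers x := by
  obtain ⟨k, rfl⟩ := Subgroup.mem_zpowers_iff.1 hy
  rw [← conj_zpow]
  exact Subgroup.zpow_mem _ h k

theorem h33_mem_normalizer_zpowers (g x : G) (h1 : g * x * g⁻¹ ∈ Subgroup.zpowers x)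
    (h2 : g⁻¹ * x * g ∈ Subgroup.zpowers x) :
    g ∈ Subgroup.normalizer ((Subgroup.zpowers x : Subgroup G) : Set G) := by
  rw [Subgroup.mem_normalizer_iff]
  intro y
  constructor
  · exact h33_conj_mem_zpowers g x h1 y
  · intro hy
    have h2' : g⁻¹ * x * g⁻¹⁻¹ ∈ Subgroup.zpowers x := by rwa [inv_inv]
    have := h33_conj_mem_zpowers g⁻¹ x h2' _ hy
    rw [inv_inv] at this
    have e : g⁻¹ * (g * y * g⁻¹) * g = y := by group
    rwa [e] at this

/-- an element normalizing `⟨x⟩`, `x` of order 3, centralizes or inverts `x` -/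
theorem h33_conj_cases (g x : G) (hx : orderOf x = 3)
    (hg : g ∈ Subgroup.normalizer ((Subgroup.zpowers x : Subgroup G) : Set G)) :
    g * x * g⁻¹ = x ∨ g * x * g⁻¹ = x⁻¹ := by
  have hmem : g * x * g⁻¹ ∈ Subgroup.zpowers x :=
    (Subgroup.mem_normalizer_iff.1 hg x).1 (Subgroup.mem_zpowers x)
  obtain ⟨k, hk⟩ := Subgroup.mem_zpowers_iff.1 hmem
  rw [← zpow_mod_orderOf, hx] at hk
  have hx3 : x ^ 3 = 1 := by rw [← hx]; exact pow_orderOf_eq_one x
  have h012 : k % ((3 : ℕ) : ℤ) = 0 ∨ k % ((3 : ℕ) : ℤ) = 1 ∨ k % ((3 : ℕ) : ℤ) = 2 := by omega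
  rcases h012 with h | h | h
  · exfalso
    rw [h, zpow_zero] at hk
    have hx1 : x = 1 := by
      have : g * x * g⁻¹ = g * 1 * g⁻¹ := by rw [← hk]; simp
      exact mul_left_cancel (mul_right_cancel this)
    rw [hx1, orderOf_one] at hx
    omega
  · left
    rw [h, zpow_one] at hk
    exact hk.symm
  · right
    rw [h] at hk
    rw [← hk]
    have : x ^ (2 : ℤ) * x = 1 := by
      have : x ^ (2 : ℤ) = x ^ 2 := by norm_cast
      rw [this, ← pow_succ, hx3]
    exact eq_inv_of_mul_eq_one_left this

theorem h33_mem_centralizer_singleton (g x : G) :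
    g ∈ Subgroup.centralizer ({x} : Set G) ↔ g * x * g⁻¹ = x := by
  rw [Subgroup.mem_centralizer_iff]
  constructor
  · intro h
    rw [← h x rfl]
    simp
  · intro h y hy
    rw [Set.mem_singleton_iff] at hy
    subst hy
    exact (mul_inv_eq_iff_eq_mul.1 h).symm

theorem h33_centralizer_le_normalizer (x : G) :
    Subgroup.centralizer ({x} : Set G) ≤
      Subgroup.normalizer ((Subgroup.zpowers x : Subgroup G) : Set G) := by
  intro g hg
  have h1 : g * x * g⁻¹ = x := (h33_mem_centralizer_singleton g x).1 hg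
  have h2 : g⁻¹ * x * g = x := by
    have e : g⁻¹ * (g * x * g⁻¹) * g = x := by group
    rw [h1] at e
    exact e
  apply h33_mem_normalizer_zpowers
  · rw [h1]; exact Subgroup.mem_zpowers x
  · rw [h2]; exact Subgroup.mem_zpowers x

/-- `C(x)` has index 1 or 2 in `N(⟨x⟩)` when `x` has order 3 -/
theorem h33_card_normalizer_cases [Finite G] (x : G) (hx : orderOf x = 3) :
    Nat.card (Subgroup.normalizer ((Subgroup.zpowers x : Subgroup G) : Set G)) =
        Nat.card (Subgroup.centralizer ({x} : Set G)) ∨
    Nat.card (Subgroup.normalizer ((Subgroup.zpowers x : Subgroup G) : Set G)) =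
        2 * Nat.card (Subgroup.centralizer ({x} : Set G)) := by
  set M := Subgroup.normalizer ((Subgroup.zpowers x : Subgroup G) : Set G) with hM
  set C := Subgroup.centralizer ({x} : Set G) with hC
  have hCM : C ≤ M := h33_centralizer_le_normalizer x
  have hcard : Nat.card (C.subgroupOf M) = Nat.card C :=
    Nat.card_congr (Subgroup.subgroupOfEquivOfLe hCM).toEquiv
  have hmul := Subgroup.card_mul_index (C.subgroupOf M)
  rw [hcard] at hmul
  by_cases htop : C.subgroupOf M = ⊤
  · left
    rw [htop, Subgroup.index_top, mul_one] at hmul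
    exact hmul.symm
  · right
    have hidx : (C.subgroupOf M).index = 2 := by
      rw [Subgroup.index_eq_two_iff]
      obtain ⟨a, ha⟩ : ∃ a : ↥M, a ∉ C.subgroupOf M := by
        by_contra hcon
        simp only [not_exists, not_not] at hcon
        exact htop (Subgroup.eq_top_iff' _ |>.2 hcon)
      have hinv : ∀ b : ↥M, b ∉ C.subgroupOf M → (b : G) * x * (b : G)⁻¹ = x⁻¹ := by
        intro b hb
        rcases h33_conj_cases (b : G) x hx b.2 with h | h
        · exfalso
          apply hb
          rw [Subgroup.mem_subgroupOf]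
          exact (h33_mem_centralizer_singleton _ _).2 h
        · exact h
      refine ⟨a, fun b => ?_⟩
      by_cases hb : b ∈ C.subgroupOf M
      · refine Or.inr ⟨hb, fun hba => ha ?_⟩
        have := (C.subgroupOf M).mul_mem ((C.subgroupOf M).inv_mem hb) hba
        rwa [inv_mul_cancel_left] at this
      · refine Or.inl ⟨?_, hb⟩
        rw [Subgroup.mem_subgroupOf]
        apply (h33_mem_centralizer_singleton _ _).2
        have h1 := hinv a ha
        have h2 := hinv b hb
        show ((b : G) * (a : G)) * x * ((b : G) * (a : G))⁻¹ = x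
        calc ((b : G) * (a : G)) * x * ((b : G) * (a : G))⁻¹
            = (b : G) * ((a : G) * x * (a : G)⁻¹) * (b : G)⁻¹ := by group
          _ = (b : G) * x⁻¹ * (b : G)⁻¹ := by rw [h1]
          _ = ((b : G) * x * (b : G)⁻¹)⁻¹ := by group
          _ = x := by rw [h2, inv_inv]
    rw [hidx] at hmul
    omega

end Aux

section Sylow

variable {G : Type u} [Group G] [Finite G] [IsSimpleGroup G]

theorem M_card (hG : Nat.card G = 5760) (R : Sylow 5 G)
    (hN : Nat.card (Subgroup.normalizer ((R : Subgroup G) : Set G)) = 60)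
    (x : G) (hx : orderOf x = 3)
    (hnx : ∀ n ∈ Subgroup.normalizer ((R : Subgroup G) : Set G), n * x * n⁻¹ ∈ Subgroup.zpowers x)
    (m : ℕ) (hm : Nat.card ↥(Subgroup.normalizer ((R : Subgroup G) : Set G) ⊓
      Subgroup.centralizer ({x} : Set G)) = m) (hm' : m = 30 ∨ m = 60)
    (hC : Nat.card (Subgroup.centralizer ({x} : Set G)) = 6 * m)
    (hidx : ∀ H : Subgroup G, H ≠ ⊤ → 10 ≤ H.index) :
    Nat.card (Subgroup.normalizer ((Subgroup.zpowers x : Subgroup G) : Set G)) = 360 ∧
    Subgroup.normalizer ((R : Subgroup G) : Set G) ≤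
      Subgroup.normalizer ((Subgroup.zpowers x : Subgroup G) : Set G) := by
  have hNM : Subgroup.normalizer ((R : Subgroup G) : Set G) ≤
      Subgroup.normalizer ((Subgroup.zpowers x : Subgroup G) : Set G) := by
    intro n hn
    apply h33_mem_normalizer_zpowers
    · exact hnx n hn
    · have := hnx n⁻¹ (Subgroup.inv_mem _ hn)
      rwa [inv_inv] at this
  refine ⟨?_, hNM⟩
  rcases h33_card_normalizer_cases x hx with h1 | h2
  · -- `M = C(x)`
    rw [h1, hC]
    rcases hm' with h30 | h60
    · exfalso
      have hMC : Subgroup.normalizer ((Subgroup.zpowers x : Subgroup G) : Set G) =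
          Subgroup.centralizer ({x} : Set G) := by
        symm
        apply Subgroup.eq_of_le_of_card_ge (h33_centralizer_le_normalizer x)
        rw [h1]
      have hle : Subgroup.normalizer ((R : Subgroup G) : Set G) ≤
          Subgroup.centralizer ({x} : Set G) := hMC ▸ hNM
      have hinf : Subgroup.normalizer ((R : Subgroup G) : Set G) ⊓
          Subgroup.centralizer ({x} : Set G) = Subgroup.normalizer ((R : Subgroup G) : Set G) :=
        inf_eq_left.2 hle
      rw [hinf, hN] at hm
      omega
    · rw [h60]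
  · rw [h2, hC]
    rcases hm' with h30 | h60
    · rw [h30]
    · exfalso
      have hcard : Nat.card (Subgroup.normalizer ((Subgroup.zpowers x : Subgroup G) : Set G)) =
          720 := by rw [h2, hC, h60]
      have hne : Subgroup.normalizer ((Subgroup.zpowers x : Subgroup G) : Set G) ≠ ⊤ := by
        intro htop
        rw [htop, Subgroup.card_top, hG] at hcard
        omega
      have h10 := hidx _ hne
      have hmul := Subgroup.card_mul_index
        (Subgroup.normalizer ((Subgroup.zpowers x : Subgroup G) : Set G))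
      rw [hcard, hG] at hmul
      omega

end Sylow

end Cfsg.Agent.Helper33.N96
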