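import Mathlib
import Cfsg.Prelude.Def_Blocks
import Cfsg.Agent.Lib.Helper55.O2520Defs

/-!
O2520 / S3C sub-split (helper86): piece (K5) `centralizer_le_of_maximal`.
-/

set_option autoImplicit false

namespace Cfsg.Agent.Helper33.O2520

open Cfsg Cfsg.Agent.Helper55.O2520
open scoped Classical

universe u

theorem centralizer_le_of_maximal {G : Type u} [Group G] [Finite G] [IsSimpleGroup G] (N : Subgroup G)
    (hmax : ∀ K : Subgroup G, N < K → K = ⊤) (x : G) (hx : x ≠ 1) (hxT : Subgroup.zpowers x ≠ ⊤)
    (hN : N ≤ Subgroup.normalizer ((Subgroup.zpowers x : Subgroup G) : Set G)) :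
    Subgroup.centralizer ({x} : Set G) ≤ N := by
  have hcK : Subgroup.centralizer ({x} : Set G)
      ≤ Subgroup.normalizer ((Subgroup.zpowers x : Subgroup G) : Set G) := by
    intro g hg
    have hgx : x * g = g * x := Subgroup.mem_centralizer_iff.mp hg x (Set.mem_singleton x)
    have hconj : ∀ k : ℤ, g * x ^ k * g⁻¹ = x ^ k := by
      intro k
      have hc : Commute g x := hgx.symm
      have hck : Commute g (x ^ k) := hc.zpow_right k
      rw [hck.eq, mul_assoc, mul_inv_cancel, mul_one]
    rw [Subgroup.mem_normalizer_iff]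
    intro h
    constructor
    · intro hh
      obtain ⟨k, rfl⟩ := Subgroup.mem_zpowers_iff.mp hh
      change g * x ^ k * g⁻¹ ∈ Subgroup.zpowers x
      rw [hconj k]
      exact Subgroup.zpow_mem_zpowers x k
    · intro hh
      obtain ⟨k, hk⟩ := Subgroup.mem_zpowers_iff.mp hh
      have : h = x ^ k := by
        have h1 : h = g⁻¹ * (g * h * g⁻¹) * g := by group
        rw [h1, ← hk]
        have h2 := hconj k
        calc g⁻¹ * x ^ k * g = g⁻¹ * (g * x ^ k * g⁻¹) * g := by rw [h2]
          _ = x ^ k := by group
      change h ∈ Subgroup.zpowers x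
      rw [this]
      exact Subgroup.zpow_mem_zpowers x k
  rcases eq_or_lt_of_le hN with heq | hlt
  · rw [heq]
    exact hcK
  · exfalso
    have htop := hmax _ hlt
    have hnorm : (Subgroup.zpowers x).Normal := Subgroup.normalizer_eq_top_iff.mp htop
    rcases hnorm.eq_bot_or_eq_top with hb | ht
    · apply hx
      have : x ∈ Subgroup.zpowers x := Subgroup.mem_zpowers x
      rw [hb] at this
      exact Subgroup.mem_bot.mp this
    · exact hxT ht
end Cfsg.Agent.Helper33.O2520
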