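import Mathlib
import Cfsg.Agent.Lib.Helper17.SylowCount

/-!
# O4320 server (helper50, S0977): piece C36c1 `thirty_invol`
-/

set_option autoImplicit false

namespace Cfsg.Agent.Helper33.O4320

open Cfsg MulAction
open scoped ComplexConjugate

universe u

/-- in a group of order 30, an involution generates a Sylow 2-subgroup -/
theorem h33_sylow_of_invol {K : Type u} [Group K] [Finite K] (hK : Nat.card K = 30) (y : K)
    (hy : orderOf y = 2) : ∃ S : Sylow 2 K, (S : Subgroup K) = Subgroup.zpowers y := by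
  have : Fact (Nat.Prime 2) := ⟨Nat.prime_two⟩
  have hpg : IsPGroup 2 (Subgroup.zpowers y) := by
    apply IsPGroup.of_card (n := 1)
    rw [Nat.card_zpowers, hy]; rfl
  obtain ⟨S, hS⟩ := hpg.exists_le_sylow
  refine ⟨S, ?_⟩
  obtain ⟨k, hk⟩ := (IsPGroup.iff_card).1 S.2
  have hdvd : Nat.card (S : Subgroup K) ∣ 30 := hK ▸ Subgroup.card_subgroup_dvd_card _
  have h2 : 2 ∣ Nat.card (S : Subgroup K) := by
    have := Subgroup.card_dvd_of_le hS
    rwa [Nat.card_zpowers, hy] at this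
  have hk1 : Nat.card (S : Subgroup K) = 2 := by
    rw [hk] at hdvd h2 ⊢
    rcases k with _ | _ | k
    · simp at h2
    · rfl
    · exfalso
      have : 4 ∣ 30 := dvd_trans ⟨2 ^ k, by ring⟩ hdvd
      omega
  symm
  apply Subgroup.eq_of_le_of_card_ge hS
  rw [Nat.card_zpowers, hy, hk1]

/-- in a group of order 30 any two involutions are conjugate -/
theorem h33_invol_conj {K : Type u} [Group K] [Finite K] (hK : Nat.card K = 30) (y x : K)
    (hy : orderOf y = 2) (hx : orderOf x = 2) : ∃ g : K, g * y * g⁻¹ = x := by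
  have : Fact (Nat.Prime 2) := ⟨Nat.prime_two⟩
  obtain ⟨Sy, hSy⟩ := h33_sylow_of_invol hK y hy
  obtain ⟨Sx, hSx⟩ := h33_sylow_of_invol hK x hx
  obtain ⟨g, hg⟩ := MulAction.exists_smul_eq K Sy Sx
  refine ⟨g, ?_⟩
  have hmem : g * y * g⁻¹ ∈ (Sx : Subgroup K) := by
    rw [← hg, Sylow.coe_subgroup_smul]
    have hyS : y ∈ (Sy : Subgroup K) := by rw [hSy]; exact Subgroup.mem_zpowers y
    have := Subgroup.smul_mem_pointwise_smul y (MulAut.conj g) (Sy : Subgroup K) hyS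
    simpa [MulAut.smul_def] using this
  rw [hSx] at hmem
  obtain ⟨k, hk⟩ := Subgroup.mem_zpowers_iff.1 hmem
  rw [← zpow_mod_orderOf, hx] at hk
  have h01 : k % ((2 : ℕ) : ℤ) = 0 ∨ k % ((2 : ℕ) : ℤ) = 1 := by omega
  rcases h01 with h | h
  · rw [h, zpow_zero] at hk
    exfalso
    have hy1 : y = 1 := by
      have : g * y * g⁻¹ = g * 1 * g⁻¹ := by rw [← hk]; simp
      exact mul_left_cancel (mul_right_cancel this)
    rw [hy1, orderOf_one] at hy
    omega
  · rw [h, zpow_one] at hk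
    exact hk.symm

theorem thirty_invol {G : Type u} [Group G] [Finite G] (H : Subgroup G) (hH : Nat.card H = 30)
    (r : G) (hrH : r ∈ H) (hr : orderOf r = 5) (hrc : ∀ h ∈ H, Commute r h)
    (u : G) (huH : u ∈ H) (hu : orderOf u = 2) :
    (∀ x ∈ H, orderOf x = 2 → ∃ h ∈ H, h * u * h⁻¹ = x) ∧
    (Nat.card {x : G // x ∈ H ∧ orderOf x = 2} = 1 ∨ Nat.card {x : G // x ∈ H ∧ orderOf x = 2} = 3) := by
  have hu' : orderOf (⟨u, huH⟩ : ↥H) = 2 := by rw [← hu, ← Subgroup.orderOf_coe]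
  have hr' : orderOf (⟨r, hrH⟩ : ↥H) = 5 := by rw [← hr, ← Subgroup.orderOf_coe]
  have hconj : ∀ x ∈ H, orderOf x = 2 → ∃ h ∈ H, h * u * h⁻¹ = x := by
    intro x hxH hx
    have hx' : orderOf (⟨x, hxH⟩ : ↥H) = 2 := by rw [← hx, ← Subgroup.orderOf_coe]
    obtain ⟨g, hg⟩ := h33_invol_conj hH ⟨u, huH⟩ ⟨x, hxH⟩ hu' hx'
    refine ⟨g.1, g.2, ?_⟩
    have := congrArg Subtype.val hg
    simpa using this
  refine ⟨hconj, ?_⟩
  -- the count
  have hcc := Cfsg.Agent.Helper17.SylowCount.card_conj_mul_card_centralizer (⟨u, huH⟩ : ↥H)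
  rw [hH] at hcc
  have h10 : 10 ∣ Nat.card (Subgroup.centralizer ({(⟨u, huH⟩ : ↥H)} : Set ↥H)) := by
    have hcomm : Commute (⟨r, hrH⟩ : ↥H) ⟨u, huH⟩ := by
      have := hrc u huH
      exact Subtype.ext this
    have hord : orderOf ((⟨r, hrH⟩ : ↥H) * ⟨u, huH⟩) = 10 := by
      rw [hcomm.orderOf_mul_eq_mul_orderOf_of_coprime (by rw [hr', hu']; decide), hr', hu']
    rw [← hord]
    apply Subgroup.orderOf_dvd_natCard
    rw [Subgroup.mem_centralizer_iff]
    intro y hy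
    rw [Set.mem_singleton_iff] at hy
    rw [hy]
    have e : (⟨u, huH⟩ : ↥H) * (⟨r, hrH⟩ * ⟨u, huH⟩) = (⟨r, hrH⟩ * ⟨u, huH⟩) * ⟨u, huH⟩ := by
      rw [← mul_assoc, ← hcomm.eq]
    exact e
  have hbij : Nat.card {x : G // x ∈ H ∧ orderOf x = 2} =
      Nat.card {g : ↥H // IsConj (⟨u, huH⟩ : ↥H) g} := by
    symm
    refine Nat.card_eq_of_bijective
      (fun g => (⟨g.1.1, g.1.2, ?_⟩ : {x : G // x ∈ H ∧ orderOf x = 2})) ⟨?_, ?_⟩
    · obtain ⟨c, hc⟩ := isConj_iff.1 g.2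
      rw [Subgroup.orderOf_coe, ← hc, ← hu']
      exact (MulAut.conj c).orderOf_eq _
    · intro a b hab
      have := congrArg Subtype.val hab
      exact Subtype.ext (Subtype.ext this)
    · rintro ⟨x, hxH, hx⟩
      obtain ⟨h, hhH, hh⟩ := hconj x hxH hx
      refine ⟨⟨⟨x, hxH⟩, isConj_iff.2 ⟨⟨h, hhH⟩, Subtype.ext hh⟩⟩, rfl⟩
  rw [hbij]
  obtain ⟨m, hm⟩ := h10
  rw [hm] at hcc
  have hm3 : m = 1 ∨ m = 3 := by
    have : m ∣ 3 := by
      apply Nat.dvd_of_mul_dvd_mul_left (show 0 < 10 by norm_num)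
      exact ⟨Nat.card {g : ↥H // IsConj (⟨u, huH⟩ : ↥H) g}, by
        rw [show 10 * 3 = 30 from rfl, ← hcc]; ring⟩
    rcases (Nat.dvd_prime Nat.prime_three).1 this with h | h
    · exact Or.inl h
    · exact Or.inr h
  rcases hm3 with h | h
  · right
    rw [h] at hcc
    omega
  · left
    rw [h] at hcc
    omega

end Cfsg.Agent.Helper33.O4320
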