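import Mathlib
import Cfsg.Agent.S1017
import Cfsg.Agent.Lib.Helper17.SylowCount

/-!
# O4320 server (helper50, S0977): piece C36c2 `false_of_thirtysix_thirty`
-/

set_option autoImplicit false

namespace Cfsg.Agent.Helper33.O4320

open Cfsg MulAction
open scoped ComplexConjugate

universe u

section GT2

variable {G : Type u} [Group G] [Finite G] [IsSimpleGroup G]

theorem false_of_thirtysix_thirty (hG : Nat.card G = 4320) (h36 : Nat.card (Sylow 5 G) = 36) (R : Sylow 5 G)
    (hC : Nat.card (Subgroup.centralizer ((R : Subgroup G) : Set G)) = 30)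
    (hA : ∀ u : G, orderOf u = 2 → u ∈ Subgroup.centralizer ((R : Subgroup G) : Set G) →
      ∃ m : ℕ, (m = 10 ∨ m = 30) ∧
        Nat.card ↥(Subgroup.normalizer ((R : Subgroup G) : Set G) ⊓ Subgroup.centralizer ({u} : Set G)) = m ∧
        Nat.card (Subgroup.centralizer ({u} : Set G)) = 16 * m)
    (hT : ∀ u : G, u ∈ Subgroup.centralizer ((R : Subgroup G) : Set G) → orderOf u = 2 →
      (∀ x ∈ Subgroup.centralizer ((R : Subgroup G) : Set G), orderOf x = 2 →
        ∃ h ∈ Subgroup.centralizer ((R : Subgroup G) : Set G), h * u * h⁻¹ = x) ∧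
      (Nat.card {x : G // x ∈ Subgroup.centralizer ((R : Subgroup G) : Set G) ∧ orderOf x = 2} = 1 ∨
       Nat.card {x : G // x ∈ Subgroup.centralizer ((R : Subgroup G) : Set G) ∧ orderOf x = 2} = 3))
    (hB : ∀ (r : G), orderOf r = 5 → ∀ S : Set G, (∀ x ∈ S, r * x * r⁻¹ ∈ S) →
      Nat.card S ≡ Nat.card {x : G // x ∈ S ∧ Commute r x} [MOD 5]) : False := by
  have : Fact (Nat.Prime 5) := ⟨by norm_num⟩
  have : Fact (Nat.Prime 2) := ⟨Nat.prime_two⟩
  -- an involution of `C(R)`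
  obtain ⟨u', hu'⟩ := exists_prime_orderOf_dvd_card'
    (G := ↥(Subgroup.centralizer ((R : Subgroup G) : Set G))) 2 (by rw [hC]; norm_num)
  have huC : (u' : G) ∈ Subgroup.centralizer ((R : Subgroup G) : Set G) := u'.2
  have hu : orderOf (u' : G) = 2 := by rw [Subgroup.orderOf_coe]; exact hu'
  obtain ⟨u, hudef⟩ : ∃ u : G, u = (u' : G) := ⟨_, rfl⟩
  rw [← hudef] at huC hu
  -- a generator of `R`
  have hR5 : Nat.card (R : Subgroup G) = 5 := by
    have := Cfsg.Agent.S1017.sylow_card_eq R 1 864 (by rw [hG]; norm_num) (by norm_num)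
    simpa using this
  have hne : (R : Subgroup G) ≠ ⊥ := (Subgroup.one_lt_card_iff_ne_bot _).1 (by rw [hR5]; norm_num)
  obtain ⟨⟨r, hrR⟩, hr1⟩ := (Subgroup.ne_bot_iff_exists_ne_one).1 hne
  have hr1' : r ≠ 1 := fun h => hr1 (Subtype.ext h)
  obtain ⟨hzr, hr⟩ := Cfsg.Agent.S1017.zpowers_eq_of_card_prime (R : Subgroup G) hR5 r hrR hr1'
  have hcomm_iff : ∀ x : G, Commute r x ↔ x ∈ Subgroup.centralizer ((R : Subgroup G) : Set G) := by
    intro x
    rw [Subgroup.mem_centralizer_iff]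
    constructor
    · intro hc h hh
      rw [SetLike.mem_coe, ← hzr] at hh
      obtain ⟨k, rfl⟩ := Subgroup.mem_zpowers_iff.1 hh
      exact (hc.zpow_left k).eq
    · intro hx
      exact hx r hrR
  -- the class of `u`
  have hinv : ∀ x ∈ {x : G | IsConj u x}, r * x * r⁻¹ ∈ {x : G | IsConj u x} := by
    intro x hx
    exact IsConj.trans hx (isConj_iff.2 ⟨r, rfl⟩)
  have hmod := hB r hr {x : G | IsConj u x} hinv
  have hcount : Nat.card {x : G // x ∈ {x : G | IsConj u x} ∧ Commute r x} =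
      Nat.card {x : G // x ∈ Subgroup.centralizer ((R : Subgroup G) : Set G) ∧ orderOf x = 2} := by
    apply Nat.card_congr
    apply Equiv.subtypeEquivRight
    intro x
    constructor
    · rintro ⟨hx1, hx2⟩
      refine ⟨(hcomm_iff x).1 hx2, ?_⟩
      obtain ⟨c, hc⟩ := isConj_iff.1 hx1
      rw [← hc, ← hu]
      exact (MulAut.conj c).orderOf_eq u
    · rintro ⟨hx1, hx2⟩
      obtain ⟨h, hh, hhx⟩ := (hT u huC hu).1 x hx1 hx2
      exact ⟨isConj_iff.2 ⟨h, hhx⟩, (hcomm_iff x).2 hx1⟩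
  obtain ⟨m, hm, -, hcu⟩ := hA u hu huC
  have hcc := Cfsg.Agent.Helper17.SylowCount.card_conj_mul_card_centralizer u
  rw [hG, hcu] at hcc
  have hSS : Nat.card ↥{x : G | IsConj u x} = Nat.card {g : G // IsConj u g} := rfl
  rw [hcount, hSS] at hmod
  unfold Nat.ModEq at hmod
  rcases (hT u huC hu).2 with h1 | h3
  · rw [h1] at hmod
    rcases hm with rfl | rfl <;> omega
  · rw [h3] at hmod
    rcases hm with rfl | rfl <;> omega

end GT2

end Cfsg.Agent.Helper33.O4320
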