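import Mathlib

/-!
# ONS server (helper37, S1699): piece FIX `centralizes_of_normalizes`
-/

set_option autoImplicit false

namespace Cfsg.Agent.Helper33.ONS
universe u

theorem centralizes_of_normalizes
    (hnum : ∀ m c : ℕ, (m ∣ 8 ∨ m ∣ 9 ∨ m ∣ 5 ∨ m ∣ 11 ∨ m ∣ 31) → c ∣ m → 0 < c → m % 19 = c % 19 → c = m)
    {G : Type u} [Group G] (R : Subgroup G) [Finite R] (s : G) (hs : s ^ 19 = 1)
    (hR : ∀ x ∈ R, s * x * s⁻¹ ∈ R)
    (hcard : Nat.card R ∣ 8 ∨ Nat.card R ∣ 9 ∨ Nat.card R ∣ 5 ∨ Nat.card R ∣ 11 ∨ Nat.card R ∣ 31) :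
    ∀ x ∈ R, s * x * s⁻¹ = x := by
  classical
  have : Fact (Nat.Prime 19) := ⟨by norm_num⟩
  have : Fintype R := Fintype.ofFinite R
  let f : Function.End ↥R := fun x => ⟨s * x * s⁻¹, hR x x.2⟩
  have hpow : ∀ (n : ℕ) (x : ↥R), (((f ^ n) x : ↥R) : G) = s ^ n * x * (s ^ n)⁻¹ := by
    intro n
    induction n with
    | zero =>
      intro x
      simp only [pow_zero, one_mul, inv_one, mul_one]
      rfl
    | succ n ih =>
      intro x
      have e : (f ^ (n + 1)) x = f ((f ^ n) x) := by rw [pow_succ']; rfl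
      rw [e]
      show s * (((f ^ n) x : ↥R) : G) * s⁻¹ = _
      rw [ih, pow_succ']
      simp only [mul_inv_rev, mul_assoc]
  have hf : f ^ 19 ^ 1 = 1 := by
    rw [pow_one]
    funext x
    apply Subtype.ext
    rw [hpow, hs]
    simp only [one_mul, inv_one, mul_one]
    rfl
  have hmod := Equiv.Perm.card_fixedPoints_modEq (p := 19) (n := 1) hf
  rw [Fintype.card_eq_nat_card, Fintype.card_eq_nat_card] at hmod
  let C : Subgroup ↥R := (Subgroup.centralizer ({s} : Set G)).subgroupOf R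
  have hC : ∀ x : ↥R, x ∈ C ↔ f x = x := by
    intro x
    rw [Subgroup.mem_subgroupOf, Subgroup.mem_centralizer_iff]
    constructor
    · intro h
      apply Subtype.ext
      show s * (x : G) * s⁻¹ = x
      rw [h s rfl]
      simp
    · intro h y hy
      rw [Set.mem_singleton_iff] at hy
      subst hy
      have h' : y * (x : G) * y⁻¹ = x := congrArg Subtype.val h
      exact mul_inv_eq_iff_eq_mul.1 h'
  have hcardC : Nat.card ↥(Function.fixedPoints f) = Nat.card C :=
    Nat.card_congr (Equiv.subtypeEquivRight fun x => (hC x).symm)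
  rw [hcardC] at hmod
  have hCR : Nat.card C = Nat.card R :=
    hnum _ _ hcard (Subgroup.card_subgroup_dvd_card C) Nat.card_pos hmod
  have htop : C = ⊤ := (Subgroup.card_eq_iff_eq_top C).1 hCR
  intro x hx
  have hxC : (⟨x, hx⟩ : ↥R) ∈ C := by rw [htop]; exact Subgroup.mem_top _
  exact congrArg Subtype.val ((hC _).1 hxC)

end Cfsg.Agent.Helper33.ONS
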