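import Mathlib
import Cfsg.Prelude.Def_FusionSystem
import Cfsg.Agent.Lib.Helper67.Psu3SYLABS
import Cfsg.Agent.Lib.Helper47.Psl3AUT
import Cfsg.Agent.Lib.Helper84.PslGrp
import Cfsg.Agent.Lib.Helper84.GrpFus
import Cfsg.Agent.S5339

/-!
# OM7 (GEN) (helper87 server, S2647): from a self-normalising `2`-subgroup without strongly closed
subgroups to the three conclusions for every Sylow `2`-subgroup.
-/

set_option autoImplicit false

namespace Cfsg.Agent.Helper33.Om7

open scoped Pointwise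

theorem gen_mem_smul_iff {G : Type*} [Group G] [Finite G] (g : G) (P : Sylow 2 G) (x : G) :
    x ∈ ((g • P : Sylow 2 G) : Subgroup G) ↔ g⁻¹ * x * g ∈ (P : Subgroup G) := by
  rw [Sylow.coe_subgroup_smul, Subgroup.mem_pointwise_smul_iff_inv_smul_mem, MulAut.smul_def,
    MulAut.conj_inv_apply]

/-- the conclusions for a Sylow `2`-subgroup that is itself self-normalising without strongly
closed subgroups -/
theorem gen_main_of_eq {G : Type*} [Group G] [Finite G] (S : Sylow 2 G)
    (hne : (S : Subgroup G) ≠ ⊥) (hN : ∀ g ∈ Subgroup.normalizer ((S : Subgroup G) : Set G), g ∈ S)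
    (hSC : ∀ T : Subgroup G, T ≤ (S : Subgroup G) → T ≠ ⊥ →
      (∀ t ∈ T, ∀ g : G, g * t * g⁻¹ ∈ (S : Subgroup G) → g * t * g⁻¹ ∈ T) →
        T = (S : Subgroup G)) :
    (Cfsg.groupFusionSystem (S : Subgroup G)).autGroup (S : Subgroup G) = Cfsg.Inn ↥(S : Subgroup G) ∧
    (∀ T : Subgroup G, (Cfsg.groupFusionSystem (S : Subgroup G)).StronglyClosed T →
      T = ⊥ ∨ T = (S : Subgroup G)) ∧
    (Cfsg.groupFusionSystem (S : Subgroup G)).IsSimple 2 := by
  have : Fact (Nat.Prime 2) := ⟨Nat.prime_two⟩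
  have h1 : (Cfsg.groupFusionSystem (S : Subgroup G)).autGroup (S : Subgroup G) =
      Cfsg.Inn ↥(S : Subgroup G) := by
    apply Cfsg.Agent.Helper47.Psl3.autGroup_eq_inn
    intro g hg
    exact ⟨g, hN g hg, 1, fun x _ => by rw [one_mul, mul_one], by rw [mul_one]⟩
  have h2 : ∀ T : Subgroup G, (Cfsg.groupFusionSystem (S : Subgroup G)).StronglyClosed T →
      T = ⊥ ∨ T = (S : Subgroup G) := by
    intro T hT
    by_cases hT1 : T = ⊥
    · exact Or.inl hT1
    · right
      apply hSC T hT.1 hT1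
      intro t ht g hg
      exact Cfsg.Agent.Helper84.PslGrp.conj_mem_of_stronglyClosed hT ht g hg
  refine ⟨h1, h2, ?_⟩
  exact Cfsg.Agent.S5339.result 2 S.2 (Cfsg.groupFusionSystem (S : Subgroup G))
    (Cfsg.Agent.Helper84.gfs_saturated S) hne h1 h2

theorem main_of_sylow {G : Type*} [Group G] [Finite G] (P : Subgroup G) (hP : IsPGroup 2 ↥P)
    (hne : P ≠ ⊥) (hN : ∀ g ∈ Subgroup.normalizer (P : Set G), g ∈ P)
    (hSC : ∀ T : Subgroup G, T ≤ P → T ≠ ⊥ →
      (∀ t ∈ T, ∀ g : G, g * t * g⁻¹ ∈ P → g * t * g⁻¹ ∈ T) → T = P)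
    (S : Sylow 2 G) :
    (Cfsg.groupFusionSystem (S : Subgroup G)).autGroup (S : Subgroup G) = Cfsg.Inn ↥(S : Subgroup G) ∧
    (∀ T : Subgroup G, (Cfsg.groupFusionSystem (S : Subgroup G)).StronglyClosed T →
      T = ⊥ ∨ T = (S : Subgroup G)) ∧
    (Cfsg.groupFusionSystem (S : Subgroup G)).IsSimple 2 := by
  have : Fact (Nat.Prime 2) := ⟨Nat.prime_two⟩
  obtain ⟨S0, hS0⟩ := Cfsg.Agent.Helper67.Psu3.exists_sylow_of_normalizer P hP
    (fun g hg => ⟨g, hN g hg, 1, by rw [orderOf_one]; exact odd_one, by rw [mul_one]⟩)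
  obtain ⟨a, rfl⟩ := MulAction.exists_smul_eq G S0 S
  have hmem : ∀ x : G, x ∈ ((a • S0 : Sylow 2 G) : Subgroup G) ↔ a⁻¹ * x * a ∈ P := by
    intro x
    rw [gen_mem_smul_iff, hS0]
  apply gen_main_of_eq
  · intro h
    apply hne
    rw [eq_bot_iff]
    intro x hx
    have h1 : a * x * a⁻¹ ∈ ((a • S0 : Sylow 2 G) : Subgroup G) := by
      rw [hmem]
      have e : a⁻¹ * (a * x * a⁻¹) * a = x := by group
      rw [e]; exact hx
    rw [h] at h1
    have h2 : a * x * a⁻¹ = 1 := Subgroup.mem_bot.1 h1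
    have e : x = a⁻¹ * (a * x * a⁻¹) * a := by group
    rw [e, h2]
    simp
  · intro g hg
    show g ∈ ((a • S0 : Sylow 2 G) : Subgroup G)
    rw [hmem]
    apply hN
    rw [Subgroup.mem_normalizer_iff] at hg ⊢
    intro y
    have h1 := hg (a * y * a⁻¹)
    rw [hmem, hmem] at h1
    have e1 : a⁻¹ * (a * y * a⁻¹) * a = y := by group
    have e2 : a⁻¹ * (g * (a * y * a⁻¹) * g⁻¹) * a = a⁻¹ * g * a * y * (a⁻¹ * g * a)⁻¹ := by group
    rw [e1, e2] at h1
    exact h1
  · intro T hT hT1 hcl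
    -- transport `T` back to `P`
    have hT' : (MulAut.conj a⁻¹ • T) = P := by
      apply hSC
      · intro x hx
        rw [Subgroup.mem_pointwise_smul_iff_inv_smul_mem, MulAut.smul_def, ← map_inv,
          inv_inv, MulAut.conj_apply] at hx
        have h1 := hT hx
        rw [hmem] at h1
        have e : a⁻¹ * (a * x * a⁻¹) * a = x := by group
        rwa [e] at h1
      · intro h
        apply hT1
        rw [eq_bot_iff]
        intro x hx
        have h1 : a⁻¹ * x * a ∈ (MulAut.conj a⁻¹ • T) := by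
          rw [Subgroup.mem_pointwise_smul_iff_inv_smul_mem, MulAut.smul_def, ← map_inv,
            inv_inv, MulAut.conj_apply]
          have e : a * (a⁻¹ * x * a) * a⁻¹ = x := by group
          rw [e]; exact hx
        rw [h] at h1
        have h2 : a⁻¹ * x * a = 1 := Subgroup.mem_bot.1 h1
        have e : x = a * (a⁻¹ * x * a) * a⁻¹ := by group
        rw [e, h2]
        simp
      · intro t ht g hg
        rw [Subgroup.mem_pointwise_smul_iff_inv_smul_mem, MulAut.smul_def, ← map_inv,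
          inv_inv, MulAut.conj_apply] at ht ⊢
        have h1 := hcl _ ht (a * g * a⁻¹) (by
          rw [hmem]
          have e : a⁻¹ * (a * g * a⁻¹ * (a * t * a⁻¹) * (a * g * a⁻¹)⁻¹) * a = g * t * g⁻¹ := by
            group
          rw [e]; exact hg)
        have e : a * (g * t * g⁻¹) * a⁻¹ = a * g * a⁻¹ * (a * t * a⁻¹) * (a * g * a⁻¹)⁻¹ := by
          group
        rw [e]; exact h1
    apply le_antisymm hT
    intro x hx
    rw [hmem, ← hT'] at hx
    rw [Subgroup.mem_pointwise_smul_iff_inv_smul_mem, MulAut.smul_def, ← map_inv,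
      inv_inv, MulAut.conj_apply] at hx
    have e : a * (a⁻¹ * x * a) * a⁻¹ = x := by group
    rwa [e] at hx

end Cfsg.Agent.Helper33.Om7
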