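import Mathlib
import Cfsg.Prelude.Def_ConjugacyFunctors
import Cfsg.Agent.Lib.Helper33.CentricFusion

set_option autoImplicit false
open Pointwise Cfsg

namespace Cfsg.Agent.Helper33

variable {G : Type*} [Group G]

/-- step predicate for a pair of functors -/
def PStep (W V : Subgroup G → Subgroup G) (H T : Subgroup G) (x : G) : Prop :=
  x ∈ H ⊓ Subgroup.normalizer ((W T : Subgroup G) : Set G) ∨
    x ∈ H ⊓ Subgroup.centralizer ((V T : Subgroup G) : Set G)

theorem PStep.inv {W V : Subgroup G → Subgroup G} {H T : Subgroup G} (x : G)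
    (h : PStep W V H T x) : PStep W V H T x⁻¹ := by
  rcases h with h | h
  · exact Or.inl (inv_mem h)
  · exact Or.inr (inv_mem h)

/-- list form of step chains: prefix products -/
theorem isStepChain_of_prefix {Q : G → Prop} {S : Set G} :
    ∀ (l : List G) (X : Set G), (∀ x ∈ l, Q x) →
      (∀ k : ℕ, k ≤ l.length → rc (l.take k).prod X ⊆ S) → IsStepChain Q S X l := by
  intro l
  induction l with
  | nil => intro X _ _; trivial
  | cons x t ih =>
    intro X hQ hS
    refine ⟨hQ x (by simp), ?_, ih (rc x X) (fun y hy => hQ y (by simp [hy])) ?_⟩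
    · have := hS 1 (by simp)
      simpa using this
    · intro k hk
      have := hS (k + 1) (by simpa using hk)
      simpa [rc_mul] using this

theorem prefix_of_isStepChain {Q : G → Prop} {S : Set G} :
    ∀ (l : List G) (X : Set G), X ⊆ S → IsStepChain Q S X l →
      (∀ x ∈ l, Q x) ∧ (∀ k : ℕ, k ≤ l.length → rc (l.take k).prod X ⊆ S) := by
  intro l
  induction l with
  | nil =>
    intro X hX _
    refine ⟨by simp, fun k _ => ?_⟩
    simpa [rc_one] using hX
  | cons x t ih =>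
    intro X hX h
    obtain ⟨h1, h2⟩ := ih (rc x X) h.2.1 h.2.2
    refine ⟨?_, ?_⟩
    · intro y hy
      rcases List.mem_cons.mp hy with rfl | hy
      · exact h.1
      · exact h1 y hy
    · intro k hk
      cases k with
      | zero => simpa [rc_one] using hX
      | succ j =>
        have := h2 j (by simpa using hk)
        simpa [rc_mul] using this

theorem rc_centralizer {c : G} {X : Set G} (hc : c ∈ Subgroup.centralizer X) : rc c X = X := by
  have h : ∀ x ∈ X, c⁻¹ * x * c = x := by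
    intro x hx
    have := hc x hx
    calc c⁻¹ * x * c = c⁻¹ * (x * c) := by group
      _ = c⁻¹ * (c * x) := by rw [this]
      _ = x := by group
  ext y
  constructor
  · rintro ⟨x, hx, rfl⟩
    show c⁻¹ * x * c ∈ X
    rw [h x hx]; exact hx
  · intro hy
    exact ⟨y, hy, h y hy⟩

/-- the raw "b-format" of control read as `Good` -/
theorem good_of_bformat {Q : G → Prop} {S X : Set G} {a : G}
    (h : ∃ c ∈ Subgroup.centralizer X, ∃ (n : ℕ) (b : Fin n → G), (∀ i, Q (b i)) ∧
      a = c * (List.ofFn b).prod ∧ ∀ k : ℕ, k ≤ n →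
        (fun x => (((List.ofFn b).take k).prod)⁻¹ * x * ((List.ofFn b).take k).prod) ''
          ((fun x => c⁻¹ * x * c) '' X) ⊆ S) : Good Q S X a := by
  obtain ⟨c, hc, n, b, hb, ha, hS⟩ := h
  have hcX : (fun x => c⁻¹ * x * c) '' X = X := rc_centralizer hc
  rw [hcX] at hS
  refine ⟨List.ofFn b, isStepChain_of_prefix _ _ ?_ ?_, ?_⟩
  · intro x hx
    obtain ⟨i, rfl⟩ := (List.mem_ofFn' b x).mp hx
    exact hb i
  · intro k hk
    exact hS k (by simpa using hk)
  · intro x hx
    have h1 : c⁻¹ * x * c = x := by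
      have := hc x hx
      calc c⁻¹ * x * c = c⁻¹ * (x * c) := by group
        _ = c⁻¹ * (c * x) := by rw [this]
        _ = x := by group
    rw [ha]
    calc (List.ofFn b).prod⁻¹ * x * (List.ofFn b).prod
        = (List.ofFn b).prod⁻¹ * (c⁻¹ * x * c) * (List.ofFn b).prod := by rw [h1]
      _ = (c * (List.ofFn b).prod)⁻¹ * x * (c * (List.ofFn b).prod) := by group

theorem bformat_of_good {Q : G → Prop} {S X : Set G} {a : G} (hX : X ⊆ S) (h : Good Q S X a) :
    ∃ c ∈ Subgroup.centralizer X, ∃ (n : ℕ) (b : Fin n → G), (∀ i, Q (b i)) ∧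
      a = c * (List.ofFn b).prod ∧ ∀ k : ℕ, k ≤ n →
        (fun x => (((List.ofFn b).take k).prod)⁻¹ * x * ((List.ofFn b).take k).prod) ''
          ((fun x => c⁻¹ * x * c) '' X) ⊆ S := by
  obtain ⟨l, hl, hla⟩ := h
  obtain ⟨h1, h2⟩ := prefix_of_isStepChain l X hX hl
  have hc : a * l.prod⁻¹ ∈ Subgroup.centralizer X := by
    intro x hx
    have := hla x hx
    have e : x = a * (a⁻¹ * x * a) * a⁻¹ := by group
    calc x * (a * l.prod⁻¹) = a * (a⁻¹ * x * a) * l.prod⁻¹ := by group
      _ = a * (l.prod⁻¹ * x * l.prod) * l.prod⁻¹ := by rw [this]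
      _ = a * l.prod⁻¹ * x := by group
  have hofn : List.ofFn (fun i : Fin l.length => l[i.val]) = l := by
    apply List.ext_getElem
    · simp
    · intro i h1 h2
      simp
  refine ⟨a * l.prod⁻¹, hc, l.length, fun i => l[i.val], fun i => h1 _ (List.getElem_mem _), ?_, ?_⟩
  · rw [hofn]; group
  · intro k hk
    have hcX : (fun x => (a * l.prod⁻¹)⁻¹ * x * (a * l.prod⁻¹)) '' X = X := rc_centralizer hc
    rw [hcX, hofn]
    exact h2 k hk

section fin

variable [Finite G] {p : ℕ} [Fact p.Prime]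

/-- local control in `H` in `Good` form -/
def LocCtl (p : ℕ) (W V : Subgroup G → Subgroup G) (H : Subgroup G) : Prop :=
  ∃ Q : Subgroup G, IsSylIn p Q H ∧ ∀ (X : Set G) (a : G), X ⊆ Q → a ∈ H → rc a X ⊆ Q →
    Good (PStep W V H Q) (Q : Set G) X a

/-- The pair's control of strong fusion in `H`, read at an arbitrary Sylow subgroup of `H`. -/
theorem pair_good_at {W V : Subgroup G → Subgroup G}
    (hW : IsConjugacyFunctor p W) (hV : IsConjugacyFunctor p V) {H : Subgroup G}
    (h : LocCtl p W V H) {T₁ : Subgroup G} (hT₁ : IsSylIn p T₁ H)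
    (A : Set G) (x : G) (hx : x ∈ H) (hA : A ⊆ T₁) (hAx : rc x A ⊆ T₁) :
    Good (PStep W V H T₁) (T₁ : Set G) A x := by
  obtain ⟨T₀, hT₀, hctl⟩ := h
  have hT₀p := hT₀.isPGroup
  obtain ⟨k, hkH, hk⟩ := hT₁.exists_conj_eq hT₀
  have hk' : MulAut.conj k⁻¹ • T₁ = T₀ := by rw [← hk, conj_inv_smul_smul]
  have hrcT : rc k (T₁ : Set G) = T₀ := by rw [rc_coe, hk']
  have hA₀ : rc k A ⊆ T₀ := by rw [← hrcT]; exact rc_mono hA
  have hxH : k⁻¹ * x * k ∈ H := H.mul_mem (H.mul_mem (H.inv_mem hkH) hx) hkH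
  have hA₀x : rc (k⁻¹ * x * k) (rc k A) ⊆ T₀ := by
    rw [← rc_mul, ← hrcT]
    have : k * (k⁻¹ * x * k) = x * k := by group
    rw [this, rc_mul]
    exact rc_mono hAx
  have hgood₀ := hctl (rc k A) (k⁻¹ * x * k) hA₀ hxH hA₀x
  have hconj := hgood₀.conj (Q' := PStep W V H T₁) k (by
    rintro y (hy | hy)
    · refine Or.inl (Subgroup.mem_inf.mpr
        ⟨H.mul_mem (H.mul_mem hkH (Subgroup.mem_inf.mp hy).1) (H.inv_mem hkH), ?_⟩)
      rw [← hk, conjFunctor_conj hW hT₀p, normalizer_conj_smul]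
      exact conj_mem_conj_smul (Subgroup.mem_inf.mp hy).2
    · refine Or.inr (Subgroup.mem_inf.mpr
        ⟨H.mul_mem (H.mul_mem hkH (Subgroup.mem_inf.mp hy).1) (H.inv_mem hkH), ?_⟩)
      rw [← hk, conjFunctor_conj hV hT₀p, centralizer_conj_smul]
      exact conj_mem_conj_smul (Subgroup.mem_inf.mp hy).2)
  have e1 : rc k⁻¹ (T₀ : Set G) = T₁ := by rw [rc_coe, inv_inv, hk]
  have e2 : rc k⁻¹ (rc k A) = A := rc_inv_rc k A
  have e3 : k * (k⁻¹ * x * k) * k⁻¹ = x := by group
  rw [e1, e2, e3] at hconj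
  exact hconj

end fin

end Cfsg.Agent.Helper33
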