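import Mathlib
import Cfsg.Prelude.Def_ConjugacyFunctors
import Cfsg.Agent.Lib.Helper33.PairControl

set_option autoImplicit false
open Pointwise Cfsg

namespace Cfsg.Agent.Helper33

variable {G : Type*} [Group G] [Finite G] {p : ℕ} [Fact p.Prime]

theorem local_good2 {W V : Subgroup G → Subgroup G}
    (hW : IsConjugacyFunctor p W) (hV : IsConjugacyFunctor p V)
    (hVmono : ∀ H K : Subgroup G, IsPGroup p ↥H → IsPGroup p ↥K → H ≠ ⊥ → K ≠ ⊥ →
      H ⊓ Subgroup.centralizer ((H : Subgroup G) : Set G) ≤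
        K ⊓ Subgroup.centralizer ((K : Subgroup G) : Set G) → V H ≤ V K)
    (P : Sylow p G) (hPne : (P : Subgroup G) ≠ ⊥)
    (hloc : ∀ H : Subgroup G, (P : Subgroup G) ⊓ Subgroup.centralizer ((P : Subgroup G) : Set G) ≤ H →
      H ≤ (P : Subgroup G) → LocCtl p W V (Subgroup.normalizer (H : Set G)))
    (c : ℕ)
    (hstar : ∀ M₀ : Subgroup G, M₀ ≤ (P : Subgroup G) → PCen p M₀ → c < Nat.card M₀ →
      ∀ e ∈ Subgroup.normalizer ((W M₀ : Subgroup G) : Set G), ∀ B : Set G,
        B ⊆ M₀ → rc e B ⊆ M₀ → Good (PStep W V ⊤ P) ((P : Subgroup G) : Set G) B e)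
    (T : Subgroup G) (hT : T ≤ (P : Subgroup G))
    (hZT : (P : Subgroup G) ⊓ Subgroup.centralizer ((P : Subgroup G) : Set G) ≤ T)
    (hsyl : IsSylIn p ((P : Subgroup G) ⊓ Subgroup.normalizer (T : Set G))
      (Subgroup.normalizer (T : Set G)))
    (hcen : PCen p ((P : Subgroup G) ⊓ Subgroup.normalizer (T : Set G)))
    (hcard : c < Nat.card ((P : Subgroup G) ⊓ Subgroup.normalizer (T : Set G) : Subgroup G))
    (x : G) (hx : x ∈ Subgroup.normalizer (T : Set G)) (B : Set G)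
    (hB : B ⊆ ((P : Subgroup G) ⊓ Subgroup.normalizer (T : Set G) : Subgroup G))
    (hBx : rc x B ⊆ ((P : Subgroup G) ⊓ Subgroup.normalizer (T : Set G) : Subgroup G)) :
    Good (PStep W V ⊤ P) ((P : Subgroup G) : Set G) B x := by
  have h1 := pair_good_at hW hV (hloc T hZT hT) hsyl B x hx hB hBx
  have hSne : (P : Subgroup G) ⊓ Subgroup.normalizer (T : Set G) ≠ ⊥ := by
    intro h0
    rw [h0] at hcen
    exact not_pCen_bot P hPne hcen
  have hVle : V (P : Subgroup G) ≤ V ((P : Subgroup G) ⊓ Subgroup.normalizer (T : Set G)) :=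
    hVmono _ _ P.isPGroup' (P.isPGroup'.to_le inf_le_left) hPne hSne
      (hcen.center_le inf_le_left P.isPGroup')
  refine Good.bind ?_ hB h1
  rintro e B' (he | he) hB' hB'e
  · exact hstar _ inf_le_left hcen hcard e (Subgroup.mem_inf.mp he).2 B' hB' hB'e
  · apply Good.single
    · exact Or.inr (Subgroup.mem_inf.mpr ⟨Subgroup.mem_top _,
        Subgroup.centralizer_le (by exact_mod_cast hVle) (Subgroup.mem_inf.mp he).2⟩)
    · intro a ha
      exact (Subgroup.mem_inf.mp (hB'e ha)).1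

theorem center_le_of_pCen (P : Sylow p G) {T : Subgroup G} (hT : T ≤ (P : Subgroup G))
    (hcen : PCen p T) :
    (P : Subgroup G) ⊓ Subgroup.centralizer ((P : Subgroup G) : Set G) ≤ T :=
  (hcen.center_le hT P.isPGroup').trans inf_le_left

theorem star2 {W V : Subgroup G → Subgroup G}
    (hW : IsConjugacyFunctor p W) (hV : IsConjugacyFunctor p V)
    (hWZ : ∀ H : Subgroup G, IsPGroup p ↥H →
      H ⊓ Subgroup.centralizer ((H : Subgroup G) : Set G) ≤ W H)
    (hVmono : ∀ H K : Subgroup G, IsPGroup p ↥H → IsPGroup p ↥K → H ≠ ⊥ → K ≠ ⊥ →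
      H ⊓ Subgroup.centralizer ((H : Subgroup G) : Set G) ≤
        K ⊓ Subgroup.centralizer ((K : Subgroup G) : Set G) → V H ≤ V K)
    (P : Sylow p G) (hPne : (P : Subgroup G) ≠ ⊥)
    (hloc : ∀ H : Subgroup G, (P : Subgroup G) ⊓ Subgroup.centralizer ((P : Subgroup G) : Set G) ≤ H →
      H ≤ (P : Subgroup G) → LocCtl p W V (Subgroup.normalizer (H : Set G)))
    (n : ℕ) : ∀ M₀ : Subgroup G, M₀ ≤ (P : Subgroup G) → PCen p M₀ →
      Nat.card (P : Subgroup G) - Nat.card M₀ = n →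
      ∀ e ∈ Subgroup.normalizer ((W M₀ : Subgroup G) : Set G), ∀ B : Set G,
        B ⊆ M₀ → rc e B ⊆ M₀ → Good (PStep W V ⊤ P) ((P : Subgroup G) : Set G) B e := by
  induction n using Nat.strong_induction_on with
  | _ n ih =>
  intro M₀ hM₀S hM₀cen hn e he B hB hBe
  by_cases hM₀ : M₀ = P
  · apply Good.single
    · exact Or.inl (Subgroup.mem_inf.mpr ⟨Subgroup.mem_top _, by rw [← hM₀]; exact he⟩)
    · rw [← hM₀]; exact hBe
  · have hM₀p : IsPGroup p M₀ := P.isPGroup'.to_le hM₀S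
    have hVle := conjFunctor_le hW hM₀p
    have hVS : W M₀ ≤ (P : Subgroup G) := hVle.trans hM₀S
    have hgrow := IsSylIn.normalizer_growth P.isPGroup' hM₀S hM₀
    have hNN : (P : Subgroup G) ⊓ Subgroup.normalizer (M₀ : Set G) ≤
        (P : Subgroup G) ⊓ Subgroup.normalizer ((W M₀ : Subgroup G) : Set G) :=
      inf_le_inf_left _ (normalizer_le_normalizer_functor hW hM₀p)
    have hM₀M : M₀ ≤ (P : Subgroup G) ⊓ Subgroup.normalizer ((W M₀ : Subgroup G) : Set G) :=
      (le_of_lt hgrow).trans hNN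
    have hcardM := card_lt_of_lt (lt_of_lt_of_le hgrow hNN)
    have hcardS : Nat.card M₀ ≤ Nat.card (P : Subgroup G) := Subgroup.card_le_of_le hM₀S
    have hM₁cen : PCen p ((P : Subgroup G) ⊓ Subgroup.normalizer ((W M₀ : Subgroup G) : Set G)) :=
      hM₀cen.mono hM₀M
    have hstar' : ∀ M₀' : Subgroup G, M₀' ≤ (P : Subgroup G) → PCen p M₀' →
        Nat.card M₀ < Nat.card M₀' →
        ∀ e ∈ Subgroup.normalizer ((W M₀' : Subgroup G) : Set G), ∀ B : Set G,
        B ⊆ M₀' → rc e B ⊆ M₀' → Good (PStep W V ⊤ P) ((P : Subgroup G) : Set G) B e := by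
      intro M₀' h1 h2 h3
      have := Subgroup.card_le_of_le h1
      exact ih (Nat.card (P : Subgroup G) - Nat.card M₀') (by omega) M₀' h1 h2 rfl
    obtain ⟨k, hk1, hk2, hk3⟩ := exists_conj_fully_normalized P hVS
    have hMM' : MulAut.conj k • ((P : Subgroup G) ⊓ Subgroup.normalizer ((W M₀ : Subgroup G) : Set G)) ≤
        (P : Subgroup G) ⊓ Subgroup.normalizer ((MulAut.conj k • W M₀ : Subgroup G) : Set G) := by
      refine le_inf hk1 ?_
      rw [normalizer_conj_smul]
      exact conj_smul_le_conj_smul inf_le_right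
    have hcardM' := Subgroup.card_le_of_le hMM'
    rw [card_conj_smul] at hcardM'
    -- (a)
    have hgk : Good (PStep W V ⊤ P) ((P : Subgroup G) : Set G)
        (((P : Subgroup G) ⊓ Subgroup.normalizer ((W M₀ : Subgroup G) : Set G) : Subgroup G) : Set G) k⁻¹ := by
      have hr := reachA_centric P _ (inf_le_left : (P : Subgroup G) ⊓ Subgroup.normalizer ((W M₀ : Subgroup G) : Set G) ≤ P) k⁻¹
        (by rw [inv_inv]; exact hk1)
      refine ReachA.bind ?_ hr
      rintro T ⟨⟨hTS, hTsyl⟩, hTcen⟩ x hx y hy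
      have hTN₀ : T ≤ (P : Subgroup G) ⊓ Subgroup.normalizer (T : Set G) := le_inf hTS Subgroup.le_normalizer
      have hc1 := card_le_of_rc_subset hy
      have hc2 := Subgroup.card_le_of_le hTN₀
      refine local_good2 hW hV hVmono P hPne hloc (Nat.card M₀) hstar' T hTS
        (center_le_of_pCen P hTS hTcen) hTsyl (hTcen.mono hTN₀) (by omega) x hx _
        (fun a ha => hTN₀ (hy ha)) ?_
      intro a ha
      apply hTN₀
      have := rc_mono hy ha
      rwa [rc_normalizer hx] at this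
    -- (b)
    have he' : k * e * k⁻¹ ∈ Subgroup.normalizer ((MulAut.conj k • W M₀ : Subgroup G) : Set G) := by
      rw [normalizer_conj_smul]; exact conj_mem_conj_smul he
    have hrcM : rc k⁻¹ (((P : Subgroup G) ⊓ Subgroup.normalizer ((W M₀ : Subgroup G) : Set G) : Subgroup G) : Set G) ⊆
        (((P : Subgroup G) ⊓ Subgroup.normalizer ((MulAut.conj k • W M₀ : Subgroup G) : Set G) : Subgroup G) : Set G) := by
      rw [rc_coe, inv_inv]; exact hMM'
    have hB₁ : rc k⁻¹ B ⊆ (((P : Subgroup G) ⊓ Subgroup.normalizer ((MulAut.conj k • W M₀ : Subgroup G) : Set G) : Subgroup G) : Set G) :=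
      (rc_mono (hB.trans hM₀M)).trans hrcM
    have hcomm : rc (k * e * k⁻¹) (rc k⁻¹ B) = rc k⁻¹ (rc e B) := by
      rw [← rc_mul, ← rc_mul]; congr 1; group
    have hB₁e : rc (k * e * k⁻¹) (rc k⁻¹ B) ⊆ (((P : Subgroup G) ⊓ Subgroup.normalizer ((MulAut.conj k • W M₀ : Subgroup G) : Set G) : Subgroup G) : Set G) := by
      rw [hcomm]
      exact (rc_mono (hBe.trans hM₀M)).trans hrcM
    have hkM₀P : MulAut.conj k • M₀ ≤ (P : Subgroup G) :=
      (conj_smul_le_conj_smul hM₀M).trans hk1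
    have hkM₀cen : PCen p (MulAut.conj k • M₀) := hM₀cen.conj k
    have hZT : (P : Subgroup G) ⊓ Subgroup.centralizer ((P : Subgroup G) : Set G) ≤
        MulAut.conj k • W M₀ := by
      rw [← conjFunctor_conj hW hM₀p]
      exact (hkM₀cen.center_le hkM₀P P.isPGroup').trans (hWZ _ (isPGroup_conj_smul hM₀p))
    have hcenN : PCen p ((P : Subgroup G) ⊓
        Subgroup.normalizer ((MulAut.conj k • W M₀ : Subgroup G) : Set G)) :=
      hkM₀cen.mono ((conj_smul_le_conj_smul hM₀M).trans hMM')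
    have hb := local_good2 hW hV hVmono P hPne hloc (Nat.card M₀) hstar' _ hk2 hZT hk3 hcenN
      (by omega) _ he' _ hB₁ hB₁e
    -- (c)
    have hga := hgk.mono (hB.trans hM₀M)
    have hgc := hgk.mono (hBe.trans hM₀M)
    have hgc' := hgc.symm PStep.inv (hBe.trans hM₀S)
    rw [inv_inv] at hgc'
    have heq : e = k⁻¹ * (k * e * k⁻¹) * k := by group
    rw [heq]
    apply Good.trans (Good.trans hga hb)
    rw [rc_mul, hcomm]
    exact hgc'

theorem pair_global {W V : Subgroup G → Subgroup G}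
    (hW : IsConjugacyFunctor p W) (hV : IsConjugacyFunctor p V)
    (hWZ : ∀ H : Subgroup G, IsPGroup p ↥H →
      H ⊓ Subgroup.centralizer ((H : Subgroup G) : Set G) ≤ W H)
    (hVmono : ∀ H K : Subgroup G, IsPGroup p ↥H → IsPGroup p ↥K → H ≠ ⊥ → K ≠ ⊥ →
      H ⊓ Subgroup.centralizer ((H : Subgroup G) : Set G) ≤
        K ⊓ Subgroup.centralizer ((K : Subgroup G) : Set G) → V H ≤ V K)
    (P : Sylow p G) (hPne : (P : Subgroup G) ≠ ⊥)
    (hloc : ∀ H : Subgroup G, (P : Subgroup G) ⊓ Subgroup.centralizer ((P : Subgroup G) : Set G) ≤ H →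
      H ≤ (P : Subgroup G) → LocCtl p W V (Subgroup.normalizer (H : Set G)))
    (X : Set G) (a : G) (hX : X ⊆ (P : Subgroup G)) (hXa : rc a X ⊆ (P : Subgroup G)) :
    Good (PStep W V ⊤ P) ((P : Subgroup G) : Set G) X a := by
  have hA' : Subgroup.closure X ≤ (P : Subgroup G) := (Subgroup.closure_le _).mpr hX
  have hg' : MulAut.conj a⁻¹ • Subgroup.closure X ≤ (P : Subgroup G) := by
    rw [← map_conj_eq_smul, MonoidHom.map_closure, Subgroup.closure_le]
    rintro _ ⟨x, hx, rfl⟩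
    have := hXa ⟨x, hx, rfl⟩
    simpa using this
  have hr := (reachA_centric P _ hA' a hg').mono Subgroup.subset_closure
  refine ReachA.bind ?_ hr
  rintro T ⟨⟨hTS, hTsyl⟩, hTcen⟩ x hx y hy
  have hTN₀ : T ≤ (P : Subgroup G) ⊓ Subgroup.normalizer (T : Set G) := le_inf hTS Subgroup.le_normalizer
  refine local_good2 hW hV hVmono P hPne hloc 0 ?_ T hTS
    (center_le_of_pCen P hTS hTcen) hTsyl (hTcen.mono hTN₀) Nat.card_pos x hx _
    (fun a ha => hTN₀ (hy ha)) ?_
  · intro M₀ h1 h2 _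
    exact star2 hW hV hWZ hVmono P hPne hloc _ M₀ h1 h2 rfl
  · intro a ha
    apply hTN₀
    have := rc_mono hy ha
    rwa [rc_normalizer hx] at this

end Cfsg.Agent.Helper33
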