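import Mathlib
import Cfsg.Prelude.Def_ConjugacyFunctors
import Cfsg.Agent.Lib.Helper33.CentricFusion
import Cfsg.Agent.Lib.Helper33.FamilyTransfer

set_option autoImplicit false
open Pointwise Cfsg
open scoped commutatorElement

namespace Cfsg.Agent.Helper33

variable {G : Type*} [Group G] [Finite G] {p : ℕ} [Fact p.Prime]

/-- the derived part of the centralizer of `V T` inside `H`, cut down to `T` -/
abbrev derivedPartC (V : Subgroup G → Subgroup G) (H T : Subgroup G) : Subgroup G :=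
  T ⊓ ⁅H ⊓ Subgroup.centralizer ((V T : Subgroup G) : Set G),
    H ⊓ Subgroup.centralizer ((V T : Subgroup G) : Set G)⁆

theorem derivedPartC_conj {V : Subgroup G → Subgroup G} (hV : IsConjugacyFunctor p V)
    {H T : Subgroup G} (hT : IsPGroup p T) {k : G} (hk : k ∈ H) :
    MulAut.conj k • derivedPartC V H T = derivedPartC V H (MulAut.conj k • T) := by
  unfold derivedPartC
  rw [conj_smul_inf, conj_smul_commutator, conj_smul_inf, conj_smul_eq_self_of_mem hk,
    ← centralizer_conj_smul, ← conjFunctor_conj hV hT]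

/-- local control of transfer by the pair, in inequality form -/
def LocTr (p : ℕ) (W V : Subgroup G → Subgroup G) (H : Subgroup G) : Prop :=
  ∃ Q : Subgroup G, IsSylIn p Q H ∧ Q ⊓ ⁅H, H⁆ ≤ derivedPart W H Q ⊔ derivedPartC V H Q

theorem pair_transfer_at {W V : Subgroup G → Subgroup G}
    (hW : IsConjugacyFunctor p W) (hV : IsConjugacyFunctor p V) {H : Subgroup G}
    (h : LocTr p W V H) {T₁ : Subgroup G} (hT₁ : IsSylIn p T₁ H) :
    T₁ ⊓ ⁅H, H⁆ ≤ derivedPart W H T₁ ⊔ derivedPartC V H T₁ := by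
  obtain ⟨T₀, hT₀, hle⟩ := h
  have hT₀p := hT₀.isPGroup
  obtain ⟨k, hkH, hk⟩ := hT₁.exists_conj_eq hT₀
  have h1 := conj_smul_le_conj_smul (g := k) hle
  rw [conj_smul_inf, conj_smul_commutator, conj_smul_eq_self_of_mem hkH, hk,
    Subgroup.smul_sup, derivedPart_conj hW hT₀p hkH, derivedPartC_conj hV hT₀p hkH, hk] at h1
  exact h1

theorem center_le_of_pCen' (P : Sylow p G) {T : Subgroup G} (hT : T ≤ (P : Subgroup G))
    (hcen : PCen p T) :
    (P : Subgroup G) ⊓ Subgroup.centralizer ((P : Subgroup G) : Set G) ≤ T :=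
  (hcen.center_le hT P.isPGroup').trans inf_le_left

/-- the global target subgroup -/
abbrev pairD (W V : Subgroup G → Subgroup G) (P : Sylow p G) : Subgroup G :=
  derivedPart W ⊤ (P : Subgroup G) ⊔ derivedPartC V ⊤ (P : Subgroup G)

theorem local_D2 {W V : Subgroup G → Subgroup G}
    (hW : IsConjugacyFunctor p W) (hV : IsConjugacyFunctor p V)
    (hVmono : ∀ H K : Subgroup G, IsPGroup p ↥H → IsPGroup p ↥K → H ≠ ⊥ → K ≠ ⊥ →
      H ⊓ Subgroup.centralizer ((H : Subgroup G) : Set G) ≤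
        K ⊓ Subgroup.centralizer ((K : Subgroup G) : Set G) → V H ≤ V K)
    (P : Sylow p G) (hPne : (P : Subgroup G) ≠ ⊥)
    (hloc : ∀ H : Subgroup G, (P : Subgroup G) ⊓ Subgroup.centralizer ((P : Subgroup G) : Set G) ≤ H →
      H ≤ (P : Subgroup G) → LocTr p W V (Subgroup.normalizer (H : Set G)))
    (c : ℕ)
    (hstar : ∀ M₀ : Subgroup G, M₀ ≤ (P : Subgroup G) → PCen p M₀ → c < Nat.card M₀ →
      M₀ ⊓ ⁅Subgroup.normalizer ((W M₀ : Subgroup G) : Set G),
        Subgroup.normalizer ((W M₀ : Subgroup G) : Set G)⁆ ≤ pairD W V P)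
    (T : Subgroup G) (hT : T ≤ (P : Subgroup G))
    (hZT : (P : Subgroup G) ⊓ Subgroup.centralizer ((P : Subgroup G) : Set G) ≤ T)
    (hsyl : IsSylIn p ((P : Subgroup G) ⊓ Subgroup.normalizer (T : Set G))
      (Subgroup.normalizer (T : Set G)))
    (hcen : PCen p ((P : Subgroup G) ⊓ Subgroup.normalizer (T : Set G)))
    (hcard : c < Nat.card ((P : Subgroup G) ⊓ Subgroup.normalizer (T : Set G) : Subgroup G)) :
    ((P : Subgroup G) ⊓ Subgroup.normalizer (T : Set G)) ⊓
      ⁅Subgroup.normalizer (T : Set G), Subgroup.normalizer (T : Set G)⁆ ≤ pairD W V P := by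
  have hSne : (P : Subgroup G) ⊓ Subgroup.normalizer (T : Set G) ≠ ⊥ := by
    intro h0
    rw [h0] at hcen
    exact not_pCen_bot P hPne hcen
  have hVle : V (P : Subgroup G) ≤ V ((P : Subgroup G) ⊓ Subgroup.normalizer (T : Set G)) :=
    hVmono _ _ P.isPGroup' (P.isPGroup'.to_le inf_le_left) hPne hSne
      (hcen.center_le inf_le_left P.isPGroup')
  refine (pair_transfer_at hW hV (hloc T hZT hT) hsyl).trans (sup_le ?_ ?_)
  · refine le_trans ?_ (hstar _ inf_le_left hcen hcard)
    exact inf_le_inf_left _ (Subgroup.commutator_mono inf_le_right inf_le_right)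
  · refine le_trans ?_ (le_sup_right : derivedPartC V ⊤ (P : Subgroup G) ≤ pairD W V P)
    have hC : Subgroup.normalizer (T : Set G) ⊓ Subgroup.centralizer
        ((V ((P : Subgroup G) ⊓ Subgroup.normalizer (T : Set G)) : Subgroup G) : Set G) ≤
        ⊤ ⊓ Subgroup.centralizer ((V (P : Subgroup G) : Subgroup G) : Set G) :=
      le_inf le_top (inf_le_right.trans (Subgroup.centralizer_le (by exact_mod_cast hVle)))
    exact inf_le_inf inf_le_left (Subgroup.commutator_mono hC hC)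

theorem star_D2 {W V : Subgroup G → Subgroup G}
    (hW : IsConjugacyFunctor p W) (hV : IsConjugacyFunctor p V)
    (hWZ : ∀ H : Subgroup G, IsPGroup p ↥H →
      H ⊓ Subgroup.centralizer ((H : Subgroup G) : Set G) ≤ W H)
    (hVmono : ∀ H K : Subgroup G, IsPGroup p ↥H → IsPGroup p ↥K → H ≠ ⊥ → K ≠ ⊥ →
      H ⊓ Subgroup.centralizer ((H : Subgroup G) : Set G) ≤
        K ⊓ Subgroup.centralizer ((K : Subgroup G) : Set G) → V H ≤ V K)
    (P : Sylow p G) (hPne : (P : Subgroup G) ≠ ⊥)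
    (hloc : ∀ H : Subgroup G, (P : Subgroup G) ⊓ Subgroup.centralizer ((P : Subgroup G) : Set G) ≤ H →
      H ≤ (P : Subgroup G) → LocTr p W V (Subgroup.normalizer (H : Set G)))
    (n : ℕ) : ∀ M₀ : Subgroup G, M₀ ≤ (P : Subgroup G) → PCen p M₀ →
      Nat.card (P : Subgroup G) - Nat.card M₀ = n →
      M₀ ⊓ ⁅Subgroup.normalizer ((W M₀ : Subgroup G) : Set G),
        Subgroup.normalizer ((W M₀ : Subgroup G) : Set G)⁆ ≤ pairD W V P := by
  induction n using Nat.strong_induction_on with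
  | _ n ih =>
  intro M₀ hM₀S hM₀cen hn
  by_cases hM₀ : M₀ = P
  · rw [hM₀]
    refine le_trans ?_ (le_sup_left : derivedPart W ⊤ (P : Subgroup G) ≤ pairD W V P)
    unfold derivedPart
    rw [top_inf_eq]
  · have hM₀p : IsPGroup p M₀ := P.isPGroup'.to_le hM₀S
    have hVle := conjFunctor_le hW hM₀p
    have hVS : W M₀ ≤ (P : Subgroup G) := hVle.trans hM₀S
    have hgrow := IsSylIn.normalizer_growth P.isPGroup' hM₀S hM₀
    have hNN : (P : Subgroup G) ⊓ Subgroup.normalizer (M₀ : Set G) ≤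
        (P : Subgroup G) ⊓ Subgroup.normalizer ((W M₀ : Subgroup G) : Set G) :=
      inf_le_inf_left _ (normalizer_le_normalizer_functor hW hM₀p)
    have hM₀M : M₀ ≤ (P : Subgroup G) ⊓ Subgroup.normalizer ((W M₀ : Subgroup G) : Set G) :=
      (le_of_lt hgrow).trans hNN
    have hcardM := card_lt_of_lt (lt_of_lt_of_le hgrow hNN)
    have hcardS : Nat.card M₀ ≤ Nat.card (P : Subgroup G) := Subgroup.card_le_of_le hM₀S
    have hstar' : ∀ M₀' : Subgroup G, M₀' ≤ (P : Subgroup G) → PCen p M₀' →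
        Nat.card M₀ < Nat.card M₀' →
        M₀' ⊓ ⁅Subgroup.normalizer ((W M₀' : Subgroup G) : Set G),
        Subgroup.normalizer ((W M₀' : Subgroup G) : Set G)⁆ ≤ pairD W V P := by
      intro M₀' h1 h2 h3
      have := Subgroup.card_le_of_le h1
      exact ih (Nat.card (P : Subgroup G) - Nat.card M₀') (by omega) M₀' h1 h2 rfl
    obtain ⟨k, hk1, hk2, hk3⟩ := exists_conj_fully_normalized P hVS
    have hMM' : MulAut.conj k • ((P : Subgroup G) ⊓ Subgroup.normalizer ((W M₀ : Subgroup G) : Set G)) ≤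
        (P : Subgroup G) ⊓ Subgroup.normalizer ((MulAut.conj k • W M₀ : Subgroup G) : Set G) := by
      refine le_inf hk1 ?_
      rw [normalizer_conj_smul]
      exact conj_smul_le_conj_smul inf_le_right
    have hcardM' := Subgroup.card_le_of_le hMM'
    rw [card_conj_smul] at hcardM'
    have hkM₀P : MulAut.conj k • M₀ ≤ (P : Subgroup G) :=
      (conj_smul_le_conj_smul hM₀M).trans hk1
    have hkM₀cen : PCen p (MulAut.conj k • M₀) := hM₀cen.conj k
    have hZT : (P : Subgroup G) ⊓ Subgroup.centralizer ((P : Subgroup G) : Set G) ≤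
        MulAut.conj k • W M₀ := by
      rw [← conjFunctor_conj hW hM₀p]
      exact (hkM₀cen.center_le hkM₀P P.isPGroup').trans (hWZ _ (isPGroup_conj_smul hM₀p))
    have hcenN : PCen p ((P : Subgroup G) ⊓
        Subgroup.normalizer ((MulAut.conj k • W M₀ : Subgroup G) : Set G)) :=
      hkM₀cen.mono ((conj_smul_le_conj_smul hM₀M).trans hMM')
    intro z hz
    obtain ⟨hz1, hz2⟩ := Subgroup.mem_inf.mp hz
    -- (i)
    have hi : k * z * k⁻¹ ∈ pairD W V P := by
      apply local_D2 hW hV hVmono P hPne hloc (Nat.card M₀) hstar' _ hk2 hZT hk3 hcenN (by omega)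
      refine Subgroup.mem_inf.mpr ⟨hMM' (conj_mem_conj_smul (hM₀M hz1)), ?_⟩
      rw [normalizer_conj_smul, ← conj_smul_commutator]
      exact conj_mem_conj_smul hz2
    -- (ii)
    have hii : z * (k * z * k⁻¹)⁻¹ ∈ pairD W V P := by
      obtain ⟨g', hagree, hr⟩ := reachA_centric P _ (inf_le_left : (P : Subgroup G) ⊓ Subgroup.normalizer ((W M₀ : Subgroup G) : Set G) ≤ P) k⁻¹
        (by rw [inv_inv]; exact hk1)
      have hr' := hr.filter_contains
      have := reach_transfer (D := pairD W V P) ?_ hr' z (hM₀M hz1)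
      · rw [hagree z (hM₀M hz1), inv_inv] at this
        exact this
      · rintro T ⟨⟨⟨hTS, hTsyl⟩, hTcen⟩, y, hy⟩ x hx a ha
        have hTN₀ : T ≤ (P : Subgroup G) ⊓ Subgroup.normalizer (T : Set G) := le_inf hTS Subgroup.le_normalizer
        have hc1 := card_le_of_rc_subset hy
        have hc2 := Subgroup.card_le_of_le hTN₀
        apply local_D2 hW hV hVmono P hPne hloc (Nat.card M₀) hstar' T hTS
          (center_le_of_pCen' P hTS hTcen) hTsyl (hTcen.mono hTN₀) (by omega)
        exact inf_le_inf_right _ hTN₀ (commutator_step_mem hx ha)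
    have := (pairD W V P).mul_mem hii hi
    have e : z * (k * z * k⁻¹)⁻¹ * (k * z * k⁻¹) = z := by group
    rwa [e] at this

theorem pair_transfer_global {W V : Subgroup G → Subgroup G}
    (hW : IsConjugacyFunctor p W) (hV : IsConjugacyFunctor p V)
    (hWZ : ∀ H : Subgroup G, IsPGroup p ↥H →
      H ⊓ Subgroup.centralizer ((H : Subgroup G) : Set G) ≤ W H)
    (hVmono : ∀ H K : Subgroup G, IsPGroup p ↥H → IsPGroup p ↥K → H ≠ ⊥ → K ≠ ⊥ →
      H ⊓ Subgroup.centralizer ((H : Subgroup G) : Set G) ≤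
        K ⊓ Subgroup.centralizer ((K : Subgroup G) : Set G) → V H ≤ V K)
    (P : Sylow p G) (hPne : (P : Subgroup G) ≠ ⊥)
    (hloc : ∀ H : Subgroup G, (P : Subgroup G) ⊓ Subgroup.centralizer ((P : Subgroup G) : Set G) ≤ H →
      H ≤ (P : Subgroup G) → LocTr p W V (Subgroup.normalizer (H : Set G))) :
    (P : Subgroup G) ⊓ ⁅(⊤ : Subgroup G), ⊤⁆ ≤ pairD W V P := by
  apply focal_le_of_gens P (pairD W V P)
  intro x hxS u hux
  have hA' : Subgroup.zpowers x ≤ (P : Subgroup G) := by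
    rw [Subgroup.zpowers_le]; exact hxS
  have hg' : MulAut.conj (u⁻¹)⁻¹ • Subgroup.zpowers x ≤ (P : Subgroup G) := by
    rw [inv_inv, conj_smul_le_iff]
    intro y hy
    obtain ⟨k, rfl⟩ := Subgroup.mem_zpowers_iff.mp hy
    have : u * x ^ k * u⁻¹ = (u * x * u⁻¹) ^ k := by
      rw [← MulAut.conj_apply, ← MulAut.conj_apply, map_zpow]
    rw [this]
    exact Subgroup.zpow_mem _ hux k
  obtain ⟨g', hagree, hr⟩ := reachA_centric P (Subgroup.zpowers x) hA' u⁻¹ hg'
  have hxz : x ∈ ((Subgroup.zpowers x : Subgroup G) : Set G) := Subgroup.mem_zpowers x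
  have := reach_transfer (D := pairD W V P) ?_ hr x hxz
  · rw [hagree x hxz, inv_inv] at this
    exact this
  · rintro T ⟨⟨hTS, hTsyl⟩, hTcen⟩ y hy a ha
    have hTN₀ : T ≤ (P : Subgroup G) ⊓ Subgroup.normalizer (T : Set G) := le_inf hTS Subgroup.le_normalizer
    apply local_D2 hW hV hVmono P hPne hloc 0 ?_ T hTS
      (center_le_of_pCen' P hTS hTcen) hTsyl (hTcen.mono hTN₀) Nat.card_pos
    · exact inf_le_inf_right _ hTN₀ (commutator_step_mem hy ha)
    · intro M₀ h1 h2 _
      exact star_D2 hW hV hWZ hVmono P hPne hloc _ M₀ h1 h2 rfl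

end Cfsg.Agent.Helper33
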