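import Mathlib
import Cfsg.Agent.Lib.Helper87.Psl3Defs

/-!
PSL3F piece (SCns) for helper87's lemma server (S5318): no proper nontrivial strongly closed
subgroup of `S3` when `-1` is a nonsquare.  (Backup copy by helper33.)
-/

set_option autoImplicit false

namespace Cfsg.Agent.Helper33.Psl3

open Matrix Cfsg Cfsg.Agent.Helper87.Psl3

variable {F : Type*} [Field F]

local notation "SL3" => Matrix.SpecialLinearGroup (Fin 3) F
local notation "GL2" => GL (Fin 2) F

theorem h33_tau_mul_tau : (tau : GL2) * tau = 1 := by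
  apply Units.ext
  rw [Units.val_mul, tau_val, Units.val_one]
  ext i j
  fin_cases i <;> fin_cases j <;> simp [Matrix.mul_apply, Fin.sum_univ_two]

theorem h33_tau_inv : (tau : GL2)⁻¹ = tau := inv_eq_of_mul_eq_one_right h33_tau_mul_tau

theorem h33_tau_conj_val (X : GL2) (a b : F) (h : (X : Matrix (Fin 2) (Fin 2) F) = rot a b) :
    ((tau * X * tau⁻¹ : GL2) : Matrix (Fin 2) (Fin 2) F) = rot a (-b) := by
  rw [h33_tau_inv, Units.val_mul, Units.val_mul, h, tau_val]
  ext i j
  fin_cases i <;> fin_cases j <;> simp [rot, Matrix.mul_apply, Fin.sum_univ_two]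

theorem h33_tau_conj_mem_P2 {X : GL2} (h : X ∈ P2) : tau * X * tau⁻¹ ∈ P2 := by
  obtain ⟨hE, m, hm⟩ := h
  obtain ⟨a, b, hab⟩ := (mem_Eu_iff X).1 hE
  refine ⟨(mem_Eu_iff _).2 ⟨a, -b, h33_tau_conj_val X a b hab⟩, m, ?_⟩
  rw [conj_pow, hm, mul_one, mul_inv_cancel]

theorem h33_mul_tau_val (X : GL2) (a b : F) (h : (X : Matrix (Fin 2) (Fin 2) F) = rot a b) :
    ((X * tau : GL2) : Matrix (Fin 2) (Fin 2) F) = !![a, -b; -b, -a] := by
  rw [Units.val_mul, h, tau_val]
  ext i j
  fin_cases i <;> fin_cases j <;> simp [rot, Matrix.mul_apply, Fin.sum_univ_two]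

theorem h33_mul_tau_sq (X : GL2) (a b : F) (h : (X : Matrix (Fin 2) (Fin 2) F) = rot a b)
    (n : Fˣ) (hn : (n : F) = a * a + b * b) : (X * tau) * (X * tau) = sc n := by
  apply Units.ext
  rw [Units.val_mul, h33_mul_tau_val X a b h]
  show _ = Matrix.scalar (Fin 2) (n : F)
  rw [hn]
  ext i j
  fin_cases i <;> fin_cases j <;> simp [Matrix.mul_apply, Fin.sum_univ_two] <;> ring

theorem h33_det_val (X : GL2) :
    ((Matrix.GeneralLinearGroup.det X : Fˣ) : F) = (X : Matrix (Fin 2) (Fin 2) F).det := rfl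

theorem h33_det_rot (X : GL2) (a b : F) (h : (X : Matrix (Fin 2) (Fin 2) F) = rot a b) :
    ((Matrix.GeneralLinearGroup.det X : Fˣ) : F) = a * a + b * b := by
  rw [h33_det_val, h, Matrix.det_fin_two]
  simp [rot]

theorem h33_det_tau : (Matrix.GeneralLinearGroup.det (tau : GL2) : Fˣ) = -1 := by
  apply Units.ext
  rw [h33_det_val, tau_val, Matrix.det_fin_two]
  simp

theorem h33_two_elt (hns : ∀ x : F, x * x ≠ -1) (n : F) :
    ∀ m : ℕ, n ^ (2 ^ m) = 1 → n = 1 ∨ n = -1
  | 0, h => Or.inl (by simpa using h)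
  | m + 1, h => by
    have h' : (n * n) ^ (2 ^ m) = 1 := by
      rw [← pow_two, ← pow_mul, ← pow_succ']
      exact h
    rcases h33_two_elt hns (n * n) m h' with h1 | h1
    · exact mul_self_eq_one_iff.mp h1
    · exact absurd h1 (hns n)

theorem h33_iota_ne_one {Y : GL2} (h : Matrix.GeneralLinearGroup.det Y ≠ 1) :
    (iota Y : SL3) ≠ 1 := by
  intro h1
  apply h
  have h3 := congrArg (fun g : SL3 => (g : Matrix (Fin 3) (Fin 3) F) 2 2) h1
  simp only [iota_val, iotaMat] at h3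
  have h4 : (((Matrix.GeneralLinearGroup.det Y : Fˣ)⁻¹ : Fˣ) : F) = 1 := by
    simpa using h3
  have h5 : ((Matrix.GeneralLinearGroup.det Y : Fˣ)⁻¹ : Fˣ) = 1 := Units.ext h4
  exact inv_eq_one.mp h5

theorem h33_S2_cases {X : GL2} (hX : X ∈ S2) : X ∈ P2 ∨ X * tau ∈ P2 := by
  have hS : (S2 : Subgroup GL2) = Subgroup.closure (((P2 : Subgroup GL2) : Set GL2) ∪ {tau}) := by
    rw [Subgroup.closure_union, Subgroup.closure_eq, ← Subgroup.zpowers_eq_closure]
    rfl
  rw [hS] at hX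
  have key : ∀ x : GL2, (x ∈ P2 ∨ x = tau) → ∀ y : GL2, (y ∈ P2 ∨ y * tau ∈ P2) →
      (x * y ∈ P2 ∨ x * y * tau ∈ P2) := by
    intro x hx y hy
    rcases hx with hx | rfl
    · rcases hy with hy | hy
      · exact Or.inl (P2.mul_mem hx hy)
      · right
        rw [mul_assoc]
        exact P2.mul_mem hx hy
    · rcases hy with hy | hy
      · right
        have := h33_tau_conj_mem_P2 hy
        rwa [h33_tau_inv] at this
      · left
        have := h33_tau_conj_mem_P2 hy
        rwa [mul_assoc, mul_assoc, mul_inv_cancel, mul_one] at this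
  refine Subgroup.closure_induction_left (p := fun X _ => X ∈ P2 ∨ X * tau ∈ P2) ?_ ?_ ?_ hX
  · exact Or.inl P2.one_mem
  · intro x hx y _ ih
    refine key x ?_ y ih
    rcases hx with hx | hx
    · exact Or.inl hx
    · exact Or.inr hx
  · intro x hx y _ ih
    refine key x⁻¹ ?_ y ih
    rcases hx with hx | hx
    · exact Or.inl (P2.inv_mem hx)
    · right
      rw [Set.mem_singleton_iff] at hx
      rw [hx, h33_tau_inv]

theorem h33_S2_pow {X : GL2} (hX : X ∈ S2) : ∃ m : ℕ, X ^ (2 ^ m) = 1 := by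
  rcases h33_S2_cases hX with h | h
  · exact h.2
  · have hX2 : X * X ∈ P2 := by
      have e : X * X = (X * tau) * (tau * (X * tau) * tau⁻¹) := by
        have e1 : (X * tau) * (tau * (X * tau) * tau⁻¹) = X * (tau * tau) * X := by group
        rw [e1, h33_tau_mul_tau, mul_one]
      rw [e]
      exact P2.mul_mem h (h33_tau_conj_mem_P2 h)
    obtain ⟨_, m, hm⟩ := hX2
    exact ⟨m + 1, by rw [pow_succ', pow_mul, pow_two]; exact hm⟩

theorem strongly_closed_nonsplit [Finite F] (h2 : (2 : F) ≠ 0) (hns : ∀ x : F, x * x ≠ -1)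
    (hINV : ∀ g : SL3, g * g = 1 → g ≠ 1 → ∃ c : SL3, c * g * c⁻¹ = zz)
    (hC4 : ∀ X : GL2, X * X = sc (-1) → (∀ c : Fˣ, X ≠ sc c) → ∃ C : GL2, C * X * C⁻¹ = M0)
    (T : Subgroup SL3) (hT : T ≤ S3) (hT1 : T ≠ ⊥)
    (hcl : ∀ t ∈ T, ∀ g : SL3, g * t * g⁻¹ ∈ (S3 : Subgroup SL3) → g * t * g⁻¹ ∈ T) : T = S3 := by
  classical
  have hneg : (-1 : Fˣ) ≠ 1 := by
    intro h
    have h' : ((-1 : Fˣ) : F) = 1 := by rw [h]; rfl
    rw [Units.val_neg, Units.val_one] at h'
    apply h2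
    linear_combination -h'
  -- an involution in `T`
  obtain ⟨t₀, ht₀T, ht₀2, ht₀1⟩ : ∃ t₀ ∈ T, t₀ * t₀ = 1 ∧ t₀ ≠ 1 := by
    have hex : ∃ x ∈ T, x ≠ 1 := by
      by_contra hcon
      push Not at hcon
      exact hT1 ((Subgroup.eq_bot_iff_forall T).2 hcon)
    obtain ⟨x, hxT, hx1⟩ := hex
    have hx2 : ∃ m : ℕ, x ^ (2 ^ m) = 1 := by
      obtain ⟨X, hXS, rfl⟩ := hT hxT
      obtain ⟨m, hm⟩ := h33_S2_pow hXS
      exact ⟨m, by rw [← map_pow, hm, map_one]⟩
    have hm : x ^ (2 ^ Nat.find hx2) = 1 := Nat.find_spec hx2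
    have hm0 : Nat.find hx2 ≠ 0 := by
      intro h0
      rw [h0] at hm
      simp at hm
      exact hx1 hm
    obtain ⟨k, hk⟩ := Nat.exists_eq_succ_of_ne_zero hm0
    refine ⟨x ^ (2 ^ k), T.pow_mem hxT _, ?_, ?_⟩
    · rw [← pow_add, ← two_mul, ← pow_succ', ← Nat.succ_eq_add_one, ← hk]
      exact hm
    · intro h
      exact Nat.find_min hx2 (m := k) (by omega) h
  -- all involutions of `S3` lie in `T`
  have hinv : ∀ u ∈ (S3 : Subgroup SL3), u * u = 1 → u ≠ 1 → u ∈ T := by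
    intro u huS hu2 hu1
    obtain ⟨c, hc⟩ := hINV t₀ ht₀2 ht₀1
    obtain ⟨d, hd⟩ := hINV u hu2 hu1
    have h := hd.trans hc.symm
    have e : u = (d⁻¹ * c) * t₀ * (d⁻¹ * c)⁻¹ := by
      calc u = d⁻¹ * (d * u * d⁻¹) * d := by group
        _ = d⁻¹ * (c * t₀ * c⁻¹) * d := by rw [h]
        _ = _ := by group
    rw [e]
    apply hcl t₀ ht₀T
    rw [← e]
    exact huS
  have htauS2 : (tau : GL2) ∈ S2 :=
    (le_sup_right : Subgroup.zpowers tau ≤ S2) (Subgroup.mem_zpowers tau)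
  have hP2S2 : (P2 : Subgroup GL2) ≤ S2 := le_sup_left
  have htau : (iota tau : SL3) ∈ T := by
    apply hinv _ (Subgroup.mem_map_of_mem _ htauS2)
    · rw [← map_mul, h33_tau_mul_tau, map_one]
    · apply h33_iota_ne_one
      rw [h33_det_tau]
      exact hneg
  -- norm one elements
  have hone : ∀ M ∈ (P2 : Subgroup GL2), ∀ a b : F, (M : Matrix (Fin 2) (Fin 2) F) = rot a b →
      a * a + b * b = 1 → (iota (M * tau) : SL3) ∈ T := by
    intro M hM a b hab h1
    apply hinv _ (Subgroup.mem_map_of_mem _ (S2.mul_mem (hP2S2 hM) htauS2))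
    · rw [← map_mul, h33_mul_tau_sq M a b hab 1 (by rw [Units.val_one, h1]), map_one, map_one]
    · apply h33_iota_ne_one
      rw [map_mul, h33_det_tau]
      have hd : (Matrix.GeneralLinearGroup.det M : Fˣ) = 1 := by
        apply Units.ext
        rw [h33_det_rot M a b hab, h1, Units.val_one]
      rw [hd, one_mul]
      exact hneg
  have hdrop : ∀ M : GL2, (iota (M * tau) : SL3) ∈ T → (iota M : SL3) ∈ T := by
    intro M h
    have e : (iota M : SL3) = iota (M * tau) * (iota tau)⁻¹ := by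
      rw [← map_inv, ← map_mul, mul_inv_cancel_right]
    rw [e]
    exact T.mul_mem h (T.inv_mem htau)
  have hM0P2 : (M0 : GL2) ∈ P2 := by
    refine ⟨(mem_Eu_iff _).2 ⟨0, 1, M0_val⟩, 2, ?_⟩
    apply Units.ext
    rw [Units.val_pow_eq_pow_val, M0_val, Units.val_one]
    have e2 : rot (0 : F) 1 * rot 0 1 = rot (-1) 0 := by
      rw [rot_mul]; congr 1 <;> ring
    have e4 : rot (-1 : F) 0 * rot (-1) 0 = rot 1 0 := by
      rw [rot_mul]; congr 1 <;> ring
    show rot (0 : F) 1 ^ 4 = 1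
    calc rot (0 : F) 1 ^ 4 = (rot 0 1 * rot 0 1) * (rot 0 1 * rot 0 1) := by
          rw [pow_succ, pow_succ, pow_succ, pow_one, mul_assoc]
      _ = 1 := by rw [e2, e4, rot_one]
  have hM0 : (iota M0 : SL3) ∈ T :=
    hdrop M0 (hone M0 hM0P2 0 1 M0_val (by ring))
  -- all of `P2`
  have hP2 : ∀ M ∈ (P2 : Subgroup GL2), (iota M : SL3) ∈ T := by
    intro M hM
    obtain ⟨a, b, hab⟩ := (mem_Eu_iff M).1 hM.1
    obtain ⟨m, hm⟩ := hM.2
    apply hdrop
    have hdet := h33_det_rot M a b hab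
    have hnm : (a * a + b * b) ^ (2 ^ m) = 1 := by
      rw [← hdet, ← Units.val_pow_eq_pow_val, ← map_pow, hm, map_one, Units.val_one]
    rcases h33_two_elt hns _ m hnm with h1 | h1
    · exact hone M hM a b hab h1
    · have hsq : (M * tau) * (M * tau) = sc (-1) :=
        h33_mul_tau_sq M a b hab (-1) (by rw [Units.val_neg, Units.val_one, h1])
      have hnsc : ∀ c : Fˣ, M * tau ≠ sc c := by
        intro c hc
        have hv := congrArg (fun Y : GL2 => (Y : Matrix (Fin 2) (Fin 2) F)) hc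
        simp only [h33_mul_tau_val M a b hab] at hv
        have hv' : (!![a, -b; -b, -a] : Matrix (Fin 2) (Fin 2) F) = Matrix.scalar (Fin 2) (c : F) := hv
        have e00 := congrFun (congrFun hv' 0) 0
        have e11 := congrFun (congrFun hv' 1) 1
        have e01 := congrFun (congrFun hv' 0) 1
        simp at e00 e11 e01
        have ha : a = 0 := by
          have : (2 : F) * a = 0 := by linear_combination e00 - e11
          rcases mul_eq_zero.mp this with h | h
          · exact absurd h h2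
          · exact h
        rw [ha, e01] at h1
        simp at h1
      obtain ⟨C, hC⟩ := hC4 _ hsq hnsc
      have hmem : (iota (M * tau) : SL3) ∈ S3 :=
        Subgroup.mem_map_of_mem _ (S2.mul_mem (hP2S2 hM) htauS2)
      have e : (iota (M * tau) : SL3) = (iota C)⁻¹ * iota M0 * ((iota C)⁻¹)⁻¹ := by
        rw [← hC]
        simp only [map_mul, map_inv]
        group
      rw [e]
      apply hcl _ hM0
      rw [← e]
      exact hmem
  apply le_antisymm hT
  show (S2 : Subgroup GL2).map iota ≤ T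
  rw [Subgroup.map_le_iff_le_comap]
  show P2 ⊔ Subgroup.zpowers tau ≤ _
  apply sup_le
  · intro M hM
    exact hP2 M hM
  · rw [Subgroup.zpowers_le]
    exact htau

end Cfsg.Agent.Helper33.Psl3
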