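import Mathlib
import Cfsg.Agent.Lib.Helper33.WC74
import Cfsg.Agent.Lib.Helper34.WCJ1

/-!
Group-level input for S5220 (generation `F = ⟨C_F(℧¹(Z(S))), N_F(J(S))⟩`): in a finite group `X` with
`C_X(O_p(X)) ≤ O_p(X)`, a subgroup `M` containing `C_X(℧¹(Z(S)))`, `N_X(W(S))` and every proper
overgroup of the Sylow subgroup `S` is the whole group, provided `W` satisfies the local quadratic
hypothesis `QuadLoc` (true for the abelian Thompson subgroup by Thompson replacement).
-/

set_option autoImplicit false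
universe u
open Pointwise Cfsg
open scoped commutatorElement

namespace Cfsg.Agent.Helper33.QuadGen

open Cfsg.Agent.Helper33

variable {p : ℕ} [Fact p.Prime]

theorem gen74 (X : Type u) [Group X] [Finite X] (W : Subgroup X → Subgroup X) (S : Sylow p X)
    (hloc : QuadLoc p X W)
    (hchar : Subgroup.centralizer ((pCore p X : Subgroup X) : Set X) ≤ pCore p X)
    (M : Subgroup X)
    (hC : Subgroup.centralizer {x : X | ∃ z ∈ (S : Subgroup X) ⊓
      Subgroup.centralizer ((S : Subgroup X) : Set X), x = z ^ p} ≤ M)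
    (hN : Subgroup.normalizer ((W (S : Subgroup X) : Subgroup X) : Set X) ≤ M)
    (hKs : ∀ K : Subgroup X, (S : Subgroup X) ≤ K → K ≠ ⊤ → K ≤ M) : M = ⊤ := by
  by_contra hMtop
  set Q := pCore p X with hQ
  haveI hQn : Q.Normal := pCore_normal p
  have hQS : Q ≤ (S : Subgroup X) := pCore_le_sylow S
  obtain ⟨B, hB⟩ : ∃ B : Subgroup X, B = Q ⊓ Subgroup.centralizer (Q : Set X) := ⟨_, rfl⟩
  have hZB : (S : Subgroup X) ⊓ Subgroup.centralizer ((S : Subgroup X) : Set X) ≤ B := by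
    intro z hz
    have hzC : z ∈ Subgroup.centralizer (Q : Set X) :=
      Subgroup.centralizer_le (by exact_mod_cast hQS) hz.2
    rw [hB]
    exact Subgroup.mem_inf.mpr ⟨hchar hzC, hzC⟩
  haveI hBn : B.Normal := by rw [hB]; infer_instance
  have hBc : ∀ x ∈ B, ∀ y ∈ B, x * y = y * x := by
    intro x hx y hy
    rw [hB] at hx hy
    exact Subgroup.mem_centralizer_iff.mp hy.2 x hx.1
  have hnot : ¬ (⊤ : Subgroup X) ≤
      Subgroup.normalizer ((W (S : Subgroup X) : Subgroup X) : Set X) :=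
    fun h => hMtop (top_le_iff.mp (h.trans hN))
  obtain ⟨g, hgS, hgQ, hquad⟩ := hloc ⊤ S le_top S.isPGroup' (isSylIn_top S).2.2 hnot
  rw [pCoreOf_top] at hgQ hquad
  rw [← hQ, ← hB] at hquad
  obtain ⟨v, hvS, hvQ, hvpQ, hvz⟩ := exists_power_not_mem Q (S : Subgroup X) S.isPGroup' g hgS hgQ
  have hquadv : ⁅⁅B, Subgroup.zpowers v⁆, Subgroup.zpowers v⁆ = ⊥ := by
    rw [eq_bot_iff, ← hquad]
    have hle : Subgroup.zpowers v ≤ Subgroup.zpowers g := Subgroup.zpowers_le.mpr hvz
    exact Subgroup.commutator_mono (Subgroup.commutator_mono le_rfl hle) hle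
  have hvp : ∀ b ∈ B, v ^ p * b = b * v ^ p := by
    intro b hb
    rw [hB] at hb
    exact Subgroup.mem_centralizer_iff.mp hb.2 _ hvpQ
  have hcomm := quad_pow_comm B hBc v hquadv hvp
  obtain ⟨K, hK⟩ : ∃ K : Subgroup X, K = Subgroup.centralizer {x : X | ∃ b ∈ B, x = b ^ p} :=
    ⟨_, rfl⟩
  haveI hKn : K.Normal := by
    refine ⟨fun k hk x => ?_⟩
    rw [hK, Subgroup.mem_centralizer_iff] at hk ⊢
    rintro _ ⟨b, hb, rfl⟩
    have hb' : x⁻¹ * b * x ∈ B := by simpa using hBn.conj_mem b hb x⁻¹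
    have h3 := hk _ ⟨_, hb', rfl⟩
    have e : (x⁻¹ * b * x) ^ p = x⁻¹ * b ^ p * x := by
      have := conj_pow (a := x⁻¹) (b := b) (i := p)
      rwa [inv_inv] at this
    rw [e] at h3
    calc b ^ p * (x * k * x⁻¹) = x * (x⁻¹ * b ^ p * x * k) * x⁻¹ := by group
      _ = x * (k * (x⁻¹ * b ^ p * x)) * x⁻¹ := by rw [h3]
      _ = x * k * x⁻¹ * b ^ p := by group
  have hvK : v ∈ K := by
    rw [hK, Subgroup.mem_centralizer_iff]
    rintro _ ⟨b, hb, rfl⟩
    exact (hcomm b hb).symm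
  have hKM : K ≤ M := by
    intro k hk
    apply hC
    rw [hK, Subgroup.mem_centralizer_iff] at hk
    rw [Subgroup.mem_centralizer_iff]
    rintro _ ⟨z, hz, rfl⟩
    exact hk _ ⟨z, hZB hz, rfl⟩
  have h2 := inf_le_pCore_of_le_M S M hMtop hKs K hKM
  exact hvQ (h2 (Subgroup.mem_inf.mpr ⟨hvS, hvK⟩))

/-- the abelian Thompson subgroup satisfies the local quadratic hypothesis (Thompson replacement,
helper34) -/
theorem quadLoc_jA (X : Type u) [Group X] [Finite X] :
    QuadLoc p X (fun P : Subgroup X => Cfsg.thompsonSubgroupAOf P) := by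
  intro H T hTH hT hidx hnot
  exact Cfsg.Agent.Helper34.WCJ.exists_quadratic H T hTH hT hidx hnot

/-- **Group-level form of S5220**, for a group of characteristic `p`. -/
theorem gen_jA (X : Type u) [Group X] [Finite X] (S : Sylow p X)
    (hchar : Subgroup.centralizer ((pCore p X : Subgroup X) : Set X) ≤ pCore p X)
    (M : Subgroup X)
    (hC : Subgroup.centralizer {x : X | ∃ z ∈ (S : Subgroup X) ⊓
      Subgroup.centralizer ((S : Subgroup X) : Set X), x = z ^ p} ≤ M)
    (hN : Subgroup.normalizer ((Cfsg.thompsonSubgroupAOf (S : Subgroup X) : Subgroup X) : Set X) ≤ M)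
    (hKs : ∀ K : Subgroup X, (S : Subgroup X) ≤ K → K ≠ ⊤ → K ≤ M) : M = ⊤ :=
  gen74 X _ S (quadLoc_jA X) hchar M hC hN hKs

end Cfsg.Agent.Helper33.QuadGen
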