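import Mathlib
import Cfsg.Agent.Lib.Helper93.RU0
import Cfsg.Agent.Lib.Helper44.RUD2
import Cfsg.Agent.Lib.Helper79.RUB1

/-!
# RU server (helper93, S2280): piece C1 `shift_mem` (+ the additive group `A` of functionals)
-/

set_option autoImplicit false

namespace Cfsg.Agent.Helper33.RU

open Matrix Cfsg.Agent.Helper93.RU

variable {F : Type*} [Field F] {m : ℕ}

theorem h33_dot_e0 (φ : Fin (m + 3) → F) : φ ⬝ᵥ eV 0 = φ 0 := by
  simp [eV]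

theorem h33_shR_zero (φ : Fin (m + 3) → F) : shR φ 0 = 0 := by
  simp [shR]

theorem h33_tvS_zero (v : Fin (m + 3) → F) : tvS v (0 : Fin (m + 3) → F) = 1 := by
  apply Subtype.ext
  rw [Cfsg.Agent.Helper44.RU.h44_tvS_val v 0 (by simp)]
  simp [tvM]

/-- (A2), own copy -/
theorem h33_tvS_mul (v φ ψ : Fin (m + 3) → F) (hφ : φ ⬝ᵥ v = 0) (hψ : ψ ⬝ᵥ v = 0) :
    tvS v φ * tvS v ψ = tvS v (φ + ψ) := by
  have hs : (φ + ψ) ⬝ᵥ v = 0 := by rw [add_dotProduct, hφ, hψ, add_zero]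
  apply Subtype.ext
  rw [Matrix.SpecialLinearGroup.coe_mul, Cfsg.Agent.Helper44.RU.h44_tvS_val v φ hφ,
    Cfsg.Agent.Helper44.RU.h44_tvS_val v ψ hψ, Cfsg.Agent.Helper44.RU.h44_tvS_val v _ hs]
  unfold tvM
  rw [Matrix.mul_add, Matrix.add_mul, Matrix.add_mul, Matrix.mul_one, Matrix.one_mul,
    Matrix.vecMulVec_mul_vecMulVec, hφ, zero_smul, Matrix.vecMulVec_zero,
    add_zero, Matrix.vecMulVec_add, add_assoc, Matrix.mul_one]

/-- (A3), own copy -/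
theorem h33_tvS_inv (v φ : Fin (m + 3) → F) (hφ : φ ⬝ᵥ v = 0) : (tvS v φ)⁻¹ = tvS v (-φ) := by
  apply inv_eq_of_mul_eq_one_right
  rw [h33_tvS_mul v φ (-φ) hφ (by rw [neg_dotProduct, hφ, neg_zero]), add_neg_cancel,
    h33_tvS_zero]

theorem shift_mem (H : Subgroup (SLm m F)) (hu : uEl m F ∈ H) (φ : Fin (m + 3) → F) (h0 : φ 0 = 0)
    (hφ : tvS (eV 0) φ ∈ H) : tvS (eV 0) (shR φ) ∈ H := by
  have hφ0 : φ ⬝ᵥ eV 0 = 0 := by rw [h33_dot_e0, h0]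
  have hs0 : shR φ ⬝ᵥ eV 0 = 0 := by rw [h33_dot_e0, h33_shR_zero]
  obtain ⟨hu0, huφ⟩ := Cfsg.Agent.Helper79.RU.uEl_act (m := m) φ
  obtain ⟨-, hconj⟩ := Cfsg.Agent.Helper44.RU.h44_tvS_conj (uEl m F)⁻¹ (eV 0) φ hφ0
  rw [inv_inv] at hconj
  have hinv0 : ((uEl m F)⁻¹).1 *ᵥ eV 0 = eV 0 := by
    have h1 : ((uEl m F)⁻¹).1 *ᵥ ((uEl m F).1 *ᵥ eV 0) = eV 0 := by
      rw [Matrix.mulVec_mulVec, ← Matrix.SpecialLinearGroup.coe_mul, inv_mul_cancel]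
      simp
    rwa [hu0] at h1
  rw [hinv0, huφ] at hconj
  have hmem : tvS (eV 0) (φ + shR φ) ∈ H := by
    rw [← hconj]
    exact H.mul_mem (H.mul_mem (H.inv_mem hu) hφ) hu
  rw [← h33_tvS_mul _ _ _ hφ0 hs0] at hmem
  have := H.mul_mem (H.inv_mem hφ) hmem
  rwa [inv_mul_cancel_left] at this

end Cfsg.Agent.Helper33.RU
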