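import Mathlib
import Cfsg.Agent.Lib.Helper93.RU0
import Cfsg.Agent.Lib.Helper33.RUC1

/-!
# RU server (helper93, S2280): the additive group `A` of functionals `φ` with `1 + e₀ φᵀ ∈ H`,
and the vectors `E j` (`= e_j` for `j < m + 3`, `= 0` otherwise)
-/

set_option autoImplicit false

namespace Cfsg.Agent.Helper33.RU

open Matrix Cfsg.Agent.Helper93.RU

variable {F : Type*} [Field F] {m : ℕ}

/-- the functionals `φ` with `φ 0 = 0` and `1 + e₀ φᵀ ∈ H` -/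
def h33_A (H : Subgroup (SLm m F)) : AddSubgroup (Fin (m + 3) → F) where
  carrier := {φ | φ 0 = 0 ∧ tvS (eV 0) φ ∈ H}
  zero_mem' := ⟨rfl, by rw [h33_tvS_zero]; exact H.one_mem⟩
  add_mem' := by
    rintro a b ⟨ha0, ha⟩ ⟨hb0, hb⟩
    refine ⟨by simp [ha0, hb0], ?_⟩
    rw [← h33_tvS_mul _ _ _ (by rw [h33_dot_e0, ha0]) (by rw [h33_dot_e0, hb0])]
    exact H.mul_mem ha hb
  neg_mem' := by
    rintro a ⟨ha0, ha⟩
    refine ⟨by simp [ha0], ?_⟩
    rw [← h33_tvS_inv _ _ (by rw [h33_dot_e0, ha0])]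
    exact H.inv_mem ha

theorem h33_mem_A (H : Subgroup (SLm m F)) (φ : Fin (m + 3) → F) :
    φ ∈ h33_A H ↔ φ 0 = 0 ∧ tvS (eV 0) φ ∈ H := Iff.rfl

theorem h33_shR_mem_A (H : Subgroup (SLm m F)) (hu : uEl m F ∈ H) (φ : Fin (m + 3) → F)
    (hφ : φ ∈ h33_A H) : shR φ ∈ h33_A H :=
  ⟨h33_shR_zero φ, shift_mem H hu φ hφ.1 hφ.2⟩

/-- `E j = e_j` for `j < m + 3`, and `0` otherwise -/
def h33_E (j : ℕ) : Fin (m + 3) → F := fun i => if i.val = j then 1 else 0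

theorem h33_E_eq (k : Fin (m + 3)) : (eV k : Fin (m + 3) → F) = h33_E k.val := by
  ext i
  simp only [eV, h33_E, Pi.single_apply, Fin.ext_iff]

theorem h33_E_big (j : ℕ) (hj : m + 3 ≤ j) : (h33_E j : Fin (m + 3) → F) = 0 := by
  ext i
  have := i.isLt
  simp only [h33_E, Pi.zero_apply]
  rw [if_neg (by omega)]

theorem h33_shR_E (a : F) (j : ℕ) :
    shR (a • (h33_E j : Fin (m + 3) → F)) = a • h33_E (j + 1) := by
  ext i
  by_cases hi : i.val = 0
  · simp [shR, h33_E, hi]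
  · have h1 : (i.val - 1 = j) ↔ (i.val = j + 1) := by omega
    simp [shR, h33_E, hi, h1]

theorem h33_shR_add (φ ψ : Fin (m + 3) → F) : shR (φ + ψ) = shR φ + shR ψ := by
  ext i
  by_cases hi : i.val = 0
  · simp [shR, hi]
  · simp [shR, hi]

theorem h33_E_zero (j : ℕ) (hj : 1 ≤ j) : (h33_E j : Fin (m + 3) → F) 0 = 0 := by
  have h : ¬ ((0 : Fin (m + 3)).val = j) := by
    rw [Fin.val_zero]; omega
  unfold h33_E
  exact if_neg h

/-- if `a • e₁ ∈ A` then `a • E j ∈ A` for every `j ≥ 1` -/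
theorem h33_smul_E_mem (H : Subgroup (SLm m F)) (hu : uEl m F ∈ H) (a : F)
    (h1 : a • (h33_E 1 : Fin (m + 3) → F) ∈ h33_A H) (j : ℕ) :
    a • (h33_E (j + 1) : Fin (m + 3) → F) ∈ h33_A H := by
  induction j with
  | zero => exact h1
  | succ j ih =>
    rw [← h33_shR_E]
    exact h33_shR_mem_A H hu _ ih

end Cfsg.Agent.Helper33.RU
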