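import Mathlib
import Cfsg.Agent.Lib.Helper93.RU0
import Cfsg.Agent.Lib.Helper33.RUA

/-!
# RU server (helper93, S2280): core of piece C3 `step` (with the conclusion of (C2) as a hypothesis)
-/

set_option autoImplicit false

namespace Cfsg.Agent.Helper33.RU

open Matrix Cfsg.Agent.Helper93.RU

variable {F : Type*} [Field F] {m : ℕ}

theorem h33_step_core (H : Subgroup (SLm m F)) (hu : uEl m F ∈ H) (ε lam μ : F)
    (hε : ε = 1 ∨ ε = -1)
    (hθ : tvS (eV 0) ((μ * lam * ε) • (eV 1 + eV 2)) ∈ H) : t12 (μ * lam) ∈ H := by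
  obtain ⟨κ, hκ⟩ : ∃ κ, κ = μ * lam * ε := ⟨_, rfl⟩
  rw [← hκ] at hθ
  have hP : ∀ j : ℕ, κ • (h33_E (j + 1) : Fin (m + 3) → F) + κ • h33_E (j + 2) ∈ h33_A H := by
    intro j
    induction j with
    | zero =>
      refine ⟨?_, ?_⟩
      · simp [h33_E_zero]
      · have e : κ • (h33_E (0 + 1) : Fin (m + 3) → F) + κ • h33_E (0 + 2) =
            κ • (eV 1 + eV 2) := by
          rw [h33_E_eq, h33_E_eq, smul_add, Fin.val_one, Fin.val_two]
        rw [e]
        exact hθ
    | succ j ih =>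
      have h := h33_shR_mem_A H hu _ ih
      rwa [h33_shR_add, h33_shR_E, h33_shR_E] at h
  have hQ : ∀ d j : ℕ, m + 3 ≤ j + 1 + d →
      κ • (h33_E (j + 1) : Fin (m + 3) → F) ∈ h33_A H := by
    intro d
    induction d with
    | zero =>
      intro j hj
      rw [h33_E_big _ (by omega), smul_zero]
      exact (h33_A H).zero_mem
    | succ d ih =>
      intro j hj
      have h1 := ih (j + 1) (by omega)
      have h2 := hP j
      have h3 := (h33_A H).sub_mem h2 h1
      rwa [add_sub_cancel_right] at h3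
  have h1 : κ • (h33_E 1 : Fin (m + 3) → F) ∈ h33_A H := hQ (m + 2) 0 (by omega)
  have h2 : (μ * lam) • (eV 1 : Fin (m + 3) → F) ∈ h33_A H := by
    rw [h33_E_eq, Fin.val_one]
    rcases hε with h | h
    · have e : μ * lam = κ := by rw [hκ, h, mul_one]
      rw [e]
      exact h1
    · have e : (μ * lam) • (h33_E 1 : Fin (m + 3) → F) = -(κ • h33_E 1) := by
        rw [hκ, h, mul_neg, mul_one, neg_smul, neg_neg]
      rw [e]
      exact (h33_A H).neg_mem h1
  exact h2.2

end Cfsg.Agent.Helper33.RU
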