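import Mathlib
import Cfsg.Agent.Lib.Helper93.RU0
import Cfsg.Agent.Lib.Helper33.RUC3Core
import Cfsg.Agent.Lib.Helper41.RUC2

/-!
# RU server (helper93, S2280): piece C3 `step`
-/

set_option autoImplicit false

namespace Cfsg.Agent.Helper33.RU

open Matrix Cfsg.Agent.Helper93.RU

variable {F : Type*} [Field F] {m : ℕ}

theorem step (H : Subgroup (SLm m F)) (hu : uEl m F ∈ H) (ε lam μ : F) (hε : ε = 1 ∨ ε = -1)
    (hl : lEl ε ∈ H) (hlam : t13 lam ∈ H) (hμ : t13 μ ∈ H) : t12 (μ * lam) ∈ H :=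
  h33_step_core H hu ε lam μ hε (Cfsg.Agent.Helper41.RU.comm_rule H ε lam μ hl hlam hμ)

end Cfsg.Agent.Helper33.RU
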