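import Mathlib
import Cfsg.Agent.Lib.Helper93.RU0
import Cfsg.Agent.Lib.Helper33.RUA

/-!
# RU server (helper93, S2280): piece C7 `e0_mem_W`
-/

set_option autoImplicit false

namespace Cfsg.Agent.Helper33.RU

open Matrix Cfsg.Agent.Helper93.RU

variable {F : Type*} [Field F] {m : ℕ}

theorem e0_mem_W (H : Subgroup (SLm m F)) (hu : uEl m F ∈ H) (h12 : ∀ a : F, t12 a ∈ H) :
    eV 0 ∈ Wset H := by
  intro φ hφ
  rw [h33_dot_e0] at hφ
  have hsum : φ = ∑ i, φ i • (eV i : Fin (m + 3) → F) := by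
    ext k
    simp [eV, Finset.sum_apply, Pi.single_apply]
  have hmem : φ ∈ h33_A H := by
    rw [hsum]
    apply AddSubgroup.sum_mem
    intro i _
    by_cases hi : i.val = 0
    · have : i = 0 := Fin.ext hi
      rw [this, hφ, zero_smul]
      exact (h33_A H).zero_mem
    · rw [h33_E_eq]
      obtain ⟨j, hj⟩ : ∃ j, i.val = j + 1 := ⟨i.val - 1, by omega⟩
      rw [hj]
      apply h33_smul_E_mem H hu
      refine ⟨?_, ?_⟩
      · simp [h33_E_zero]
      · have h := h12 (φ i)
        unfold t12 at h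
        rwa [h33_E_eq (1 : Fin (m + 3)), Fin.val_one] at h
  exact hmem.2

end Cfsg.Agent.Helper33.RU
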