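import Mathlib
import Cfsg.Agent.Lib.Helper31.SCHDefs
import Cfsg.Agent.Lib.Helper63.PLen
import Cfsg.Agent.Lib.Helper55.Cores

/-!
# SCH (G3a) `normal_in_sub` (helper31 server, S4394)
-/

set_option autoImplicit false

namespace Cfsg.Agent.Helper33.SCH
open Cfsg Cfsg.Agent.Helper31.SCH

/-- unfolding a chain of `p`-length one from `⊥` to `⊤` -/
theorem h33_PL_one {H : Type*} [Group H] {p : ℕ} (k : ℕ) (A D : Subgroup H)
    (h : Cfsg.Agent.Helper63.PL p k A D) : k = 1 → A = ⊥ → D = ⊤ →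
    ∃ B C : Subgroup H, B.Normal ∧ C.Normal ∧ B ≤ C ∧
      ((⊥ : Subgroup H).relIndex B).Coprime p ∧ (∃ m : ℕ, B.relIndex C = p ^ m) ∧
      C.index.Coprime p := by
  cases h with
  | base A B hAB hA hB hc => intro hk; omega
  | step k A B C D h0 hBC hCD hCn hDn hm hc =>
    intro hk hA hD
    have hk0 : k = 0 := by omega
    subst hk0
    subst hA
    subst hD
    cases h0 with
    | base A B hAB hA hB hc0 =>
      refine ⟨B, C, hB, hCn, hBC, hc0, hm, ?_⟩
      rwa [Subgroup.relIndex_top_right] at hc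

section G
variable {G : Type*} [Group G] [Finite G] {p : ℕ} [Fact p.Prime]

/-- (G3a) [M] in `G₁`: `PL p 1 ⊥ ⊤` gives normal `B ≤ C`, `|B|` prime to `p`, `C/B` a `p`-group, `|G₁ : C|`
prime to `p`.  `B` and the normal `p`-subgroup `(pCore p G).subgroupOf G₁` commute (coprime normal subgroups),
so the image of `B` in `G` lies in `C_G(O_p(G)) ≤ O_p(G)`, `B = ⊥`; `C` is a normal Sylow `p`-subgroup of
`G₁`, so it is `P.subgroupOf G₁`. -/
theorem normal_in_sub (hC : Subgroup.centralizer (pCore p G : Set G) ≤ pCore p G) (P : Sylow p G)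
    (G₁ : Subgroup G) (hle : (P : Subgroup G) ≤ G₁) (hpl : PLengthLE p 1 ↥G₁) :
    ∀ g ∈ G₁, ∀ x ∈ (P : Subgroup G), g * x * g⁻¹ ∈ (P : Subgroup G) := by
  have hp : p.Prime := Fact.out
  have hPL := Cfsg.Agent.Helper63.PL_of_PLengthLE (p := p) (G := ↥G₁) hpl
  obtain ⟨B, C, hBn, hCn, hBC, hc0, ⟨m, hm⟩, hci⟩ := h33_PL_one 1 ⊥ ⊤ hPL rfl rfl rfl
  rw [Subgroup.relIndex_bot_left] at hc0
  have hHn : (pCore p G).Normal := inferInstance
  have hHP : pCore p G ≤ (P : Subgroup G) := Cfsg.Agent.Helper55.pCore_le_sylow P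
  have hHp : IsPGroup p (pCore p G) := Cfsg.Agent.Helper55.isPGroup_pCore
  -- an element of `G` whose order is a power of `p` and divides a number prime to `p` is trivial
  have hone : ∀ (c : G) (n : ℕ), n.Coprime p → orderOf c ∣ n → (∃ k : ℕ, orderOf c = p ^ k) →
      c = 1 := by
    intro c n hn hd ⟨k, hk⟩
    have h1 : (orderOf c).Coprime p := Nat.Coprime.coprime_dvd_left hd hn
    rw [hk] at h1
    rcases Nat.eq_zero_or_pos k with rfl | hkpos
    · rw [pow_zero] at hk; exact orderOf_eq_one_iff.1 hk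
    · exfalso
      have : p ∣ p ^ k := dvd_pow_self p hkpos.ne'
      have h2 : p ∣ Nat.gcd (p ^ k) p := Nat.dvd_gcd this dvd_rfl
      rw [Nat.Coprime] at h1
      rw [h1] at h2
      exact hp.one_lt.ne' (Nat.dvd_one.1 h2)
  -- `B = ⊥`
  have hB : ∀ b ∈ B, b = 1 := by
    intro b hb
    -- `b` centralises `O_p(G)`
    have hbc : (b : G) ∈ Subgroup.centralizer (pCore p G : Set G) := by
      rw [Subgroup.mem_centralizer_iff]
      intro h hh
      have hhG : h ∈ G₁ := hle (hHP hh)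
      -- the commutator `b h b⁻¹ h⁻¹`
      have hcB : b * (⟨h, hhG⟩ * b⁻¹ * (⟨h, hhG⟩ : G₁)⁻¹) ∈ B :=
        B.mul_mem hb (hBn.conj_mem b⁻¹ (B.inv_mem hb) ⟨h, hhG⟩)
      have hcH : (b : G) * h * (b : G)⁻¹ * h⁻¹ ∈ pCore p G :=
        (pCore p G).mul_mem (hHn.conj_mem h hh b) ((pCore p G).inv_mem hh)
      have hval : ((b * (⟨h, hhG⟩ * b⁻¹ * (⟨h, hhG⟩ : G₁)⁻¹) : G₁) : G)
          = (b : G) * h * (b : G)⁻¹ * h⁻¹ := by
        simp only [Subgroup.coe_mul, Subgroup.coe_inv]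
        group
      have hord1 : orderOf ((b : G) * h * (b : G)⁻¹ * h⁻¹) ∣ Nat.card B := by
        rw [← hval, Subgroup.orderOf_coe]
        have := Subgroup.orderOf_dvd_natCard B hcB
        exact this
      have hord2 : ∃ k : ℕ, orderOf ((b : G) * h * (b : G)⁻¹ * h⁻¹) = p ^ k := by
        obtain ⟨k, hk⟩ := hHp ⟨_, hcH⟩
        have hd : orderOf ((b : G) * h * (b : G)⁻¹ * h⁻¹) ∣ p ^ k := by
          apply orderOf_dvd_of_pow_eq_one
          have := congrArg Subtype.val hk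
          simpa using this
        obtain ⟨j, -, hj⟩ := (Nat.dvd_prime_pow hp).1 hd
        exact ⟨j, hj⟩
      have h1 := hone _ _ hc0 hord1 hord2
      calc h * (b : G) = ((b : G) * h * (b : G)⁻¹ * h⁻¹)⁻¹ * ((b : G) * h) := by group
        _ = (b : G) * h := by rw [h1, inv_one, one_mul]
    have hbH : (b : G) ∈ pCore p G := hC hbc
    have hord1 : orderOf (b : G) ∣ Nat.card B := by
      rw [Subgroup.orderOf_coe]
      exact Subgroup.orderOf_dvd_natCard B hb
    have hord2 : ∃ k : ℕ, orderOf (b : G) = p ^ k := by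
      obtain ⟨k, hk⟩ := hHp ⟨_, hbH⟩
      have hd : orderOf (b : G) ∣ p ^ k := by
        apply orderOf_dvd_of_pow_eq_one
        have := congrArg Subtype.val hk
        simpa using this
      obtain ⟨j, -, hj⟩ := (Nat.dvd_prime_pow hp).1 hd
      exact ⟨j, hj⟩
    exact Subtype.ext (hone _ _ hc0 hord1 hord2)
  have hBbot : B = ⊥ := (Subgroup.eq_bot_iff_forall B).2 hB
  -- `C` is a `p`-group
  have hCcard : Nat.card C = p ^ m := by
    rw [← Subgroup.relIndex_bot_left, ← hBbot]; exact hm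
  have hCp : IsPGroup p C := IsPGroup.of_card hCcard
  -- `P ≤ C` (as subgroups of `G`)
  have hPC : ∀ x (hx : x ∈ (P : Subgroup G)), (⟨x, hle hx⟩ : G₁) ∈ C := by
    intro x hx
    haveI := hCn
    have hq : (QuotientGroup.mk' C (⟨x, hle hx⟩ : G₁)) = 1 := by
      apply orderOf_eq_one_iff.1
      have hd1 : orderOf (QuotientGroup.mk' C (⟨x, hle hx⟩ : G₁)) ∣ orderOf (⟨x, hle hx⟩ : G₁) :=
        orderOf_map_dvd _ _
      have hd2 : orderOf (QuotientGroup.mk' C (⟨x, hle hx⟩ : G₁)) ∣ C.index := by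
        rw [Subgroup.index_eq_card]
        exact orderOf_dvd_natCard _
      obtain ⟨k, hk⟩ := P.isPGroup' ⟨x, hx⟩
      have hd3 : orderOf (⟨x, hle hx⟩ : G₁) ∣ p ^ k := by
        apply orderOf_dvd_of_pow_eq_one
        apply Subtype.ext
        have := congrArg Subtype.val hk
        simpa using this
      have hd4 : orderOf (QuotientGroup.mk' C (⟨x, hle hx⟩ : G₁)) ∣ p ^ k := hd1.trans hd3
      have hcop : (C.index).Coprime (p ^ k) := Nat.Coprime.pow_right k hci
      exact Nat.eq_one_of_dvd_coprimes hcop hd2 hd4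
    exact (QuotientGroup.eq_one_iff _).1 hq
  -- maximality of the Sylow subgroup
  have hCg : IsPGroup p (C.map G₁.subtype) := hCp.map _
  have hPle : (P : Subgroup G) ≤ C.map G₁.subtype := by
    intro x hx
    exact ⟨⟨x, hle hx⟩, hPC x hx, rfl⟩
  have heq : C.map G₁.subtype = (P : Subgroup G) := P.is_maximal' hCg hPle
  intro g hg x hx
  rw [← heq]
  have h1 : (⟨g, hg⟩ : G₁) * ⟨x, hle hx⟩ * (⟨g, hg⟩ : G₁)⁻¹ ∈ C :=
    hCn.conj_mem _ (hPC x hx) _
  exact ⟨_, h1, rfl⟩

end G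

end Cfsg.Agent.Helper33.SCH
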