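import Mathlib
import Cfsg.Agent.Lib.Helper62.SLN0
import Cfsg.Agent.Lib.Helper78.U2Rbcd

/-!
# SLNC sub-server (helper93, S2332): piece INDX `sum_finrank_inf_wsp_le`
-/

set_option autoImplicit false

namespace Cfsg.Agent.Helper33.SLNC

open Matrix Module Cfsg.Agent.Helper93.U2 Cfsg.Agent.Helper62.SLN

section REPgen

variable {G : Type*} [Group G] {𝓐 : Type*} [AddCommGroup 𝓐] [Fintype 𝓐]
  {V : Type*} [AddCommGroup V] [Module ℂ V] [FiniteDimensional ℂ V]
  (pr : Pairing 𝓐) (el : 𝓐 → G) (ρ : Representation ℂ G V)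

/-- piece INDX [M]: weight spaces are independent (projections `eOp`: `eOp_self`, `eOp_other` of the U2 pieces on main, or directly:
eigenvectors of a commuting family for distinct characters), so the `X ⊓ wsp a` are independent subspaces of `X`. -/
theorem sum_finrank_inf_wsp_le (hel : ∀ a b, el (a + b) = el a * el b) (X : Submodule ℂ V)
    (S : Finset 𝓐) :
    ∑ a ∈ S, finrank ℂ (X ⊓ wsp pr el ρ a : Submodule ℂ V) ≤ finrank ℂ X := by
  classical
  have _ := hel
  let Φ : (∀ a : S, ↥(X ⊓ wsp pr el ρ (a : 𝓐) : Submodule ℂ V)) →ₗ[ℂ] X :=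
    ∑ a : S, (Submodule.inclusion (inf_le_left : (X ⊓ wsp pr el ρ (a : 𝓐) : Submodule ℂ V) ≤ X)).comp
      (LinearMap.proj a)
  have hΦ : ∀ f : (∀ a : S, ↥(X ⊓ wsp pr el ρ (a : 𝓐) : Submodule ℂ V)),
      ((Φ f : X) : V) = ∑ a : S, ((f a : V)) := by
    intro f
    simp only [Φ, LinearMap.sum_apply, LinearMap.comp_apply, LinearMap.proj_apply,
      Submodule.coe_sum, Submodule.coe_inclusion]
  have hinj : Function.Injective Φ := by
    rw [injective_iff_map_eq_zero]
    intro f hf
    funext a'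
    have h0 : ((Φ f : X) : V) = 0 := by rw [hf]; rfl
    rw [hΦ] at h0
    have h1 := congrArg (eOp pr el ρ (a' : 𝓐)) h0
    rw [map_sum, map_zero] at h1
    rw [Finset.sum_eq_single a'] at h1
    · rw [Cfsg.Agent.Helper78.U2.eOp_self pr el ρ (a' : 𝓐) _ (f a').2.2] at h1
      apply Subtype.ext
      rw [h1]
      rfl
    · intro b _ hb
      apply Cfsg.Agent.Helper78.U2.eOp_other pr el ρ (a' : 𝓐) (b : 𝓐) _ _ (f b).2.2
      intro h
      exact hb (Subtype.ext h.symm)
    · intro h
      exact absurd (Finset.mem_univ _) h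
  have h := LinearMap.finrank_le_finrank_of_injective hinj
  rw [Module.finrank_pi_fintype] at h
  rw [← Finset.sum_coe_sort S (fun a => finrank ℂ (X ⊓ wsp pr el ρ a : Submodule ℂ V))]
  exact h

end REPgen

end Cfsg.Agent.Helper33.SLNC
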