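import Mathlib
import Cfsg.Agent.Lib.Helper33.SecTransferE
import Cfsg.Prelude.Def_PLocal

/-!
The factorization `G = C_G(Ω₁Z(S)) N_G(W(S))` for groups with `Ω₁Z(S) ≤ O_p(G)`, from the same
factorization in the constrained sections (Glauberman).
-/

set_option autoImplicit false
universe u
open Pointwise Cfsg

namespace Cfsg.Agent.Helper33

section FA

variable {p : ℕ} [Fact p.Prime]

theorem mem_centralizer_omegaOne {G : Type*} [Group G] {H : Subgroup G} {a : G} :
    a ∈ Subgroup.centralizer ((omegaOne p H : Subgroup G) : Set G) ↔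
      ∀ z ∈ H, z ^ p = 1 → z * a = a * z := by
  constructor
  · intro ha z hz hzp
    exact Subgroup.mem_centralizer_iff.mp ha z (Subgroup.subset_closure ⟨hz, hzp⟩)
  · intro h
    have h1 : a ∈ Subgroup.centralizer {x : G | x ∈ H ∧ x ^ p = 1} := by
      rw [Subgroup.mem_centralizer_iff]
      rintro z ⟨hz, hzp⟩
      exact h z hz hzp
    rw [Subgroup.mem_centralizer_iff]
    intro y hy
    have h2 := Subgroup.closure_le_centralizer_centralizer {x : G | x ∈ H ∧ x ^ p = 1} hy
    exact (Subgroup.mem_centralizer_iff.mp h2 a h1).symm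

/-- the factorization hypothesis in a group -/
def FacHyp (p : ℕ) (W : ∀ (Q : Type u) [Group Q], Subgroup Q) (H : Type u) [Group H] : Prop :=
  Constr p H → ∀ T : Sylow p H, ∀ x : H,
    ∃ a ∈ Subgroup.centralizer ((omegaOne p ((T : Subgroup H) ⊓
        Subgroup.centralizer ((T : Subgroup H) : Set H)) : Subgroup H) : Set H),
      ∃ b ∈ Subgroup.normalizer ((inducedFunctor W (T : Subgroup H) : Subgroup H) : Set H),
        x = a * b

theorem facHyp_isoInv {W : ∀ (Q : Type u) [Group Q], Subgroup Q} (hW : IsCharPFunctor.{u} p W) :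
    IsoInvFin (FacHyp.{u} p W) := by
  intro Q R _ _ _ φ hQ hR T' x'
  have hinj : Function.Injective φ.toMonoidHom := φ.injective
  have hsurj : Function.Surjective φ.toMonoidHom := φ.surjective
  set T : Sylow p Q := T'.comapOfInjective φ.toMonoidHom hinj
    (by rw [MonoidHom.range_eq_top.mpr hsurj]; exact le_top) with hT
  have hTmap : (T : Subgroup Q).map φ.toMonoidHom = T' := by
    rw [hT, Sylow.coe_comapOfInjective, Subgroup.map_comap_eq_self_of_surjective hsurj]
  have hTmem : ∀ t : Q, t ∈ (T : Subgroup Q) ↔ φ t ∈ (T' : Subgroup R) := by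
    intro t
    rw [hT, Sylow.coe_comapOfInjective, Subgroup.mem_comap]
    rfl
  obtain ⟨a, ha, b, hb, hx⟩ := hQ (constr_of_equiv φ hR) T (φ.symm x')
  refine ⟨φ a, ?_, φ b, ?_, ?_⟩
  · rw [mem_centralizer_omegaOne] at ha ⊢
    intro z' hz' hz'p
    have hz1 : φ.symm z' ∈ (T : Subgroup Q) := by
      rw [hTmem, MulEquiv.apply_symm_apply]; exact hz'.1
    have hz2 : φ.symm z' ∈ Subgroup.centralizer ((T : Subgroup Q) : Set Q) := by
      rw [Subgroup.mem_centralizer_iff]
      intro t ht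
      have h1 := Subgroup.mem_centralizer_iff.mp hz'.2 (φ t) ((hTmem t).mp ht)
      apply φ.injective
      rw [map_mul, map_mul, MulEquiv.apply_symm_apply]
      exact h1
    have h3 := ha (φ.symm z') (Subgroup.mem_inf.mpr ⟨hz1, hz2⟩) (by
      rw [← map_pow, hz'p, map_one])
    have h4 := congrArg φ h3
    rwa [map_mul, map_mul, MulEquiv.apply_symm_apply] at h4
  · have hfin : Finite (T : Subgroup Q) := inferInstance
    have hind : (inducedFunctor W (T : Subgroup Q)).map φ.toMonoidHom =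
        inducedFunctor W (T' : Subgroup R) := by
      rw [← hTmap]
      exact (indF_map hW φ.toMonoidHom _ T.isPGroup'
        (fun x _ hx => hinj (by rw [hx, map_one]))).symm
    rw [← hind]
    exact map_mem_normalizer_map φ.toMonoidHom hb
  · have := congrArg φ hx
    rwa [MulEquiv.apply_symm_apply, map_mul] at this

theorem omegaOne_le' {G : Type*} [Group G] (H : Subgroup G) : omegaOne p H ≤ H := by
  unfold omegaOne
  rw [Subgroup.closure_le]
  rintro x ⟨hx, -⟩
  exact hx

/-- a normal `p'`-subgroup centralizes a normal `p`-subgroup -/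
theorem pprime_le_centralizer {G : Type*} [Group G] [Finite G] {D Q : Subgroup G} [hD : D.Normal]
    [hQ : Q.Normal] (hDcop : (Nat.card D).Coprime p) (hQp : IsPGroup p Q) :
    D ≤ Subgroup.centralizer (Q : Set G) := by
  intro d hd
  rw [Subgroup.mem_centralizer_iff]
  intro q hq
  have h1 : d * q * d⁻¹ * q⁻¹ ∈ D ⊓ Q := by
    refine Subgroup.mem_inf.mpr ⟨?_, ?_⟩
    · have e : d * q * d⁻¹ * q⁻¹ = d * (q * d⁻¹ * q⁻¹) := by group
      rw [e]
      exact D.mul_mem hd (hD.conj_mem _ (D.inv_mem hd) q)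
    · exact Q.mul_mem (hQ.conj_mem q hq d) (Q.inv_mem hq)
  rw [inf_eq_bot_of_coprime hDcop hQp, Subgroup.mem_bot] at h1
  calc q * d = (d * q * d⁻¹ * q⁻¹)⁻¹ * (d * q) := by group
    _ = d * q := by rw [h1, inv_one, one_mul]

/-- **Factorization** `G = C_G(Ω₁Z(S)) N_G(W(S))` when `Ω₁Z(S) ≤ O_p(G)`, from the constrained
members of a section-closed class. -/
theorem fac_main {W : ∀ (Q : Type u) [Group Q], Subgroup Q} (hW : IsCharPFunctor.{u} p W)
    {𝒳 : ∀ (H : Type u) [Group H], Prop} (h𝒳 : SecClass 𝒳)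
    (hloc : ∀ (H : Type u) [Group H] [Finite H], 𝒳 H → FacHyp p W H) :
    ∀ (n : ℕ) (G : Type u) [Group G] [Finite G], Nat.card G = n → 𝒳 G → ∀ S : Sylow p G,
      omegaOne p ((S : Subgroup G) ⊓ Subgroup.centralizer ((S : Subgroup G) : Set G)) ≤
        pCore p G →
      ∀ x : G, ∃ a ∈ Subgroup.centralizer ((omegaOne p ((S : Subgroup G) ⊓
          Subgroup.centralizer ((S : Subgroup G) : Set G)) : Subgroup G) : Set G),
        ∃ b ∈ Subgroup.normalizer ((inducedFunctor W (S : Subgroup G) : Subgroup G) : Set G),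
          x = a * b := by
  intro n
  induction n using Nat.strong_induction_on with
  | _ n ih =>
  intro G _ _ hcard hXG S hZQ x
  set Z := omegaOne p ((S : Subgroup G) ⊓ Subgroup.centralizer ((S : Subgroup G) : Set G)) with hZ
  set Q := pCore p G with hQdef
  haveI hQn : Q.Normal := pCore_normal p
  have hQS : Q ≤ (S : Subgroup G) := pCore_le_sylow S
  have hQp : IsPGroup p Q := S.isPGroup'.to_le hQS
  have hZS : Z ≤ (S : Subgroup G) ⊓ Subgroup.centralizer ((S : Subgroup G) : Set G) :=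
    omegaOne_le' _
  have hZZ : Z ≤ Subgroup.centralizer (Z : Set G) := by
    intro z hz
    rw [Subgroup.mem_centralizer_iff]
    intro y hy
    exact Subgroup.mem_centralizer_iff.mp (hZS hz).2 y (hZS hy).1
  set C := Subgroup.centralizer (Q : Set G) with hC
  have hCZ : C ≤ Subgroup.centralizer (Z : Set G) := Subgroup.centralizer_le hZQ
  set N := Q ⊔ C with hN
  haveI hNn : N.Normal := inferInstance
  set R := (S : Subgroup G) ⊓ N with hR
  set Y := inducedFunctor W (S : Subgroup G) with hY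
  by_cases hNR : Subgroup.normalizer (R : Set G) = ⊤
  · -- `R ≤ O_p(G)`: pass to `G / O_{p'}(G)`
    have hRn : R.Normal := Subgroup.normalizer_eq_top_iff.mp hNR
    have hRQ : R ≤ Q := normal_pgroup_le_pCore hRn (S.isPGroup'.to_le inf_le_left)
    set D := pPrimeCore p G with hD
    haveI hDn : D.Normal := pPrimeCore_normal p
    have hDcop : (Nat.card D).Coprime p := card_pPrimeCore_coprime' p
    have hcon : Constr p (G ⧸ D) :=
      constr_quot_pprime S (le_trans (inf_le_inf_left _ le_sup_right) hRQ)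
    set π := QuotientGroup.mk' D with hπ
    have hsurj : Function.Surjective π := QuotientGroup.mk'_surjective D
    have hπ1 : ∀ z : G, π z = 1 ↔ z ∈ D := fun z => QuotientGroup.eq_one_iff z
    set Sb : Sylow p (G ⧸ D) := S.mapSurjective hsurj with hSb
    obtain ⟨ab, hab, bb, hbb, hxb⟩ := hloc (G ⧸ D) (h𝒳.quot G D hXG) hcon Sb (π x)
    obtain ⟨b₀, rfl⟩ := hsurj bb
    have hinjS : ∀ s ∈ (S : Subgroup G), π s = 1 → s = 1 := by
      intro s hs h1
      have : s ∈ D ⊓ (S : Subgroup G) := Subgroup.mem_inf.mpr ⟨(hπ1 s).mp h1, hs⟩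
      rw [inf_eq_bot_of_coprime hDcop S.isPGroup', Subgroup.mem_bot] at this
      exact this
    have hYb : inducedFunctor W (Sb : Subgroup (G ⧸ D)) = Y.map π := by
      rw [hSb, Sylow.coe_mapSurjective]
      exact indF_map hW π _ S.isPGroup' hinjS
    have hb₀ : b₀ ∈ Subgroup.normalizer ((Y ⊔ D : Subgroup G) : Set G) := by
      have h1 : (Subgroup.normalizer ((Y.map π : Subgroup (G ⧸ D)) : Set (G ⧸ D))).comap π =
          Subgroup.normalizer (((Y.map π).comap π : Subgroup G) : Set G) :=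
        Subgroup.comap_normalizer_eq_of_surjective _ hsurj
      have h2 : (Y.map π).comap π = Y ⊔ D := by
        rw [Subgroup.comap_map_eq, QuotientGroup.ker_mk']
      rw [← h2, ← h1, Subgroup.mem_comap, ← hYb]
      exact hbb
    have hYp : IsPGroup p Y := S.isPGroup'.to_le (indF_le W _)
    obtain ⟨n₁, hn₁, d₂, hd₂, hb₀eq⟩ := exists_frattini_pprime hYp hDcop hb₀
    obtain ⟨a₀, ha₀def⟩ : ∃ a₀ : G, a₀ = x * b₀⁻¹ := ⟨_, rfl⟩
    have ha₀ : π a₀ = ab := by
      rw [ha₀def, map_mul, map_inv, hxb]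
      group
    have hZp : IsPGroup p Z := hQp.to_le hZQ
    have hπZ : ∀ z ∈ Z, ab * π z = π z * ab := by
      intro z hz
      have hle : Z.map π ≤ omegaOne p ((Sb : Subgroup (G ⧸ D)) ⊓
          Subgroup.centralizer ((Sb : Subgroup (G ⧸ D)) : Set (G ⧸ D))) := by
        rw [hZ]
        unfold omegaOne
        rw [MonoidHom.map_closure, Subgroup.closure_le]
        rintro _ ⟨z₀, ⟨hz₀, hz₀p⟩, rfl⟩
        apply Subgroup.subset_closure
        refine ⟨Subgroup.mem_inf.mpr ⟨?_, ?_⟩, by rw [← map_pow, hz₀p, map_one]⟩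
        · rw [hSb, Sylow.coe_mapSurjective]
          exact Subgroup.mem_map_of_mem π hz₀.1
        · rw [Subgroup.mem_centralizer_iff]
          intro sb hs
          rw [SetLike.mem_coe, hSb, Sylow.coe_mapSurjective] at hs
          obtain ⟨s, hs, rfl⟩ := hs
          rw [← map_mul, ← map_mul, Subgroup.mem_centralizer_iff.mp hz₀.2 s hs]
      exact (Subgroup.mem_centralizer_iff.mp hab _ (hle (Subgroup.mem_map_of_mem π hz))).symm
    have hmove : ∀ z ∈ Z, a₀ * z * a₀⁻¹ * z⁻¹ ∈ D := by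
      intro z hz
      rw [← hπ1, map_mul, map_mul, map_mul, map_inv, map_inv, ha₀, hπZ z hz]
      group
    have hle : MulAut.conj a₀ • Z ≤ Z ⊔ D := by
      rw [conj_smul_le_iff]
      intro z hz
      have e : a₀ * z * a₀⁻¹ = (a₀ * z * a₀⁻¹ * z⁻¹) * z := by group
      rw [e]
      exact (Z ⊔ D).mul_mem (Subgroup.mem_sup_right (hmove z hz)) (Subgroup.mem_sup_left hz)
    have hsyl := isSylIn_sup_pprime hZp hDcop
    have hsyl' : IsSylIn p (MulAut.conj a₀ • Z) (Z ⊔ D) :=
      hsyl.of_card_le (isPGroup_conj_smul hZp) hle (by rw [card_conj_smul])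
    obtain ⟨u, hu, huZ⟩ := hsyl'.exists_conj_eq hsyl
    obtain ⟨z₁, hz₁, d₁, hd₁, rfl⟩ := mem_sup_normal_right hu
    obtain ⟨c, hc⟩ : ∃ c : G, c = (z₁ * d₁)⁻¹ * a₀ := ⟨_, rfl⟩
    have hπd₁ : π d₁ = 1 := (hπ1 d₁).mpr hd₁
    have hcN : MulAut.conj c • Z = Z := by
      rw [hc, conj_mul_smul, ← huZ, conj_inv_smul_smul]
    have hcZ : c ∈ Subgroup.centralizer (Z : Set G) := by
      rw [Subgroup.mem_centralizer_iff]
      intro z hz
      have h1 : c * z * c⁻¹ ∈ Z := by
        rw [← hcN]; exact conj_mem_conj_smul hz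
      have h2 : π (c * z * c⁻¹ * z⁻¹) = 1 := by
        have hzz : π z₁ * π z = π z * π z₁ := by
          rw [← map_mul, ← map_mul, Subgroup.mem_centralizer_iff.mp (hZZ hz₁) z hz]
        have hzz' : (π z₁)⁻¹ * π z = π z * (π z₁)⁻¹ := by
          calc (π z₁)⁻¹ * π z = (π z₁)⁻¹ * (π z * π z₁) * (π z₁)⁻¹ := by group
            _ = (π z₁)⁻¹ * (π z₁ * π z) * (π z₁)⁻¹ := by rw [hzz]
            _ = π z * (π z₁)⁻¹ := by group
        have hπc : π c = (π z₁)⁻¹ * ab := by
          rw [hc, map_mul, map_inv, map_mul, hπd₁, mul_one, ha₀]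
        rw [map_mul, map_mul, map_mul, map_inv, map_inv, hπc]
        calc (π z₁)⁻¹ * ab * π z * ((π z₁)⁻¹ * ab)⁻¹ * (π z)⁻¹
            = (π z₁)⁻¹ * (ab * π z) * ab⁻¹ * π z₁ * (π z)⁻¹ := by group
          _ = (π z₁)⁻¹ * (π z * ab) * ab⁻¹ * π z₁ * (π z)⁻¹ := by rw [hπZ z hz]
          _ = ((π z₁)⁻¹ * π z) * π z₁ * (π z)⁻¹ := by group
          _ = 1 := by rw [hzz']; group
      have h3 : c * z * c⁻¹ * z⁻¹ ∈ D ⊓ Z :=
        Subgroup.mem_inf.mpr ⟨(hπ1 _).mp h2, Z.mul_mem h1 (Z.inv_mem hz)⟩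
      rw [inf_eq_bot_of_coprime hDcop hZp, Subgroup.mem_bot] at h3
      calc z * c = (c * z * c⁻¹ * z⁻¹)⁻¹ * (c * z) := by group
        _ = c * z := by rw [h3, inv_one, one_mul]
    have hDC : D ≤ Subgroup.centralizer (Z : Set G) :=
      (pprime_le_centralizer hDcop hQp).trans hCZ
    refine ⟨z₁ * d₁ * c * (n₁ * d₂ * n₁⁻¹), ?_, n₁, hn₁, ?_⟩
    · refine Subgroup.mul_mem _ (Subgroup.mul_mem _ (Subgroup.mul_mem _ (hZZ hz₁) (hDC hd₁)) hcZ)
        (hDC (hDn.conj_mem d₂ hd₂ n₁))
    · have e1 : x = a₀ * b₀ := by rw [ha₀def]; group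
      rw [e1, hb₀eq, hc]
      group
  · -- `N_G(R)` is proper: Frattini and induction
    set K := Subgroup.normalizer (R : Set G) with hK
    have hSK : (S : Subgroup G) ≤ K := sylow_le_normalizer_inf S N
    obtain ⟨y, hy, n', hn', hx'⟩ := exists_frattini S N x⁻¹
    have hx2 : x = n'⁻¹ * y⁻¹ := by
      rw [← inv_inv x, hx', mul_inv_rev]
    have hn'' : n'⁻¹ ∈ C ⊔ Q := by rw [sup_comm]; exact N.inv_mem hn'
    obtain ⟨c, hc, q, hq, hcq⟩ := mem_sup_normal_right hn''
    have hk : q * y⁻¹ ∈ K := K.mul_mem (hSK (hQS hq)) (K.inv_mem hy)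
    have hKcard : Nat.card ↥K < n := hcard ▸ card_subgroup_lt K hNR
    set SK : Sylow p ↥K := S.subtype hSK with hSKdef
    have hSKcoe : (SK : Subgroup ↥K) = (S : Subgroup G).subgroupOf K := Sylow.coe_subtype _ _
    have hmemSK : ∀ (s : G) (hs : s ∈ K), (⟨s, hs⟩ : ↥K) ∈ (SK : Subgroup ↥K) ↔
        s ∈ (S : Subgroup G) := by
      intro s hs
      rw [hSKcoe, Subgroup.mem_subgroupOf]
    have hZK : omegaOne p ((SK : Subgroup ↥K) ⊓
        Subgroup.centralizer ((SK : Subgroup ↥K) : Set ↥K)) ≤ pCore p ↥K := by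
      unfold omegaOne
      rw [Subgroup.closure_le]
      rintro ⟨z', hz'K⟩ ⟨hz', hz'p⟩
      have h1 : z' ∈ Z := by
        apply Subgroup.subset_closure
        refine ⟨Subgroup.mem_inf.mpr ⟨(hmemSK z' hz'K).mp hz'.1, ?_⟩, ?_⟩
        · rw [Subgroup.mem_centralizer_iff]
          intro s hs
          have := Subgroup.mem_centralizer_iff.mp hz'.2 ⟨s, hSK hs⟩
            ((hmemSK s (hSK hs)).mpr hs)
          exact congrArg Subtype.val this
        · have := congrArg Subtype.val hz'p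
          simpa using this
      have h3 : Q.subgroupOf K ≤ pCore p ↥K :=
        normal_pgroup_le_pCore (hQn.subgroupOf K) (hQp.comap_subtype)
      exact h3 (Subgroup.mem_subgroupOf.mpr (hZQ h1))
    obtain ⟨a', ha', b', hb', hkab⟩ :=
      ih _ hKcard ↥K rfl (h𝒳.sub G K hXG) SK hZK ⟨q * y⁻¹, hk⟩
    refine ⟨c * a', ?_, b', ?_, ?_⟩
    · apply Subgroup.mul_mem _ (hCZ hc)
      rw [mem_centralizer_omegaOne] at ha' ⊢
      intro z hz hzp
      have hzK : z ∈ K := hSK hz.1
      have := ha' ⟨z, hzK⟩ (Subgroup.mem_inf.mpr ⟨(hmemSK z hzK).mpr hz.1, by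
        rw [Subgroup.mem_centralizer_iff]
        rintro ⟨s, hsK⟩ hs
        exact Subtype.ext (Subgroup.mem_centralizer_iff.mp hz.2 s ((hmemSK s hsK).mp hs))⟩)
        (Subtype.ext (by simpa using hzp))
      exact congrArg Subtype.val this
    · have h1 := map_mem_normalizer_map K.subtype hb'
      have hfin : Finite (SK : Subgroup ↥K) := inferInstance
      have h2 : (inducedFunctor W (SK : Subgroup ↥K)).map K.subtype = Y := by
        rw [← indF_map hW K.subtype _ SK.isPGroup'
          (fun x _ hx => K.subtype_injective (by rw [hx, map_one]))]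
        rw [hSKcoe, Subgroup.map_subgroupOf_eq_of_le hSK]
      rw [h2] at h1
      exact h1
    · have h3 := congrArg Subtype.val hkab
      simp only [Subgroup.coe_mul] at h3
      rw [hx2, hcq, mul_assoc, mul_assoc, ← h3]

end FA

end Cfsg.Agent.Helper33
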