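import Mathlib
import Cfsg.Agent.Lib.Helper33.SecFactorA
import Cfsg.Agent.Lib.Helper33.SecFusionG
import Cfsg.Prelude.Def_Transfer
import Cfsg.Prelude.Def_TwoFusion
import Cfsg.Prelude.Def_LocalEven

/-!
Three factorizations in the constrained sections give a strongly closed elementary abelian
subgroup controlling strong fusion (Glauberman).
-/

set_option autoImplicit false
universe u
open Pointwise Cfsg

namespace Cfsg.Agent.Helper33

section FB

variable {p : ℕ} [Fact p.Prime]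

/-- closure of commuting elements of order dividing `p` -/
theorem closure_comm_pow {G : Type*} [Group G] (C : Subgroup G)
    (hC : ∀ x ∈ C, ∀ y ∈ C, x * y = y * x) (s : Set G) (hs : ∀ x ∈ s, x ∈ C ∧ x ^ p = 1) :
    ∀ x ∈ Subgroup.closure s, x ∈ C ∧ x ^ p = 1 := by
  intro x hx
  induction hx using Subgroup.closure_induction with
  | mem x hx => exact hs x hx
  | one => exact ⟨C.one_mem, one_pow _⟩
  | mul x y _ _ hx hy =>
    refine ⟨C.mul_mem hx.1 hy.1, ?_⟩
    have hc : Commute x y := hC x hx.1 y hy.1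
    rw [hc.mul_pow, hx.2, hy.2, one_mul]
  | inv x _ hx => exact ⟨C.inv_mem hx.1, by rw [inv_pow, hx.2, inv_one]⟩

/-- the subgroup generated by the `N`-conjugates of `Z` -/
def ncl {G : Type*} [Group G] (Z N : Subgroup G) : Subgroup G :=
  Subgroup.closure {x | ∃ n ∈ N, ∃ z ∈ Z, x = n * z * n⁻¹}

theorem normalClosure_map_eq_ncl {G : Type*} [Group G] {Z N : Subgroup G} (hZN : Z ≤ N) :
    (Subgroup.normalClosure ((Z.subgroupOf N : Subgroup ↥N) : Set ↥N)).map N.subtype =
      ncl Z N := by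
  unfold Subgroup.normalClosure ncl
  rw [MonoidHom.map_closure]
  congr 1
  ext x
  constructor
  · rintro ⟨y, hy, rfl⟩
    rw [Group.mem_conjugatesOfSet_iff] at hy
    obtain ⟨a, ha, hay⟩ := hy
    rw [isConj_iff] at hay
    obtain ⟨c, rfl⟩ := hay
    exact ⟨c.1, c.2, a.1, Subgroup.mem_subgroupOf.mp ha, rfl⟩
  · rintro ⟨n, hn, z, hz, rfl⟩
    refine ⟨⟨n, hn⟩ * ⟨z, hZN hz⟩ * ⟨n, hn⟩⁻¹, ?_, rfl⟩
    rw [Group.mem_conjugatesOfSet_iff]
    exact ⟨⟨z, hZN hz⟩, Subgroup.mem_subgroupOf.mpr hz, isConj_iff.mpr ⟨⟨n, hn⟩, rfl⟩⟩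

theorem ncl_le {G : Type*} [Group G] {Z N Y : Subgroup G} (hZY : Z ≤ Y)
    (hN : N ≤ Subgroup.normalizer (Y : Set G)) : ncl Z N ≤ Y := by
  unfold ncl
  rw [Subgroup.closure_le]
  rintro _ ⟨n, hn, z, hz, rfl⟩
  exact (Subgroup.mem_normalizer_iff.mp (hN hn) z).mp (hZY hz)

theorem mem_normalizer_ncl {G : Type*} [Group G] [Finite G] (Z N : Subgroup G) {n : G}
    (hn : n ∈ N) : n ∈ Subgroup.normalizer ((ncl Z N : Subgroup G) : Set G) := by
  apply mem_normalizer_of_conj_smul_le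
  rw [conj_smul_le_iff]
  intro x hx
  unfold ncl at hx ⊢
  induction hx using Subgroup.closure_induction with
  | mem x hx =>
    obtain ⟨m, hm, z, hz, rfl⟩ := hx
    apply Subgroup.subset_closure
    exact ⟨n * m, N.mul_mem hn hm, z, hz, by group⟩
  | one => simp
  | mul x y _ _ hx hy =>
    have e : n * (x * y) * n⁻¹ = (n * x * n⁻¹) * (n * y * n⁻¹) := by group
    rw [e]; exact mul_mem hx hy
  | inv x _ hx =>
    have e : n * x⁻¹ * n⁻¹ = (n * x * n⁻¹)⁻¹ := by group
    rw [e]; exact inv_mem hx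

theorem ncl_eq_of_fac {G : Type*} [Group G] (Z N₁ N₂ : Subgroup G)
    (h : ∀ n ∈ N₁, ∃ b ∈ N₁ ⊓ N₂, ∃ a ∈ Subgroup.centralizer (Z : Set G), n = b * a) :
    ncl Z N₁ = ncl Z (N₁ ⊓ N₂) := by
  apply le_antisymm
  · unfold ncl
    rw [Subgroup.closure_le]
    rintro _ ⟨n, hn, z, hz, rfl⟩
    obtain ⟨b, hb, a, ha, rfl⟩ := h n hn
    apply Subgroup.subset_closure
    refine ⟨b, hb, z, hz, ?_⟩
    have hc := Subgroup.mem_centralizer_iff.mp ha z hz
    calc b * a * z * (b * a)⁻¹ = b * (a * z) * a⁻¹ * b⁻¹ := by group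
      _ = b * (z * a) * a⁻¹ * b⁻¹ := by rw [hc]
      _ = b * z * b⁻¹ := by group
  · unfold ncl
    apply Subgroup.closure_mono
    rintro _ ⟨n, hn, z, hz, rfl⟩
    exact ⟨n, hn.1, z, hz, rfl⟩

/-- transport of the two factors from a subgroup containing the Sylow subgroup -/
theorem fac_transport {W : ∀ (Q : Type u) [Group Q], Subgroup Q} (hW : IsCharPFunctor.{u} p W)
    {G : Type u} [Group G] [Finite G] (S : Sylow p G) (K : Subgroup G)
    (hSK : (S : Subgroup G) ≤ K) :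
    (∀ a' : ↥K, a' ∈ Subgroup.centralizer ((omegaOne p (((S.subtype hSK : Sylow p ↥K) : Subgroup ↥K) ⊓
        Subgroup.centralizer (((S.subtype hSK : Sylow p ↥K) : Subgroup ↥K) : Set ↥K)) :
          Subgroup ↥K) : Set ↥K) →
      (a' : G) ∈ Subgroup.centralizer ((omegaOne p ((S : Subgroup G) ⊓
          Subgroup.centralizer ((S : Subgroup G) : Set G)) : Subgroup G) : Set G)) ∧
    (∀ b' : ↥K, b' ∈ Subgroup.normalizer ((inducedFunctor W
        ((S.subtype hSK : Sylow p ↥K) : Subgroup ↥K) : Subgroup ↥K) : Set ↥K) →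
      (b' : G) ∈ Subgroup.normalizer ((inducedFunctor W (S : Subgroup G) : Subgroup G) : Set G)) := by
  set SK : Sylow p ↥K := S.subtype hSK with hSKdef
  have hSKcoe : (SK : Subgroup ↥K) = (S : Subgroup G).subgroupOf K := Sylow.coe_subtype _ _
  have hmemSK : ∀ (s : G) (hs : s ∈ K), (⟨s, hs⟩ : ↥K) ∈ (SK : Subgroup ↥K) ↔
      s ∈ (S : Subgroup G) := by
    intro s hs
    rw [hSKcoe, Subgroup.mem_subgroupOf]
  constructor
  · intro a' ha'
    rw [mem_centralizer_omegaOne] at ha' ⊢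
    intro z hz hzp
    have hzK : z ∈ K := hSK hz.1
    have := ha' ⟨z, hzK⟩ (Subgroup.mem_inf.mpr ⟨(hmemSK z hzK).mpr hz.1, by
      rw [Subgroup.mem_centralizer_iff]
      rintro ⟨s, hsK⟩ hs
      exact Subtype.ext (Subgroup.mem_centralizer_iff.mp hz.2 s ((hmemSK s hsK).mp hs))⟩)
      (Subtype.ext (by simpa using hzp))
    exact congrArg Subtype.val this
  · intro b' hb'
    have h1 := map_mem_normalizer_map K.subtype hb'
    have hfin : Finite (SK : Subgroup ↥K) := inferInstance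
    have h2 : (inducedFunctor W (SK : Subgroup ↥K)).map K.subtype =
        inducedFunctor W (S : Subgroup G) := by
      rw [← indF_map hW K.subtype _ SK.isPGroup'
        (fun x _ hx => K.subtype_injective (by rw [hx, map_one]))]
      rw [hSKcoe, Subgroup.map_subgroupOf_eq_of_le hSK]
    rw [h2] at h1
    exact h1

/-- the factorization inside the normalizer of a subgroup `Y` of `S` containing `Ω₁Z(S)` -/
theorem fac_in_normalizer {W : ∀ (Q : Type u) [Group Q], Subgroup Q}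
    (hW : IsCharPFunctor.{u} p W) {G : Type u} [Group G] [Finite G]
    (hG : SecHave (FacHyp.{u} p W) G) (S : Sylow p G) (Y : Subgroup G)
    (hYS : Y ≤ (S : Subgroup G))
    (hSY : (S : Subgroup G) ≤ Subgroup.normalizer (Y : Set G))
    (hZ : omegaOne p ((S : Subgroup G) ⊓ Subgroup.centralizer ((S : Subgroup G) : Set G)) ≤ Y) :
    ∀ n ∈ Subgroup.normalizer (Y : Set G),
      ∃ a ∈ Subgroup.centralizer ((omegaOne p ((S : Subgroup G) ⊓
          Subgroup.centralizer ((S : Subgroup G) : Set G)) : Subgroup G) : Set G),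
        ∃ b ∈ Subgroup.normalizer (Y : Set G) ⊓
            Subgroup.normalizer ((inducedFunctor W (S : Subgroup G) : Subgroup G) : Set G),
          n = a * b := by
  intro n hn
  set K := Subgroup.normalizer (Y : Set G) with hK
  set SK : Sylow p ↥K := S.subtype hSY with hSKdef
  have hSKcoe : (SK : Subgroup ↥K) = (S : Subgroup G).subgroupOf K := Sylow.coe_subtype _ _
  have hmemSK : ∀ (s : G) (hs : s ∈ K), (⟨s, hs⟩ : ↥K) ∈ (SK : Subgroup ↥K) ↔
      s ∈ (S : Subgroup G) := by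
    intro s hs
    rw [hSKcoe, Subgroup.mem_subgroupOf]
  have hZK : omegaOne p ((SK : Subgroup ↥K) ⊓
      Subgroup.centralizer ((SK : Subgroup ↥K) : Set ↥K)) ≤ pCore p ↥K := by
    unfold omegaOne
    rw [Subgroup.closure_le]
    rintro ⟨z', hz'K⟩ ⟨hz', hz'p⟩
    have h1 : z' ∈ omegaOne p ((S : Subgroup G) ⊓
        Subgroup.centralizer ((S : Subgroup G) : Set G)) := by
      apply Subgroup.subset_closure
      refine ⟨Subgroup.mem_inf.mpr ⟨(hmemSK z' hz'K).mp hz'.1, ?_⟩, ?_⟩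
      · rw [Subgroup.mem_centralizer_iff]
        intro s hs
        have := Subgroup.mem_centralizer_iff.mp hz'.2 ⟨s, hSY hs⟩
          ((hmemSK s (hSY hs)).mpr hs)
        exact congrArg Subtype.val this
      · have := congrArg Subtype.val hz'p
        simpa using this
    have hYn : (Y.subgroupOf K).Normal := Subgroup.normal_in_normalizer
    have h3 : Y.subgroupOf K ≤ pCore p ↥K :=
      normal_pgroup_le_pCore hYn ((S.isPGroup'.to_le hYS).comap_subtype)
    exact h3 (Subgroup.mem_subgroupOf.mpr (hZ h1))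
  have hiso := facHyp_isoInv (p := p) hW
  obtain ⟨a', ha', b', hb', hab⟩ :=
    fac_main hW (secClass_secHave hiso) (fun H _ _ hX => hX.self hiso) _ ↥K rfl
      (hG.subgroup hiso K) SK hZK ⟨n, hn⟩
  obtain ⟨t1, t2⟩ := fac_transport hW S K hSY
  refine ⟨a'.1, t1 a' ha', b'.1, Subgroup.mem_inf.mpr ⟨b'.2, t2 b' hb'⟩, ?_⟩
  have h3 := congrArg Subtype.val hab
  simpa using h3

/-- **Glauberman**: from the three factorizations, the normal closure of `Ω₁Z(S)` in `N_G(W₁(S))`
is elementary abelian, strongly closed, and controls strong fusion. -/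
theorem triple_fac {W₁ W₂ : ∀ (Q : Type u) [Group Q], Subgroup Q}
    (hW₁ : IsCharPFunctor.{u} p W₁) (hW₂ : IsCharPFunctor.{u} p W₂)
    {G : Type u} [Group G] [Finite G]
    (hG₁ : SecHave (FacHyp.{u} p W₁) G) (hG₂ : SecHave (FacHyp.{u} p W₂) G)
    (hpair : FamilyControlsStrongFusionIn p
      {inducedFunctor (G := G) W₁, inducedFunctor (G := G) W₂} ⊤)
    (S : Sylow p G)
    (hZ : omegaOne p ((S : Subgroup G) ⊓ Subgroup.centralizer ((S : Subgroup G) : Set G)) ≤
      inducedFunctor W₁ (S : Subgroup G) ⊓ inducedFunctor W₂ (S : Subgroup G)) :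
    ncl (omegaOne p ((S : Subgroup G) ⊓ Subgroup.centralizer ((S : Subgroup G) : Set G)))
        (Subgroup.normalizer ((inducedFunctor W₁ (S : Subgroup G) : Subgroup G) : Set G)) ≤
      (S : Subgroup G) ∧
    IsElementaryAbelian p (ncl (omegaOne p ((S : Subgroup G) ⊓
        Subgroup.centralizer ((S : Subgroup G) : Set G)))
        (Subgroup.normalizer ((inducedFunctor W₁ (S : Subgroup G) : Subgroup G) : Set G))) ∧
    IsStronglyClosed (ncl (omegaOne p ((S : Subgroup G) ⊓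
        Subgroup.centralizer ((S : Subgroup G) : Set G)))
        (Subgroup.normalizer ((inducedFunctor W₁ (S : Subgroup G) : Subgroup G) : Set G)))
      (S : Subgroup G) ∧
    ControlsStrongFusion p (ncl (omegaOne p ((S : Subgroup G) ⊓
        Subgroup.centralizer ((S : Subgroup G) : Set G)))
        (Subgroup.normalizer ((inducedFunctor W₁ (S : Subgroup G) : Subgroup G) : Set G))) := by
  set Z := omegaOne p ((S : Subgroup G) ⊓ Subgroup.centralizer ((S : Subgroup G) : Set G))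
    with hZdef
  set Y₁ := inducedFunctor W₁ (S : Subgroup G) with hY₁
  set Y₂ := inducedFunctor W₂ (S : Subgroup G) with hY₂
  set N₁ := Subgroup.normalizer (Y₁ : Set G) with hN₁
  set N₂ := Subgroup.normalizer (Y₂ : Set G) with hN₂
  have hF₁ := isConjugacyFunctor_indF (p := p) hW₁ G
  have hF₂ := isConjugacyFunctor_indF (p := p) hW₂ G
  have hS₁ : (S : Subgroup G) ≤ N₁ :=
    Subgroup.le_normalizer.trans (normalizer_le_normalizer_functor hF₁ S.isPGroup')
  have hS₂ : (S : Subgroup G) ≤ N₂ :=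
    Subgroup.le_normalizer.trans (normalizer_le_normalizer_functor hF₂ S.isPGroup')
  have hY₁S : Y₁ ≤ (S : Subgroup G) := indF_le W₁ _
  have hY₂S : Y₂ ≤ (S : Subgroup G) := indF_le W₂ _
  have hZS : Z ≤ (S : Subgroup G) ⊓ Subgroup.centralizer ((S : Subgroup G) : Set G) :=
    omegaOne_le' _
  -- factorizations
  have h1 := fac_in_normalizer hW₂ hG₂ S Y₁ hY₁S hS₁ (hZ.trans inf_le_left)
  have h2 := fac_in_normalizer hW₁ hG₁ S Y₂ hY₂S hS₂ (hZ.trans inf_le_right)
  have e1 : ncl Z N₁ = ncl Z (N₁ ⊓ N₂) := by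
    apply ncl_eq_of_fac
    intro n hn
    obtain ⟨a, ha, b, hb, hab⟩ := h1 n⁻¹ (inv_mem hn)
    refine ⟨b⁻¹, inv_mem hb, a⁻¹, inv_mem ha, ?_⟩
    rw [← mul_inv_rev, ← hab, inv_inv]
  have e2 : ncl Z N₂ = ncl Z (N₁ ⊓ N₂) := by
    rw [inf_comm]
    apply ncl_eq_of_fac
    intro n hn
    obtain ⟨a, ha, b, hb, hab⟩ := h2 n⁻¹ (inv_mem hn)
    refine ⟨b⁻¹, inv_mem hb, a⁻¹, inv_mem ha, ?_⟩
    rw [← mul_inv_rev, ← hab, inv_inv]
  have e12 : ncl Z N₁ = ncl Z N₂ := e1.trans e2.symm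
  obtain ⟨A, hA⟩ : ∃ A : Subgroup G, A = ncl Z N₁ := ⟨_, rfl⟩
  rw [← hA]
  have hN₁A : N₁ ≤ Subgroup.normalizer (A : Set G) := by
    intro n hn
    rw [hA]
    exact mem_normalizer_ncl Z N₁ hn
  have hN₂A : N₂ ≤ Subgroup.normalizer (A : Set G) := by
    intro n hn
    rw [hA, e12]
    exact mem_normalizer_ncl Z N₂ hn
  have hAY : A ≤ Y₁ := by
    rw [hA]
    exact ncl_le (hZ.trans inf_le_left) le_rfl
  have hAS : A ≤ (S : Subgroup G) := hAY.trans hY₁S
  -- elements of `Z` have order dividing `p`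
  have hZp : ∀ z ∈ Z, z ^ p = 1 := by
    intro z hz
    refine (closure_comm_pow (p := p) ((S : Subgroup G) ⊓
      Subgroup.centralizer ((S : Subgroup G) : Set G)) ?_ _ ?_ z hz).2
    · intro x hx y hy
      exact (Subgroup.mem_centralizer_iff.mp hy.2 x hx.1)
    · rintro x ⟨hx, hxp⟩
      exact ⟨hx, hxp⟩
  -- `A` is elementary abelian
  have hAel : ∀ x ∈ A, x ∈ Y₁ ⊓ Subgroup.centralizer (Y₁ : Set G) ∧ x ^ p = 1 := by
    rw [hA]
    refine closure_comm_pow (p := p) (Y₁ ⊓ Subgroup.centralizer (Y₁ : Set G)) ?_ _ ?_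
    · intro x hx y hy
      exact (Subgroup.mem_centralizer_iff.mp hy.2 x hx.1)
    · rintro _ ⟨n, hn, z, hz, rfl⟩
      refine ⟨Subgroup.mem_inf.mpr ⟨?_, ?_⟩, ?_⟩
      · exact (Subgroup.mem_normalizer_iff.mp hn z).mp (hZ.trans inf_le_left |>.trans le_rfl <| hz)
      · rw [Subgroup.mem_centralizer_iff]
        intro y hy
        have hy' : n⁻¹ * y * n ∈ Y₁ := by
          have := (Subgroup.mem_normalizer_iff.mp (inv_mem hn) y).mp hy
          simpa using this
        have hc := Subgroup.mem_centralizer_iff.mp (hZS hz).2 (n⁻¹ * y * n) (hY₁S hy')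
        calc y * (n * z * n⁻¹) = n * ((n⁻¹ * y * n) * z) * n⁻¹ := by group
          _ = n * (z * (n⁻¹ * y * n)) * n⁻¹ := by rw [hc]
          _ = n * z * n⁻¹ * y := by group
      · rw [conj_pow, hZp z hz, mul_one, mul_inv_cancel]
  -- fusion
  have h𝔚 : ∀ F ∈ ({inducedFunctor (G := G) W₁, inducedFunctor (G := G) W₂} :
      Set (Subgroup G → Subgroup G)), IsConjugacyFunctor p F := by
    intro F hF
    rcases hF with h | h
    · rw [h]; exact hF₁
    · rw [Set.mem_singleton_iff.mp h]; exact hF₂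
  have hctl : ∀ B : Set G, B ⊆ (S : Subgroup G) → ∀ g : G,
      (fun a => g * a * g⁻¹) '' B ⊆ (S : Subgroup G) →
      ∃ x ∈ Subgroup.normalizer (A : Set G), ∀ a ∈ B, g * a * g⁻¹ = x * a * x⁻¹ := by
    intro B hB g hg
    have hgood := good_of_fcsf_top h𝔚 hpair S B g⁻¹ hB (by
      rintro _ ⟨a, ha, rfl⟩
      rw [inv_inv]
      exact hg ⟨a, ha, rfl⟩)
    obtain ⟨l, hl, hla⟩ := hgood
    have hmem : l.prod ∈ Subgroup.normalizer (A : Set G) := by
      apply isStepChain_prod_mem _ _ hl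
      rintro y ⟨F, hF, hy⟩
      rcases hF with h | h
      · rw [h] at hy
        exact hN₁A (Subgroup.mem_inf.mp hy).2
      · rw [Set.mem_singleton_iff.mp h] at hy
        exact hN₂A (Subgroup.mem_inf.mp hy).2
    refine ⟨l.prod⁻¹, inv_mem hmem, fun a ha => ?_⟩
    have := hla a ha
    rw [inv_inv] at this ⊢
    exact this.symm
  refine ⟨hAS, ⟨⟨⟨fun a b => Subtype.ext ?_⟩⟩, fun a ha => (hAel a ha).2⟩, ⟨hAS, ?_⟩,
    ⟨S, hAS, fun B hB => ⟨hB, hctl B hB⟩⟩⟩
  · exact (Subgroup.mem_centralizer_iff.mp (hAel b.1 b.2).1.2 a.1 (hAel a.1 a.2).1.1)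
  · intro x hx g hgx
    obtain ⟨n, hn, hnx⟩ := hctl {x} (by
      intro y hy
      rw [Set.mem_singleton_iff.mp hy]
      exact hAS hx) g (by
      rintro _ ⟨y, hy, rfl⟩
      rw [Set.mem_singleton_iff.mp hy]
      exact hgx)
    rw [hnx x rfl]
    exact (Subgroup.mem_normalizer_iff.mp hn x).mp hx

end FB

end Cfsg.Agent.Helper33
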