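import Cfsg.Agent.Lib.Helper39.StbAsm
import Cfsg.Agent.Lib.Helper39.Stb3Defs
import Cfsg.Agent.Lib.Helper82.GenChar
import Cfsg.Agent.Lib.Helper40.FlagOrbit
import Cfsg.Agent.S0157

/-!
# STB3 (CH1) (helper39 server, S2311): the norm of an alternating sum of permutation characters
-/

set_option autoImplicit false
set_option linter.unusedSectionVars false

namespace Cfsg.Agent.Helper33.Stb3

open Cfsg Cfsg.Agent.Helper6 Cfsg.Agent.Helper6.Weyl Cfsg.Agent.Helper59.Poincare Cfsg.Agent.Helper39.Stb Matrix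

section Char

universe u

variable {G : Type u} [Group G] [Fintype G]

open scoped ComplexConjugate in
/-- the signed permutation characters are real valued -/
theorem ch1_conj (k : ℕ) (H : Subgroup G) (g : G) :
    conj ((-1 : ℂ) ^ k * Cfsg.fixedPointCharacter H g) =
      (-1 : ℂ) ^ k * Cfsg.fixedPointCharacter H g := by
  unfold Cfsg.fixedPointCharacter
  simp

/-- (CH1) the norm of an alternating sum of permutation characters (`classInner` is sesquilinear, the values are real:
`conj` of a natural-number cast; `Cfsg.Agent.Helper40.Flag.inner_fixedPoint_eq_card_orbits`). -/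
theorem classInner_alt {ι : Type*} (s : Finset ι) (c : ι → ℕ) (Hs : ι → Subgroup G) :
    Cfsg.classInner (fun g => ∑ i ∈ s, (-1 : ℂ) ^ c i * Cfsg.fixedPointCharacter (Hs i) g)
        (fun g => ∑ i ∈ s, (-1 : ℂ) ^ c i * Cfsg.fixedPointCharacter (Hs i) g) =
      ∑ i ∈ s, ∑ j ∈ s, (-1 : ℂ) ^ (c i + c j) *
        (Nat.card (MulAction.orbitRel.Quotient G ((G ⧸ Hs i) × (G ⧸ Hs j))) : ℂ) := by
  unfold Cfsg.classInner
  have h1 : ∀ g : G,
      (∑ i ∈ s, (-1 : ℂ) ^ c i * Cfsg.fixedPointCharacter (Hs i) g) *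
        (starRingEnd ℂ) (∑ i ∈ s, (-1 : ℂ) ^ c i * Cfsg.fixedPointCharacter (Hs i) g) =
      ∑ i ∈ s, ∑ j ∈ s, (-1 : ℂ) ^ (c i + c j) *
        (Cfsg.fixedPointCharacter (Hs i) g * Cfsg.fixedPointCharacter (Hs j) g) := by
    intro g
    rw [map_sum, Finset.sum_mul_sum]
    refine Finset.sum_congr rfl fun i _ => Finset.sum_congr rfl fun j _ => ?_
    rw [ch1_conj, pow_add]
    ring
  rw [Finset.sum_congr rfl (fun g _ => h1 g), Finset.sum_comm, Finset.mul_sum]
  refine Finset.sum_congr rfl fun i _ => ?_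
  rw [Finset.sum_comm, Finset.mul_sum]
  refine Finset.sum_congr rfl fun j _ => ?_
  rw [← Cfsg.Agent.Helper40.Flag.inner_fixedPoint_eq_card_orbits (Hs i) (Hs j), ← Finset.mul_sum]
  ring

end Char

end Cfsg.Agent.Helper33.Stb3
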