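import Cfsg.Agent.Lib.Helper39.StbAsm
import Cfsg.Agent.Lib.Helper39.Stb3Defs
import Cfsg.Agent.Lib.Helper82.GenChar
import Cfsg.Agent.Lib.Helper40.FlagOrbit
import Cfsg.Agent.S0157

/-!
# STB3 (CH2) (helper39 server, S2311): an alternating sum of permutation characters is a generalized character
-/

set_option autoImplicit false
set_option linter.unusedSectionVars false

namespace Cfsg.Agent.Helper33.Stb3

open Cfsg Cfsg.Agent.Helper6 Cfsg.Agent.Helper6.Weyl Cfsg.Agent.Helper59.Poincare Cfsg.Agent.Helper39.Stb Matrix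

section Char

universe u

variable {G : Type u} [Group G] [Fintype G]

/-- one signed permutation character is a generalized character -/
theorem ch2_term (k : ℕ) (H : Subgroup G) :
    Cfsg.IsGeneralizedCharacter G (fun g => (-1 : ℂ) ^ k * Cfsg.fixedPointCharacter H g) := by
  have hπ : IsCharacter G (fixedPointCharacter H) :=
    Cfsg.Agent.S0157.isCharacter_permChar (G ⧸ H)
  rcases Nat.even_or_odd k with hk | hk
  · have : (fun g => (-1 : ℂ) ^ k * Cfsg.fixedPointCharacter H g) = fixedPointCharacter H := by
      funext g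
      rw [hk.neg_one_pow, one_mul]
    rw [this]
    exact Cfsg.Agent.Helper82.isGeneralizedCharacter_of_isCharacter hπ
  · have : (fun g => (-1 : ℂ) ^ k * Cfsg.fixedPointCharacter H g) = -fixedPointCharacter H := by
      funext g
      rw [hk.neg_one_pow, Pi.neg_apply, neg_one_mul]
    rw [this]
    exact Cfsg.Agent.Helper82.isGeneralizedCharacter_neg
      (Cfsg.Agent.Helper82.isGeneralizedCharacter_of_isCharacter hπ)

/-- (CH2) an alternating sum of permutation characters is a generalized character
(`Cfsg.Agent.S0157.isCharacter_permChar (G ⧸ H)`, `Helper82.isGeneralizedCharacter_add/neg/of_isCharacter`,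
`Helper81.isCharacter_zero`; model: `Helper40.Unip.isGeneralizedCharacter_unipotent`). -/
theorem isGeneralizedCharacter_alt {ι : Type*} (s : Finset ι) (c : ι → ℕ) (Hs : ι → Subgroup G) :
    Cfsg.IsGeneralizedCharacter G
      (fun g => ∑ i ∈ s, (-1 : ℂ) ^ c i * Cfsg.fixedPointCharacter (Hs i) g) := by
  have hfun : (fun g => ∑ i ∈ s, (-1 : ℂ) ^ c i * Cfsg.fixedPointCharacter (Hs i) g) =
      ∑ i ∈ s, (fun g => (-1 : ℂ) ^ c i * Cfsg.fixedPointCharacter (Hs i) g) := by
    funext g
    rw [Finset.sum_apply]
  rw [hfun]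
  apply Finset.sum_induction _ (IsGeneralizedCharacter G)
  · intro a b ha hb
    exact Cfsg.Agent.Helper82.isGeneralizedCharacter_add ha hb
  · exact Cfsg.Agent.Helper82.isGeneralizedCharacter_of_isCharacter
      Cfsg.Agent.Helper81.isCharacter_zero
  · intro i _
    exact ch2_term (c i) (Hs i)

end Char

end Cfsg.Agent.Helper33.Stb3
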