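import Mathlib
import Cfsg.Prelude.Def_Local
import Cfsg.Agent.Lib.Helper89.TH1Defs
import Cfsg.Agent.Lib.Helper81.TH1BDefs
import Cfsg.Agent.Lib.Helper51.RuSylFrat

/-!
TH1B piece (STAR) for helper81's sub-server (COREB of S3797): for `e ∈ E` acting nontrivially on
`M = Y/W`, `C_M(e) = [M,e]` has order `|W|`.
-/

set_option autoImplicit false

namespace Cfsg.Agent.Helper33.TH1B

open Cfsg Subgroup Cfsg.Agent.Helper89.TH1 Cfsg.Agent.Helper81.TH1B
open scoped commutatorElement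

universe u

/-- card of the preimage of a subgroup of a quotient -/
theorem card_comap_mk' {A : Type*} [Group A] [Finite A] (Wy : Subgroup A) [Wy.Normal]
    (H : Subgroup (A ⧸ Wy)) :
    Nat.card (H.comap (QuotientGroup.mk' Wy)) = Nat.card H * Nat.card Wy := by
  have hsurj : Function.Surjective (QuotientGroup.mk' Wy) := QuotientGroup.mk'_surjective Wy
  have h1 := Subgroup.index_comap_of_surjective H hsurj
  have h2 := Subgroup.card_mul_index (H.comap (QuotientGroup.mk' Wy))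
  have h3 := Subgroup.card_mul_index H
  have h4 := Subgroup.card_eq_card_quotient_mul_card_subgroup Wy
  have hpos : 0 < H.index := Nat.pos_of_ne_zero Subgroup.index_ne_zero_of_finite
  rw [h1] at h2
  apply Nat.eq_of_mul_eq_mul_right hpos
  rw [h2, h4, ← h3]
  ring

/-- first isomorphism theorem, counting form -/
theorem card_ker_mul_card_range {A B : Type*} [Group A] [Finite A] [Group B] (f : A →* B) :
    Nat.card f.ker * Nat.card f.range = Nat.card A := by
  rw [← Subgroup.index_ker f]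
  exact Subgroup.card_mul_index f.ker

variable {G : Type u} [Group G] [Finite G] {W Y K₁ E Q₀ N : Subgroup G}

theorem star (hC : Core G W Y K₁ E Q₀ N) (hcard : Nat.card Y = Nat.card W ^ 3)
    (hnd : ∀ W₀ : Subgroup G, W₀ ≤ W → W₀.relIndex W = 2 →
        ∀ y ∈ Y, (∀ x ∈ Y, ⁅x, y⁆ ∈ W₀) → y ∈ W)
    (hQ : Q₀ ≤ kerM W Y) (e : G) (he : e ∈ E) (hne : e ∉ kerM W Y)
    (C : Subgroup G) (hCm : ∀ y, y ∈ C ↔ y ∈ Y ∧ ⁅e, y⁆ ∈ W) :
    Nat.card C = Nat.card W ^ 2 ∧ ∀ y ∈ C, ∃ x ∈ Y, y * (x * (e * x * e⁻¹))⁻¹ ∈ W := by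
  classical
  have hWY : W ≤ Y := W_le_Y hC
  have heA : e ∈ actG W Y := E_le_actG hC he
  have he2 : e ^ 2 ∈ kerM W Y := hQ (hC.E_sq e he)
  have hconj : ∀ y ∈ Y, e * y * e⁻¹ ∈ Y := fun y hy => conj_mem_of_mem_actG heA hy
  -- conjugation by `e` on `Y`
  let ce : ↥Y →* ↥Y := MonoidHom.mk' (fun y => ⟨e * y.1 * e⁻¹, hconj y.1 y.2⟩) (by
    intro a b
    apply Subtype.ext
    simp only [Subgroup.coe_mul]
    group)
  have hce : ∀ y : ↥Y, ((ce y : ↥Y) : G) = e * (y : G) * e⁻¹ := fun y => rfl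
  -- the quotient `M = Y / W`
  let Wy : Subgroup ↥Y := W.subgroupOf Y
  haveI hWyN : Wy.Normal := by
    constructor
    intro n hn g
    rw [Subgroup.mem_subgroupOf] at hn ⊢
    have e1 : ((g * n * g⁻¹ : ↥Y) : G) = (n : G) := by
      simp only [Subgroup.coe_mul, Subgroup.coe_inv]
      rw [← hC.W_central _ hn g g.2, mul_inv_cancel_right]
    rw [e1]
    exact hn
  let π : ↥Y →* (↥Y ⧸ Wy) := QuotientGroup.mk' Wy
  have hπsurj : Function.Surjective π := QuotientGroup.mk'_surjective Wy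
  have hπ1 : ∀ y : ↥Y, π y = 1 ↔ (y : G) ∈ W := by
    intro y
    show (QuotientGroup.mk y : ↥Y ⧸ Wy) = 1 ↔ _
    rw [QuotientGroup.eq_one_iff]
    exact Subgroup.mem_subgroupOf
  have hMcomm : ∀ a b : ↥Y ⧸ Wy, a * b = b * a := by
    intro a b
    obtain ⟨x, rfl⟩ := hπsurj a
    obtain ⟨y, rfl⟩ := hπsurj b
    have h1 : π ⁅x, y⁆ = 1 := by
      rw [hπ1]
      have e1 : ((⁅x, y⁆ : ↥Y) : G) = ⁅(x : G), (y : G)⁆ := by
        simp [commutatorElement_def]
      rw [e1]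
      exact hC.comm_mem _ x.2 _ y.2
    rw [map_commutatorElement, commutatorElement_eq_one_iff_mul_comm] at h1
    exact h1
  have hMsq : ∀ a : ↥Y ⧸ Wy, a * a = 1 := by
    intro a
    obtain ⟨x, rfl⟩ := hπsurj a
    rw [← map_mul, hπ1]
    have e1 : ((x * x : ↥Y) : G) = (x : G) ^ 2 := by
      rw [Subgroup.coe_mul, pow_two]
    rw [e1]
    exact hC.sq_mem _ x.2
  have hMinv : ∀ a : ↥Y ⧸ Wy, a⁻¹ = a := fun a => inv_eq_of_mul_eq_one_right (hMsq a)
  -- induced map on `M`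
  have hceW : Wy ≤ Wy.comap ce := by
    intro w hw
    rw [Subgroup.mem_comap, Subgroup.mem_subgroupOf, hce]
    rw [Subgroup.mem_subgroupOf] at hw
    rw [conj_eq_of_mem_actG heA hw]
    exact hw
  let eb : (↥Y ⧸ Wy) →* (↥Y ⧸ Wy) := QuotientGroup.map Wy Wy ce hceW
  have heb : ∀ y : ↥Y, eb (π y) = π (ce y) := fun y => rfl
  have heb2 : ∀ a : ↥Y ⧸ Wy, eb (eb a) = a := by
    intro a
    obtain ⟨x, rfl⟩ := hπsurj a
    rw [heb, heb]
    -- π (ce (ce x)) = π x
    have h1 : π (ce (ce x) * x⁻¹) = 1 := by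
      rw [hπ1]
      have e1 : ((ce (ce x) * x⁻¹ : ↥Y) : G) = ⁅e ^ 2, (x : G)⁆ := by
        rw [Subgroup.coe_mul, Subgroup.coe_inv, hce, hce, commutatorElement_def, pow_two]
        group
      rw [e1]
      exact he2.2 _ x.2
    rw [map_mul, map_inv, mul_inv_eq_one] at h1
    exact h1
  -- `θ = 1 + e` on `M`, precomposed with `π`
  let θ : ↥Y →* (↥Y ⧸ Wy) := MonoidHom.mk' (fun y => π y * eb (π y)) (by
    intro a b
    simp only [map_mul]
    rw [mul_assoc, mul_assoc, ← mul_assoc (π b), hMcomm (π b) (eb (π a)), mul_assoc])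
  have hθ : ∀ y : ↥Y, θ y = π y * eb (π y) := fun y => rfl
  have hkerθ : ∀ y : ↥Y, θ y = 1 ↔ (y : G) ∈ C := by
    intro y
    rw [hθ, heb, hCm]
    have e1 : π y * π (ce y) = π (ce y * y⁻¹) := by
      rw [map_mul, map_inv, hMinv, hMcomm]
    rw [e1, hπ1]
    have e2 : ((ce y * y⁻¹ : ↥Y) : G) = ⁅e, (y : G)⁆ := by
      rw [Subgroup.coe_mul, Subgroup.coe_inv, hce, commutatorElement_def]
    rw [e2]
    exact ⟨fun h => ⟨y.2, h⟩, fun h => h.2⟩
  -- (S1): elements of the range of `θ` are fixed by `eb`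
  have hrange : ∀ m ∈ θ.range, m * eb m = 1 := by
    rintro m ⟨x, rfl⟩
    rw [hθ, map_mul, heb2]
    have : π x * eb (π x) * (eb (π x) * π x) = (π x * (eb (π x) * eb (π x))) * π x := by
      simp only [mul_assoc]
    rw [this, hMsq, mul_one, hMsq]
  let B' : Subgroup ↥Y := θ.range.comap π
  have hB'le : B' ≤ θ.ker := by
    intro z hz
    rw [MonoidHom.mem_ker, hθ]
    exact hrange _ hz
  -- cardinalities
  have hcWy : Nat.card Wy = Nat.card W := Nat.card_congr (Subgroup.subgroupOfEquivOfLe hWY).toEquiv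
  have hi : Nat.card θ.ker * Nat.card θ.range = Nat.card Y := card_ker_mul_card_range θ
  have hii : Nat.card B' = Nat.card θ.range * Nat.card W := by
    rw [← hcWy]
    exact card_comap_mk' Wy θ.range
  have hiii : Nat.card B' ≤ Nat.card θ.ker := Subgroup.card_le_of_le hB'le
  have hWpos : 0 < Nat.card W := Nat.card_pos
  -- the element `v`
  obtain ⟨y₀, hy₀Y, hy₀⟩ : ∃ y₀ ∈ Y, ⁅e, y₀⁆ ∉ W := by
    by_contra hcon
    push Not at hcon
    exact hne (mem_kerM.2 ⟨heA, hcon⟩)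
  have hy₀e : e * y₀ * e⁻¹ ∈ Y := hconj y₀ hy₀Y
  set v : G := y₀ * (e * y₀ * e⁻¹) with hv
  have hvY : v ∈ Y := Y.mul_mem hy₀Y hy₀e
  have hvW : v ∉ W := by
    intro h
    have h1 : θ ⟨y₀, hy₀Y⟩ = 1 := by
      rw [hθ, heb, ← map_mul, hπ1]
      exact h
    exact hy₀ ((hCm y₀).1 ((hkerθ ⟨y₀, hy₀Y⟩).1 h1)).2
  -- (S3)
  have hS3 : ∀ c ∈ C, ⁅v, c⁆ = 1 := by
    intro c hc
    obtain ⟨hcY, hcW⟩ := (hCm c).1 hc
    have hce' : e * c * e⁻¹ ∈ Y := hconj c hcY
    have e1 : c = (⁅e, c⁆)⁻¹ * (e * c * e⁻¹) := by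
      simp only [commutatorElement_def]; group
    have e2 : ⁅e * y₀ * e⁻¹, c⁆ = ⁅y₀, c⁆ := by
      conv_lhs => rw [e1]
      rw [comm_mul_right' hC hy₀e (hWY (W.inv_mem hcW)) hce',
        comm_W_right hC (W.inv_mem hcW) hy₀e, one_mul, comm_conj hC heA hy₀Y hcY]
    rw [hv, comm_mul_left' hC hy₀Y hy₀e hcY, e2, ← pow_two]
    exact hC.W_exp _ (hC.comm_mem _ hy₀Y _ hcY)
  -- the homomorphism `β`
  let β : ↥Y →* ↥W := MonoidHom.mk' (fun x => ⟨⁅v, (x : G)⁆, hC.comm_mem v hvY x x.2⟩) (by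
    intro a b
    apply Subtype.ext
    simp only [Subgroup.coe_mul]
    exact comm_mul_right' hC hvY a.2 b.2)
  have hβ : ∀ x : ↥Y, ((β x : ↥W) : G) = ⁅v, (x : G)⁆ := fun x => rfl
  have hkerβ : θ.ker ≤ β.ker := by
    intro c hc
    rw [MonoidHom.mem_ker] at hc ⊢
    apply Subtype.ext
    rw [hβ, Subgroup.coe_one]
    exact hS3 _ ((hkerθ c).1 hc)
  have hβsurj : β.range = ⊤ := by
    rcases eq_top_or_exists_le_coatom β.range with h | ⟨W₀', hcoat, hle⟩
    · exact h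
    · exfalso
      have hW2 : IsPGroup 2 ↥W := by
        intro w
        refine ⟨1, ?_⟩
        apply Subtype.ext
        rw [pow_one, Subgroup.coe_pow, Subgroup.coe_one]
        exact hC.W_exp _ w.2
      obtain ⟨-, hidx⟩ := Cfsg.Agent.Helper51.RuSyl.coatom_index_two hW2 W₀' hcoat
      let W₀ : Subgroup G := W₀'.map W.subtype
      have hW₀le : W₀ ≤ W := by
        rintro _ ⟨w, -, rfl⟩
        exact w.2
      have hrel : W₀.relIndex W = 2 := by
        show (W₀.subgroupOf W).index = 2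
        have : W₀.subgroupOf W = W₀' := by
          ext w
          rw [Subgroup.mem_subgroupOf]
          constructor
          · rintro ⟨w', hw', hww'⟩
            have : w' = w := Subtype.ext hww'
            rw [← this]; exact hw'
          · intro hw
            exact ⟨w, hw, rfl⟩
        rw [this]
        exact hidx
      apply hvW
      apply hnd W₀ hW₀le hrel v hvY
      intro x hx
      have h1 : β ⟨x, hx⟩ ∈ W₀' := hle ⟨⟨x, hx⟩, rfl⟩
      have h2 : (β ⟨x, hx⟩)⁻¹ ∈ W₀' := W₀'.inv_mem h1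
      refine ⟨(β ⟨x, hx⟩)⁻¹, h2, ?_⟩
      show (((β ⟨x, hx⟩)⁻¹ : ↥W) : G) = ⁅x, v⁆
      rw [Subgroup.coe_inv, hβ, commutatorElement_inv]
  have hiv : Nat.card θ.ker * Nat.card W ≤ Nat.card Y := by
    have h1 := card_ker_mul_card_range β
    rw [hβsurj, Subgroup.card_top] at h1
    rw [← h1]
    exact Nat.mul_le_mul_right _ (Subgroup.card_le_of_le hkerβ)
  -- arithmetic
  set c := Nat.card θ.ker with hc
  set r := Nat.card θ.range with hr
  set w := Nat.card W with hw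
  set b := Nat.card B' with hb
  have hcw2 : c ≤ w ^ 2 := by
    have : c * w ≤ w ^ 2 * w := by
      rw [hcard] at hiv
      calc c * w ≤ w ^ 3 := hiv
        _ = w ^ 2 * w := by ring
    exact Nat.le_of_mul_le_mul_right this hWpos
  have hcb : c * b = w ^ 4 := by
    rw [hii, ← mul_assoc, hi, hcard]
    ring
  have hw2c : w ^ 2 ≤ c := by
    have h1 : (w ^ 2) ^ 2 ≤ c ^ 2 := by
      calc (w ^ 2) ^ 2 = w ^ 4 := by ring
        _ = c * b := hcb.symm
        _ ≤ c * c := Nat.mul_le_mul_left _ hiii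
        _ = c ^ 2 := by ring
    exact (Nat.pow_le_pow_iff_left (by norm_num)).1 h1
  have hceq : c = w ^ 2 := le_antisymm hcw2 hw2c
  have hbeq : b = c := by
    have h1 : c * b = c * c := by
      rw [hcb, hceq]; ring
    have hcpos : 0 < c := by rw [hceq]; positivity
    exact Nat.eq_of_mul_eq_mul_left hcpos h1
  have hB'eq : B' = θ.ker := Subgroup.eq_of_le_of_card_ge hB'le (by rw [← hb, ← hc, hbeq])
  have hCker : C.subgroupOf Y = θ.ker := by
    ext y
    rw [Subgroup.mem_subgroupOf, MonoidHom.mem_ker, hkerθ]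
  have hCY : C ≤ Y := fun y hy => ((hCm y).1 hy).1
  have hcardC : Nat.card C = c := by
    rw [hc, ← hCker]
    exact (Nat.card_congr (Subgroup.subgroupOfEquivOfLe hCY).toEquiv).symm
  refine ⟨by rw [hcardC, hceq], ?_⟩
  intro y hy
  have hyY : y ∈ Y := hCY hy
  have h1 : (⟨y, hyY⟩ : ↥Y) ∈ B' := by
    rw [hB'eq, MonoidHom.mem_ker, hkerθ]
    exact hy
  obtain ⟨x, hx⟩ := h1
  refine ⟨x, x.2, ?_⟩
  -- θ x = π y
  rw [hθ, heb, ← map_mul] at hx
  have h2 : π ((⟨y, hyY⟩ : ↥Y) * (x * ce x)⁻¹) = 1 := by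
    rw [map_mul, map_inv, hx, mul_inv_cancel]
  rw [hπ1] at h2
  simpa only [Subgroup.coe_mul, Subgroup.coe_inv, hce] using h2

end Cfsg.Agent.Helper33.TH1B
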