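import Mathlib

/-!
TH1CA piece (AR) for helper9's sub-server (S3797): pure arithmetic.
-/

set_option autoImplicit false

namespace Cfsg.Agent.Helper33.TH1CA

/-- a sum of two powers of two determines the exponents -/
theorem two_pow_add_two_pow {x y u v : ℕ} (hxy : x ≤ y) (huv : u ≤ v)
    (h : 2 ^ x + 2 ^ y = 2 ^ u + 2 ^ v) : x = u ∧ y = v := by
  have hx1 : 1 ≤ 2 ^ x := Nat.one_le_two_pow
  have hu1 : 1 ≤ 2 ^ u := Nat.one_le_two_pow
  have hxy' : 2 ^ x ≤ 2 ^ y := Nat.pow_le_pow_right (by norm_num) hxy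
  have huv' : 2 ^ u ≤ 2 ^ v := Nat.pow_le_pow_right (by norm_num) huv
  have hyv : y = v := by
    have h1 : 2 ^ y < 2 ^ (v + 1) := by rw [pow_succ]; omega
    have h2 : 2 ^ v < 2 ^ (y + 1) := by rw [pow_succ]; omega
    have h1' := (Nat.pow_lt_pow_iff_right (by norm_num : 1 < 2)).1 h1
    have h2' := (Nat.pow_lt_pow_iff_right (by norm_num : 1 < 2)).1 h2
    omega
  subst hyv
  have hxu : 2 ^ x = 2 ^ u := by omega
  exact ⟨Nat.pow_right_injective (le_refl 2) hxu, rfl⟩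

theorem arith (n k r φ : ℕ) (hn : 2 ≤ n) (hk : n < k) (hr : n ≤ r) (hφ : φ ≠ 2 ^ n)
    (h1 : 2 ^ k = 2 ^ n + (2 ^ n - 1) * φ)
    (h2 : ((φ : ℤ) - 2 ^ n) ^ 2 = 2 ^ k * 2 ^ r) : k = 3 * n ∧ r = n := by
  -- the natural number `e = |φ - 2^n|`
  have h2' : ((φ : ℤ) - 2 ^ n).natAbs ^ 2 = 2 ^ (k + r) := by
    have := congrArg Int.natAbs h2
    rw [Int.natAbs_pow, ← pow_add] at this
    rw [this]
    simp [Int.natAbs_pow]
  set e := ((φ : ℤ) - 2 ^ n).natAbs with he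
  have hediv : e ∣ 2 ^ (k + r) := ⟨e, by rw [← h2', pow_two]⟩
  obtain ⟨b, -, hb⟩ := (Nat.dvd_prime_pow Nat.prime_two).1 hediv
  have hb2 : 2 * b = k + r := by
    rw [hb, ← pow_mul] at h2'
    have := Nat.pow_right_injective (le_refl 2) h2'
    omega
  have hbn : n < b := by omega
  have hnb : 2 ^ n < 2 ^ b := Nat.pow_lt_pow_right (by norm_num) hbn
  -- φ = 2^n + 2^b
  have hφe : φ = 2 ^ n + 2 ^ b := by
    have habs := Int.natAbs_eq ((φ : ℤ) - 2 ^ n)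
    rw [← he, hb] at habs
    rcases habs with h | h
    · have : (φ : ℤ) = ((2 ^ n + 2 ^ b : ℕ) : ℤ) := by
        push_cast at h ⊢
        linarith
      exact_mod_cast this
    · exfalso
      have h3 : (φ : ℤ) = 2 ^ n - ((2 ^ b : ℕ) : ℤ) := by linarith
      have h4 : ((2 ^ n : ℕ) : ℤ) < ((2 ^ b : ℕ) : ℤ) := by exact_mod_cast hnb
      have h5 : (0 : ℤ) ≤ (φ : ℤ) := Int.natCast_nonneg φ
      push_cast at h3 h4
      linarith
  -- substitute into h1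
  obtain ⟨N', hN'⟩ : ∃ N' : ℕ, 2 ^ n = N' + 1 := ⟨2 ^ n - 1, by have := Nat.one_le_two_pow (n := n); omega⟩
  have hsub : 2 ^ n - 1 = N' := by omega
  have hstar : 2 ^ k + 2 ^ b = 2 ^ (2 * n) + 2 ^ (n + b) := by
    rw [hsub, hφe] at h1
    have e1 : 2 ^ (2 * n) = (N' + 1) * (N' + 1) := by rw [mul_comm, pow_mul, pow_two, hN']
    have e2 : 2 ^ (n + b) = (N' + 1) * 2 ^ b := by rw [pow_add, hN']
    rw [e1, e2, h1, hN']
    ring
  have hlt : 2 * n ≤ n + b := by omega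
  rcases le_total k b with hkb | hbk
  · obtain ⟨-, h4⟩ := two_pow_add_two_pow hkb hlt hstar
    omega
  · rw [add_comm (2 ^ k)] at hstar
    obtain ⟨h3, h4⟩ := two_pow_add_two_pow hbk hlt hstar
    omega

end Cfsg.Agent.Helper33.TH1CA
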