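import Mathlib

/-!
TH1CA piece (EXP) for helper9's sub-server (S3797): the exponential-sum identity.
-/

set_option autoImplicit false

namespace Cfsg.Agent.Helper33.TH1CA

open Subgroup
open scoped commutatorElement

universe u

variable {G : Type u} [Group G] [Finite G]

theorem expsum (W Y W₀ : Subgroup G) (hWY : W ≤ Y) (hW₀ : W₀ ≤ W) (hidx : W₀.relIndex W = 2)
    (hcen : ∀ w ∈ W, ∀ y ∈ Y, w * y = y * w) (hsq : ∀ y ∈ Y, y ^ 2 ∈ W)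
    (hcomm : ∀ x ∈ Y, ∀ y ∈ Y, ⁅x, y⁆ ∈ W) (hexp : ∀ w ∈ W, w ^ 2 = 1) :
    (2 * (Nat.card {y : G // y ∈ Y ∧ y ^ 2 ∈ W₀} : ℤ) - (Nat.card Y : ℤ)) ^ 2 = 0 ∨
    (2 * (Nat.card {y : G // y ∈ Y ∧ y ^ 2 ∈ W₀} : ℤ) - (Nat.card Y : ℤ)) ^ 2 =
      (Nat.card Y : ℤ) * (Nat.card {z : G // z ∈ Y ∧ ∀ y ∈ Y, ⁅y, z⁆ ∈ W₀} : ℤ) := by
  classical
  haveI : Fintype ↥Y := Fintype.ofFinite _
  -- the sign character
  set σ : G → ℤ := fun g => if g ∈ W₀ then 1 else -1 with hσdef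
  have hσ1 : ∀ g, g ∈ W₀ → σ g = 1 := fun g hg => if_pos hg
  have hσ2 : ∀ g, g ∉ W₀ → σ g = -1 := fun g hg => if_neg hg
  have hσsq : ∀ g, σ g * σ g = 1 := by
    intro g
    by_cases h : g ∈ W₀
    · rw [hσ1 g h]; norm_num
    · rw [hσ2 g h]; norm_num
  have hσmul : ∀ w ∈ W, ∀ w' ∈ W, σ (w * w') = σ w * σ w' := by
    intro w hw w' hw'
    have h := Subgroup.mul_mem_iff_of_index_two (H := W₀.subgroupOf W) hidx
      (a := ⟨w, hw⟩) (b := ⟨w', hw'⟩)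
    simp only [Subgroup.mem_subgroupOf, Subgroup.coe_mul] at h
    by_cases h1 : w ∈ W₀ <;> by_cases h2 : w' ∈ W₀
    · have h3 := h.2 (iff_of_true h1 h2)
      rw [hσ1 _ h3, hσ1 _ h1, hσ1 _ h2]; norm_num
    · have h3 : w * w' ∉ W₀ := fun h3 => h2 ((h.1 h3).1 h1)
      rw [hσ2 _ h3, hσ1 _ h1, hσ2 _ h2]; norm_num
    · have h3 : w * w' ∉ W₀ := fun h3 => h1 ((h.1 h3).2 h2)
      rw [hσ2 _ h3, hσ2 _ h1, hσ1 _ h2]; norm_num
    · have h3 := h.2 (iff_of_false h1 h2)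
      rw [hσ1 _ h3, hσ2 _ h1, hσ2 _ h2]; norm_num
  set χ : G → ℤ := fun y => σ (y ^ 2) with hχdef
  have hχsq : ∀ g, χ g * χ g = 1 := fun g => hσsq _
  have hprod : ∀ y ∈ Y, ∀ z ∈ Y, χ (y * z) = χ y * σ ⁅y⁻¹, z⁆ * χ z := by
    intro y hy z hz
    have e : (y * z) ^ 2 = y ^ 2 * ⁅y⁻¹, z⁆ * z ^ 2 := by
      simp only [commutatorElement_def, pow_two]; group
    have hc : ⁅y⁻¹, z⁆ ∈ W := hcomm _ (Y.inv_mem hy) _ hz
    show σ ((y * z) ^ 2) = σ (y ^ 2) * σ ⁅y⁻¹, z⁆ * σ (z ^ 2)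
    rw [e, hσmul _ (W.mul_mem (hsq y hy) hc) _ (hsq z hz), hσmul _ (hsq y hy) _ hc]
  have hlam : ∀ y ∈ Y, ∀ y' ∈ Y, ∀ z ∈ Y, σ ⁅y * y', z⁆ = σ ⁅y, z⁆ * σ ⁅y', z⁆ := by
    intro y hy y' hy' z hz
    have hc' : ⁅y', z⁆ ∈ W := hcomm _ hy' _ hz
    have e : ⁅y * y', z⁆ = ⁅y', z⁆ * ⁅y, z⁆ := by
      have e1 : ⁅y * y', z⁆ = y * ⁅y', z⁆ * y⁻¹ * ⁅y, z⁆ := by
        simp only [commutatorElement_def]; group
      rw [e1, ← hcen _ hc' y hy, mul_inv_cancel_right]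
    rw [e, hσmul _ hc' _ (hcomm _ hy _ hz), mul_comm]
  -- the radical
  let Rad : Subgroup ↥Y :=
    { carrier := {z | ∀ y : ↥Y, ⁅(y : G), (z : G)⁆ ∈ W₀}
      one_mem' := by
        intro y
        simp
      mul_mem' := by
        intro z z' hz hz' y
        have e : ⁅(y : G), ((z * z' : ↥Y) : G)⁆ =
            ⁅(y : G), (z : G)⁆ * ((z : G) * ⁅(y : G), (z' : G)⁆ * (z : G)⁻¹) := by
          simp only [Subgroup.coe_mul, commutatorElement_def]; group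
        have hc' : ⁅(y : G), (z' : G)⁆ ∈ W := hW₀ (hz' y)
        have e2 : (z : G) * ⁅(y : G), (z' : G)⁆ * (z : G)⁻¹ = ⁅(y : G), (z' : G)⁆ := by
          rw [← hcen _ hc' z z.2, mul_inv_cancel_right]
        rw [e, e2]
        exact W₀.mul_mem (hz y) (hz' y)
      inv_mem' := by
        intro z hz y
        have e : ⁅(y : G), ((z⁻¹ : ↥Y) : G)⁆ = (z : G)⁻¹ * (⁅(y : G), (z : G)⁆)⁻¹ * (z : G) := by
          simp only [Subgroup.coe_inv, commutatorElement_def]; group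
        have hc' : (⁅(y : G), (z : G)⁆)⁻¹ ∈ W := W.inv_mem (hW₀ (hz y))
        rw [e, mul_assoc, hcen _ hc' z z.2, inv_mul_cancel_left]
        exact W₀.inv_mem (hz y) }
  have hRadmem : ∀ z : ↥Y, z ∈ Rad ↔ ∀ y : ↥Y, ⁅(y : G), (z : G)⁆ ∈ W₀ := fun z => Iff.rfl
  haveI : Fintype ↥Rad := Fintype.ofFinite _
  -- the sum `S`
  have hS : (∑ y : ↥Y, χ (y : G)) =
      2 * (Nat.card {y : G // y ∈ Y ∧ y ^ 2 ∈ W₀} : ℤ) - (Nat.card Y : ℤ) := by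
    have h1 : ∀ y : ↥Y, χ (y : G) = 2 * (if (y : G) ^ 2 ∈ W₀ then 1 else 0) - 1 := by
      intro y
      by_cases h : (y : G) ^ 2 ∈ W₀
      · rw [if_pos h]
        show σ ((y : G) ^ 2) = _
        rw [hσ1 _ h]; norm_num
      · rw [if_neg h]
        show σ ((y : G) ^ 2) = _
        rw [hσ2 _ h]; norm_num
    have hcardZ : Nat.card {y : G // y ∈ Y ∧ y ^ 2 ∈ W₀} =
        (Finset.univ.filter (fun y : ↥Y => (y : G) ^ 2 ∈ W₀)).card := by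
      rw [← Fintype.card_subtype, ← Nat.card_eq_fintype_card]
      exact Nat.card_congr ⟨fun y => ⟨⟨y.1, y.2.1⟩, y.2.2⟩, fun y => ⟨y.1.1, y.1.2, y.2⟩,
        fun _ => rfl, fun _ => rfl⟩
    rw [Finset.sum_congr rfl (fun y _ => h1 y), Finset.sum_sub_distrib, ← Finset.mul_sum,
      Finset.sum_boole, hcardZ]
    simp [Nat.card_eq_fintype_card]
  have hT : ∀ z : ↥Y, (∑ y : ↥Y, σ ⁅(y : G), (z : G)⁆) =
      if z ∈ Rad then (Nat.card Y : ℤ) else 0 := by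
    intro z
    by_cases hz : z ∈ Rad
    · rw [if_pos hz, Finset.sum_congr rfl (fun y _ => hσ1 _ (hz y))]
      simp [Nat.card_eq_fintype_card]
    · rw [if_neg hz]
      have hex : ∃ y₀ : ↥Y, ⁅(y₀ : G), (z : G)⁆ ∉ W₀ := by
        by_contra hcon
        push Not at hcon
        exact hz hcon
      obtain ⟨y₀, hy₀⟩ := hex
      have hshift : (∑ y : ↥Y, σ ⁅((y₀ * y : ↥Y) : G), (z : G)⁆) =
          ∑ y : ↥Y, σ ⁅(y : G), (z : G)⁆ :=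
        Equiv.sum_comp (Equiv.mulLeft y₀) (fun y : ↥Y => σ ⁅(y : G), (z : G)⁆)
      have h2 : (∑ y : ↥Y, σ ⁅((y₀ * y : ↥Y) : G), (z : G)⁆) =
          - ∑ y : ↥Y, σ ⁅(y : G), (z : G)⁆ := by
        rw [← Finset.sum_neg_distrib]
        apply Finset.sum_congr rfl
        intro y _
        rw [Subgroup.coe_mul, hlam _ y₀.2 _ y.2 _ z.2, hσ2 _ hy₀]
        ring
      linarith
  have hSS : (∑ y : ↥Y, χ (y : G)) * (∑ y : ↥Y, χ (y : G)) =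
      (Nat.card Y : ℤ) * ∑ z : ↥Rad, χ ((z : ↥Y) : G) := by
    rw [Finset.sum_mul_sum]
    have h1 : ∀ y : ↥Y, (∑ y' : ↥Y, χ (y : G) * χ (y' : G)) =
        ∑ z : ↥Y, χ (z : G) * σ ⁅((y⁻¹ : ↥Y) : G), (z : G)⁆ := by
      intro y
      rw [← Equiv.sum_comp (Equiv.mulLeft y) (fun y' : ↥Y => χ (y : G) * χ (y' : G))]
      apply Finset.sum_congr rfl
      intro z _
      simp only [Equiv.coe_mulLeft, Subgroup.coe_mul, Subgroup.coe_inv]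
      rw [hprod _ y.2 _ z.2]
      have := hχsq (y : G)
      linear_combination (σ ⁅(y : G)⁻¹, (z : G)⁆ * χ (z : G)) * this
    rw [Finset.sum_congr rfl (fun y _ => h1 y), Finset.sum_comm]
    have h2 : ∀ z : ↥Y, (∑ y : ↥Y, χ (z : G) * σ ⁅((y⁻¹ : ↥Y) : G), (z : G)⁆) =
        χ (z : G) * (if z ∈ Rad then (Nat.card Y : ℤ) else 0) := by
      intro z
      rw [← Finset.mul_sum, ← hT z]
      congr 1
      exact Equiv.sum_comp (Equiv.inv ↥Y) (fun y : ↥Y => σ ⁅(y : G), (z : G)⁆)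
    rw [Finset.sum_congr rfl (fun z _ => h2 z)]
    have h3 : ∀ z : ↥Y, χ (z : G) * (if z ∈ Rad then (Nat.card Y : ℤ) else 0) =
        if z ∈ Rad then (Nat.card Y : ℤ) * χ (z : G) else 0 := by
      intro z
      split_ifs <;> ring
    rw [Finset.sum_congr rfl (fun z _ => h3 z), ← Finset.sum_filter, Finset.mul_sum]
    exact Finset.sum_subtype (Finset.univ.filter (fun z : ↥Y => z ∈ Rad)) (p := fun z => z ∈ Rad)
      (by simp) (fun z : ↥Y => (Nat.card Y : ℤ) * χ (z : G))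
  have hR : (∑ z : ↥Rad, χ ((z : ↥Y) : G)) = 0 ∨
      (∑ z : ↥Rad, χ ((z : ↥Y) : G)) = (Nat.card ↥Rad : ℤ) := by
    by_cases hall : ∀ z : ↥Rad, ((z : ↥Y) : G) ^ 2 ∈ W₀
    · right
      rw [Finset.sum_congr rfl (fun z _ => hσ1 _ (hall z))]
      simp [Nat.card_eq_fintype_card]
    · left
      push Not at hall
      obtain ⟨z₀, hz₀⟩ := hall
      have hshift : (∑ z : ↥Rad, χ (((z₀ * z : ↥Rad) : ↥Y) : G)) =
          ∑ z : ↥Rad, χ ((z : ↥Y) : G) :=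
        Equiv.sum_comp (Equiv.mulLeft z₀) (fun z : ↥Rad => χ ((z : ↥Y) : G))
      have h2 : (∑ z : ↥Rad, χ (((z₀ * z : ↥Rad) : ↥Y) : G)) =
          - ∑ z : ↥Rad, χ ((z : ↥Y) : G) := by
        rw [← Finset.sum_neg_distrib]
        apply Finset.sum_congr rfl
        intro z _
        rw [Subgroup.coe_mul, Subgroup.coe_mul, hprod _ z₀.1.2 _ z.1.2]
        have hmem : ⁅(((z₀ : ↥Y) : G))⁻¹, ((z : ↥Y) : G)⁆ ∈ W₀ := by
          have := z.2 (z₀ : ↥Y)⁻¹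
          rwa [Subgroup.coe_inv] at this
        rw [hσ1 _ hmem, show χ ((z₀ : ↥Y) : G) = -1 from hσ2 _ hz₀]
        ring
      linarith
  have hcardR : Nat.card {z : G // z ∈ Y ∧ ∀ y ∈ Y, ⁅y, z⁆ ∈ W₀} = Nat.card ↥Rad :=
    Nat.card_congr ⟨fun z => ⟨⟨z.1, z.2.1⟩, fun y => z.2.2 y.1 y.2⟩,
      fun z => ⟨z.1.1, z.1.2, fun y hy => z.2 ⟨y, hy⟩⟩, fun _ => rfl, fun _ => rfl⟩
  rw [← hS, pow_two, hSS, hcardR]
  rcases hR with h | h
  · left; rw [h, mul_zero]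
  · right; rw [h]

end Cfsg.Agent.Helper33.TH1CA
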