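import Mathlib
import Cfsg.Agent.Lib.Helper93.U20

/-!
# U2 (G1a), (G1b) (helper93 server, S2335): `aMat` is additive and unitary
-/

set_option autoImplicit false

namespace Cfsg.Agent.Helper33.U2

open Matrix Cfsg.Agent.Helper13 Cfsg.Agent.Helper93.U2

section GRP

variable {F : Type*} [Field F] [Fintype F] {q : ℕ} (hF : Fintype.card F = q ^ 2)

/-- products of two radical terms vanish -/
theorem g1_mul_zero {n m : ℕ} (fr : Frame hF n m) (H K : Matrix (Fin m) (Fin m) F) :
    (fr.P * H * cT hF fr.P) * (fr.P * K * cT hF fr.P) = 0 := by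
  calc (fr.P * H * cT hF fr.P) * (fr.P * K * cT hF fr.P)
      = fr.P * H * ((cT hF fr.P * fr.P) * (K * cT hF fr.P)) := by
        simp only [Matrix.mul_assoc]
    _ = 0 := by rw [fr.pp, Matrix.zero_mul, Matrix.mul_zero]

/-- piece G1a -/
theorem aMat_add {n m : ℕ} (fr : Frame hF n m) (ε : F) (H K : Matrix (Fin m) (Fin m) F) :
    aMat hF fr ε (H + K) = aMat hF fr ε H * aMat hF fr ε K := by
  unfold aMat
  have hXY := g1_mul_zero hF fr H K
  have e1 : fr.P * (H + K) * cT hF fr.P =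
      fr.P * H * cT hF fr.P + fr.P * K * cT hF fr.P := by
    rw [Matrix.mul_add, Matrix.add_mul]
  rw [e1]
  generalize fr.P * H * cT hF fr.P = X at hXY ⊢
  generalize fr.P * K * cT hF fr.P = Y at hXY ⊢
  simp only [Matrix.add_mul, Matrix.mul_add, Matrix.one_mul, Matrix.mul_one, Matrix.smul_mul,
    Matrix.mul_smul, hXY, smul_zero, add_zero, smul_add]
  abel

/-- piece G1b -/
theorem aMat_unitary {n m : ℕ} (fr : Frame hF n m) (ε : F) (hε : ε ^ q = -ε)
    (H : Matrix (Fin m) (Fin m) F) (hH : cT hF H = H) :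
    cT hF (aMat hF fr ε H) * aMat hF fr ε H = 1 := by
  unfold aMat
  have h1 : cT hF (1 + ε • (fr.P * H * cT hF fr.P)) = 1 + (-ε) • (fr.P * H * cT hF fr.P) := by
    rw [cT_add, cT_one, cT_smul, hε, cT_mul, cT_mul, cT_cT, hH, Matrix.mul_assoc]
  rw [h1, neg_smul]
  have hXX := g1_mul_zero hF fr H H
  generalize fr.P * H * cT hF fr.P = X at hXX ⊢
  have hAA : (ε • X) * (ε • X) = 0 := by
    rw [Matrix.smul_mul, Matrix.mul_smul, hXX, smul_zero, smul_zero]
  generalize ε • X = A at hAA ⊢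
  calc (1 + -A) * (1 + A) = 1 - A * A := by noncomm_ring
    _ = 1 := by rw [hAA, sub_zero]

end GRP

end Cfsg.Agent.Helper33.U2
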