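import Mathlib
import Cfsg.Agent.Lib.Helper93.U20

/-!
# U2 (G2a) (helper93 server, S2335): the Levi matrix `lMat` is unitary
-/

set_option autoImplicit false

namespace Cfsg.Agent.Helper33.U2

open Matrix Cfsg.Agent.Helper13 Cfsg.Agent.Helper93.U2

section GRP

variable {F : Type*} [Field F] [Fintype F] {q : ℕ} (hF : Fintype.card F = q ^ 2)

/-- `Q* P = 1` in a frame -/
theorem g2a_qp {n m : ℕ} (fr : Frame hF n m) : cT hF fr.Q * fr.P = 1 := by
  have h := congrArg (cT hF) fr.pq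
  rw [cT_mul, cT_cT, cT_one] at h
  exact h

/-- piece G2a -/
theorem lMat_unitary {n m : ℕ} (fr : Frame hF n m) (E : Matrix (Fin m) (Fin m) F)
    (hE : E * E = 0) : cT hF (lMat hF fr E) * lMat hF fr E = 1 := by
  have hE' : cT hF E * cT hF E = 0 := by
    rw [← cT_mul, hE, cT_zero]
  set N : Matrix (Fin n) (Fin n) F := fr.P * E * cT hF fr.Q - fr.Q * cT hF E * cT hF fr.P with hN
  have hcN : cT hF N = -N := by
    rw [hN, cT_sub, cT_mul, cT_mul, cT_cT, cT_mul, cT_mul, cT_cT, cT_cT]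
    simp only [Matrix.mul_assoc]
    abel
  have hNN : N * N = 0 := by
    rw [hN]
    simp only [Matrix.sub_mul, Matrix.mul_sub]
    have t1 : fr.P * E * cT hF fr.Q * (fr.P * E * cT hF fr.Q) = 0 := by
      calc fr.P * E * cT hF fr.Q * (fr.P * E * cT hF fr.Q)
          = fr.P * (E * ((cT hF fr.Q * fr.P) * E)) * cT hF fr.Q := by
            simp only [Matrix.mul_assoc]
        _ = 0 := by rw [g2a_qp, Matrix.one_mul, hE, Matrix.mul_zero, Matrix.zero_mul]
    have t2 : fr.P * E * cT hF fr.Q * (fr.Q * cT hF E * cT hF fr.P) = 0 := by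
      calc fr.P * E * cT hF fr.Q * (fr.Q * cT hF E * cT hF fr.P)
          = fr.P * E * ((cT hF fr.Q * fr.Q) * (cT hF E * cT hF fr.P)) := by
            simp only [Matrix.mul_assoc]
        _ = 0 := by rw [fr.qq, Matrix.zero_mul, Matrix.mul_zero]
    have t3 : fr.Q * cT hF E * cT hF fr.P * (fr.P * E * cT hF fr.Q) = 0 := by
      calc fr.Q * cT hF E * cT hF fr.P * (fr.P * E * cT hF fr.Q)
          = fr.Q * cT hF E * ((cT hF fr.P * fr.P) * (E * cT hF fr.Q)) := by
            simp only [Matrix.mul_assoc]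
        _ = 0 := by rw [fr.pp, Matrix.zero_mul, Matrix.mul_zero]
    have t4 : fr.Q * cT hF E * cT hF fr.P * (fr.Q * cT hF E * cT hF fr.P) = 0 := by
      calc fr.Q * cT hF E * cT hF fr.P * (fr.Q * cT hF E * cT hF fr.P)
          = fr.Q * (cT hF E * ((cT hF fr.P * fr.Q) * cT hF E)) * cT hF fr.P := by
            simp only [Matrix.mul_assoc]
        _ = 0 := by rw [fr.pq, Matrix.one_mul, hE', Matrix.mul_zero, Matrix.zero_mul]
    rw [t1, t2, t3, t4]
    simp
  have hl : lMat hF fr E = 1 + N := rfl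
  rw [hl, cT_add, cT_one, hcN]
  rw [Matrix.add_mul, Matrix.mul_add, Matrix.mul_add, Matrix.one_mul, Matrix.mul_one,
    Matrix.one_mul, Matrix.neg_mul, hNN]
  simp

end GRP

end Cfsg.Agent.Helper33.U2
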