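import Mathlib
import Cfsg.Agent.Lib.Helper93.U20

/-!
# U2 (G3) (helper93 server, S2335): the Levi element conjugates the radical by congruence
-/

set_option autoImplicit false

namespace Cfsg.Agent.Helper33.U2

open Matrix Cfsg.Agent.Helper13 Cfsg.Agent.Helper93.U2

section GRP

variable {F : Type*} [Field F] [Fintype F] {q : ℕ} (hF : Fintype.card F = q ^ 2)

/-- `Q* P = 1` in a frame -/
theorem g3_qp {n m : ℕ} (fr : Frame hF n m) : cT hF fr.Q * fr.P = 1 := by
  have h := congrArg (cT hF) fr.pq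
  rw [cT_mul, cT_cT, cT_one] at h
  exact h

/-- `lMat * P = P (1 + E)` -/
theorem g3_lMat_mul_P {n m : ℕ} (fr : Frame hF n m) (E : Matrix (Fin m) (Fin m) F) :
    lMat hF fr E * fr.P = fr.P * (1 + E) := by
  unfold lMat
  rw [Matrix.add_mul, Matrix.one_mul, Matrix.sub_mul]
  have t1 : fr.P * E * cT hF fr.Q * fr.P = fr.P * E := by
    rw [Matrix.mul_assoc (fr.P * E), g3_qp, Matrix.mul_one]
  have t2 : fr.Q * cT hF E * cT hF fr.P * fr.P = 0 := by
    rw [Matrix.mul_assoc (fr.Q * cT hF E), fr.pp, Matrix.mul_zero]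
  rw [t1, t2, sub_zero, Matrix.mul_add, Matrix.mul_one]

/-- `P* lMat = (1 + E*) P*` when `E * E = 0`: stated as `P* * lMat = (1 - E*)⁻¹ ...` is avoided;
we use `P* = (1 + E*) P* lMat'` through the direct computation below -/
theorem g3_cTP_mul_lMat {n m : ℕ} (fr : Frame hF n m) (E : Matrix (Fin m) (Fin m) F) :
    cT hF fr.P * lMat hF fr E = (1 - cT hF E) * cT hF fr.P := by
  unfold lMat
  rw [Matrix.mul_add, Matrix.mul_one, Matrix.mul_sub]
  have t1 : cT hF fr.P * (fr.P * E * cT hF fr.Q) = 0 := by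
    rw [← Matrix.mul_assoc, ← Matrix.mul_assoc, fr.pp, Matrix.zero_mul, Matrix.zero_mul]
  have t2 : cT hF fr.P * (fr.Q * cT hF E * cT hF fr.P) = cT hF E * cT hF fr.P := by
    rw [← Matrix.mul_assoc, ← Matrix.mul_assoc, fr.pq, Matrix.one_mul]
  rw [t1, t2, zero_sub, Matrix.sub_mul, Matrix.one_mul, sub_eq_add_neg]

/-- piece G3 -/
theorem lMat_mul_aMat {n m : ℕ} (fr : Frame hF n m) (ε : F) (E H : Matrix (Fin m) (Fin m) F)
    (hE : E * E = 0) :
    lMat hF fr E * aMat hF fr ε H =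
      aMat hF fr ε ((1 + E) * H * cT hF (1 + E)) * lMat hF fr E := by
  have hE' : cT hF E * cT hF E = 0 := by
    rw [← cT_mul, hE, cT_zero]
  have hinv : (1 + cT hF E) * (1 - cT hF E) = 1 := by
    rw [Matrix.add_mul, Matrix.mul_sub, Matrix.mul_sub, Matrix.one_mul, Matrix.mul_one,
      Matrix.one_mul, hE']
    abel
  unfold aMat
  rw [Matrix.mul_add, Matrix.mul_one, Matrix.add_mul, Matrix.one_mul, Matrix.mul_smul,
    Matrix.smul_mul]
  congr 2
  rw [cT_add, cT_one]
  calc lMat hF fr E * (fr.P * H * cT hF fr.P)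
      = (lMat hF fr E * fr.P) * H * cT hF fr.P := by simp only [Matrix.mul_assoc]
    _ = fr.P * (1 + E) * H * cT hF fr.P := by rw [g3_lMat_mul_P]
    _ = fr.P * (1 + E) * H * (((1 + cT hF E) * (1 - cT hF E)) * cT hF fr.P) := by
        rw [hinv, Matrix.one_mul]
    _ = fr.P * ((1 + E) * H * (1 + cT hF E)) * ((1 - cT hF E) * cT hF fr.P) := by
        simp only [Matrix.mul_assoc]
    _ = fr.P * ((1 + E) * H * (1 + cT hF E)) * (cT hF fr.P * lMat hF fr E) := by
        rw [g3_cTP_mul_lMat]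
    _ = fr.P * ((1 + E) * H * (1 + cT hF E)) * cT hF fr.P * lMat hF fr E := by
        simp only [Matrix.mul_assoc]

end GRP

end Cfsg.Agent.Helper33.U2
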